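import Cfsg.Agent.Lib.RankOne.ReeTorus2

/-!
The small Ree group is generated by two elements.
-/

set_option autoImplicit false
set_option maxRecDepth 100000

namespace Cfsg.Agent.Lib.RankOne.Ree

open Cfsg.Lie Cfsg.Agent.Lib.Chev Cfsg.Agent.Lib.Chev.Tw Cfsg.Agent.Lib.Chev.Tw.G2

variable {K : Type*} [Field K] [Fintype K] {m : ℕ} (A : Par K m)
include A

set_option quotPrecheck false
local notation "qq" => 3 ^ (2 * m + 1)
local notation "GG" => ↥(twistedG2 K (3 ^ m))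
local notation "U₁" => chevG2.posUnipotent K ⊓ G1 K m
local notation "nn" => (sys A).G.nl K (twG2.blk 0)

theorem W_memU (x u v : K) : W A x u v ∈ (chevG2.posUnipotent K ⊓ G1 K m : Subgroup (GL chevG2.Idx K)) :=
  (pos_iff A _).2 ⟨x, u, v, rfl⟩

theorem W_mul (x u v x' u' v' : K) : W A x u v * W A x' u' v' =
    W A (x + x') (u + u' - A.phi x' ^ 3 * x) (v + v' - A.phi x' ^ 3 * x ^ 2 - x' * (u - A.phi x' ^ 3 * x)) := by
  obtain ⟨X, Y, Z, e⟩ := (pos_iff A _).1 (Subgroup.mul_mem (U₁) ⟨W_pos A x u v, W_mem A _ _ _⟩ ⟨W_pos A x' u' v', W_mem A _ _ _⟩)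
  have e' : E A (A.phi x) x (coef3 A x u v) * E A (A.phi x') x' (coef3 A x' u' v') = E A (A.phi X) X (coef3 A X Y Z) := e
  rw [E_mul' A] at e'
  obtain ⟨-, h1, h⟩ := E_inj A e'
  have h10 := h 10 (by simp)
  have h11 := h 11 (by simp)
  simp [coef3, lay] at h10 h11
  rw [e, ← h1, ← h10, ← h11]

/-- An additive subgroup stable under a torus action exhausts the field. -/
theorem exists_mem_all (f : Kˣ →* Kˣ) (hf : ∀ t, f t = 1 → t * t = 1) (S : AddSubgroup K)
    (hS : ∀ t, ∀ s ∈ S, ((f t : Kˣ) : K) * s ∈ S) {x : K} (hx : x ∈ S) (hx0 : x ≠ 0) (z : K) : z ∈ S := by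
  classical
  let R : AddSubgroup K :=
    { carrier := {c | ∀ s ∈ S, c * s ∈ S}
      zero_mem' := fun s _ => by rw [zero_mul]; exact S.zero_mem
      add_mem' := fun {a b} ha hb s hs => by rw [add_mul]; exact S.add_mem (ha s hs) (hb s hs)
      neg_mem' := fun {a} ha s hs => by rw [neg_mul]; exact S.neg_mem (ha s hs) }
  have h1 : (qq - 1) ≤ 2 * Nat.card ↥f.range := by
    have hk : Nat.card ↥f.ker ≤ 2 := by
      refine (Nat.card_le_card_of_injective (fun u : ↥f.ker => decide ((u : Kˣ) = 1)) ?_).trans (by simp)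
      intro u v e
      simp only [decide_eq_decide] at e
      apply Subtype.ext
      rcases sq_cases A (hf u u.2) with h1 | h1 <;> rcases sq_cases A (hf v v.2) with h2 | h2
      · rw [h1, h2]
      · rw [h1, e.1 h1]
      · rw [h2, e.2 h2]
      · rw [h1, h2]
    have h := f.ker.card_mul_index
    rw [Subgroup.index_ker, Nat.card_units, Nat.card_eq_fintype_card (α := K), A.hK] at h
    calc qq - 1 = Nat.card ↥f.ker * Nat.card ↥f.range := h.symm
      _ ≤ _ := Nat.mul_le_mul_right _ hk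
  have h2 : Nat.card ↥f.range + 1 ≤ Nat.card ↥R := by
    rw [← Finite.card_option]
    refine Nat.card_le_card_of_injective
      (fun o : Option ↥f.range => o.elim (0 : ↥R) fun c => ⟨((c : Kˣ) : K), by
        obtain ⟨t, ht⟩ := c.2; intro s hs; rw [← ht]; exact hS t s hs⟩) ?_
    rintro (_ | c) (_ | c') e
    · rfl
    · exact absurd (congrArg Subtype.val e).symm (c' : Kˣ).ne_zero
    · exact absurd (congrArg Subtype.val e) (c : Kˣ).ne_zero
    · exact congrArg some (Subtype.ext (Units.ext (congrArg Subtype.val e :)))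
  have hR : R = ⊤ := by
    have hd := R.card_addSubgroup_dvd_card
    rw [Nat.card_eq_fintype_card (α := K), A.hK] at hd
    obtain ⟨j, hj, e⟩ := (Nat.dvd_prime_pow Nat.prime_three).1 hd
    refine AddSubgroup.eq_top_of_card_eq R ?_
    rw [Nat.card_eq_fintype_card (α := K), A.hK, e]
    rcases Nat.lt_or_ge j (2 * m + 1) with hlt | hge
    · exfalso
      have h3 : 3 ^ (j + 1) ≤ qq := Nat.pow_le_pow_right (by norm_num) hlt
      rw [pow_succ] at h3
      have h4 : 3 ≤ qq := Nat.le_self_pow (Nat.succ_ne_zero (2 * m)) 3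
      omega
    · rw [le_antisymm hj hge]
  have hz : z * x⁻¹ ∈ R := by rw [hR]; trivial
  have := hz x hx
  rwa [inv_mul_cancel_right₀ hx0] at this

/-- The torus weights. -/
def wX : Kˣ →* Kˣ :=
  MonoidHom.mk' (fun t => (phu A t ^ 3)⁻¹ * t ^ 2) fun s t => by
    rw [map_mul, mul_pow, mul_pow, mul_inv, mul_mul_mul_comm]

theorem wX_val (t : Kˣ) : ((wX A t : Kˣ) : K) = (A.phi t ^ 3)⁻¹ * (t : K) ^ 2 := by
  simp [wX, phu]

/-- The second torus weight. -/
def wU : Kˣ →* Kˣ :=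
  MonoidHom.mk' (fun t => phu A t ^ 3 * t⁻¹) fun s t => by
    rw [map_mul, mul_pow, mul_inv, mul_mul_mul_comm]

theorem wU_val (t : Kˣ) : ((wU A t : Kˣ) : K) = A.phi t ^ 3 * (t : K)⁻¹ := by
  simp [wU, phu]

theorem wX_ker {t : Kˣ} (h : wX A t = 1) : t * t = 1 := by
  by_contra ht
  have e : torT A t * W A 1 0 0 * (torT A t)⁻¹ = W A 1 0 0 := by
    rw [conj_torT A, ← wX_val A, h, Units.val_one, one_mul, mul_zero, mul_zero]
  exact one_ne_zero (eq_zero_of_fixed A e ht).1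

theorem wU_ker {t : Kˣ} (h : wU A t = 1) : t * t = 1 := by
  by_contra ht
  have e : torT A t * W A 0 1 0 * (torT A t)⁻¹ = W A 0 1 0 := by
    rw [conj_torT A, ← wU_val A, h, Units.val_one, one_mul, mul_zero, mul_zero]
  exact one_ne_zero (eq_zero_of_fixed A e ht).2.1

/-- A subgroup containing the torus and an element outside the layer contains the unipotent group. -/
theorem U_le_of (hm : 1 ≤ m) {M : Subgroup (GL chevG2.Idx K)} (hT : ∀ t, torT A t ∈ M)
    {x u v : K} (hx : x ≠ 0) (hw : W A x u v ∈ M) : U₁ ≤ M := by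
  have hconj : ∀ (t : Kˣ) (x u v : K), W A x u v ∈ M →
      W A ((A.phi t ^ 3)⁻¹ * (t : K) ^ 2 * x) (A.phi t ^ 3 * (t : K)⁻¹ * u) ((t : K) * v) ∈ M := by
    intro t x u v h
    rw [← conj_torT A]
    exact Subgroup.mul_mem _ (Subgroup.mul_mem _ (hT t) h) (Subgroup.inv_mem _ (hT t))
  -- all first coordinates occur
  let S : AddSubgroup K :=
    { carrier := {c | ∃ u v, W A c u v ∈ M}
      zero_mem' := ⟨0, 0, by rw [W_zero A]; exact one_mem _⟩
      add_mem' := fun {a b} ⟨u, v, h⟩ ⟨u', v', h'⟩ => ⟨_, _, W_mul A a u v b u' v' ▸ Subgroup.mul_mem _ h h'⟩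
      neg_mem' := fun {a} ⟨u, v, h⟩ => by
        have h2 := W_mul A a u v a u v ▸ Subgroup.mul_mem _ h h
        have e2 : ∃ u v, W A (a + a) u v ∈ M := ⟨_, _, h2⟩
        show ∃ u v, W A (-a) u v ∈ M
        rwa [show -a = a + a by linear_combination (-a) * A.h3] }
  have hS : ∀ c, ∃ u v, W A c u v ∈ M := exists_mem_all A (wX A) (fun t h => wX_ker A h) S
    (fun t s ⟨u, v, h⟩ => ⟨_, _, by rw [wX_val A]; exact hconj t s u v h⟩) (x := x) ⟨u, v, hw⟩ hx
  -- the centre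
  have hcenter : ∀ c, W A 0 0 c ∈ M := by
    obtain ⟨u, v, h⟩ := hS 1
    have e : W A 1 u v * W A 1 u v * W A 1 u v = W A 0 0 (-1) := by
      rw [W_mul A, W_mul A]
      congr 1
      · linear_combination A.h3
      · simp only [map_one]; linear_combination (u - 1) * A.h3
      · simp only [map_one]; linear_combination (v - u) * A.h3
    intro c
    by_cases hc : c = 0
    · rw [hc, W_zero A]; exact one_mem _
    · have h1 : W A 0 0 (-1) ∈ M := e ▸ Subgroup.mul_mem _ (Subgroup.mul_mem _ h h) h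
      have := hconj (Units.mk0 (-c) (neg_ne_zero.2 hc)) 0 0 (-1) h1
      simpa using this
  -- the layer
  let S2 : AddSubgroup K :=
    { carrier := {c | ∃ v, W A 0 c v ∈ M}
      zero_mem' := ⟨0, by rw [W_zero A]; exact one_mem _⟩
      add_mem' := fun {a b} ⟨v, h⟩ ⟨v', h'⟩ => ⟨_, by
        have := W_mul A 0 a v 0 b v' ▸ Subgroup.mul_mem _ h h'
        simpa using this⟩
      neg_mem' := fun {a} ⟨v, h⟩ => ⟨v + v, by
        have h2 := W_mul A 0 a v 0 a v ▸ Subgroup.mul_mem _ h h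
        rw [show -a = a + a by linear_combination (-a) * A.h3]
        simpa using h2⟩ }
  obtain ⟨c, hc⟩ : ∃ c : K, A.phi c ^ 3 ≠ c := by
    by_contra hall
    push Not at hall
    have h1 : ∀ z : K, A.phi z = z := fun z => (hall (A.phi z)).symm.trans (phi_cube A z)
    obtain ⟨t, ht⟩ := exists_sq_ne_one A hm
    have h2 : (t : K) ^ 3 = (t : K) := by
      calc (t : K) ^ 3 = A.phi (t : K) ^ 3 := by rw [h1]
        _ = (t : K) := hall (t : K)
    exact ht (Units.ext (mul_left_cancel₀ t.ne_zero (show (t : K) * ((t * t : Kˣ) : K) = t * ((1 : Kˣ) : K) by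
      rw [Units.val_mul, Units.val_one]; linear_combination h2)))
  have hlayer : ∀ b, ∃ v, W A 0 b v ∈ M := by
    obtain ⟨u1, v1, h1⟩ := hS 1
    obtain ⟨u2, v2, h2⟩ := hS c
    have hXY := W_mul A 1 u1 v1 c u2 v2
    have hYX := W_mul A c u2 v2 1 u1 v1
    set zz := W A 1 u1 v1 * W A c u2 v2 * (W A c u2 v2 * W A 1 u1 v1)⁻¹ with hzz
    have hz : zz ∈ M := Subgroup.mul_mem _ (Subgroup.mul_mem _ h1 h2) (Subgroup.inv_mem _ (Subgroup.mul_mem _ h2 h1))
    have hzU : zz ∈ (U₁ : Subgroup (GL chevG2.Idx K)) :=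
      Subgroup.mul_mem _ (Subgroup.mul_mem _ (W_memU A _ _ _) (W_memU A _ _ _))
        (Subgroup.inv_mem _ (Subgroup.mul_mem _ (W_memU A _ _ _) (W_memU A _ _ _)))
    obtain ⟨a, b, v, hab⟩ := (pos_iff A _).1 hzU
    have e : W A 1 u1 v1 * W A c u2 v2 = zz * (W A c u2 v2 * W A 1 u1 v1) := by rw [hzz]; group
    rw [hab, hYX, hXY, W_mul A] at e
    obtain ⟨e1, e2, -⟩ := W_inj A e
    obtain rfl : a = 0 := by linear_combination -e1
    refine exists_mem_all A (wU A) (fun t h => wU_ker A h) S2 (fun t s ⟨v, h⟩ => ⟨(t : K) * v, by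
      rw [wU_val A]; have := hconj t 0 s v h; simpa using this⟩) (x := b) ⟨v, hab ▸ hz⟩ ?_
    intro hb
    rw [hb, map_one] at e2
    exact hc (by linear_combination -e2)
  intro g hg
  obtain ⟨a, b, w, rfl⟩ := (pos_iff A g).1 hg
  obtain ⟨u0, v0, h0⟩ := hS a
  obtain ⟨v1, h1⟩ := hlayer (b - u0)
  have h2 := hcenter (w - (v1 + v0 - A.phi a ^ 3 * 0 ^ 2 - a * (b - u0 - A.phi a ^ 3 * 0)))
  have := Subgroup.mul_mem _ h2 (W_mul A 0 (b - u0) v1 a u0 v0 ▸ Subgroup.mul_mem _ h1 h0)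
  rw [W_mul A] at this
  convert this using 2 <;> ring

theorem two_generated (hm : 1 ≤ m) : ∃ a b : GG, Subgroup.closure ({a, b} : Set GG) = ⊤ := by
  obtain ⟨t0, ht0⟩ := IsCyclic.exists_generator (α := Kˣ)
  obtain ⟨t, ht⟩ := exists_sq_ne_one A hm
  let w : GG := ⟨W A 1 0 0, W_mem A _ _ _⟩
  refine ⟨torG A t0, nG A * w, ?_⟩
  set C := Subgroup.closure ({torG A t0, nG A * w} : Set GG)
  set M := C.map (twistedG2 K (3 ^ m)).subtype with hM
  have hT : ∀ s, torT A s ∈ M := by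
    intro s
    obtain ⟨j, rfl⟩ := Subgroup.mem_zpowers_iff.1 (ht0 s)
    have hm0 : torT A t0 ∈ M := ⟨torG A t0, Subgroup.subset_closure (Or.inl rfl), rfl⟩
    rw [map_zpow]
    exact Subgroup.zpow_mem _ hm0 j
  have hnw : nn * W A 1 0 0 ∈ M := ⟨nG A * w, Subgroup.subset_closure (Or.inr rfl), rfl⟩
  -- move `w` by the torus
  have e1 : torT A t * (nn * W A 1 0 0) * torT A t = nn * (torT A t⁻¹ * W A 1 0 0 * (torT A t⁻¹)⁻¹) := by
    have h := n_torT A t⁻¹
    rw [inv_inv] at h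
    rw [← map_inv (torT A) t⁻¹, inv_inv, ← h]
    group
  have h2 : W A (((A.phi (t⁻¹ : Kˣ) ^ 3)⁻¹ * ((t⁻¹ : Kˣ) : K) ^ 2) * 1) 0 0 ∈ M ∧ True := by
    refine ⟨?_, trivial⟩
    have h := Subgroup.mul_mem _ (Subgroup.mul_mem _ (hT t) hnw) (hT t)
    rw [e1, conj_torT A, mul_zero, mul_zero] at h
    -- quotient by the original generator
    obtain ⟨X, hX⟩ : ∃ X, W A (((A.phi (t⁻¹ : Kˣ) ^ 3)⁻¹ * ((t⁻¹ : Kˣ) : K) ^ 2) * 1) 0 0 = X := ⟨_, rfl⟩
    rw [hX] at h ⊢
    have hd : (W A 1 0 0)⁻¹ * X ∈ M := by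
      have := Subgroup.mul_mem _ (Subgroup.inv_mem _ hnw) h
      rwa [show (nn * W A 1 0 0)⁻¹ * (nn * X) = (W A 1 0 0)⁻¹ * X by group] at this
    obtain ⟨a, b, c, he⟩ := (pos_iff A _).1 (show (W A 1 0 0)⁻¹ * X ∈ (U₁ : Subgroup (GL chevG2.Idx K)) from
      Subgroup.mul_mem _ (Subgroup.inv_mem _ (W_memU A _ _ _)) (hX ▸ (W_memU A _ _ _)))
    have ha : a ≠ 0 := by
      intro ha
      have e : X = W A 1 0 0 * W A a b c := by rw [← he]; group
      rw [← hX, W_mul A, ha] at e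
      have e' := (W_inj A e).1
      rw [add_zero, mul_one, ← wX_val A] at e'
      have := wX_ker A (t := t⁻¹) (Units.ext e')
      exact ht (by rw [← inv_inj, mul_inv, this, inv_one])
    exact U_le_of A hm hT ha (he ▸ hd) (hX ▸ (W_memU A _ _ _))
  have hU : U₁ ≤ M := U_le_of A hm hT (x := ((A.phi (t⁻¹ : Kˣ) ^ 3)⁻¹ * ((t⁻¹ : Kˣ) : K) ^ 2) * 1)
    (by rw [mul_one, ← wX_val A]; exact Units.ne_zero _) h2.1
  have hn : nn ∈ M := by
    have := Subgroup.mul_mem _ hnw (Subgroup.inv_mem _ (hU (W_memU A 1 0 0)))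
    rwa [mul_inv_cancel_right] at this
  rw [Subgroup.eq_top_iff']
  intro g
  have hgM : (g : GL chevG2.Idx K) ∈ M := by
    have hB : ∀ b ∈ chevG2.borelSubgroup K ⊓ G1 K m, b ∈ M := by
      intro b hb
      obtain ⟨u, hu, d, hd, rfl⟩ := (mem_B_iff A).1 hb
      obtain ⟨s, rfl⟩ := (torT_range A).ge hd
      exact Subgroup.mul_mem _ (hU hu) (hT s)
    rcases bruhat A g.2 with h | ⟨u, hu, b, hb, e⟩
    · exact hB _ h
    · rw [e]; exact Subgroup.mul_mem _ (Subgroup.mul_mem _ (hU hu) hn) (hB _ hb)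
  obtain ⟨z, hz, e⟩ := hgM
  rwa [← Subtype.ext e]

end Cfsg.Agent.Lib.RankOne.Ree
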