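import Cfsg.Agent.Lib.RankOne.ReeBasic
import Cfsg.Agent.Lib.Chev.SL2
import Mathlib.GroupTheory.NoncommCoprod
import Mathlib.LinearAlgebra.Matrix.ProjectiveSpecialLinearGroup

/-!
The centraliser of an involution of the torus in the small Ree group.
-/

set_option autoImplicit false
set_option maxRecDepth 100000

namespace Cfsg.Agent.Lib.RankOne.Ree

open Cfsg.Lie Cfsg.Agent.Lib.Chev Cfsg.Agent.Lib.Chev.Tw Cfsg.Agent.Lib.Chev.Tw.G2

theorem terms_pair : tabG2.terms 8 10 = [] ∧ tabG2.terms 8 1 = [] ∧ tabG2.terms 3 10 = [] ∧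
    tabG2.terms 3 1 = [] := by decide +kernel

theorem coef_pair : tabG2.c 8 0 = 1 ∧ tabG2.c 8 1 = 3 ∧ tabG2.c 10 0 = 1 ∧ tabG2.c 10 1 = 1 := by
  decide +kernel

/-- The homomorphism from a group of order two given by an involution. -/
def z2Hom {M : Type*} [Monoid M] (g : M) (hg : g * g = 1) : Multiplicative (ZMod 2) →* M :=
  { toFun := fun x => if x = 1 then 1 else g
    map_one' := if_pos rfl
    map_mul' := by
      have h : ∀ x : Multiplicative (ZMod 2), x = 1 ∨ x = Multiplicative.ofAdd 1 := by decide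
      have h1 : (Multiplicative.ofAdd 1 : Multiplicative (ZMod 2)) ≠ 1 := by decide
      have h2 : (Multiplicative.ofAdd 1 : Multiplicative (ZMod 2)) * Multiplicative.ofAdd 1 = 1 := by decide
      intro a b
      rcases h a with rfl | rfl <;> rcases h b with rfl | rfl <;> simp [h1, h2, hg] }

theorem z2_cases : ∀ x : Multiplicative (ZMod 2), x = 1 ∨ x = Multiplicative.ofAdd 1 := by decide

theorem z2Hom_one {M : Type*} [Monoid M] (g : M) (hg : g * g = 1) :
    z2Hom g hg (Multiplicative.ofAdd 1) = g := by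
  show (if (Multiplicative.ofAdd 1 : Multiplicative (ZMod 2)) = 1 then 1 else g) = g
  rw [if_neg (by decide)]

theorem map_entry {F : Type*} [Field F] (f : F →+* F) (g : Matrix.SpecialLinearGroup (Fin 2) F) (i j : Fin 2) :
    (Matrix.SpecialLinearGroup.map f g : Matrix (Fin 2) (Fin 2) F) i j = f ((g : Matrix (Fin 2) (Fin 2) F) i j) := rfl

variable {K : Type*} [Field K] [Fintype K] {m : ℕ} (A : Par K m)
include A

/-- Torus parameters coming from the root `SL₂`. -/
def fK : Kˣ →* Kˣ :=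
  MonoidHom.mk' (fun u => phu A u ^ 3 * u) fun a b => by rw [map_mul, mul_pow, mul_mul_mul_comm]

theorem neg_one_ne_one : (-1 : K) ≠ 1 := fun e => by
  have h2 : (2 : K) = 0 := by linear_combination -e
  exact one_ne_zero (by linear_combination A.h3 - h2)

theorem fK_sign {u : Kˣ} (h : fK A u * fK A u = 1) : u * u = 1 ∧ fK A u = 1 := by
  have h' : A.phi u ^ 3 * u * (A.phi u ^ 3 * u) = 1 := congrArg Units.val h
  have hu0 : (u : K) ≠ 0 := u.ne_zero
  have hp0 : A.phi u ≠ 0 := (map_ne_zero_iff _ A.phi.injective).2 hu0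
  have h2 : (u : K) * A.phi u * ((u : K) * A.phi u) = 1 := by
    have := congrArg A.phi h'
    rwa [map_one, map_mul, map_mul, map_pow, phi_cube A] at this
  have hp : A.phi u * A.phi u = (((u : K) * u))⁻¹ := eq_inv_of_mul_eq_one_left (by linear_combination h2)
  have e : (((u : K) * u))⁻¹ ^ 3 * ((u : K) * u) = 1 := by rw [← hp]; linear_combination h'
  have e4 : ((u : K) * u) ^ 2 = 1 := by field_simp at e; linear_combination -e
  rcases sq_eq_one_iff.1 e4 with e5 | e5
  · have hu : u * u = 1 := Units.ext e5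
    refine ⟨hu, Units.ext ?_⟩
    show A.phi u ^ 3 * u = 1
    rcases mul_self_eq_one_iff.1 e5 with e6 | e6 <;> rw [e6] <;> simp [Odd.neg_one_pow (show Odd 3 by decide)]
  · exfalso
    have hsq : IsSquare (-1 : K) := ⟨(u : K), e5.symm⟩
    rw [FiniteField.isSquare_neg_one_iff, A.hK] at hsq
    exact hsq (by rw [pow_succ, pow_mul, Nat.mul_mod, Nat.pow_mod]; norm_num)

theorem exists_sign_fK (t : Kˣ) : ∃ u, t = fK A u ∨ t = -1 * fK A u := by
  classical
  set R := (fK A).range
  have hn1 : (-1 : Kˣ) ∉ R := by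
    rintro ⟨u, e⟩
    have h := (fK_sign A (u := u) (by rw [e]; exact Units.ext (by simp))).2
    rw [e] at h
    exact neg_one_ne_one A (by simpa using congrArg Units.val h)
  have hker : ∀ u ∈ (fK A).ker, (u : K) = 1 ∨ (u : K) = -1 := by
    intro u hu
    have h := (fK_sign A (u := u) (by rw [MonoidHom.mem_ker.1 hu, one_mul])).1
    exact mul_self_eq_one_iff.1 (by simpa using congrArg Units.val h)
  have hk2 : Nat.card ↥(fK A).ker ≤ 2 := by
    refine (Nat.card_le_card_of_injective (fun u : ↥(fK A).ker => decide ((u : Kˣ) = 1)) ?_).trans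
      (by simp)
    intro u v e
    simp only [decide_eq_decide] at e
    apply Subtype.ext; apply Units.ext
    rcases hker u u.2 with h1 | h1 <;> rcases hker v v.2 with h2 | h2
    · rw [h1, h2]
    · rw [h1, congrArg Units.val (e.1 (Units.ext h1))]; rfl
    · rw [h2, congrArg Units.val (e.2 (Units.ext h2))]; rfl
    · rw [h1, h2]
  have hidx : R.index = Nat.card ↥(fK A).ker := by
    have h1 := (fK A).ker.card_mul_index
    rw [Subgroup.index_ker] at h1
    have h2 := R.card_mul_index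
    exact Nat.eq_of_mul_eq_mul_left Nat.card_pos (by rw [h2, mul_comm, h1])
  have h2 : R.index = 2 := by
    have h1 : R.index ≠ 1 := fun h => hn1 (by rw [Subgroup.index_eq_one.1 h]; trivial)
    have h0 := R.index_ne_zero_of_finite
    omega
  by_cases ht : t ∈ R
  · obtain ⟨u, hu⟩ := ht; exact ⟨u, Or.inl hu.symm⟩
  · obtain ⟨u, hu⟩ := (Subgroup.mul_mem_iff_of_index_two h2 (a := -1) (b := t)).2
      ⟨fun h => absurd h hn1, fun h => absurd h ht⟩
    exact ⟨u, Or.inr (by rw [hu]; exact Units.ext (by simp))⟩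

/-- the product of the two root groups of rank one -/
noncomputable def psi : Matrix.SpecialLinearGroup (Fin 2) K →* GL chevG2.Idx K :=
  MonoidHom.mk' (fun g => (sys A).G.phi (r := 8) (by decide) (Matrix.SpecialLinearGroup.map A.phi g) *
    (sys A).G.phi (r := 10) (by decide) g) fun a b => by
    have hcomm : ∀ x ∈ ((sys A).G.phi (F := K) (r := 8) (by decide)).range,
        ∀ y ∈ ((sys A).G.phi (F := K) (r := 10) (by decide)).range, y * x = x * y := by
      rw [(sys A).G.phi_range (r := 8) (by decide), (sys A).G.phi_range (r := 10) (by decide)]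
      intro x hx y hy
      have hle : chevG2.rootSubgroup K 8 ⊔ chevG2.rootSubgroup K (ng chevG2 8) ≤
          Subgroup.centralizer ((chevG2.rootSubgroup K 10 : Set _) ∪ chevG2.rootSubgroup K (ng chevG2 10)) := by
        refine sup_le ?_ ?_ <;>
        · intro z hz
          obtain ⟨t, rfl⟩ := (sys A).G.mem_rootSubgroup.1 hz
          rintro w (hw | hw) <;>
          · obtain ⟨s, rfl⟩ := (sys A).G.mem_rootSubgroup.1 hw
            refine swap_of_nil A (by decide) (by decide) (by decide) (by decide) ?_ t s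
            first | exact terms_pair.1 | exact terms_pair.2.1 | exact terms_pair.2.2.1 |
              exact terms_pair.2.2.2
      have h2 : chevG2.rootSubgroup K 10 ⊔ chevG2.rootSubgroup K (ng chevG2 10) ≤
          Subgroup.centralizer {x} := by
        refine sup_le ?_ ?_ <;> intro w hw <;> rw [Subgroup.mem_centralizer_singleton_iff]
        · exact Subgroup.mem_centralizer_iff.1 (hle hx) w (Or.inl hw)
        · exact Subgroup.mem_centralizer_iff.1 (hle hx) w (Or.inr hw)
      exact Subgroup.mem_centralizer_singleton_iff.1 (h2 hy)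
    rw [map_mul, map_mul, map_mul, mul_assoc, ← mul_assoc _ ((sys A).G.phi (by decide) a),
      ← hcomm _ ⟨_, rfl⟩ _ ⟨a, rfl⟩]
    group

theorem psi_su (t : K) : psi A (su t) = W A 0 t 0 := by
  show (sys A).G.phi (r := 8) (by decide) (Matrix.SpecialLinearGroup.map A.phi (su t)) *
    (sys A).G.phi (r := 10) (by decide) (su t) = _
  have e : Matrix.SpecialLinearGroup.map A.phi (su t) = su (A.phi t) := by
    refine Subtype.ext ?_
    ext i j
    rw [map_entry]
    fin_cases i <;> fin_cases j <;> simp [su]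
  rw [e, (sys A).G.phi_su, (sys A).G.phi_su]
  simp [W, E, Z4, coef3, lay, Good'.P, Good.wordG, (sys A).G.X_zero]

theorem psi_sn : psi A sn = (sys A).G.nl K (twG2.blk 0) := by
  show (sys A).G.phi (r := 8) (by decide) (Matrix.SpecialLinearGroup.map A.phi sn) *
    (sys A).G.phi (r := 10) (by decide) sn = _
  have e : Matrix.SpecialLinearGroup.map A.phi sn = sn := by
    refine Subtype.ext ?_
    ext i j
    fin_cases i <;> fin_cases j <;> simp [sn_val, map_entry]
  have h : ∀ r (hr : r < chevG2.nroots), (sys A).G.phi (F := K) (r := r) hr sn = (sys A).G.Ng K r 1 :=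
    fun r hr => (sys A).G.phi_of_mem hr (x := (((sys A).G.pairRel hr).n))
      (Subgroup.subset_closure (Or.inr rfl))
  rw [e, h, h, nl_eq A]
  simp

set_option maxHeartbeats 1000000 in
theorem psi_sd (c : Kˣ) : psi A (sd (c : K)) = torT A (fK A c) := by
  rw [psi, torT, fK]
  simp only [MonoidHom.mk'_apply]
  have e : Matrix.SpecialLinearGroup.map A.phi (sd (c : K)) = sd ((phu A c : Kˣ) : K) := by
    refine Subtype.ext ?_
    ext i j
    fin_cases i <;> fin_cases j <;> simp [sd_val c.ne_zero, sd_val (phu A c).ne_zero, sd_val ((map_ne_zero_iff _ A.phi.injective).2 c.ne_zero), map_entry, phu]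
  have h : ∀ r (hr : r < chevG2.nroots) (d : Kˣ),
      (sys A).G.phi (F := K) (r := r) hr (sd (d : K)) = (sys A).G.Hg K r d := by
    intro r hr d
    refine (sys A).G.phi_of_mem hr (x := (((sys A).G.pairRel hr).h (d : K))) ?_
    have hf := ((sys A).G.pairRel (F := K) hr).flip _ d.ne_zero
    rw [eq_comm, ← eq_mul_inv_iff_mul_eq] at hf
    rw [hf]
    have hn : ((sys A).G.pairRel (F := K) hr).n ∈ (sys A).G.graph (F := K) hr :=
      Subgroup.subset_closure (Or.inr rfl)
    have he : ∀ s, ((sys A).G.pairRel (F := K) hr).e s ∈ (sys A).G.graph (F := K) hr :=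
      fun s => Subgroup.subset_closure (Or.inl ⟨s, rfl⟩)
    exact mul_mem (mul_mem (mul_mem (he _) (mul_mem (mul_mem hn (he _)) (inv_mem hn))) (he _)) (inv_mem hn)
  rw [e, h, h, (sys A).Hg_eq_torHom (r := 8) (by decide), (sys A).Hg_eq_torHom (r := 10) (by decide),
    ← map_mul]
  congr 1
  funext j
  obtain ⟨j, hj⟩ := j
  have h4 : chevG2.rank = 2 := rfl
  match j, hj with
  | 0, _ =>
    rw [Pi.mul_apply]
    dsimp only
    rw [coef_pair.1, coef_pair.2.2.1, zpow_one, zpow_one]
    show _ = phu A (phu A c ^ 3 * c)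
    rw [map_mul, map_pow, phu_cube A, mul_comm]
  | 1, _ =>
    rw [Pi.mul_apply]
    dsimp only
    rw [coef_pair.2.1, coef_pair.2.2.2, zpow_one]
    rfl
  | n + 2, h => omega

theorem psi_sd' {c : K} (hc : c ≠ 0) : psi A (sd c) = torT A (fK A (Units.mk0 c hc)) :=
  psi_sd A (Units.mk0 c hc)

theorem sl_cases (g : Matrix.SpecialLinearGroup (Fin 2) K) :
    (∃ x c, c ≠ 0 ∧ g = su x * sd c) ∨ ∃ x c y, c ≠ 0 ∧ g = su x * sn * sd c * su y := by
  obtain ⟨⟨z, hz⟩, rfl⟩ := ((sys A).G.graph_fst_bijective (F := K) (r := 8) (by decide)).2 g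
  rcases ((sys A).G.pairRel (F := K) (r := 8) (by decide)).normal_of_mem hz with
    ⟨x, c, hc, rfl⟩ | ⟨x, c, y, hc, rfl⟩
  · exact Or.inl ⟨x, c, hc, rfl⟩
  · exact Or.inr ⟨x, c, y, hc, rfl⟩

theorem pos_diag_eq {u d u' d' : GL chevG2.Idx K} (hu : u ∈ chevG2.posUnipotent K)
    (hu' : u' ∈ chevG2.posUnipotent K) (hd : d ∈ chevG2.diagonalSubgroup K)
    (hd' : d' ∈ chevG2.diagonalSubgroup K) (h : u * d = u' * d') : u = u' ∧ d = d' := by
  have e : u'⁻¹ * u = d' * d⁻¹ := by
    rw [eq_mul_inv_iff_mul_eq, mul_assoc, h, inv_mul_cancel_left]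
  have h1 : u'⁻¹ * u ∈ chevG2.posUnipotent K ⊓ chevG2.diagonalSubgroup K :=
    ⟨Subgroup.mul_mem _ (Subgroup.inv_mem _ hu') hu, e ▸ Subgroup.mul_mem _ hd' (Subgroup.inv_mem _ hd)⟩
  rw [(sys A).G.pos_inf_diag, Subgroup.mem_bot] at h1
  exact ⟨(inv_mul_eq_one.1 h1).symm, (mul_inv_eq_one.1 (e ▸ h1)).symm⟩

theorem torT_neg_sq : torT A (-1) * torT A (-1) = 1 := by
  rw [← map_mul]
  convert map_one (torT A)
  exact Units.ext (by simp)

theorem torT_neg_comm (t : Kˣ) : torT A (-1) * torT A t = torT A t * torT A (-1) := by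
  rw [← map_mul, ← map_mul, mul_comm]

theorem eq_neg_one {t : Kˣ} (h : torT A t * torT A t = 1) (h1 : torT A t ≠ 1) : t = -1 := by
  rw [← map_mul, ← map_one (torT A)] at h
  have := congrArg Units.val (torT_injective A h)
  rcases mul_self_eq_one_iff.1 this with e | e
  · exact absurd (by rw [show t = 1 from Units.ext e, map_one]) h1
  · exact Units.ext (by simpa using e)

theorem neg_comm_n : torT A (-1) * (sys A).G.nl K (twG2.blk 0) =
    (sys A).G.nl K (twG2.blk 0) * torT A (-1) := by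
  obtain ⟨t, ht⟩ := (torT_range A).ge (conj_n_diag A (torT_mem A (-1))).2
  have h1 : torT A t ≠ 1 := by
    rw [ht]
    intro e
    have hne : torT A (-1) = 1 := by
      calc torT A (-1) = (sys A).G.nl K (twG2.blk 0) *
            (((sys A).G.nl K (twG2.blk 0))⁻¹ * torT A (-1) * (sys A).G.nl K (twG2.blk 0)) *
            ((sys A).G.nl K (twG2.blk 0))⁻¹ := by group
        _ = 1 := by rw [e]; group
    exact neg_one_ne_one A (by simpa using congrArg Units.val (torT_injective A (hne.trans (map_one _).symm)))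
  have h2 : torT A t * torT A t = 1 := by
    rw [ht]
    calc _ = ((sys A).G.nl K (twG2.blk 0))⁻¹ * (torT A (-1) * torT A (-1)) *
          (sys A).G.nl K (twG2.blk 0) := by group
      _ = 1 := by rw [torT_neg_sq A]; group
  rw [eq_neg_one A h2 h1] at ht
  conv_rhs => rw [ht]
  group

/-- The centraliser inside the group. -/
def CA : Subgroup (GL chevG2.Idx K) := G1 K m ⊓ Subgroup.centralizer {torT A (-1)}

theorem mem_CA {g : GL chevG2.Idx K} :
    g ∈ CA A ↔ g ∈ G1 K m ∧ torT A (-1) * g = g * torT A (-1) := by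
  rw [CA, Subgroup.mem_inf, Subgroup.mem_centralizer_singleton_iff]
  exact and_congr_right fun _ => eq_comm

theorem W0_mem_CA (u : K) : W A 0 u 0 ∈ CA A := by
  refine (mem_CA A).2 ⟨W_mem A _ _ _, ?_⟩
  have := conj_neg_one A 0 u 0
  rw [neg_zero] at this
  exact mul_inv_eq_iff_eq_mul.1 this

theorem tor_mem_CA (t : Kˣ) : torT A t ∈ CA A :=
  (mem_CA A).2 ⟨(torT_mem A t).2, torT_neg_comm A t⟩

theorem n_mem_CA : (sys A).G.nl K (twG2.blk 0) ∈ CA A := (mem_CA A).2 ⟨n_mem A, neg_comm_n A⟩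

theorem psi_mem (g : Matrix.SpecialLinearGroup (Fin 2) K) : psi A g ∈ CA A := by
  rcases sl_cases A g with ⟨x, c, hc, rfl⟩ | ⟨x, c, y, hc, rfl⟩
  · rw [map_mul, psi_su A, psi_sd' A hc]
    exact mul_mem (W0_mem_CA A x) (tor_mem_CA A _)
  · rw [map_mul, map_mul, map_mul, psi_su A, psi_su A, psi_sn A, psi_sd' A hc]
    exact mul_mem (mul_mem (mul_mem (W0_mem_CA A x) (n_mem_CA A)) (tor_mem_CA A _)) (W0_mem_CA A y)

/-- A member of the image of `psi` lying in the torus is determined by its parameter. -/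
theorem psi_tor {g : Matrix.SpecialLinearGroup (Fin 2) K} {t : Kˣ} (h : psi A g = torT A t) :
    ∃ c : Kˣ, g = sd (c : K) ∧ fK A c = t := by
  have hU : ∀ x : K, W A 0 x 0 ∈ chevG2.posUnipotent K ⊓ G1 K m :=
    fun x => ⟨W_pos A _ _ _, W_mem A _ _ _⟩
  rcases sl_cases A g with ⟨x, c, hc, rfl⟩ | ⟨x, c, y, hc, rfl⟩
  · rw [map_mul, psi_su A, psi_sd' A hc] at h
    obtain ⟨h1, h2⟩ := pos_diag_eq A (hU x).1 (one_mem _) (torT_mem A _).1 (torT_mem A t).1
      (h.trans (one_mul _).symm)
    obtain rfl := (W_eq_one A h1).2.1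
    refine ⟨Units.mk0 c hc, ?_, torT_injective A h2⟩
    rw [Units.val_mk0]
    refine Subtype.ext ?_
    rw [Matrix.SpecialLinearGroup.coe_mul, sd_val hc]
    simp [su, Matrix.mul_fin_two]
  · exfalso
    rw [map_mul, map_mul, map_mul, psi_su A, psi_su A, psi_sn A, psi_sd' A hc] at h
    refine n_notMem A ?_
    rw [show (sys A).G.nl K (twG2.blk 0) = (W A 0 x 0)⁻¹ * torT A t * (W A 0 y 0)⁻¹ *
      (torT A (fK A (Units.mk0 c hc)))⁻¹ by rw [← h]; group]
    exact Subgroup.mul_mem _ (Subgroup.mul_mem _ (Subgroup.mul_mem _ (Subgroup.inv_mem _ (U_le_B A (hU x))) (H_le_B A (torT_mem A t)))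
      (Subgroup.inv_mem _ (U_le_B A (hU y)))) (Subgroup.inv_mem _ (H_le_B A (torT_mem A _)))

theorem sd_sign_center {c : Kˣ} (h : c * c = 1) :
    sd (c : K) ∈ Subgroup.center (Matrix.SpecialLinearGroup (Fin 2) K) := by
  have hc : (c : K) * c = 1 := by simpa using congrArg Units.val h
  rw [Matrix.SpecialLinearGroup.mem_center_iff]
  refine ⟨(c : K), by rw [Fintype.card_fin, pow_two]; exact hc, ?_⟩
  rw [sd_val c.ne_zero, show ((c : K))⁻¹ = (c : K) from inv_eq_of_mul_eq_one_right hc]
  ext i j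
  fin_cases i <;> fin_cases j <;> simp

theorem center_le_ker : Subgroup.center (Matrix.SpecialLinearGroup (Fin 2) K) ≤ (psi A).ker := by
  intro g hg
  obtain ⟨r, hr, hr'⟩ := Matrix.SpecialLinearGroup.mem_center_iff.1 hg
  rw [Fintype.card_fin, pow_two] at hr
  have h0 : r ≠ 0 := fun e => by simp [e] at hr
  have e : g = sd r := by
    refine Subtype.ext ?_
    rw [sd_val h0, ← hr', show r⁻¹ = r from inv_eq_of_mul_eq_one_right hr]
    ext i j
    fin_cases i <;> fin_cases j <;> simp
  have h1 : (fK A (Units.mk0 r h0)) = 1 := by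
    refine (fK_sign A ?_).2
    rw [← map_mul, show Units.mk0 r h0 * Units.mk0 r h0 = 1 from Units.ext hr, map_one]
  rw [MonoidHom.mem_ker, e, psi_sd' A h0, h1, map_one]

/-- The map on `PSL₂`. -/
noncomputable def psiBar : Matrix.ProjectiveSpecialLinearGroup (Fin 2) K →* GL chevG2.Idx K :=
  QuotientGroup.lift _ (psi A) (center_le_ker A)

/-- The decomposition map of the centraliser. -/
noncomputable def theta :
    Multiplicative (ZMod 2) × Matrix.ProjectiveSpecialLinearGroup (Fin 2) K →* GL chevG2.Idx K :=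
  MonoidHom.noncommCoprod (z2Hom (torT A (-1)) (torT_neg_sq A)) (psiBar A) (by
    intro x y
    obtain ⟨g, rfl⟩ := QuotientGroup.mk_surjective y
    show Commute _ (psi A g)
    rcases z2_cases x with rfl | rfl
    · rw [map_one]; exact Commute.one_left _
    · rw [z2Hom_one]; exact ((mem_CA A).1 (psi_mem A g)).2)

theorem theta_apply (x : Multiplicative (ZMod 2)) (g : Matrix.SpecialLinearGroup (Fin 2) K) :
    theta A (x, (g : Matrix.ProjectiveSpecialLinearGroup (Fin 2) K)) =
      z2Hom (torT A (-1)) (torT_neg_sq A) x * psi A g := rfl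

theorem theta_inj : Function.Injective (theta A) := by
  rw [injective_iff_map_eq_one]
  rintro ⟨x, y⟩ h
  obtain ⟨g, rfl⟩ := QuotientGroup.mk_surjective y
  rw [theta_apply A] at h
  rcases z2_cases x with rfl | rfl
  · rw [map_one, one_mul] at h
    obtain ⟨c, rfl, hc⟩ := psi_tor A (h.trans (map_one (torT A)).symm)
    refine Prod.ext rfl ?_
    exact (QuotientGroup.eq_one_iff _).2 (sd_sign_center A (fK_sign A (by rw [hc, one_mul])).1)
  · exfalso
    rw [z2Hom_one] at h
    obtain ⟨c, -, hc⟩ := psi_tor A ((eq_inv_of_mul_eq_one_right h).trans (map_inv (torT A) _).symm)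
    have h1 : (-1 : Kˣ)⁻¹ = -1 := inv_eq_of_mul_eq_one_right (Units.ext (by simp))
    rw [h1] at hc
    have h2 := (fK_sign A (u := c) (by rw [hc]; exact Units.ext (by simp))).2
    rw [hc] at h2
    exact neg_one_ne_one A (by simpa using congrArg Units.val h2)

theorem theta_range : (theta A).range = CA A := by
  apply le_antisymm
  · rintro z ⟨⟨x, y⟩, rfl⟩
    obtain ⟨g, rfl⟩ := QuotientGroup.mk_surjective y
    rw [theta_apply A]
    refine mul_mem ?_ (psi_mem A g)
    rcases z2_cases x with rfl | rfl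
    · rw [map_one]; exact one_mem _
    · rw [z2Hom_one]; exact tor_mem_CA A _
  · intro g hg
    obtain ⟨hg1, hga⟩ := (mem_CA A).1 hg
    set a := torT A (-1)
    set n := (sys A).G.nl K (twG2.blk 0)
    have hU : ∀ x : K, W A 0 x 0 ∈ (theta A).range := fun x =>
      ⟨(1, ((su x : Matrix.SpecialLinearGroup (Fin 2) K) : Matrix.ProjectiveSpecialLinearGroup (Fin 2) K)), by
        rw [theta_apply A, map_one, one_mul, psi_su A]⟩
    have hn : n ∈ (theta A).range :=
      ⟨(1, ((sn : Matrix.SpecialLinearGroup (Fin 2) K) : Matrix.ProjectiveSpecialLinearGroup (Fin 2) K)), by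
        rw [theta_apply A, map_one, one_mul, psi_sn A]⟩
    have hT : ∀ d ∈ chevG2.diagonalSubgroup K ⊓ G1 K m, d ∈ (theta A).range := by
      intro d hd
      obtain ⟨t, rfl⟩ := (torT_range A).ge hd
      obtain ⟨u, e | e⟩ := exists_sign_fK A t
      · exact ⟨(1, (sd (u : K) : Matrix.ProjectiveSpecialLinearGroup (Fin 2) K)), by
          rw [theta_apply A, map_one, one_mul, psi_sd A, e]⟩
      · exact ⟨(Multiplicative.ofAdd 1, (sd (u : K) : Matrix.ProjectiveSpecialLinearGroup (Fin 2) K)), by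
          rw [theta_apply A, z2Hom_one, psi_sd A, e, map_mul]⟩
    have hfix : ∀ w ∈ chevG2.posUnipotent K ⊓ G1 K m, a * w * a⁻¹ = w → w ∈ (theta A).range := by
      intro w hw h
      obtain ⟨x, u, v, rfl⟩ := (pos_iff A w).1 hw
      rw [conj_neg_one A] at h
      obtain ⟨hx, -, hv⟩ := W_inj A h
      have h2 : (2 : K) ≠ 0 := fun e => one_ne_zero (by linear_combination A.h3 - e)
      obtain rfl : x = 0 := (mul_eq_zero.1 (show (2 : K) * x = 0 by linear_combination -hx)).resolve_left h2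
      obtain rfl : v = 0 := (mul_eq_zero.1 (show (2 : K) * v = 0 by linear_combination -hv)).resolve_left h2
      exact hU u
    have hconj : ∀ d ∈ chevG2.diagonalSubgroup K ⊓ G1 K m, a * d * a⁻¹ = d := by
      intro d hd
      obtain ⟨t, rfl⟩ := (torT_range A).ge hd
      rw [torT_neg_comm A, mul_inv_cancel_right]
    have hUa : ∀ w ∈ chevG2.posUnipotent K ⊓ G1 K m, a * w * a⁻¹ ∈ chevG2.posUnipotent K ⊓ G1 K m :=
      fun w hw => conj_B_U A (H_le_B A (torT_mem A _)) hw
    rcases bruhat A hg1 with hb | ⟨u, hu, b, hb, rfl⟩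
    · obtain ⟨u, hu, d, hd, rfl⟩ := (mem_B_iff A).1 hb
      have e : (a * u * a⁻¹) * d = u * d := by
        conv_lhs => rw [← hconj d hd]
        rw [show a * u * a⁻¹ * (a * d * a⁻¹) = a * (u * d) * a⁻¹ by group, hga, mul_inv_cancel_right]
      exact mul_mem (hfix u hu (mul_right_cancel e)) (hT d hd)
    · obtain ⟨u', hu', d, hd, rfl⟩ := (mem_B_iff A).1 hb
      have hnc : a * n * a⁻¹ = n := by rw [neg_comm_n A, mul_inv_cancel_right]
      have e : (a * u * a⁻¹) * n * ((a * u' * a⁻¹) * d) = u * n * (u' * d) := by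
        conv_lhs => rw [← hnc, ← hconj d hd]
        rw [show a * u * a⁻¹ * (a * n * a⁻¹) * (a * u' * a⁻¹ * (a * d * a⁻¹)) =
          a * (u * n * (u' * d)) * a⁻¹ by group, hga, mul_inv_cancel_right]
      have e2 : n⁻¹ * (u⁻¹ * (a * u * a⁻¹)) * n = u' * (a * u' * a⁻¹)⁻¹ := by
        calc _ = n⁻¹ * u⁻¹ * ((a * u * a⁻¹) * n * ((a * u' * a⁻¹) * d)) * d⁻¹ * (a * u' * a⁻¹)⁻¹ := by group
          _ = _ := by rw [e]; group
      have h1 : u⁻¹ * (a * u * a⁻¹) = 1 :=
        eq_one_of_conj_mem A (Subgroup.mul_mem _ (Subgroup.inv_mem _ hu) (hUa u hu))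
          (e2 ▸ U_le_B A (Subgroup.mul_mem _ hu' (Subgroup.inv_mem _ (hUa u' hu'))))
      rw [h1, mul_one, inv_mul_cancel, eq_comm, mul_inv_eq_one] at e2
      exact mul_mem (mul_mem (hfix u hu (inv_mul_eq_one.1 h1).symm) hn)
        (mul_mem (hfix u' hu' e2.symm) (hT d hd))

/-- The centraliser is `Z₂ × PSL₂`. -/
theorem nonempty_equiv :
    Nonempty (↥(CA A) ≃* Multiplicative (ZMod 2) × Matrix.ProjectiveSpecialLinearGroup (Fin 2) K) :=
  ⟨((MonoidHom.ofInjective (theta_inj A)).trans (MulEquiv.subgroupCongr (theta_range A))).symm⟩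

end Cfsg.Agent.Lib.RankOne.Ree
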