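import Cfsg.Agent.Lib.Frobenius.UniqueSubgroup
import Mathlib.LinearAlgebra.Matrix.GeneralLinearGroup.Card
import Mathlib.LinearAlgebra.Matrix.ToLin
import Mathlib.GroupTheory.Sylow

/-!
A `p`-group acting faithfully on a space of small dimension over a finite field is cyclic.
-/

set_option autoImplicit false

namespace Cfsg.Agent.Lib.RankOne

open Module

variable {K : Type*} [Field K] [Fintype K] {p : ℕ}

/-- In dimension smaller than the order of the field modulo `p` there is no element of order `p`. -/
theorem eq_one_of_dim_lt {W : Type*} [AddCommGroup W] [Module K W] [Module.Finite K W] [hp : Fact p.Prime]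
    {d : ℕ} (hq : ¬ p ∣ Fintype.card K) (hd : ∀ i, 1 ≤ i → i < d → ¬ p ∣ Fintype.card K ^ i - 1)
    (hW : finrank K W < d) {y : Module.End K W} (hy : y ^ p = 1) : y = 1 := by
  set k := finrank K W
  set b := Module.finBasisOfFinrankEq K W (rfl : finrank K W = k)
  set u : (Module.End K W)ˣ := Units.ofPowEqOne y p hy hp.out.ne_zero
  set e : (Module.End K W)ˣ ≃* GL (Fin k) K := Units.mapEquiv (LinearMap.toMatrixAlgEquiv b).toMulEquiv
  have h1 : orderOf (e u) ∣ p := by
    rw [e.orderOf_eq]
    exact orderOf_dvd_of_pow_eq_one (Units.pow_ofPowEqOne hy hp.out.ne_zero)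
  have h2 : orderOf (e u) ∣ Nat.card (GL (Fin k) K) := orderOf_dvd_natCard _
  rcases (Nat.dvd_prime hp.out).1 h1 with h | h
  · have : u = 1 := by
      rw [orderOf_eq_one_iff] at h
      exact e.injective (h.trans (map_one e).symm)
    exact congrArg Units.val this
  · exfalso
    rw [h, Matrix.card_GL_field] at h2
    refine (Prime.not_dvd_finsetProd hp.out.prime fun i _ => ?_) h2
    intro hi
    have hik : (i : ℕ) + (k - i) = k := by omega
    have e1 : Fintype.card K ^ k - Fintype.card K ^ (i : ℕ) =
        Fintype.card K ^ (i : ℕ) * (Fintype.card K ^ (k - i) - 1) := by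
      rw [Nat.mul_sub, mul_one, ← pow_add, hik]
    rw [e1] at hi
    rcases (hp.out.dvd_mul).1 hi with hi | hi
    · exact hq (hp.out.dvd_of_dvd_pow hi)
    · exact hd _ (by omega) (by omega) hi

theorem ker_le_of_commute {V : Type*} [AddCommGroup V] [Module K V] [Module.Finite K V] [hp : Fact p.Prime]
    {d : ℕ} (hpK : (p : K) ≠ 0) (hq : ¬ p ∣ Fintype.card K)
    (hd : ∀ i, 1 ≤ i → i < d → ¬ p ∣ Fintype.card K ^ i - 1) (hn : finrank K V < 2 * d)
    {g h : Module.End K V} (hgh : Commute g h) (hg : g ^ p = 1) (hh : h ^ p = 1) (hg1 : g ≠ 1) :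
    LinearMap.ker (g - 1) ≤ LinearMap.ker (h - 1) := by
  set C := LinearMap.ker (g - 1)
  set W := LinearMap.range (g - 1)
  have hWd : d ≤ finrank K W := by
    by_contra hlt
    refine hg1 ?_
    have hm : ∀ x ∈ W, g x ∈ W := by
      rintro _ ⟨v, rfl⟩
      exact ⟨g v, by simp [LinearMap.sub_apply]⟩
    have hr : g.restrict hm = 1 := by
      refine eq_one_of_dim_lt hq hd (by omega) ?_
      rw [Module.End.pow_restrict p]
      refine LinearMap.ext fun x => Subtype.ext ?_
      simp [hg, LinearMap.restrict_apply]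
    have h2 : ∀ v, g (g v - v) = g v - v := fun v => by
      have := congrArg Subtype.val (LinearMap.congr_fun hr ⟨(g - 1) v, ⟨v, rfl⟩⟩)
      simpa [LinearMap.restrict_apply] using this
    refine LinearMap.ext fun v => ?_
    have h3 : ∀ j : ℕ, (g ^ j) v = v + (j : K) • (g v - v) := by
      intro j
      induction j with
      | zero => simp
      | succ j ih =>
        rw [pow_succ', Module.End.mul_apply, ih, map_add, map_smul, h2, Nat.cast_succ, add_smul, one_smul]
        abel
    have h4 := h3 p
    rw [hg, Module.End.one_apply, left_eq_add] at h4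
    rcases smul_eq_zero.1 h4 with h5 | h5
    · exact absurd h5 hpK
    · exact sub_eq_zero.1 h5
  have hC : finrank K C < d := by
    have : finrank K W + finrank K C = finrank K V := LinearMap.finrank_range_add_finrank_ker _
    omega
  have hm : ∀ x ∈ C, h x ∈ C := by
    intro x hx
    rw [LinearMap.mem_ker, LinearMap.sub_apply, Module.End.one_apply, sub_eq_zero] at hx ⊢
    rw [← Module.End.mul_apply, hgh.eq, Module.End.mul_apply, hx]
  have hr : h.restrict hm = 1 := by
    refine eq_one_of_dim_lt hq hd hC ?_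
    rw [Module.End.pow_restrict p]
    refine LinearMap.ext fun x => Subtype.ext ?_
    simp [hh, LinearMap.restrict_apply]
  intro x hx
  have := congrArg Subtype.val (LinearMap.congr_fun hr ⟨x, hx⟩)
  simp only [LinearMap.restrict_apply, Module.End.one_apply] at this
  simp [this]

theorem isCyclic_of_faithful {V : Type*} [AddCommGroup V] [Module K V] [Module.Finite K V]
    [hp : Fact p.Prime] {P : Type*} [Group P] [Finite P] (hP : IsPGroup p P) (hodd : p ≠ 2)
    (ρ : P →* Module.End K V) (hρ : Function.Injective ρ) {d : ℕ}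
    (hpK : (p : K) ≠ 0) (hq : ¬ p ∣ Fintype.card K)
    (hd : ∀ i, 1 ≤ i → i < d → ¬ p ∣ Fintype.card K ^ i - 1) (hn : finrank K V < 2 * d) :
    IsCyclic P := by
  rcases subsingleton_or_nontrivial P with hsub | hnt
  · infer_instance
  · have : Nontrivial (Subgroup.center P) := hP.center_nontrivial
    have hpd : p ∣ Nat.card (Subgroup.center P) := by
      obtain ⟨k, hk, h⟩ := (hP.to_subgroup (Subgroup.center P)).nontrivial_iff_card.1 this
      exact h ▸ dvd_pow_self p (by omega)
    obtain ⟨z, hz⟩ := exists_prime_orderOf_dvd_card' p hpd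
    have hzP : orderOf (z : P) = p := by rw [Subgroup.orderOf_coe, hz]
    set Z := (z : P) with hZ
    have hall : ∀ a : P, orderOf a = p → a ∈ Subgroup.zpowers Z := by
      intro a ha
      by_contra hna
      have hza : Commute Z a := (Subgroup.mem_center_iff.1 z.2 a).symm
      have hZp : Z ^ p = 1 := hzP ▸ pow_orderOf_eq_one Z
      have hap : a ^ p = 1 := ha ▸ pow_orderOf_eq_one a
      have hZ1 : Z ≠ 1 := fun e => hp.out.one_lt.ne' (by rw [← hzP, e, orderOf_one])
      have hne : ∀ i : ℕ, Z ^ i * a ≠ 1 := fun i e => hna (by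
        rw [eq_inv_of_mul_eq_one_right e]
        exact Subgroup.inv_mem _ (Subgroup.npow_mem_zpowers _ _))
      set C := LinearMap.ker (ρ Z - 1)
      have hcomm : ∀ g : P, Commute Z g := fun g => (Subgroup.mem_center_iff.1 z.2 g).symm
      have hsame : ∀ g : P, g ≠ 1 → g ^ p = 1 → LinearMap.ker (ρ g - 1) = C := by
        intro g hg1 hgp
        have h1 : ρ g ≠ 1 := fun e => hg1 (hρ (e.trans (map_one ρ).symm))
        have h2 : ρ Z ≠ 1 := fun e => hZ1 (hρ (e.trans (map_one ρ).symm))
        refine le_antisymm ?_ ?_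
        · exact ker_le_of_commute hpK hq hd hn ((hcomm g).symm.map ρ) (by rw [← map_pow, hgp, map_one])
            (by rw [← map_pow, hZp, map_one]) h1
        · exact ker_le_of_commute hpK hq hd hn ((hcomm g).map ρ) (by rw [← map_pow, hZp, map_one])
            (by rw [← map_pow, hgp, map_one]) h2
      have hsum : ∀ (g : P), g ≠ 1 → g ^ p = 1 → ∀ v, ∑ j ∈ Finset.range p, ρ (g ^ j) v ∈ C := by
        intro g hg1 hgp v
        rw [← hsame g hg1 hgp, LinearMap.mem_ker, LinearMap.sub_apply, Module.End.one_apply, map_sum,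
          ← Finset.sum_sub_distrib]
        have e : ∀ j ∈ Finset.range p, ρ g (ρ (g ^ j) v) - ρ (g ^ j) v =
            ρ (g ^ (j + 1)) v - ρ (g ^ j) v := by
          intro j _
          rw [pow_succ' g, map_mul, Module.End.mul_apply]
        rw [Finset.sum_congr rfl e, Finset.sum_range_sub (fun j => ρ (g ^ j) v), hgp, pow_zero,
          sub_self]
      have hpow : ∀ i : ℕ, (Z ^ i * a) ^ p = 1 := fun i => by
        rw [((hza.pow_left i)).mul_pow, hap, mul_one, ← pow_mul, mul_comm, pow_mul, hZp, one_pow]
      have hA : ∀ v, ∀ w ∈ C, ρ v w ∈ C := by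
        intro v w hw
        rw [LinearMap.mem_ker, LinearMap.sub_apply, Module.End.one_apply, sub_eq_zero] at hw ⊢
        rw [← Module.End.mul_apply, ← map_mul, (hcomm v).eq, map_mul, Module.End.mul_apply, hw]
      refine hZ1 (hρ ?_)
      rw [map_one]
      refine LinearMap.ext fun v => ?_
      have hT : ∑ i ∈ Finset.range p, ∑ j ∈ Finset.range p, ρ ((Z ^ i * a) ^ j) v ∈ C :=
        Submodule.sum_mem _ fun i _ => hsum _ (hne i) (hpow i) v
      rw [Finset.sum_comm, Finset.range_eq_Ico, Finset.sum_eq_sum_Ico_succ_bot hp.out.pos] at hT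
      have hrest : ∑ j ∈ Finset.Ico (0 + 1) p, ∑ i ∈ Finset.Ico 0 p, ρ ((Z ^ i * a) ^ j) v ∈ C := by
        refine Submodule.sum_mem _ fun j hj => ?_
        rw [Finset.mem_Ico] at hj
        have hj1 : Z ^ j ≠ 1 := fun e => by
          have := Nat.le_of_dvd (by omega) (hzP ▸ orderOf_dvd_of_pow_eq_one e)
          omega
        have e : ∀ i ∈ Finset.Ico 0 p, ρ ((Z ^ i * a) ^ j) v = ρ (a ^ j) (ρ ((Z ^ j) ^ i) v) := by
          intro i _
          rw [((hza.pow_left i)).mul_pow, ← pow_mul, mul_comm i j, pow_mul,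
            ((hza.pow_pow j j).pow_left i).eq, map_mul, Module.End.mul_apply]
        rw [Finset.sum_congr rfl e, ← map_sum, ← Finset.range_eq_Ico]
        exact hA _ _ (hsum _ hj1 (by rw [← pow_mul, mul_comm, pow_mul, hZp, one_pow]) v)
      have h0 : (p : K) • v ∈ C := by
        have := (Submodule.add_mem_iff_left C hrest).1 hT
        simp only [pow_zero, map_one, Module.End.one_apply, Finset.sum_const, Nat.card_Ico, Nat.sub_zero] at this
        rwa [Nat.cast_smul_eq_nsmul]
      have hv : v ∈ C := (Submodule.smul_mem_iff C hpK).1 h0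
      rw [LinearMap.mem_ker, LinearMap.sub_apply, Module.End.one_apply, sub_eq_zero] at hv
      rw [Module.End.one_apply]
      exact hv
    refine Cfsg.Agent.Lib.Frobenius.isCyclic_of_unique_odd hodd hP fun a b ha hb => ?_
    have he : Subgroup.zpowers b = Subgroup.zpowers Z := by
      refine Subgroup.eq_of_le_of_card_ge (by rw [Subgroup.zpowers_le]; exact hall b hb) ?_
      rw [Nat.card_zpowers, Nat.card_zpowers, hzP, hb]
    rw [he]
    exact hall a ha

/-- A cyclic Sylow subgroup of a group mapping injectively onto a full `p`-part. -/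
theorem isCyclic_of_hom {H G : Type*} [Group H] [Finite H] [Group G] [Finite G] [Fact p.Prime]
    (f : H →* G) (S : Sylow p H) (hS : IsCyclic ↥(S : Subgroup H))
    (hinj : ∀ x ∈ (S : Subgroup H), f x = 1 → x = 1)
    (hv : (Nat.card H).factorization p = (Nat.card G).factorization p) (P : Sylow p G) :
    IsCyclic ↥(P : Subgroup G) := by
  set g := f.comp (S : Subgroup H).subtype
  have hg : Function.Injective g :=
    (injective_iff_map_eq_one g).2 fun x hx => Subtype.ext (hinj x x.2 hx)
  have e := MonoidHom.ofInjective hg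
  have hcard : Nat.card ↥g.range = p ^ (Nat.card G).factorization p := by
    rw [← hv, ← Nat.card_congr e.toEquiv]
    exact S.card_eq_multiplicity
  let T : Sylow p G := Sylow.ofCard g.range hcard
  have hc : IsCyclic ↥g.range := e.isCyclic.1 hS
  exact (Sylow.equiv P T).isCyclic.2 hc

end Cfsg.Agent.Lib.RankOne
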