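import Cfsg.Agent.Lib.RankOne.ReeBasic

/-!
In characteristic three the short roots give an invariant subspace of dimension seven of the adjoint module of `G₂`.
-/

set_option autoImplicit false
set_option maxRecDepth 100000

namespace Cfsg.Agent.Lib.RankOne.Ree

open Cfsg.Lie Cfsg.Agent.Lib.Chev Cfsg.Agent.Lib.Chev.Tw Cfsg.Agent.Lib.Chev.Tw.G2

/-- the short roots -/
def shR (r : Fin 12) : Bool := r.val ∈ [2, 3, 4, 7, 8, 9]

/-- the coordinates of the invariant subspace -/
def shI : chevG2.Idx → Prop := Sum.elim (fun i => i.val = 0) (fun r => shR r = true)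

instance : DecidablePred shI := fun x => by
  cases x <;> (unfold shI; dsimp only [Sum.elim_inl, Sum.elim_inr]; infer_instance)

theorem sh_cartan : ∀ r : Fin 12, shR r = false →
    ((chevG2.cartanSR.getD 0 #[]).getD r.val 0 : ℤ) % 3 = 0 := by decide +kernel

theorem sh_coroot : ∀ r : Fin 12, shR r = true →
    ((chevG2.coroot.getD r.val #[]).getD 1 0 : ℤ) % 3 = 0 := by decide +kernel

theorem sh_neg : ∀ r s : Fin 12, s.val = chevG2.negIdx.getD r.val 0 → shR s = shR r := by decide +kernel

theorem sh_chain : ∀ r s u : Fin 12, shR s = true → shR u = false →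
    ∀ km ∈ chevG2.chainCoeff r.val s.val u.val, km.2 % 3 = 0 := by decide +kernel

/-- The subspace as an index type. -/
abbrev ShT : Type := {x : chevG2.Idx // shI x}

theorem card_ShT : Fintype.card ShT = 7 := by decide +kernel

variable {K : Type*} [Field K]

theorem cast_zero_of_dvd (h3 : (3 : K) = 0) {z : ℤ} (hz : z % 3 = 0) : ((z : ℤ) : K) = 0 := by
  obtain ⟨w, rfl⟩ := Int.dvd_of_emod_eq_zero hz
  push_cast
  rw [h3, zero_mul]

theorem xMat_sh (h3 : (3 : K) = 0) (r : Fin 12) (t : K) (row col : chevG2.Idx) (hr : ¬ shI row)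
    (hc : shI col) : chevG2.xMat K r t row col = 0 := by
  rcases col with i | s
  · obtain rfl : i = ⟨0, by decide⟩ := Fin.ext hc
    rcases row with i' | u
    · have : i' ≠ ⟨0, by decide⟩ := fun e => hr (by rw [e]; rfl)
      simp [ChevalleyDatum.xMat, this]
    · simp only [ChevalleyDatum.xMat, Matrix.of_apply]
      split_ifs with h
      · subst h
        rw [cast_zero_of_dvd h3 (sh_cartan u (Bool.not_eq_true _ ▸ hr)), neg_zero, zero_mul]
      · rfl
  · have hs : shR s = true := hc
    rcases row with i | u
    · have hi : i.val = 1 := by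
        have h1 : i.val < 2 := i.isLt
        have h2 : i.val ≠ 0 := hr
        omega
      simp only [ChevalleyDatum.xMat, Matrix.of_apply]
      split_ifs with h h'
      · rfl
      · rw [hi, cast_zero_of_dvd h3 (sh_coroot r (sh_neg r s h' ▸ hs)), zero_mul]
      · rfl
    · have hu : shR u = false := Bool.not_eq_true _ ▸ hr
      have hne : u ≠ s := fun e => by rw [e, hs] at hu; exact Bool.noConfusion hu
      simp only [ChevalleyDatum.xMat, Matrix.of_apply]
      by_cases hsr : s = r
      · rw [if_pos hsr]
        exact if_neg (fun e => hne (e.trans hsr.symm))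
      · rw [if_neg hsr]
        by_cases hsn : s.val = chevG2.negIdx.getD r.val 0
        · rw [if_pos hsn]
          have hur : u ≠ r := fun e => by
            rw [sh_neg r s hsn] at hs; rw [e, hs] at hu; exact Bool.noConfusion hu
          simp [hne, hur]
        · rw [if_neg hsn]
          simp only [if_neg hne, zero_add]
          refine List.sum_eq_zero fun x hx => ?_
          obtain ⟨km, hkm, rfl⟩ := List.mem_map.1 hx
          rw [cast_zero_of_dvd h3 (sh_chain r s u hs hu km hkm), zero_mul]

variable [Fintype K]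

/-- Matrices preserving the subspace. -/
def ShInv (M : Matrix chevG2.Idx chevG2.Idx K) : Prop := ∀ row col, ¬ shI row → shI col → M row col = 0

theorem shInv_one : ShInv (1 : Matrix chevG2.Idx chevG2.Idx K) := fun row col hr hc =>
  Matrix.one_apply_ne fun e => hr (e ▸ hc)

theorem shInv_mul {M N : Matrix chevG2.Idx chevG2.Idx K} (hM : ShInv M) (hN : ShInv N) : ShInv (M * N) := by
  intro row col hr hc
  rw [Matrix.mul_apply]
  refine Finset.sum_eq_zero fun k _ => ?_
  by_cases hk : shI k
  · rw [hM row k hr hk, zero_mul]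
  · rw [hN k col hk hc, mul_zero]

theorem shInv_group (h3 : (3 : K) = 0) {g : GL chevG2.Idx K} (hg : g ∈ chevG2.group K) :
    ShInv (g : Matrix chevG2.Idx chevG2.Idx K) := by
  induction hg using Subgroup.closure_induction with
  | mem x hx =>
    obtain ⟨r, t, hx⟩ := hx
    rw [hx]
    exact xMat_sh h3 r t
  | one => exact shInv_one
  | mul x y _ _ hx hy => rw [Units.val_mul]; exact shInv_mul hx hy
  | inv x _ hx =>
    have hpow : ∀ k : ℕ, ShInv ((x ^ k : GL chevG2.Idx K) : Matrix chevG2.Idx chevG2.Idx K) := by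
      intro k
      induction k with
      | zero => rw [pow_zero, Units.val_one]; exact shInv_one
      | succ k ih => rw [pow_succ, Units.val_mul]; exact shInv_mul ih hx
    have e : x⁻¹ = x ^ (orderOf x - 1) := by
      refine inv_eq_of_mul_eq_one_right ?_
      rw [← pow_succ', Nat.sub_add_cancel (orderOf_pos x), pow_orderOf_eq_one]
    rw [e]
    exact hpow _

/-- The restriction to the subspace. -/
def res (M : Matrix chevG2.Idx chevG2.Idx K) : Matrix ShT ShT K :=
  M.submatrix (Subtype.val : ShT → _) (Subtype.val : ShT → _)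

theorem res_mul {M N : Matrix chevG2.Idx chevG2.Idx K} (hN : ShInv N) :
    res (M * N) = res M * res N := by
  ext a b
  rw [res, res, res, Matrix.submatrix_apply, Matrix.mul_apply, Matrix.mul_apply,
    ← Fintype.sum_subtype_add_sum_subtype shI (fun k => M a.1 k * N k b.1)]
  have : ∑ k : {x // ¬ shI x}, M a.1 k.1 * N k.1 b.1 = 0 :=
    Finset.sum_eq_zero fun k _ => by rw [hN _ _ k.2 b.2, mul_zero]
  rw [this, add_zero]
  rfl

/-- The seven dimensional representation. -/
noncomputable def rho7 {m : ℕ} (A : Par K m) : ↥(twistedG2 K (3 ^ m)) →* Module.End K (ShT → K) where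
  toFun g := Matrix.toLinAlgEquiv' (res ((g : GL chevG2.Idx K) : Matrix chevG2.Idx chevG2.Idx K))
  map_one' := by
    rw [OneMemClass.coe_one, Units.val_one, res, Matrix.submatrix_one _ Subtype.val_injective, map_one]
  map_mul' g h := by
    rw [Subgroup.coe_mul, Units.val_mul, res_mul (shInv_group A.h3 ((gens A).le_Fx h.2).1), map_mul]

theorem rho7_ne_one {m : ℕ} (A : Par K m) :
    rho7 A ⟨torT A (-1), (torT_mem A (-1)).2⟩ ≠ 1 := by
  intro h
  have h' : Matrix.toLinAlgEquiv' (res ((torT A (-1) : GL chevG2.Idx K) : Matrix chevG2.Idx chevG2.Idx K)) = Matrix.toLinAlgEquiv' (1 : Matrix ShT ShT K) := by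
    rw [map_one]; exact h
  have h9 : shI (Sum.inr (⟨9, by decide⟩ : Fin chevG2.nroots)) := by decide
  have := congrArg (fun M : Matrix ShT ShT K => M ⟨_, h9⟩ ⟨_, h9⟩) (Matrix.toLinAlgEquiv'.injective h')
  simp only [res, Matrix.submatrix_apply, Matrix.one_apply_eq] at this
  have e : ((torT A (-1) : GL chevG2.Idx K) : Matrix chevG2.Idx chevG2.Idx K) =
      dmat chevG2 (tor chevG2 tabG2 (extOne chevG2 (par A (-1)))) := (sys A).G.torHom_val _
  rw [e, dmat, Matrix.diagonal_apply_eq, Sum.elim_inr, (tor_par A (-1)).2.2.1, Units.val_neg, Units.val_one,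
    map_neg, map_one] at this
  have h2 : (2 : K) = 0 := by linear_combination -this
  exact one_ne_zero (by linear_combination A.h3 - h2)

end Cfsg.Agent.Lib.RankOne.Ree
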