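import Cfsg.Agent.Lib.RankOne.Odd
import Mathlib.GroupTheory.Sylow
import Mathlib.GroupTheory.GroupAction.MultipleTransitivity
import Mathlib.Data.Finite.Sum
import Mathlib.Data.Finite.Prod

/-!
Basic facts on the rank-one set-up.
-/

set_option autoImplicit false

namespace Cfsg.Agent.Lib.RankOne

open Cfsg MulAction

variable {G Ω : Type*} [Group G] [MulAction G Ω] {a : Ω} {t : G} {Q : Subgroup G}

local notation "𝓗" => MulAction.stabilizer G a
local notation "𝓓" => (MulAction.stabilizer G a ⊓ MulAction.stabilizer G (t • a))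

namespace Setup

theorem t_inv (hS : IsRankOneSetup G Ω a t Q) : t⁻¹ = t := inv_eq_self_of_sq hS.mul_self

theorem t_smul_t_smul (hS : IsRankOneSetup G Ω a t Q) (c : Ω) : t • t • c = c := by
  rw [smul_smul, hS.mul_self, one_smul]

theorem tsmul_ne (hS : IsRankOneSetup G Ω a t Q) : t • a ≠ a := fun h =>
  hS.not_mem (mem_stabilizer_iff.mpr h)

theorem mem_D {d : G} : d ∈ 𝓓 ↔ d • a = a ∧ d • (t • a) = t • a := by
  simp [Subgroup.mem_inf]

theorem smul_a_of_mem (hS : IsRankOneSetup G Ω a t Q) {x : G} (hx : x ∈ Q) : x • a = a :=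
  mem_stabilizer_iff.mp (hS.le hx)

theorem t_conj_mem_D (hS : IsRankOneSetup G Ω a t Q) {d : G} (hd : d ∈ 𝓓) :
    t * d * t ∈ 𝓓 := by
  obtain ⟨h1, h2⟩ := mem_D.mp hd
  exact mem_D.mpr ⟨by rw [mul_smul, mul_smul, h2, t_smul_t_smul hS],
    by rw [mul_smul, mul_smul, t_smul_t_smul hS, h1]⟩

theorem conj_mem_of_mem_D (hS : IsRankOneSetup G Ω a t Q) {d x : G} (hd : d ∈ 𝓓) (hx : x ∈ Q) :
    d * x * d⁻¹ ∈ Q := hS.conj_mem d hd.1 x hx

theorem conj_mem' (hS : IsRankOneSetup G Ω a t Q) {h x : G} (hh : h ∈ 𝓗) (hx : x ∈ Q) :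
    h⁻¹ * x * h ∈ Q := by
  simpa using hS.conj_mem h⁻¹ (inv_mem hh) x hx

theorem exists_split (hS : IsRankOneSetup G Ω a t Q) {h : G} (hh : h ∈ 𝓗) :
    ∃ q ∈ Q, ∃ d ∈ 𝓓, h = q * d := by
  have hle : 𝓓 ≤ Subgroup.normalizer (Q : Set G) := fun d hd n =>
    ⟨fun hn => conj_mem_of_mem_D hS hd hn, fun hn => by
      have := conj_mem_of_mem_D hS (inv_mem hd) hn
      simpa [mul_assoc] using this⟩
  have h1 : h ∈ ((𝓓 ⊔ Q : Subgroup G) : Set G) := by
    rw [sup_comm, hS.sup_eq]; exact hh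
  rw [Subgroup.coe_mul_of_left_le_normalizer_right _ _ hle] at h1
  obtain ⟨d, hd, q, hq, rfl⟩ := h1
  exact ⟨d * q * d⁻¹, conj_mem_of_mem_D hS hd hq, d, hd, by group⟩

/-- An element of `Q` fixing `t • a` is trivial. -/
theorem eq_one_of_fix (hS : IsRankOneSetup G Ω a t Q) {x : G} (hx : x ∈ Q)
    (h : x • (t • a) = t • a) : x = 1 := by
  have : x ∈ Q ⊓ stabilizer G (t • a) := ⟨hx, h⟩
  rwa [hS.inf_eq_bot, Subgroup.mem_bot] at this

theorem inj_smul (hS : IsRankOneSetup G Ω a t Q) {q q' : G} (hq : q ∈ Q) (hq' : q' ∈ Q)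
    (h : q • (t • a) = q' • (t • a)) : q = q' :=
  (inv_mul_eq_one.mp (eq_one_of_fix hS (mul_mem (inv_mem hq') hq)
    (by rw [mul_smul, h, inv_smul_smul]))).symm

theorem split_inj (hS : IsRankOneSetup G Ω a t Q) {q q' d d' : G} (hq : q ∈ Q) (hq' : q' ∈ Q)
    (hd : d ∈ 𝓓) (hd' : d' ∈ 𝓓) (h : q * d = q' * d') : q = q' ∧ d = d' := by
  have h1 : q = q' := inj_smul hS hq hq' (by
    have := congrArg (· • (t • a)) h
    simpa only [mul_smul, (mem_D.mp hd).2, (mem_D.mp hd').2] using this)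
  subst h1
  exact ⟨rfl, mul_left_cancel h⟩

theorem exists_smul_eq (hS : IsRankOneSetup G Ω a t Q) {c : Ω} (hc : c ≠ a) :
    ∃ q ∈ Q, q • (t • a) = c := by
  obtain ⟨g, hg1, hg2⟩ := is_two_pretransitive_iff.mp hS.two_transitive
    (tsmul_ne hS).symm hc.symm
  obtain ⟨q, hq, d, hd, rfl⟩ := exists_split hS (mem_stabilizer_iff.mpr hg1)
  exact ⟨q, hq, by rw [← hg2, mul_smul, (mem_D.mp hd).2]⟩

theorem smul_ne_a (hS : IsRankOneSetup G Ω a t Q) {q : G} (hq : q ∈ Q) : q • (t • a) ≠ a :=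
  fun h => tsmul_ne hS (by
    rw [← smul_left_cancel_iff q, h, smul_a_of_mem hS hq])

/-- A non-identity element of `Q` fixes only `a`. -/
theorem eq_of_fix (hS : IsRankOneSetup G Ω a t Q) {x : G} (hx : x ∈ Q) (hx1 : x ≠ 1) {c : Ω}
    (hc : x • c = c) : c = a := by
  by_contra hca
  obtain ⟨q, hq, rfl⟩ := exists_smul_eq hS hca
  apply hx1
  have h1 : q⁻¹ * x * q = 1 := eq_one_of_fix hS (mul_mem (mul_mem (inv_mem hq) hx) hq)
    (by rw [mul_smul, mul_smul, hc, inv_smul_smul])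
  calc x = q * (q⁻¹ * x * q) * q⁻¹ := by group
    _ = 1 := by rw [h1, mul_one, mul_inv_cancel]

/-- `Q` is a trivial intersection set with normaliser in the point stabiliser. -/
theorem mem_of_conj_mem (hS : IsRankOneSetup G Ω a t Q) {x g : G} (hx : x ∈ Q) (hx1 : x ≠ 1)
    (hg : g * x * g⁻¹ ∈ Q) : g ∈ 𝓗 :=
  mem_stabilizer_iff.mpr (eq_of_fix hS hg (fun h => hx1 (conj_eq_one_iff.mp h))
    (by rw [mul_smul, mul_smul, inv_smul_smul, smul_a_of_mem hS hx]))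

theorem mem_of_commute (hS : IsRankOneSetup G Ω a t Q) {x g : G} (hx : x ∈ Q) (hx1 : x ≠ 1)
    (hg : g * x = x * g) : g ∈ 𝓗 :=
  mem_of_conj_mem hS hx hx1 (by rw [hg, mul_inv_cancel_right]; exact hx)

theorem transitive (hS : IsRankOneSetup G Ω a t Q) (c : Ω) : ∃ g : G, g • a = c := by
  rcases eq_or_ne c a with rfl | hc
  · exact ⟨1, one_smul _ _⟩
  · obtain ⟨q, _, rfl⟩ := exists_smul_eq hS hc
    exact ⟨q * t, mul_smul _ _ _⟩

theorem finite (hS : IsRankOneSetup G Ω a t Q) [Finite G] : Finite Ω :=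
  Finite.of_surjective (fun g : G => g • a) (transitive hS)

theorem canonical_unique (hS : IsRankOneSetup G Ω a t Q) {x x' y y' : G} (hx : x ∈ 𝓗)
    (hx' : x' ∈ 𝓗) (hy : y ∈ Q) (hy' : y' ∈ Q) (h : x * t * y = x' * t * y') :
    x = x' ∧ y = y' := by
  have h1 : y⁻¹ = y'⁻¹ := inj_smul hS (inv_mem hy) (inv_mem hy') (by
    have := congrArg (fun g => g⁻¹ • a) h
    simpa only [mul_inv_rev, t_inv hS, mul_smul, mem_stabilizer_iff.mp (inv_mem hx),
      mem_stabilizer_iff.mp (inv_mem hx')] using this)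
  rw [inv_inj] at h1
  subst h1
  exact ⟨mul_right_cancel (mul_right_cancel h), rfl⟩

theorem ghtf_unique (hS : IsRankOneSetup G Ω a t Q) {g g' h h' f f' : G} (hg : g ∈ Q)
    (hg' : g' ∈ Q) (hh : h ∈ 𝓓) (hh' : h' ∈ 𝓓) (hf : f ∈ Q) (hf' : f' ∈ Q)
    (e : g * h * t * f = g' * h' * t * f') : g = g' ∧ h = h' ∧ f = f' := by
  obtain ⟨h1, h2⟩ := canonical_unique hS (mul_mem (hS.le hg) hh.1) (mul_mem (hS.le hg') hh'.1)
    hf hf' e
  obtain ⟨h3, h4⟩ := split_inj hS hg hg' hh hh' h1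
  exact ⟨h3, h4, h2⟩

theorem exists_canonical (hS : IsRankOneSetup G Ω a t Q) {g : G} (hg : g ∉ 𝓗) :
    ∃ x ∈ 𝓗, ∃ y ∈ Q, g = x * t * y := by
  obtain ⟨q, hq, hqc⟩ := exists_smul_eq hS (c := g⁻¹ • a) (fun h => hg (mem_stabilizer_iff.mpr
    (by rw [← inv_smul_eq_iff.mp h])))
  refine ⟨g * q * t, mem_stabilizer_iff.mpr ?_, q⁻¹, inv_mem hq, ?_⟩
  · rw [mul_smul, mul_smul, hqc, smul_inv_smul]
  · rw [mul_assoc (g * q) t t, hS.mul_self]; group

theorem card_stabilizer (hS : IsRankOneSetup G Ω a t Q) :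
    Nat.card ↥𝓗 = Nat.card Q * Nat.card ↥𝓓 := by
  rw [← Nat.card_prod]
  refine (Nat.card_congr (Equiv.ofBijective
    (fun p : ↥Q × ↥𝓓 => (⟨(p.1 : G) * p.2, mul_mem (hS.le p.1.2) p.2.2.1⟩ : ↥𝓗)) ⟨?_, ?_⟩)).symm
  · rintro ⟨q, d⟩ ⟨q', d'⟩ h
    obtain ⟨h1, h2⟩ := split_inj hS q.2 q'.2 d.2 d'.2 (congrArg Subtype.val h)
    exact Prod.ext (Subtype.ext h1) (Subtype.ext h2)
  · rintro ⟨h, hh⟩
    obtain ⟨q, hq, d, hd, rfl⟩ := exists_split hS hh
    exact ⟨(⟨q, hq⟩, ⟨d, hd⟩), rfl⟩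

theorem card_omega (hS : IsRankOneSetup G Ω a t Q) [Finite G] :
    Nat.card Ω = Nat.card Q + 1 := by
  rw [← Finite.card_option]
  refine (Nat.card_congr (Equiv.ofBijective
    (fun o : Option ↥Q => o.elim a fun q => (q : G) • (t • a)) ⟨?_, ?_⟩)).symm
  · rintro (_ | q) (_ | q') h
    · rfl
    · exact absurd h.symm (smul_ne_a hS q'.2)
    · exact absurd h (smul_ne_a hS q.2)
    · exact congrArg some (Subtype.ext (inj_smul hS q.2 q'.2 h))
  · intro c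
    rcases eq_or_ne c a with rfl | hc
    · exact ⟨none, rfl⟩
    · obtain ⟨q, hq, rfl⟩ := exists_smul_eq hS hc
      exact ⟨some ⟨q, hq⟩, rfl⟩

theorem card_group (hS : IsRankOneSetup G Ω a t Q) [Finite G] :
    Nat.card G = Nat.card Q * Nat.card ↥𝓓 * (Nat.card Q + 1) := by
  have : IsPretransitive G Ω := @isPretransitive_of_is_two_pretransitive _ _ _ _ hS.two_transitive
  rw [← Subgroup.card_mul_index 𝓗, index_stabilizer_of_transitive, card_stabilizer hS,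
    card_omega hS]

/-- A two-element of `G_a` lies in `Q`. -/
theorem mem_of_pow_two_pow [Finite G] (hS : IsRankOneSetup G Ω a t Q) {h : G} (hh : h ∈ 𝓗)
    (n : ℕ) (hn : h ^ (2 ^ n) = 1) : h ∈ Q := by
  obtain ⟨q, hq, d, hd, rfl⟩ := exists_split hS hh
  have key : ∀ m, ∃ q' ∈ Q, (q * d) ^ m = q' * d ^ m := by
    intro m
    induction m with
    | zero => exact ⟨1, one_mem _, by simp⟩
    | succ m ih =>
      obtain ⟨q', hq', e⟩ := ih
      refine ⟨q' * (d ^ m * q * (d ^ m)⁻¹), mul_mem hq'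
        (conj_mem_of_mem_D hS (pow_mem hd m) hq), ?_⟩
      rw [pow_succ, e, pow_succ]
      group
  obtain ⟨q', hq', e⟩ := key (2 ^ n)
  have h1 : d ^ 2 ^ n = 1 :=
    (split_inj hS (one_mem _) hq' (one_mem _) (pow_mem hd _) (by rw [one_mul, ← e, hn])).2.symm
  have h2 : d = 1 := orderOf_eq_one_iff.mp
    (Nat.Coprime.eq_one_of_dvd ((Nat.coprime_two_right.mpr
      (odd_orderOf_of_mem hS.odd_card hd)).pow_right n) (orderOf_dvd_of_pow_eq_one h1))
  rwa [h2, mul_one]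

theorem mem_of_sq [Finite G] (hS : IsRankOneSetup G Ω a t Q) {h : G} (hh : h ∈ 𝓗)
    (h2 : h * h = 1) : h ∈ Q :=
  mem_of_pow_two_pow hS hh 1 (by rw [pow_one, sq, h2])

theorem exists_sylow_two_le [Finite G] (hS : IsRankOneSetup G Ω a t Q) :
    ∃ P : Sylow 2 G, (P : Subgroup G) ≤ Q := by
  haveI : Fact (Nat.Prime 2) := ⟨Nat.prime_two⟩
  obtain ⟨P₀⟩ : Nonempty (Sylow 2 ↥Q) := inferInstance
  have hne : Nat.card Q ≠ 0 := Nat.card_pos.ne'
  have hodd : Odd (Nat.card ↥𝓓 * (Nat.card Q + 1)) := hS.odd_card.mul hS.even_card.add_one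
  have hfac : (Nat.card G).factorization 2 = (Nat.card Q).factorization 2 := by
    rw [card_group hS, mul_assoc, Nat.factorization_mul hne hodd.pos.ne', Finsupp.add_apply,
      Nat.factorization_eq_zero_of_not_dvd hodd.not_two_dvd_nat, add_zero]
  have hcard : Nat.card ↥((P₀ : Subgroup ↥Q).map Q.subtype) = 2 ^ (Nat.card G).factorization 2 := by
    rw [Subgroup.card_map_of_injective Q.subtype_injective, P₀.card_eq_multiplicity, hfac]
  exact ⟨Sylow.ofCard _ hcard, by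
    rw [Sylow.coe_ofCard]; exact Subgroup.map_subtype_le _⟩

theorem exists_involution (hS : IsRankOneSetup G Ω a t Q) [Finite G] :
    ∃ s ∈ Q, s ≠ 1 ∧ s * s = 1 := by
  haveI : Fact (Nat.Prime 2) := ⟨Nat.prime_two⟩
  obtain ⟨s, hs⟩ := exists_prime_orderOf_dvd_card' (G := ↥Q) 2 hS.even_card.two_dvd
  refine ⟨s, s.2, ?_, ?_⟩
  · intro h
    rw [← Subgroup.orderOf_coe, h, orderOf_one] at hs
    exact absurd hs (by decide)
  · rw [← sq, ← hs, ← Subgroup.orderOf_coe, pow_orderOf_eq_one]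

theorem odd_mul [Finite G] (hS : IsRankOneSetup G Ω a t Q) {s u : G} (hs : s ∈ 𝓗) (hs1 : s ≠ 1)
    (hs2 : s * s = 1) (hu : u ∉ 𝓗) (hu2 : u * u = 1) : Odd (orderOf (s * u)) := by
  by_contra hev
  rw [Nat.not_odd_iff_even] at hev
  obtain ⟨k, hk⟩ := hev
  set z := (s * u) ^ k with hz
  have hz2 : z * z = 1 := by rw [hz, ← pow_add, ← hk, pow_orderOf_eq_one]
  have hz1 : z ≠ 1 := by
    intro h
    have h1 := Nat.le_of_dvd (Nat.pos_of_ne_zero fun h0 => by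
      have := orderOf_pos (s * u); omega) (orderOf_dvd_of_pow_eq_one (hz ▸ h))
    have := orderOf_pos (s * u)
    omega
  have hzi : z⁻¹ = z := inv_eq_self_of_sq hz2
  have hus : s * (s * u) * s⁻¹ = (s * u)⁻¹ := by
    rw [mul_inv_rev, inv_eq_self_of_sq hu2, inv_eq_self_of_sq hs2, ← mul_assoc s s u, hs2, one_mul]
  have hsz : z * s = s * z := by
    have : s * z * s⁻¹ = z := by rw [hz, ← conj_pow, hus, inv_pow, ← hz, hzi]
    exact (mul_inv_eq_iff_eq_mul.mp this).symm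
  have hzs : z ∈ 𝓗 := mem_of_commute hS (mem_of_sq hS hs hs2) hs1 hsz
  have hzu : u * z = z * u := by
    have h1 : s * u * z = z * (s * u) := (Commute.self_pow (s * u) k).eq
    apply mul_left_cancel (a := s)
    rw [← mul_assoc, h1, ← mul_assoc, hsz, mul_assoc]
  exact hu (mem_of_commute hS (mem_of_sq hS hzs hz2) hz1 hzu)

theorem conj_involutions [Finite G] (hS : IsRankOneSetup G Ω a t Q) {u v : G} (hu1 : u ≠ 1)
    (hu2 : u * u = 1) (hv1 : v ≠ 1) (hv2 : v * v = 1) : ∃ g : G, g * u * g⁻¹ = v := by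
  obtain ⟨s, hs, hs1, hs2⟩ := exists_involution hS
  have key : ∀ w : G, w ≠ 1 → w * w = 1 → ∃ g : G, g * t * g⁻¹ = w := by
    intro w hw1 hw2
    by_cases hw : w ∈ 𝓗
    · obtain ⟨g, -, hg⟩ := exists_conj_eq_of_odd hw2 hS.mul_self
        (odd_mul hS hw hw1 hw2 hS.not_mem hS.mul_self)
      exact ⟨g⁻¹, by rw [← hg]; group⟩
    · obtain ⟨g, -, hg⟩ := exists_conj_eq_of_odd hs2 hw2 (odd_mul hS (hS.le hs) hs1 hs2 hw hw2)
      obtain ⟨g', -, hg'⟩ := exists_conj_eq_of_odd hs2 hS.mul_self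
        (odd_mul hS (hS.le hs) hs1 hs2 hS.not_mem hS.mul_self)
      exact ⟨g * g'⁻¹, by rw [← hg, ← hg']; group⟩
  obtain ⟨g, hg⟩ := key u hu1 hu2
  obtain ⟨g', hg'⟩ := key v hv1 hv2
  exact ⟨g' * g⁻¹, by rw [← hg, ← hg']; group⟩

/-- Every involution fixes exactly one point. -/
theorem existsUnique_fixed [Finite G] (hS : IsRankOneSetup G Ω a t Q) {u : G} (hu1 : u ≠ 1)
    (hu2 : u * u = 1) : ∃! c : Ω, u • c = c := by
  obtain ⟨s, hs, hs1, hs2⟩ := exists_involution hS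
  obtain ⟨g, rfl⟩ := conj_involutions hS hs1 hs2 hu1 hu2
  refine ⟨g • a, by show (g * s * g⁻¹) • g • a = g • a
                    rw [mul_smul, mul_smul, inv_smul_smul, smul_a_of_mem hS hs], fun c hc => ?_⟩
  simp only [mul_smul] at hc
  exact inv_smul_eq_iff.mp (eq_of_fix hS hs hs1 (eq_inv_smul_iff.mpr hc))

end Setup

end Cfsg.Agent.Lib.RankOne
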