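import Cfsg.Agent.Lib.RankOne.Basic

/-!
Involutions, the set of inverted elements, and the structure equation in the rank-one set-up.
-/

set_option autoImplicit false

namespace Cfsg.Agent.Lib.RankOne

open Cfsg MulAction

variable {G Ω : Type*} [Group G] [MulAction G Ω] {a : Ω} {t : G} {Q : Subgroup G}

local notation "𝓗" => MulAction.stabilizer G a
local notation "𝓓" => (MulAction.stabilizer G a ⊓ MulAction.stabilizer G (t • a))
local notation "𝓚" => Cfsg.invertedBy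
  (MulAction.stabilizer G a ⊓ MulAction.stabilizer G (t • a)) t
local notation "𝓘" => Cfsg.involutionsIn (MulAction.stabilizer G a : Set G)

namespace Setup

theorem t_mul_k_sq (hS : IsRankOneSetup G Ω a t Q) {k : G} (hk : k ∈ 𝓚) :
    t * k * (t * k) = 1 := by
  calc t * k * (t * k) = t * k * t⁻¹ * k := by rw [t_inv hS]; simp only [mul_assoc]
    _ = 1 := by rw [hk.2, inv_mul_cancel]

theorem k_mul_t_sq (hS : IsRankOneSetup G Ω a t Q) {k : G} (hk : k ∈ 𝓚) :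
    k * t * (k * t) = 1 := by
  calc k * t * (k * t) = k * (t * k * t⁻¹) := by rw [t_inv hS]; simp only [mul_assoc]
    _ = 1 := by rw [hk.2, mul_inv_cancel]

theorem t_mul_k_smul (hS : IsRankOneSetup G Ω a t Q) {k : G} (hk : k ∈ 𝓚) :
    (t * k) • a = t • a := by
  rw [mul_smul, (mem_D.mp hk.1).1]

theorem t_mul_k_notMem (hS : IsRankOneSetup G Ω a t Q) {k : G} (hk : k ∈ 𝓚) :
    t * k ∉ 𝓗 := fun h =>
  tsmul_ne hS ((t_mul_k_smul hS hk).symm.trans (mem_stabilizer_iff.mp h))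

theorem t_mul_k_ne_one (hS : IsRankOneSetup G Ω a t Q) {k : G} (hk : k ∈ 𝓚) : t * k ≠ 1 :=
  fun h => t_mul_k_notMem hS hk (h ▸ one_mem _)

/-- Conjugation of `t * k` by an element of `K`. -/
theorem conj_t_mul_k (hS : IsRankOneSetup G Ω a t Q) {j : G} (hj : j ∈ 𝓚) (k : G) :
    j * (t * k) * j⁻¹ = t * (j⁻¹ * k * j⁻¹) := by
  have h1 : t * j * t = j⁻¹ := by conv_lhs => arg 2; rw [← t_inv hS]
                                  exact hj.2
  have h2 : j * t = t * j⁻¹ := by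
    rw [← h1, ← mul_assoc, ← mul_assoc, hS.mul_self, one_mul]
  rw [← mul_assoc j t k, h2]
  simp only [mul_assoc]

/-- An involution exchanging `a` and `t • a` lies in `t K`. -/
theorem exists_k_of_swap (hS : IsRankOneSetup G Ω a t Q) {u : G} (hu2 : u * u = 1)
    (hua : u • a = t • a) : ∃ k ∈ 𝓚, u = t * k := by
  have h1 : u • (t • a) = a := by rw [← hua, smul_smul, hu2, one_smul]
  refine ⟨t * u, ⟨mem_D.mpr ⟨?_, ?_⟩, ?_⟩, ?_⟩
  · rw [mul_smul, hua, t_smul_t_smul hS]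
  · rw [mul_smul, h1]
  · rw [t_inv hS, mul_inv_rev, inv_eq_self_of_sq hu2, t_inv hS, ← mul_assoc t t u, hS.mul_self,
      one_mul]
  · rw [← mul_assoc, hS.mul_self, one_mul]

theorem exists_decomp (hS : IsRankOneSetup G Ω a t Q) {u : G} (hu : u ∉ 𝓗) (hu2 : u * u = 1) :
    ∃ q ∈ Q, ∃ k ∈ 𝓚, u = q * (t * k) * q⁻¹ := by
  obtain ⟨q, hq, hqc⟩ := exists_smul_eq hS (c := u • a) (fun h => hu (mem_stabilizer_iff.mpr h))
  have h2 : q⁻¹ * u * q * (q⁻¹ * u * q) = 1 := by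
    calc q⁻¹ * u * q * (q⁻¹ * u * q) = q⁻¹ * (u * u) * q := by group
      _ = 1 := by rw [hu2, mul_one, inv_mul_cancel]
  obtain ⟨k, hk, hke⟩ := exists_k_of_swap hS h2
    (by rw [mul_smul, mul_smul, smul_a_of_mem hS hq, ← hqc, inv_smul_smul])
  exact ⟨q, hq, k, hk, by rw [← hke]; group⟩

theorem decomp_unique (hS : IsRankOneSetup G Ω a t Q) {q q' k k' : G} (hq : q ∈ Q) (hq' : q' ∈ Q)
    (hk : k ∈ 𝓚) (hk' : k' ∈ 𝓚) (h : q * (t * k) * q⁻¹ = q' * (t * k') * q'⁻¹) :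
    q = q' ∧ k = k' := by
  have h1 : q = q' := inj_smul hS hq hq' (by
    have := congrArg (· • a) h
    simpa only [mul_smul, smul_a_of_mem hS (inv_mem hq), smul_a_of_mem hS (inv_mem hq'),
      (mem_D.mp hk.1).1, (mem_D.mp hk'.1).1] using this)
  subst h1
  exact ⟨rfl, mul_left_cancel (mul_left_cancel (mul_right_cancel h))⟩

theorem mem_involutions_iff {s : G} : s ∈ 𝓘 ↔ s ∈ 𝓗 ∧ s ≠ 1 ∧ s * s = 1 := Iff.rfl

theorem mem_Q_of_involution [Finite G] (hS : IsRankOneSetup G Ω a t Q) {s : G} (hs : s ∈ 𝓘) :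
    s ∈ Q := mem_of_sq hS hs.1 hs.2.2

theorem conj_mem_involutions (hS : IsRankOneSetup G Ω a t Q) {s h : G} (hs : s ∈ 𝓘) (hh : h ∈ 𝓗) :
    h * s * h⁻¹ ∈ 𝓘 := by
  refine ⟨mul_mem (mul_mem hh hs.1) (inv_mem hh), fun h1 => hs.2.1 (conj_eq_one_iff.mp h1), ?_⟩
  calc h * s * h⁻¹ * (h * s * h⁻¹) = h * (s * s) * h⁻¹ := by group
    _ = 1 := by rw [hs.2.2, mul_one, mul_inv_cancel]

/-- An element of `D` centralising an involution of `G_a` and inverted by an involution outside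
`G_a` is trivial. -/
theorem eq_one_of_centralize_invert [Finite G] (hS : IsRankOneSetup G Ω a t Q) {s u d : G}
    (hs : s ∈ 𝓘) (hu : u ∉ 𝓗) (hu2 : u * u = 1) (hd : d ∈ 𝓓) (hsd : s * d = d * s)
    (hud : u * d * u⁻¹ = d⁻¹) : d = 1 :=
  eq_one_of_sq_of_odd (odd_orderOf_of_mem hS.odd_card hd)
    (sq_eq_one_of_centralize_invert (odd_mul hS hs.1 hs.2.1 hs.2.2 hu hu2) hsd hud)

theorem inj_conj_involution [Finite G] (hS : IsRankOneSetup G Ω a t Q) {s k₁ k₂ : G} (hs : s ∈ 𝓘)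
    (hk₁ : k₁ ∈ 𝓚) (hk₂ : k₂ ∈ 𝓚) (h : k₁⁻¹ * s * k₁ = k₂⁻¹ * s * k₂) : k₁ = k₂ := by
  have hu : k₁ * t ∉ 𝓗 := fun hm => hS.not_mem (by
    simpa using Subgroup.mul_mem 𝓗 (Subgroup.inv_mem 𝓗 hk₁.1.1) hm)
  have hd : (k₁ * k₂⁻¹) = 1 := eq_one_of_centralize_invert hS hs hu (k_mul_t_sq hS hk₁)
    (mul_mem hk₁.1 (inv_mem hk₂.1))
    (by
      calc s * (k₁ * k₂⁻¹) = k₁ * (k₁⁻¹ * s * k₁) * k₂⁻¹ := by group
        _ = k₁ * k₂⁻¹ * s := by rw [h]; group)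
    (by
      calc k₁ * t * (k₁ * k₂⁻¹) * (k₁ * t)⁻¹
          = k₁ * ((t * k₁ * t⁻¹) * (t * k₂ * t⁻¹)⁻¹) * k₁⁻¹ := by group
        _ = (k₁ * k₂⁻¹)⁻¹ := by rw [hk₁.2, hk₂.2]; group)
  exact mul_inv_eq_one.mp hd

theorem card_inverted [Finite G] (hS : IsRankOneSetup G Ω a t Q) :
    Nat.card 𝓚 = Nat.card 𝓘 := by
  classical
  haveI := finite hS
  choose g hg using transitive hS
  let Inv := {u : G // u ≠ 1 ∧ u * u = 1}
  have e1 : Nat.card Inv = Nat.card Ω * Nat.card 𝓘 := by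
    rw [← Nat.card_prod]
    refine (Nat.card_congr (Equiv.ofBijective (fun p : Ω × 𝓘 => (⟨g p.1 * p.2 * (g p.1)⁻¹,
      fun h => p.2.2.2.1 (conj_eq_one_iff.mp h), by
        calc g p.1 * p.2 * (g p.1)⁻¹ * (g p.1 * p.2 * (g p.1)⁻¹)
            = g p.1 * ((p.2 : G) * p.2) * (g p.1)⁻¹ := by group
          _ = 1 := by rw [p.2.2.2.2, mul_one, mul_inv_cancel]⟩ : Inv)) ⟨?_, ?_⟩)).symm
    · rintro ⟨c, s⟩ ⟨c', s'⟩ h
      have h' : g c * s * (g c)⁻¹ = g c' * s' * (g c')⁻¹ := congrArg Subtype.val h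
      have hfix : ∀ (d : Ω) (r : 𝓘), (g d * (r : G) * (g d)⁻¹) • d = d := by
        intro d r
        rw [mul_smul, mul_smul, show (g d)⁻¹ • d = a from inv_smul_eq_iff.mpr (hg d).symm,
          mem_stabilizer_iff.mp r.2.1, hg]
      have hc : c = c' := by
        have hne : g c * (s : G) * (g c)⁻¹ ≠ 1 := fun h1 => s.2.2.1 (conj_eq_one_iff.mp h1)
        have hsq : g c * (s : G) * (g c)⁻¹ * (g c * (s : G) * (g c)⁻¹) = 1 := by
          calc g c * (s : G) * (g c)⁻¹ * (g c * (s : G) * (g c)⁻¹)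
              = g c * ((s : G) * s) * (g c)⁻¹ := by group
            _ = 1 := by rw [s.2.2.2, mul_one, mul_inv_cancel]
        exact (existsUnique_fixed hS hne hsq).unique (hfix c s) (h' ▸ hfix c' s')
      subst hc
      exact Prod.ext rfl (Subtype.ext (mul_left_cancel (mul_right_cancel h')))
    · rintro ⟨u, hu1, hu2⟩
      obtain ⟨c, hc, -⟩ := existsUnique_fixed hS hu1 hu2
      refine ⟨(c, ⟨(g c)⁻¹ * u * g c, mem_stabilizer_iff.mpr ?_, ?_, ?_⟩), Subtype.ext ?_⟩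
      · rw [mul_smul, mul_smul, hg, show u • c = c from hc, inv_smul_eq_iff, hg]
      · intro h
        apply hu1
        calc u = g c * ((g c)⁻¹ * u * g c) * (g c)⁻¹ := by group
          _ = 1 := by rw [h, mul_one, mul_inv_cancel]
      · calc (g c)⁻¹ * u * g c * ((g c)⁻¹ * u * g c) = (g c)⁻¹ * (u * u) * g c := by group
          _ = 1 := by rw [hu2, mul_one, inv_mul_cancel]
      · simp only; group
  have e2 : Nat.card Inv = Nat.card 𝓘 + Nat.card Q * Nat.card 𝓚 := by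
    rw [← Nat.card_prod, ← Nat.card_sum]
    refine (Nat.card_congr (Equiv.ofBijective (fun p : 𝓘 ⊕ (↥Q × 𝓚) => (Sum.elim
      (fun s : 𝓘 => ⟨(s : G), s.2.2.1, s.2.2.2⟩)
      (fun qk : ↥Q × 𝓚 => ⟨qk.1 * (t * qk.2) * (qk.1 : G)⁻¹,
        fun h => t_mul_k_ne_one hS qk.2.2 (conj_eq_one_iff.mp h), by
          calc qk.1 * (t * qk.2) * (qk.1 : G)⁻¹ * (qk.1 * (t * qk.2) * (qk.1 : G)⁻¹)
              = qk.1 * ((t * qk.2) * (t * qk.2)) * (qk.1 : G)⁻¹ := by group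
            _ = 1 := by rw [t_mul_k_sq hS qk.2.2, mul_one, mul_inv_cancel]⟩) p : Inv))
      ⟨?_, ?_⟩)).symm
    · have hout : ∀ (q : ↥Q) (k : 𝓚), (q : G) * (t * k) * (q : G)⁻¹ ∉ 𝓗 := fun q k h =>
        t_mul_k_notMem hS k.2 (by
          have := mul_mem (mul_mem (inv_mem (hS.le q.2)) h) (hS.le q.2)
          simpa [mul_assoc] using this)
      rintro (s | ⟨q, k⟩) (s' | ⟨q', k'⟩) h <;>
        have h' := congrArg Subtype.val h <;> simp only [Sum.elim_inl, Sum.elim_inr] at h'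
      · exact congrArg Sum.inl (Subtype.ext h')
      · exact absurd (h' ▸ s.2.1) (hout q' k')
      · exact absurd (h'.symm ▸ s'.2.1) (hout q k)
      · obtain ⟨h1, h2⟩ := decomp_unique hS q.2 q'.2 k.2 k'.2 h'
        exact congrArg Sum.inr (Prod.ext (Subtype.ext h1) (Subtype.ext h2))
    · rintro ⟨u, hu1, hu2⟩
      by_cases hu : u ∈ 𝓗
      · exact ⟨Sum.inl ⟨u, hu, hu1, hu2⟩, rfl⟩
      · obtain ⟨q, hq, k, hk, rfl⟩ := exists_decomp hS hu hu2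
        exact ⟨Sum.inr (⟨q, hq⟩, ⟨k, hk⟩), rfl⟩
  rw [card_omega hS, add_one_mul] at e1
  have hpos : 0 < Nat.card Q := Nat.card_pos
  exact Nat.eq_of_mul_eq_mul_left hpos (by omega)

theorem exists_conj_involution [Finite G] (hS : IsRankOneSetup G Ω a t Q) {s s' : G} (hs : s ∈ 𝓘)
    (hs' : s' ∈ 𝓘) : ∃ k ∈ 𝓚, k⁻¹ * s * k = s' := by
  let f : 𝓚 → 𝓘 := fun k => ⟨(k : G)⁻¹ * s * k, by
    simpa using conj_mem_involutions hS hs (inv_mem k.2.1.1)⟩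
  have hf : Function.Injective f := fun k₁ k₂ h =>
    Subtype.ext (inj_conj_involution hS hs k₁.2 k₂.2 (congrArg Subtype.val h))
  obtain ⟨⟨k, hk⟩, hke⟩ :=
    (hf.bijective_of_nat_card_le (card_inverted hS).ge).surjective ⟨s', hs'⟩
  exact ⟨k, hk, congrArg Subtype.val hke⟩

theorem tst_notMem [Finite G] (hS : IsRankOneSetup G Ω a t Q) {s : G} (hs : s ∈ 𝓘) :
    t * s * t ∉ 𝓗 := fun h => tsmul_ne hS (by
  have h1 : s • (t • a) = t • a := by
    have := congrArg (t • ·) (mem_stabilizer_iff.mp h)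
    simpa only [mul_smul, t_smul_t_smul hS] using this
  exact eq_of_fix hS (mem_Q_of_involution hS hs) hs.2.1 h1)

theorem tst_sq (hS : IsRankOneSetup G Ω a t Q) {s : G} (hs : s ∈ 𝓘) :
    t * s * t * (t * s * t) = 1 := by
  simp only [mul_assoc]
  rw [← mul_assoc t t, hS.mul_self, one_mul, ← mul_assoc s s, hs.2.2, one_mul, hS.mul_self]

theorem exists_structure [Finite G] (hS : IsRankOneSetup G Ω a t Q) :
    ∃ s ∈ 𝓘, ∃ r ∈ Q, t * s * t = r⁻¹ * t * r := by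
  obtain ⟨s, hs, hs1, hs2⟩ := exists_involution hS
  have hsI : s ∈ 𝓘 := ⟨hS.le hs, hs1, hs2⟩
  obtain ⟨q, hq, k, hk, he⟩ := exists_decomp hS (tst_notMem hS hsI) (tst_sq hS hsI)
  obtain ⟨j, hj, hjj⟩ := exists_sqrt_invertedBy hS.odd_card hk
  have htj : t * j * t = j⁻¹ := by rw [← hj.2, t_inv hS]
  have htj' : t * j⁻¹ * t = j := by
    rw [← inv_inj, mul_inv_rev, mul_inv_rev, inv_inv, t_inv hS, ← mul_assoc, htj]
  refine ⟨j⁻¹ * s * j, by simpa using conj_mem_involutions hS hsI (inv_mem hj.1.1),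
    (j * q * j⁻¹)⁻¹, inv_mem (conj_mem_of_mem_D hS hj.1 hq), ?_⟩
  calc t * (j⁻¹ * s * j) * t = (t * j⁻¹ * t) * (t * s * t) * (t * j * t) := by
        simp only [mul_assoc]
        rw [← mul_assoc t t, hS.mul_self, one_mul, ← mul_assoc t t, hS.mul_self, one_mul]
    _ = j * (q * (t * k) * q⁻¹) * j⁻¹ := by rw [htj', he, htj]
    _ = (j * q * j⁻¹) * (j * (t * k) * j⁻¹) * (j * q * j⁻¹)⁻¹ := by group
    _ = (j * q * j⁻¹) * t * (j * q * j⁻¹)⁻¹ := by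
        rw [conj_t_mul_k hS hj, ← hjj]; group
    _ = (j * q * j⁻¹)⁻¹⁻¹ * t * (j * q * j⁻¹)⁻¹ := by rw [inv_inv]

theorem structure_unique [Finite G] (hS : IsRankOneSetup G Ω a t Q) {s s' r r' : G} (hs : s ∈ 𝓘)
    (hs' : s' ∈ 𝓘) (hr : r ∈ Q) (hr' : r' ∈ Q) (h : t * s * t = r⁻¹ * t * r)
    (h' : t * s' * t = r'⁻¹ * t * r') : s = s' ∧ r = r' := by
  obtain ⟨j, hj, hje⟩ := exists_conj_involution hS hs hs'
  have htj : t * j * t = j⁻¹ := by rw [← hj.2, t_inv hS]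
  have htj' : t * j⁻¹ * t = j := by
    rw [← inv_inj, mul_inv_rev, mul_inv_rev, inv_inv, t_inv hS, ← mul_assoc, htj]
  have hj2 : j⁻¹ * j⁻¹ ∈ 𝓚 := by
    have := inv_mem_invertedBy (pow_mem_invertedBy hj 2)
    rwa [sq, mul_inv_rev] at this
  have key : (j * r⁻¹ * j⁻¹) * (t * (j⁻¹ * j⁻¹)) * (j * r⁻¹ * j⁻¹)⁻¹ =
      r'⁻¹ * (t * 1) * (r'⁻¹)⁻¹ := by
    rw [mul_one, inv_inv, ← h', ← hje]
    calc (j * r⁻¹ * j⁻¹) * (t * (j⁻¹ * j⁻¹)) * (j * r⁻¹ * j⁻¹)⁻¹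
        = (j * r⁻¹ * j⁻¹) * (j * (t * 1) * j⁻¹) * (j * r⁻¹ * j⁻¹)⁻¹ := by
          rw [conj_t_mul_k hS hj]; group
      _ = j * (r⁻¹ * t * r) * j⁻¹ := by group
      _ = (t * j⁻¹ * t) * (t * s * t) * (t * j * t) := by rw [htj', htj, h]
      _ = t * (j⁻¹ * s * j) * t := by
          simp only [mul_assoc]
          rw [← mul_assoc t t, hS.mul_self, one_mul, ← mul_assoc t t, hS.mul_self, one_mul]
  obtain ⟨h1, h2⟩ := decomp_unique hS (conj_mem_of_mem_D hS hj.1 (inv_mem hr)) (inv_mem hr') hj2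
    (one_mem_invertedBy _ _) key
  have h3 : j = 1 := eq_one_of_sq_of_odd (odd_orderOf_of_mem hS.odd_card hj.1)
    (inv_eq_one.mp (by rw [mul_inv_rev]; exact h2))
  subst h3
  simp only [one_mul, inv_one, mul_one, inv_inj] at hje h1
  exact ⟨hje, h1⟩

theorem existsUnique_structure [Finite G] (hS : IsRankOneSetup G Ω a t Q) :
    ∃! p : G × G, p.1 ∈ 𝓘 ∧ p.2 ∈ Q ∧ t * p.1 * t = p.2⁻¹ * t * p.2 := by
  obtain ⟨s, hs, r, hr, h⟩ := exists_structure hS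
  exact ⟨(s, r), ⟨hs, hr, h⟩, fun p ⟨h1, h2, h3⟩ =>
    Prod.ext (structure_unique hS h1 hs h2 hr h3 h).1 (structure_unique hS h1 hs h2 hr h3 h).2⟩

end Setup

end Cfsg.Agent.Lib.RankOne
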