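import Cfsg.Agent.Lib.RankOne.Structure

/-!
Fixed points of subsets of the two-point stabiliser in the rank-one set-up.
-/

set_option autoImplicit false

namespace Cfsg.Agent.Lib.RankOne

open Cfsg MulAction

variable {G Ω : Type*} [Group G] [MulAction G Ω] {a : Ω} {t : G} {Q : Subgroup G}

local notation "𝓗" => MulAction.stabilizer G a
local notation "𝓓" => (MulAction.stabilizer G a ⊓ MulAction.stabilizer G (t • a))
local notation "𝓚" => Cfsg.invertedBy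
  (MulAction.stabilizer G a ⊓ MulAction.stabilizer G (t • a)) t
local notation "𝓘" => Cfsg.involutionsIn (MulAction.stabilizer G a : Set G)

namespace Setup

theorem fix_smul {X : Set G} {g : G} (hg : g ∈ Subgroup.centralizer X) {c : Ω}
    (hc : ∀ x ∈ X, x • c = c) : ∀ x ∈ X, x • (g • c) = g • c := fun x hx => by
  rw [smul_smul, Subgroup.mem_centralizer_iff.mp hg x hx, mul_smul, hc x hx]

theorem fix_inv_smul {X : Set G} {g : G} (hg : g ∈ Subgroup.centralizer X) {c : Ω}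
    (hc : ∀ x ∈ X, x • c = c) : ∀ x ∈ X, x • (g⁻¹ • c) = g⁻¹ • c :=
  fix_smul (inv_mem hg) hc

theorem X_fix_a {X : Set G} (hX : X ⊆ (𝓓 : Set G)) : ∀ x ∈ X, x • a = a :=
  fun _ hx => (mem_D.mp (hX hx)).1

theorem X_fix_ta {X : Set G} (hX : X ⊆ (𝓓 : Set G)) : ∀ x ∈ X, x • (t • a) = t • a :=
  fun _ hx => (mem_D.mp (hX hx)).2

theorem cent_Q_transitive (hS : IsRankOneSetup G Ω a t Q) {X : Set G} (hX : X ⊆ (𝓓 : Set G))
    {c : Ω} (hca : c ≠ a) (hc : ∀ x ∈ X, x • c = c) :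
    ∃ q ∈ Q, q ∈ Subgroup.centralizer X ∧ q • (t • a) = c := by
  obtain ⟨q, hq, rfl⟩ := exists_smul_eq hS hca
  refine ⟨q, hq, Subgroup.mem_centralizer_iff.mpr fun x hx => ?_, rfl⟩
  have h1 : x * q * x⁻¹ = q := inj_smul hS (conj_mem_of_mem_D hS (hX hx) hq) hq (by
    rw [mul_smul, mul_smul, inv_smul_eq_iff.mpr (X_fix_ta hX x hx).symm, hc x hx])
  exact mul_inv_eq_iff_eq_mul.mp h1

theorem exists_fixed_ne (hS : IsRankOneSetup G Ω a t Q) {X : Set G}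
    (h3 : ∃ b c d : Ω, b ≠ c ∧ b ≠ d ∧ c ≠ d ∧ ∀ x ∈ X, x • b = b ∧ x • c = c ∧ x • d = d) :
    ∃ c, c ≠ a ∧ c ≠ t • a ∧ ∀ x ∈ X, x • c = c := by
  obtain ⟨b, c, d, hbc, hbd, hcd, h⟩ := h3
  by_cases hb : b = a ∨ b = t • a
  · by_cases hc : c = a ∨ c = t • a
    · refine ⟨d, ?_, ?_, fun x hx => (h x hx).2.2⟩
      · rintro rfl; rcases hb with rfl | rfl <;> rcases hc with rfl | rfl <;> simp_all
      · rintro rfl; rcases hb with rfl | rfl <;> rcases hc with rfl | rfl <;> simp_all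
    · exact ⟨c, fun e => hc (Or.inl e), fun e => hc (Or.inr e), fun x hx => (h x hx).2.1⟩
  · exact ⟨b, fun e => hb (Or.inl e), fun e => hb (Or.inr e), fun x hx => (h x hx).1⟩

theorem exists_cent_map_to_a (hS : IsRankOneSetup G Ω a t Q) {X : Set G} (hX : X ⊆ (𝓓 : Set G))
    (h3 : ∃ b c d : Ω, b ≠ c ∧ b ≠ d ∧ c ≠ d ∧ ∀ x ∈ X, x • b = b ∧ x • c = c ∧ x • d = d)
    {c : Ω} (hc : ∀ x ∈ X, x • c = c) : ∃ g ∈ Subgroup.centralizer X, g • c = a := by
  obtain ⟨e, hea, het, he⟩ := exists_fixed_ne hS h3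
  have hX' : (fun x => t * x * t) '' X ⊆ (𝓓 : Set G) := by
    rintro _ ⟨x, hx, rfl⟩; exact t_conj_mem_D hS (hX hx)
  have step : ∀ f : Ω, f ≠ t • a → (∀ x ∈ X, x • f = f) →
      ∃ g ∈ Subgroup.centralizer X, g • a = f := by
    intro f hf hfx
    obtain ⟨q, -, hqc, hqe⟩ := cent_Q_transitive hS hX' (c := t • f)
      (fun h => hf (by rw [← h, t_smul_t_smul hS]))
      (by rintro _ ⟨x, hx, rfl⟩; rw [mul_smul, mul_smul, t_smul_t_smul hS, hfx x hx])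
    refine ⟨t * q * t, Subgroup.mem_centralizer_iff.mpr fun x hx => ?_, ?_⟩
    · have h1 := Subgroup.mem_centralizer_iff.mp hqc (t * x * t) ⟨x, hx, rfl⟩
      calc x * (t * q * t) = t * (t * x * t * q) * t := by
            simp only [mul_assoc]; rw [← mul_assoc t t, hS.mul_self, one_mul]
        _ = t * (q * (t * x * t)) * t := by rw [h1]
        _ = t * q * t * x := by simp only [mul_assoc]; rw [hS.mul_self, mul_one]
    · rw [mul_smul, mul_smul, hqe, t_smul_t_smul hS]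
  by_cases hca : c = a
  · exact ⟨1, one_mem _, by rw [one_smul, hca]⟩
  · obtain ⟨q, hq, hqc, hqe⟩ := cent_Q_transitive hS hX hea he
    obtain ⟨q', hq', hq'c, hq'e⟩ := cent_Q_transitive hS hX hca hc
    obtain ⟨g, hg, hge⟩ := step e het he
    -- `c` is moved to `e`, and `e` to `a`
    exact ⟨g⁻¹ * q * q'⁻¹, mul_mem (mul_mem (inv_mem hg) hqc) (inv_mem hq'c), by
      rw [mul_smul, mul_smul, ← hq'e, inv_smul_smul, hqe, ← hge, inv_smul_smul]⟩

theorem cent_two_transitive (hS : IsRankOneSetup G Ω a t Q) {X : Set G} (hX : X ⊆ (𝓓 : Set G))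
    (h3 : ∃ b c d : Ω, b ≠ c ∧ b ≠ d ∧ c ≠ d ∧ ∀ x ∈ X, x • b = b ∧ x • c = c ∧ x • d = d)
    {b₁ b₂ c₁ c₂ : Ω} (h : ∀ x ∈ X, x • b₁ = b₁ ∧ x • b₂ = b₂ ∧ x • c₁ = c₁ ∧ x • c₂ = c₂)
    (hb : b₁ ≠ b₂) (hc : c₁ ≠ c₂) :
    ∃ g ∈ Subgroup.centralizer X, g • b₁ = c₁ ∧ g • b₂ = c₂ := by
  have key : ∀ d₁ d₂ : Ω, (∀ x ∈ X, x • d₁ = d₁) → (∀ x ∈ X, x • d₂ = d₂) → d₁ ≠ d₂ →
      ∃ g ∈ Subgroup.centralizer X, g • a = d₁ ∧ g • (t • a) = d₂ := by
    intro d₁ d₂ h1 h2 hd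
    obtain ⟨g, hg, hga⟩ := exists_cent_map_to_a hS hX h3 h1
    obtain ⟨q, hq, hqc, hqe⟩ := cent_Q_transitive hS hX (c := g • d₂)
      (fun e => hd (smul_left_cancel g (hga.trans e.symm))) (fix_smul hg h2)
    exact ⟨g⁻¹ * q, mul_mem (inv_mem hg) hqc, by
      rw [mul_smul, smul_a_of_mem hS hq, ← hga, inv_smul_smul], by
      rw [mul_smul, hqe, inv_smul_smul]⟩
  obtain ⟨g, hg, hg1, hg2⟩ := key b₁ b₂ (fun x hx => (h x hx).1) (fun x hx => (h x hx).2.1) hb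
  obtain ⟨g', hg', hg1', hg2'⟩ :=
    key c₁ c₂ (fun x hx => (h x hx).2.2.1) (fun x hx => (h x hx).2.2.2) hc
  exact ⟨g' * g⁻¹, mul_mem hg' (inv_mem hg), by rw [mul_smul, ← hg1, inv_smul_smul, hg1'],
    by rw [mul_smul, ← hg2, inv_smul_smul, hg2']⟩

theorem exists_swap [Finite G] (hS : IsRankOneSetup G Ω a t Q) {X : Set G} (hX : X ⊆ (𝓓 : Set G))
    (h3 : ∃ b c d : Ω, b ≠ c ∧ b ≠ d ∧ c ≠ d ∧ ∀ x ∈ X, x • b = b ∧ x • c = c ∧ x • d = d) :
    ∃ g ∈ Subgroup.centralizer X, g • a = t • a ∧ g • (t • a) = a :=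
  cent_two_transitive hS hX h3
    (fun x hx => ⟨X_fix_a hX x hx, X_fix_ta hX x hx, X_fix_ta hX x hx, X_fix_a hX x hx⟩)
    (tsmul_ne hS).symm (tsmul_ne hS)

theorem exists_cent_involution [Finite G] (hS : IsRankOneSetup G Ω a t Q) {X : Set G}
    (hX : X ⊆ (𝓓 : Set G))
    (h3 : ∃ b c d : Ω, b ≠ c ∧ b ≠ d ∧ c ≠ d ∧ ∀ x ∈ X, x • b = b ∧ x • c = c ∧ x • d = d) :
    ∃ s ∈ 𝓘, s ∈ Q ∧ s ∈ Subgroup.centralizer X := by
  obtain ⟨g, hg, hga, hgt⟩ := exists_swap hS hX h3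
  -- a power of `g` is an involution
  have heven : Even (orderOf g) := by
    by_contra ho
    obtain ⟨k, hk⟩ := Nat.not_even_iff_odd.mp ho
    have hsq : (g * g) • a = a := by rw [mul_smul, hga, hgt]
    have h1 : ((g * g) ^ k) • a = a := smul_pow_fixed hsq k
    have h2 : g ^ (2 * k + 1) • a = t • a := by
      rw [pow_succ', mul_smul, pow_mul, sq, h1, hga]
    rw [← hk, pow_orderOf_eq_one, one_smul] at h2
    exact tsmul_ne hS h2.symm
  obtain ⟨k, hk⟩ := heven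
  have hpos := orderOf_pos g
  set u := g ^ k with hu
  have hu2 : u * u = 1 := by rw [hu, ← pow_add, ← hk, pow_orderOf_eq_one]
  have hu1 : u ≠ 1 := fun h => by
    have := Nat.le_of_dvd (by omega) (orderOf_dvd_of_pow_eq_one (hu ▸ h))
    omega
  have huc : u ∈ Subgroup.centralizer X := pow_mem hg k
  obtain ⟨c, hc, hcu⟩ := existsUnique_fixed hS hu1 hu2
  have hcX : ∀ x ∈ X, x • c = c := fun x hx => hcu (x • c) (by
    show u • x • c = x • c
    rw [smul_smul, ← Subgroup.mem_centralizer_iff.mp huc x hx, mul_smul,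
      show u • c = c from hc])
  obtain ⟨w, hw, hwc⟩ := exists_cent_map_to_a hS hX h3 hcX
  have hmem : w * u * w⁻¹ ∈ 𝓗 := mem_stabilizer_iff.mpr (by
    rw [← hwc, mul_smul, mul_smul, inv_smul_smul, show u • c = c from hc])
  have hI : w * u * w⁻¹ ∈ 𝓘 := ⟨hmem, fun h => hu1 (conj_eq_one_iff.mp h), by
    calc w * u * w⁻¹ * (w * u * w⁻¹) = w * (u * u) * w⁻¹ := by group
      _ = 1 := by rw [hu2, mul_one, mul_inv_cancel]⟩
  exact ⟨_, hI, mem_Q_of_involution hS hI, mul_mem (mul_mem hw huc) (inv_mem hw)⟩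
where
  smul_pow_fixed {x : G} {c : Ω} (h : x • c = c) : ∀ k : ℕ, x ^ k • c = c
    | 0 => by rw [pow_zero, one_smul]
    | k + 1 => by rw [pow_succ, mul_smul, h, smul_pow_fixed h k]

theorem exists_cent_swap_involution [Finite G] (hS : IsRankOneSetup G Ω a t Q) {X : Set G}
    (hX : X ⊆ (𝓓 : Set G))
    (h3 : ∃ b c d : Ω, b ≠ c ∧ b ≠ d ∧ c ≠ d ∧ ∀ x ∈ X, x • b = b ∧ x • c = c ∧ x • d = d) :
    ∃ k ∈ 𝓚, t * k ∈ Subgroup.centralizer X := by
  obtain ⟨s, hs, hsQ, hsc⟩ := exists_cent_involution hS hX h3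
  obtain ⟨g, hg, hga, hgt⟩ := exists_swap hS hX h3
  set u := g * s * g⁻¹ with hu
  have hu2 : u * u = 1 := by
    calc g * s * g⁻¹ * (g * s * g⁻¹) = g * (s * s) * g⁻¹ := by group
      _ = 1 := by rw [hs.2.2, mul_one, mul_inv_cancel]
  have huc : u ∈ Subgroup.centralizer X := mul_mem (mul_mem hg hsc) (inv_mem hg)
  have hua : u • a ≠ a := fun h => by
    have h1 : s • (t • a) = t • a := by
      rw [hu, mul_smul, mul_smul, inv_smul_eq_iff.mpr hgt.symm] at h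
      exact smul_left_cancel g (h.trans hgt.symm)
    exact tsmul_ne hS (eq_of_fix hS hsQ hs.2.1 h1)
  obtain ⟨q, hq, hqc, hqe⟩ := cent_Q_transitive hS hX hua (fix_smul huc (X_fix_a hX))
  obtain ⟨k, hk, hke⟩ := exists_k_of_swap hS (u := q⁻¹ * u * q) (by
      calc q⁻¹ * u * q * (q⁻¹ * u * q) = q⁻¹ * (u * u) * q := by group
        _ = 1 := by rw [hu2, mul_one, inv_mul_cancel])
    (by rw [mul_smul, mul_smul, smul_a_of_mem hS hq, ← hqe, inv_smul_smul])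
  exact ⟨k, hk, hke ▸ mul_mem (mul_mem (inv_mem hqc) huc) hqc⟩

theorem exists_conj_into_V [Finite G] (hS : IsRankOneSetup G Ω a t Q) {X : Set G}
    (hX : X ⊆ (𝓓 : Set G))
    (h3 : ∃ b c d : Ω, b ≠ c ∧ b ≠ d ∧ c ≠ d ∧ ∀ x ∈ X, x • b = b ∧ x • c = c ∧ x • d = d) :
    ∃ j ∈ 𝓚, ∀ x ∈ X, j * x * j⁻¹ * t = t * (j * x * j⁻¹) := by
  obtain ⟨k, hk, hkc⟩ := exists_cent_swap_involution hS hX h3
  obtain ⟨j, hj, hjj⟩ := exists_sqrt_invertedBy hS.odd_card hk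
  refine ⟨j, hj, fun x hx => ?_⟩
  have h1 := Subgroup.mem_centralizer_iff.mp hkc x hx
  have h2 : j * (t * k) * j⁻¹ = t := by rw [conj_t_mul_k hS hj, ← hjj]; group
  calc j * x * j⁻¹ * t = j * x * j⁻¹ * (j * (t * k) * j⁻¹) := by rw [h2]
    _ = j * (x * (t * k)) * j⁻¹ := by group
    _ = j * (t * k * x) * j⁻¹ := by rw [h1]
    _ = (j * (t * k) * j⁻¹) * (j * x * j⁻¹) := by group
    _ = t * (j * x * j⁻¹) := by rw [h2]

theorem cent_split (hS : IsRankOneSetup G Ω a t Q) {X : Set G} (hX : X ⊆ (𝓓 : Set G)) :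
    (Subgroup.centralizer X ⊓ Q) ⊔ (Subgroup.centralizer X ⊓ 𝓓) = Subgroup.centralizer X ⊓ 𝓗 := by
  refine le_antisymm (sup_le (inf_le_inf_left _ hS.le) (inf_le_inf_left _ inf_le_left)) ?_
  rintro h ⟨hc, hh⟩
  obtain ⟨q, hq, d, hd, rfl⟩ := exists_split hS hh
  have hfix : ∀ x ∈ X, x • (q • (t • a)) = q • (t • a) := by
    have := fix_smul hc (X_fix_ta hX)
    simpa only [mul_smul, (mem_D.mp hd).2] using this
  obtain ⟨q', hq', hq'c, hq'e⟩ := cent_Q_transitive hS hX (smul_ne_a hS hq) hfix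
  obtain rfl := inj_smul hS hq' hq hq'e
  exact Subgroup.mul_mem_sup ⟨hq'c, hq⟩
    ⟨by simpa using mul_mem (inv_mem hq'c) hc, hd⟩

/-- A non-identity element of `K` acts fixed-point-freely on `Q`. -/
theorem inf_centralizer_eq_bot [Finite G] (hS : IsRankOneSetup G Ω a t Q) {x : G} (hx : x ∈ 𝓚)
    (hx1 : x ≠ 1) : Q ⊓ Subgroup.centralizer {x} = ⊥ := by
  refine (Subgroup.eq_bot_iff_forall _).mpr fun q hq => ?_
  by_contra hq1
  obtain ⟨hqQ, hqc⟩ := hq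
  replace hqc : q * x = x * q := Subgroup.mem_centralizer_singleton_iff.mp hqc
  have hxD := mem_D.mp hx.1
  have h3 : ∃ b c d : Ω, b ≠ c ∧ b ≠ d ∧ c ≠ d ∧
      ∀ y ∈ ({x} : Set G), y • b = b ∧ y • c = c ∧ y • d = d := by
    refine ⟨a, t • a, q • (t • a), (tsmul_ne hS).symm, (smul_ne_a hS hqQ).symm,
      fun h => hq1 (eq_one_of_fix hS hqQ h.symm), ?_⟩
    rintro y rfl
    exact ⟨hxD.1, hxD.2, by rw [smul_smul, ← hqc, mul_smul, hxD.2]⟩
  obtain ⟨s, hs, -, hsc⟩ := exists_cent_involution hS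
    (X := {x}) (Set.singleton_subset_iff.mpr hx.1) h3
  exact hx1 (eq_one_of_centralize_invert hS hs hS.not_mem hS.mul_self hx.1
    (Subgroup.mem_centralizer_singleton_iff.mp hsc) hx.2)

theorem V_centralizes [Finite G] (hS : IsRankOneSetup G Ω a t Q) {s r d : G} (hs : s ∈ 𝓘)
    (hr : r ∈ Q) (h : t * s * t = r⁻¹ * t * r) (hd : d ∈ 𝓓) (hdt : d * t = t * d) :
    d * s = s * d ∧ d * r = r * d := by
  have h1 : t * (d * s * d⁻¹) * t = (d * r * d⁻¹)⁻¹ * t * (d * r * d⁻¹) := by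
    have h3 : d * t * d⁻¹ = t := by rw [hdt, mul_inv_cancel_right]
    calc t * (d * s * d⁻¹) * t = (d * t * d⁻¹) * (d * s * d⁻¹) * (d * t * d⁻¹) := by rw [h3]
      _ = d * (t * s * t) * d⁻¹ := by group
      _ = d * (r⁻¹ * t * r) * d⁻¹ := by rw [h]
      _ = (d * r * d⁻¹)⁻¹ * (d * t * d⁻¹) * (d * r * d⁻¹) := by group
      _ = _ := by rw [h3]
  obtain ⟨e1, e2⟩ := structure_unique hS (conj_mem_involutions hS hs hd.1) hs
    (conj_mem_of_mem_D hS hd hr) hr h1 h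
  exact ⟨mul_inv_eq_iff_eq_mul.mp e1, mul_inv_eq_iff_eq_mul.mp e2⟩

theorem centralizer_s_le [Finite G] (hS : IsRankOneSetup G Ω a t Q) {s r d : G}
    (hr : r ∈ Q) (h : t * s * t = r⁻¹ * t * r) (hd : d ∈ 𝓓) (hds : d * s = s * d) :
    d * t = t * d := by
  set e := t * d * t with he
  have heD : e ∈ 𝓓 := t_conj_mem_D hS hd
  obtain ⟨hea, het⟩ := mem_D.mp heD
  have hec : e * (t * s * t) = (t * s * t) * e := by
    rw [he]; simp only [mul_assoc]
    rw [← mul_assoc t t, hS.mul_self, one_mul, ← mul_assoc d s, hds, ← mul_assoc t t (d * t),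
      hS.mul_self, one_mul, mul_assoc]
  have h2 : e * r⁻¹ * e⁻¹ = r⁻¹ := inj_smul hS (conj_mem_of_mem_D hS heD (inv_mem hr)) (inv_mem hr) (by
    have h4 : (r⁻¹ * t * r) • a = r⁻¹ • (t • a) := by rw [mul_smul, mul_smul, smul_a_of_mem hS hr]
    have h5 : (t * s * t) • a = r⁻¹ • (t • a) := by rw [h, h4]
    rw [mul_smul, mul_smul, inv_smul_eq_iff.mpr het.symm, ← h5, smul_smul e, hec, mul_smul _ e, hea])
  have her : e * r⁻¹ = r⁻¹ * e := mul_inv_eq_iff_eq_mul.mp h2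
  have her' : e * r = r * e := by
    calc e * r = r * (r⁻¹ * e) * r := by group
      _ = r * (e * r⁻¹) * r := by rw [her]
      _ = r * e := by group
  have h6 : e * t = t * e := by
    have h7 := hec
    rw [h] at h7
    have : r⁻¹ * (e * t) * r = r⁻¹ * (t * e) * r := by
      calc r⁻¹ * (e * t) * r = (r⁻¹ * e) * t * r := by group
        _ = (e * r⁻¹) * t * r := by rw [her]
        _ = e * (r⁻¹ * t * r) := by group
        _ = r⁻¹ * t * r * e := h7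
        _ = r⁻¹ * t * (r * e) := by group
        _ = r⁻¹ * t * (e * r) := by rw [her']
        _ = r⁻¹ * (t * e) * r := by group
    exact mul_left_cancel (mul_right_cancel this)
  have hde : d = t * e * t := by
    rw [he]; simp only [mul_assoc, hS.mul_self, mul_one]; rw [← mul_assoc, hS.mul_self, one_mul]
  have hde' : d = e := by rw [hde, ← h6, mul_assoc, hS.mul_self, mul_one]
  rw [hde']
  exact h6

theorem centralizer_eq [Finite G] (hS : IsRankOneSetup G Ω a t Q) {s r : G} (hs : s ∈ 𝓘)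
    (hr : r ∈ Q) (h : t * s * t = r⁻¹ * t * r) :
    𝓓 ⊓ Subgroup.centralizer {t} = 𝓓 ⊓ Subgroup.centralizer {s} := by
  ext d
  simp only [Subgroup.mem_inf, Subgroup.mem_centralizer_singleton_iff]
  exact ⟨fun ⟨hd, hdt⟩ => ⟨hd, (V_centralizes hS hs hr h (Subgroup.mem_inf.mpr hd) hdt).1⟩,
    fun ⟨hd, hds⟩ => ⟨hd, centralizer_s_le hS hr h (Subgroup.mem_inf.mpr hd) hds⟩⟩

end Setup

end Cfsg.Agent.Lib.RankOne
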