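import Cfsg.Agent.Lib.OddLinear.Semilinear
import Cfsg.Agent.Lib.RankOne.Structure
import Cfsg.Agent.S1124
import Cfsg.Agent.S1127
import Cfsg.Agent.S1130

/-!
# The inverted elements of the two-point stabiliser form a cyclic normal subgroup
-/

set_option autoImplicit false
set_option linter.unusedSectionVars false
set_option linter.style.haveILetI false

namespace Cfsg.Agent.Lib.RankOne

open Cfsg MulAction

universe u w

variable {G : Type u} {Ω : Type w} [Group G] [MulAction G Ω] {a : Ω} {t : G} {Q : Subgroup G}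

local notation "𝓗" => MulAction.stabilizer G a
local notation "𝓓" => (MulAction.stabilizer G a ⊓ MulAction.stabilizer G (t • a))
local notation "𝓚" => Cfsg.invertedBy
  (MulAction.stabilizer G a ⊓ MulAction.stabilizer G (t • a)) t
local notation "𝓘" => Cfsg.involutionsIn (MulAction.stabilizer G a : Set G)

/-- A group of automorphisms acts on the additive version of the group. -/
@[reducible] def additiveAction {A : Type u} [CommGroup A] (R : Subgroup (MulAut A)) :
    DistribMulAction R (Additive A) where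
  smul r x := Additive.ofMul ((r : MulAut A) x.toMul)
  one_smul _ := rfl
  mul_smul _ _ _ := rfl
  smul_zero r := congrArg Additive.ofMul (map_one (r : MulAut A))
  smul_add r x y := congrArg Additive.ofMul (map_mul (r : MulAut A) x.toMul y.toMul)

theorem isNilpotent_of_commutative {N : Type*} [Group N] (h : ∀ x y : N, x * y = y * x) :
    Group.IsNilpotent N := by
  letI : CommGroup N := { ‹Group N› with mul_comm := h }
  infer_instance

namespace Setup

theorem exists_cyclic [Finite G] [FaithfulSMul G Ω] (hS : IsRankOneSetup G Ω a t Q)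
    (h2 : ∃ x y : G, x ≠ 1 ∧ y ≠ 1 ∧ x ≠ y ∧ x * x = 1 ∧ y * y = 1 ∧ x * y = y * x) :
    ∃ C : Subgroup G, (C : Set G) = 𝓚 ∧ IsCyclic C ∧ (∀ d ∈ 𝓓, ∀ c ∈ C, d * c * d⁻¹ ∈ C) ∧
      ∃ v ∈ 𝓓 ⊓ Subgroup.centralizer {t},
        (𝓓 ⊓ Subgroup.centralizer {t} ⊓ Subgroup.centralizer 𝓚) ⊔ Subgroup.closure {v} =
          𝓓 ⊓ Subgroup.centralizer {t} := by
  classical
  obtain ⟨s, hs, r, hr, hsr⟩ := exists_structure hS
  have hWeq := (Cfsg.Agent.S1127.result hS).2
  have hCeq := centralizer_eq hS hs hr hsr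
  have h1130 := Cfsg.Agent.S1130.result hS h2
  -- the elementary abelian group of involutions
  let E : Subgroup G :=
    { carrier := {x | x ∈ 𝓗 ∧ x * x = 1}
      one_mem' := ⟨one_mem _, one_mul 1⟩
      mul_mem' := by
        rintro x y ⟨hx, hx2⟩ ⟨hy, hy2⟩
        by_cases hx1 : x = 1
        · subst hx1; rw [one_mul]; exact ⟨hy, hy2⟩
        by_cases hy1 : y = 1
        · subst hy1; rw [mul_one]; exact ⟨hx, hx2⟩
        rcases h1130.2 x ⟨hx, hx1, hx2⟩ y ⟨hy, hy1, hy2⟩ with h | h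
        · exact ⟨mul_mem hx hy, by rw [h, one_mul]⟩
        · exact ⟨h.1, h.2.2⟩
      inv_mem' := by
        rintro x ⟨hx, hx2⟩
        exact ⟨inv_mem hx, by rw [← mul_inv_rev, hx2, inv_one]⟩ }
  have hEI : ∀ x, x ∈ E → x ≠ 1 → x ∈ 𝓘 := fun x hx h1 => ⟨hx.1, h1, hx.2⟩
  have hEcomm : ∀ x y : E, x * y = y * x := fun x y => by
    have h3 : (x * y) * (x * y) = 1 := Subtype.ext (x * y).2.2
    have hx : x⁻¹ = x := inv_eq_of_mul_eq_one_right (Subtype.ext x.2.2)
    have hy : y⁻¹ = y := inv_eq_of_mul_eq_one_right (Subtype.ext y.2.2)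
    have h4 := inv_eq_of_mul_eq_one_right h3
    rw [mul_inv_rev, hx, hy] at h4
    exact h4.symm
  letI : CommGroup E := { (inferInstance : Group E) with mul_comm := hEcomm }
  have hconj : ∀ d ∈ 𝓓, ∀ x ∈ E, d * x * d⁻¹ ∈ E := fun d hd x hx =>
    ⟨mul_mem (mul_mem hd.1 hx.1) (inv_mem hd.1), by
      calc d * x * d⁻¹ * (d * x * d⁻¹) = d * (x * x) * d⁻¹ := by group
        _ = 1 := by rw [hx.2, mul_one, mul_inv_cancel]⟩
  let φ : (𝓓 : Subgroup G) →* MulAut E :=
    { toFun := fun d =>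
        { toFun := fun x => ⟨(d : G) * x * (d : G)⁻¹, hconj d d.2 x x.2⟩
          invFun := fun x => ⟨(d : G)⁻¹ * x * d, by simpa using hconj (d : G)⁻¹ (inv_mem d.2) x x.2⟩
          left_inv := fun x => Subtype.ext (by
            show (d : G)⁻¹ * ((d : G) * x * (d : G)⁻¹) * d = x
            group)
          right_inv := fun x => Subtype.ext (by
            show (d : G) * ((d : G)⁻¹ * x * d) * (d : G)⁻¹ = x
            group)
          map_mul' := fun x y => Subtype.ext (by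
            show (d : G) * ((x : G) * y) * (d : G)⁻¹ = (d : G) * x * (d : G)⁻¹ * ((d : G) * y * (d : G)⁻¹)
            group) }
      map_one' := MulEquiv.ext fun x => Subtype.ext (by
        show (1 : G) * x * (1 : G)⁻¹ = x
        group)
      map_mul' := fun d e => MulEquiv.ext fun x => Subtype.ext (by
        show ((d : G) * e) * x * ((d : G) * e)⁻¹ = (d : G) * ((e : G) * x * (e : G)⁻¹) * (d : G)⁻¹
        group) }
  have hφval : ∀ (d : (𝓓 : Subgroup G)) (x : E), ((φ d x : E) : G) = (d : G) * x * (d : G)⁻¹ := fun _ _ => rfl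
  set R := φ.range with hR
  letI := additiveAction R
  haveI : FaithfulSMul R (Additive E) :=
    ⟨fun h => Subtype.ext (MulEquiv.ext fun x => congrArg Additive.toMul (h (Additive.ofMul x)))⟩
  haveI : Nontrivial (Additive E) := by
    refine ⟨Additive.ofMul ⟨s, hs.1, hs.2.2⟩, 0, fun h => hs.2.1 ?_⟩
    exact congrArg (fun z : Additive E => ((z.toMul : E) : G)) h
  have hodd : Odd (Nat.card R) := by
    have h := Subgroup.card_range_dvd φ
    exact hS.odd_card.of_dvd_nat h
  have hE2 : ∀ e : Additive E, 2 • e = 0 := fun e =>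
    congrArg Additive.ofMul (show e.toMul ^ 2 = 1 from Subtype.ext (by rw [SubgroupClass.coe_pow, pow_two]; exact e.toMul.2.2))
  have htrans : ∀ x y : Additive E, x ≠ 0 → y ≠ 0 → ∃ d : R, d • x = y := by
    intro x y hx hy
    have hx1 : ((x.toMul : E) : G) ≠ 1 := fun h => hx (congrArg Additive.ofMul (Subtype.ext h : x.toMul = 1))
    have hy1 : ((y.toMul : E) : G) ≠ 1 := fun h => hy (congrArg Additive.ofMul (Subtype.ext h : y.toMul = 1))
    obtain ⟨k, hk, hke⟩ := exists_conj_involution hS (hEI _ x.toMul.2 hx1) (hEI _ y.toMul.2 hy1)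
    refine ⟨⟨φ ⟨k⁻¹, inv_mem hk.1⟩, _, rfl⟩, congrArg Additive.ofMul (Subtype.ext ?_ : (φ ⟨k⁻¹, inv_mem hk.1⟩) x.toMul = y.toMul)⟩
    rw [hφval]
    show k⁻¹ * _ * k⁻¹⁻¹ = _
    rw [inv_inv, hke]
  obtain ⟨L, hLF, hLn, hLc, hfpf, -, hcent, v₀, hv₀⟩ := Cfsg.Agent.Lib.OddLinear.exists_structure hodd hE2 htrans
  let ψ : (𝓓 : Subgroup G) →* R := φ.rangeRestrict
  have hψsurj : Function.Surjective ψ := φ.rangeRestrict_surjective
  -- the kernel
  have hker : ∀ d : (𝓓 : Subgroup G), ψ d = 1 ↔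
      (d : G) ∈ 𝓓 ⊓ Subgroup.centralizer {t} ⊓ Subgroup.centralizer 𝓚 := by
    intro d
    rw [hWeq, Subgroup.mem_inf]
    constructor
    · intro h
      refine ⟨d.2, Subgroup.mem_centralizer_iff.2 fun x hx => ?_⟩
      have h1 : (d : G) * x * (d : G)⁻¹ = x :=
        congrArg (fun z : R => (((z : MulAut E) ⟨x, hx.1, hx.2.2⟩ : E) : G)) h
      rw [mul_inv_eq_iff_eq_mul] at h1
      exact h1.symm
    · rintro ⟨-, h⟩
      refine Subtype.ext (MulEquiv.ext fun x => Subtype.ext ?_)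
      show (d : G) * x * (d : G)⁻¹ = x
      rw [mul_inv_eq_iff_eq_mul]
      by_cases hx : (x : G) = 1
      · rw [hx, one_mul, mul_one]
      · exact (Subgroup.mem_centralizer_iff.1 h _ (hEI _ x.2 hx)).symm
  -- an element of `V` lying over `L` is in the kernel
  have hVL : ∀ d : (𝓓 : Subgroup G), (d : G) * t = t * d → ψ d ∈ L → ψ d = 1 := by
    intro d hdt hdL
    by_contra hne
    have hds : (d : G) ∈ 𝓓 ⊓ Subgroup.centralizer {t} :=
      ⟨d.2, Subgroup.mem_centralizer_singleton_iff.2 hdt⟩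
    rw [hCeq] at hds
    have h1 := Subgroup.mem_centralizer_singleton_iff.1 hds.2
    have h3 := hfpf _ hdL hne (Additive.ofMul ⟨s, hs.1, hs.2.2⟩) (congrArg Additive.ofMul (Subtype.ext (by
      show (d : G) * s * (d : G)⁻¹ = s
      rw [h1, mul_inv_cancel_right]) : (φ d) ⟨s, hs.1, hs.2.2⟩ = ⟨s, hs.1, hs.2.2⟩))
    exact hs.2.1 (congrArg (fun z : Additive E => ((z.toMul : E) : G)) h3)
  -- conjugation by `t`
  have htt : t⁻¹ = t := t_inv hS
  let θ : (𝓓 : Subgroup G) →* (𝓓 : Subgroup G) :=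
    { toFun := fun d => ⟨t * d * t, t_conj_mem_D hS d.2⟩
      map_one' := Subtype.ext (by show t * 1 * t = 1; rw [mul_one, hS.mul_self])
      map_mul' := fun d e => Subtype.ext (by
        show t * ((d : G) * e) * t = t * d * t * (t * e * t)
        simp only [mul_assoc]
        rw [← mul_assoc t t, hS.mul_self, one_mul]) }
  have hθθ : ∀ d, θ (θ d) = d := fun d => Subtype.ext (by
    show t * (t * d * t) * t = d
    simp only [mul_assoc, hS.mul_self, mul_one]
    rw [← mul_assoc, hS.mul_self, one_mul])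
  have hθker : ∀ d, ψ d = 1 → θ d = d := by
    intro d hd
    have h : (d : G) * t = t * d := (Subgroup.mem_centralizer_iff.1 ((hker d).1 hd).1.2 t rfl).symm
    refine Subtype.ext ?_
    show t * d * t = d
    rw [← h, mul_assoc, hS.mul_self, mul_one]
  have hodd' : ∀ d : (𝓓 : Subgroup G), Odd (orderOf d) := fun d => hS.odd_card.of_dvd_nat (orderOf_dvd_natCard d)
  set Lt := L.comap ψ with hLt
  have hθL : ∀ f, ψ f ∈ L → ψ (θ f) ∈ L := by
    intro f hf
    set N := (Lt.map θ).map ψ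
    have hN : N.Normal := by
      haveI : Lt.Normal := hLn.comap ψ
      exact (Subgroup.Normal.map (Subgroup.Normal.map ‹_› θ fun d => ⟨θ d, hθθ d⟩) ψ hψsurj)
    have hNnil : Group.IsNilpotent N := by
      refine isNilpotent_of_commutative fun x y => Subtype.ext ?_
      obtain ⟨-, ⟨x', hx', rfl⟩, hx⟩ := x.2
      obtain ⟨-, ⟨y', hy', rfl⟩, hy⟩ := y.2
      show (x : R) * y = y * x
      rw [← hx, ← hy]
      have h1 : ψ (x' * y' * x'⁻¹ * y'⁻¹) = 1 := by
        haveI := hLc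
        rw [map_mul, map_mul, map_mul, map_inv, map_inv]
        have h := congrArg Subtype.val ((IsCyclic.commutative.is_comm.comm (⟨_, hx'⟩ : L) ⟨_, hy'⟩))
        rw [show ψ x' * ψ y' = ψ y' * ψ x' from h, mul_inv_cancel_right, mul_inv_cancel]
      have h2 := hθker _ h1
      have h3 : ψ (θ (x' * y' * x'⁻¹ * y'⁻¹)) = 1 := by rw [h2, h1]
      simp only [map_mul, map_inv] at h3
      rwa [mul_inv_eq_one, mul_inv_eq_iff_eq_mul] at h3
    rw [hLF]
    exact (le_sSup (⟨hN, hNnil⟩ : N.Normal ∧ Group.IsNilpotent N) : N ≤ Cfsg.fittingSubgroup R)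
      ⟨θ f, ⟨f, hf, rfl⟩, rfl⟩
  have hinv : ∀ f, ψ f ∈ L → ψ (θ f) = (ψ f)⁻¹ := by
    intro f hf
    set m := f * θ f
    have hmL : ψ m ∈ L := by rw [map_mul]; exact mul_mem hf (hθL f hf)
    have hm' : ψ (θ m) = ψ m := by
      rw [map_mul θ, hθθ, map_mul, map_mul]
      haveI := hLc
      exact congrArg Subtype.val (IsCyclic.commutative.is_comm.comm (⟨_, hθL f hf⟩ : L) ⟨_, hf⟩)
    have hx : ψ (m⁻¹ * θ m) = 1 := by rw [map_mul, map_inv, hm', inv_mul_cancel]
    have hx' := hθker _ hx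
    rw [map_mul θ, map_inv θ, hθθ] at hx'
    have hsq : (m⁻¹ * θ m) * (m⁻¹ * θ m) = 1 := by
      nth_rewrite 1 [← hx']
      group
    have h1 := eq_one_of_sq_of_odd (hodd' _) hsq
    rw [inv_mul_eq_one] at h1
    have h2 : ψ m = 1 := hVL m (by
      have h3 : t * (m : G) * t = m := congrArg Subtype.val h1.symm
      calc (m : G) * t = t * (m : G) * t * t := by rw [h3]
        _ = t * m := by rw [mul_assoc _ t t, hS.mul_self, mul_one]) hmL
    rw [map_mul] at h2
    exact eq_inv_of_mul_eq_one_right h2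
  -- inverted elements lie over `L`
  have hKL : ∀ k : (𝓓 : Subgroup G), θ k = k⁻¹ → ψ k ∈ L := by
    intro k hk
    have hsq : ψ (k * k) ∈ L := hcent _ fun l hl => by
      obtain ⟨f, rfl⟩ := hψsurj l
      have h1 : ψ (k * f * k⁻¹) ∈ L := by rw [map_mul, map_mul, map_inv]; exact hLn.conj_mem _ hl _
      have h2 := hinv _ h1
      rw [map_mul θ, map_mul θ, map_inv θ, hk, inv_inv] at h2
      simp only [map_mul, map_inv, hinv f hl] at h2
      have h3 : (ψ k)⁻¹ * ψ f * ψ k = ψ k * ψ f * (ψ k)⁻¹ := by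
        apply inv_injective
        rw [← h2]
        group
      rw [map_mul]
      calc ψ k * ψ k * ψ f = ψ k * (ψ k * ψ f * (ψ k)⁻¹) * ψ k := by group
        _ = ψ k * ((ψ k)⁻¹ * ψ f * ψ k) * ψ k := by rw [h3]
        _ = ψ f * (ψ k * ψ k) := by group
    obtain ⟨n, hn⟩ := hodd' k
    have : k = (k * k) ^ (n + 1) := by
      rw [← pow_two, ← pow_mul, show 2 * (n + 1) = orderOf k + 1 by omega, pow_succ, pow_orderOf_eq_one, one_mul]
    rw [this, map_pow]
    exact pow_mem hsq _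
  have hKmem : ∀ {x : G}, x ∈ 𝓚 ↔ ∃ h : x ∈ 𝓓, θ ⟨x, h⟩ = (⟨x, h⟩ : (𝓓 : Subgroup G))⁻¹ := by
    intro x
    constructor
    · intro hx
      refine ⟨hx.1, Subtype.ext ?_⟩
      show t * x * t = x⁻¹
      rw [← hx.2, htt]
    · rintro ⟨h, he⟩
      refine ⟨h, ?_⟩
      rw [htt]
      exact congrArg Subtype.val he
  -- the subgroup generated by the inverted elements
  set C := Subgroup.closure 𝓚 with hC
  have hCD : C ≤ 𝓓 := (Subgroup.closure_le _).2 fun x hx => hx.1
  let χ : C →* R := ψ.comp (Subgroup.inclusion hCD)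
  have hχL : χ.range ≤ L := by
    rintro - ⟨⟨x, hx⟩, rfl⟩
    have hle : C ≤ Lt.map (Subgroup.subtype _) := (Subgroup.closure_le _).2 fun k hk => by
      obtain ⟨h, he⟩ := hKmem.1 hk
      exact ⟨⟨k, h⟩, hKL _ he, rfl⟩
    obtain ⟨⟨y, hy⟩, hyL, he⟩ := hle hx
    obtain rfl : y = x := he
    exact hyL
  haveI : IsCyclic χ.range := by
    haveI := hLc
    exact isCyclic_of_injective (Subgroup.inclusion hχL) (Subgroup.inclusion_injective hχL)
  have hCcomm : ∀ x y : C, x * y = y * x := by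
    refine commutative_of_cyclic_center_quotient χ.rangeRestrict ?_
    intro x hx
    rw [MonoidHom.ker_rangeRestrict, MonoidHom.mem_ker] at hx
    have h1 := ((hker _).1 hx).2
    rw [Subgroup.mem_center_iff]
    intro y
    refine Subtype.ext ?_
    have h2 : C ≤ Subgroup.centralizer {(x : G)} := (Subgroup.closure_le _).2 fun k hk =>
      Subgroup.mem_centralizer_singleton_iff.2 (Subgroup.mem_centralizer_iff.1 h1 k hk)
    exact Subgroup.mem_centralizer_singleton_iff.1 (h2 y.2)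
  have hCset : (C : Set G) = 𝓚 := by
    refine Set.Subset.antisymm ?_ Subgroup.subset_closure
    intro x hx
    refine Subgroup.closure_induction (k := 𝓚) (p := fun y _ => y ∈ 𝓚) (fun y hy => hy)
      (one_mem_invertedBy _ _) (fun y z hy hz hy' hz' => ?_) (fun y _ hy' => inv_mem_invertedBy hy') hx
    refine ⟨mul_mem hy'.1 hz'.1, ?_⟩
    calc t * (y * z) * t⁻¹ = (t * y * t⁻¹) * (t * z * t⁻¹) := by group
      _ = y⁻¹ * z⁻¹ := by rw [hy'.2, hz'.2]
      _ = (y * z)⁻¹ := by
        have h3 := congrArg Subtype.val (hCcomm ⟨y, hy⟩ ⟨z, hz⟩)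
        rw [show y * z = z * y from h3, mul_inv_rev]
  have hχinj : Function.Injective χ := by
    refine (injective_iff_map_eq_one χ).2 fun x hx => ?_
    have hxK : (x : G) ∈ 𝓚 := hCset.subset x.2
    obtain ⟨h, he⟩ := hKmem.1 hxK
    have h1 := hθker _ hx
    have h2 : (⟨(x : G), h⟩ : (𝓓 : Subgroup G)) = (⟨(x : G), h⟩ : (𝓓 : Subgroup G))⁻¹ := h1.symm.trans he
    exact Subtype.ext (show (x : G) = 1 from congrArg Subtype.val (eq_one_of_sq_of_odd (hodd' ⟨(x : G), h⟩) (mul_eq_one_iff_eq_inv.2 h2)))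
  refine ⟨C, hCset, isCyclic_of_injective χ.rangeRestrict (fun x y h => hχinj (congrArg Subtype.val h)), fun d hd c hc => ?_, ?_⟩
  · have ht2 : orderOf t = 2 := orderOf_eq_prime (by rw [pow_two, hS.mul_self]) hS.ne_one
    have h := (Cfsg.Agent.S1124.result t ht2 𝓓 hS.odd_card fun x hx => by rw [htt]; exact t_conj_mem_D hS hx).2.2 d hd
    rw [hC] at hc ⊢
    rw [← h]
    exact ⟨c, hc, rfl⟩
  · -- the quotient `V / W`
    obtain ⟨d₀, hd₀⟩ := hψsurj v₀
    have ht2 : orderOf t = 2 := orderOf_eq_prime (by rw [pow_two, hS.mul_self]) hS.ne_one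
    obtain ⟨⟨v, k⟩, ⟨hv, hk, hvk⟩, -⟩ := (Cfsg.Agent.S1124.result t ht2 𝓓 hS.odd_card fun x hx => by
      rw [htt]; exact t_conj_mem_D hS hx).1 d₀ d₀.2
    refine ⟨v, hv, le_antisymm (sup_le inf_le_left ((Subgroup.closure_le _).2 (Set.singleton_subset_iff.2 hv))) ?_⟩
    intro x hx
    have hkL : ψ ⟨k, hk.1⟩ ∈ L := hKL _ (hKmem.1 hk).2
    have hd₀' : ψ ⟨v, hv.1⟩ * ψ ⟨k, hk.1⟩ = v₀ := by
      rw [← map_mul, ← hd₀]
      exact congrArg ψ (Subtype.ext hvk.symm)
    have hgen : ψ ⟨x, hx.1⟩ ∈ L ⊔ Subgroup.closure {ψ ⟨v, hv.1⟩} := by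
      have hle : L ⊔ Subgroup.closure {v₀} ≤ L ⊔ Subgroup.closure {ψ ⟨v, hv.1⟩} :=
        sup_le le_sup_left ((Subgroup.closure_le _).2 (Set.singleton_subset_iff.2 (by
          rw [← hd₀']
          exact mul_mem (Subgroup.mem_sup_right (Subgroup.subset_closure (Set.mem_singleton _)))
            (Subgroup.mem_sup_left hkL))))
      exact hle (hv₀ ▸ Subgroup.mem_top _)
    haveI := hLn
    obtain ⟨l, hl, z, hz, hlz⟩ := Subgroup.mem_sup_of_normal_left.1 hgen
    obtain ⟨i, hi⟩ := Subgroup.mem_closure_singleton.1 hz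
    set vi := (⟨v, hv.1⟩ : (𝓓 : Subgroup G)) ^ i
    have hxv : x * (v ^ i)⁻¹ ∈ 𝓓 ⊓ Subgroup.centralizer {t} := mul_mem hx (inv_mem (zpow_mem hv i))
    have hw : ψ (⟨x, hx.1⟩ * vi⁻¹) ∈ L := by
      rw [map_mul, map_inv, map_zpow, ← hlz, hi, mul_inv_cancel_right]
      exact hl
    have h1 := hVL _ (by
      show x * ((vi : G))⁻¹ * t = t * (x * ((vi : G))⁻¹)
      rw [SubgroupClass.coe_zpow]
      exact Subgroup.mem_centralizer_singleton_iff.1 hxv.2) hw
    have h2 := (hker _).1 h1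
    rw [show x = x * (v ^ i)⁻¹ * v ^ i from (inv_mul_cancel_right x (v ^ i)).symm]
    refine mul_mem (Subgroup.mem_sup_left ?_)
      (Subgroup.mem_sup_right (zpow_mem (Subgroup.subset_closure (Set.mem_singleton v)) i))
    exact h2

end Setup

end Cfsg.Agent.Lib.RankOne
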