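import Cfsg.Agent.Lib.RankOne.TrialityStd
import Cfsg.Agent.Lib.Chev.Aut.Out
import Cfsg.Agent.Lib.Chev.Map
import Cfsg.Prelude.Def_KGroupFacts

/-!
The outer automorphisms of the triality group are the field automorphisms.
-/

set_option autoImplicit false
set_option maxRecDepth 100000
set_option maxHeartbeats 1000000
set_option linter.unusedSectionVars false

namespace Cfsg.Agent.Lib.RankOne.TriAut

open Cfsg.Lie Cfsg.Agent.Lib.Chev Cfsg.Agent.Lib.Chev.Tw Cfsg.Agent.Lib.Chev.Tw.D4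

/-! ### Automorphisms of a rank-one configuration -/

namespace R1

variable {G : Type*} [Group G] {L : Type*} [Field L] [Finite L]

/-- A pair of opposite root subgroups with a representative exchanging them. -/
structure Cfg (G : Type*) [Group G] (L : Type*) [Field L] where
  P : L → G
  N : L → G
  hP : ∀ a b, P a * P b = P (a + b)
  hN : ∀ a b, N a * N b = N (a + b)
  inj : Function.Injective P
  sw : ∀ c, P 1 * N (-1) * P 1 * P c * (P 1 * N (-1) * P 1)⁻¹ = N (-c)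
  sw' : ∀ c, P 1 * N (-1) * P 1 * N c * (P 1 * N (-1) * P 1)⁻¹ = P (-c)
  triv : ∀ e, (∀ s, ∃ s', P e * N s * (P e)⁻¹ = N s') → e = 0

namespace Cfg

variable (C : Cfg G L)

/-- The elements exchanging the two subgroups. -/
def n (t : L) : G := C.P t * C.N (-t⁻¹) * C.P t

theorem n_one : C.n 1 = C.P 1 * C.N (-1) * C.P 1 := by rw [n, inv_one]

theorem P_inv (a : L) : (C.P a)⁻¹ = C.P (-a) := by
  have h0 : C.P 0 = 1 := mul_eq_left.1 ((C.hP 0 0).trans (by rw [add_zero]))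
  exact inv_eq_of_mul_eq_one_right (by rw [C.hP, add_neg_cancel, h0])

theorem N_zero : C.N 0 = 1 := mul_eq_left.1 ((C.hN 0 0).trans (by rw [add_zero]))

theorem N_inv (a : L) : (C.N a)⁻¹ = C.N (-a) :=
  inv_eq_of_mul_eq_one_right (by rw [C.hN, add_neg_cancel, C.N_zero])

theorem injN : Function.Injective C.N := fun a b e => by
  have h := C.sw' a
  rw [e, C.sw'] at h
  exact (neg_injective (C.inj h)).symm

theorem triv' (d : L) (h : ∀ s, ∃ s', C.N d * C.P s * (C.N d)⁻¹ = C.P s') : d = 0 := by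
  refine neg_eq_zero.1 (C.triv (-d) fun s => ?_)
  obtain ⟨s', hs'⟩ := h (-s)
  refine ⟨-s', ?_⟩
  refine (MulAut.conj (C.P 1 * C.N (-1) * C.P 1)).injective ?_
  show MulAut.conj _ (C.P (-d) * C.N s * (C.P (-d))⁻¹) = MulAut.conj _ (C.N (-s'))
  rw [map_mul (MulAut.conj _) (C.P (-d) * C.N s), map_mul (MulAut.conj _) (C.P (-d)), map_inv (MulAut.conj _)]
  simp only [MulAut.conj_apply]
  rw [C.sw, C.sw', C.sw', neg_neg, neg_neg]
  exact hs'

/-- Two exchanging products with the same outer factors coincide. -/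
theorem mid_eq {a b : L} (hm : ∀ s, ∃ s', C.P a * C.N b * C.P a * C.N s *
    (C.P a * C.N b * C.P a)⁻¹ = C.P s')
    {e : L} (he : ∀ s, ∃ s', (C.P a * C.N e * C.P a)⁻¹ * C.P s * (C.P a * C.N e * C.P a) = C.N s') :
    b = e := by
  refine sub_eq_zero.1 (C.triv' (b - e) fun s => ?_)
  obtain ⟨s₁, h1⟩ := he s
  obtain ⟨s₂, h2⟩ := hm s₁
  refine ⟨-a + s₂ + a, ?_⟩
  rw [← C.hP, ← C.hP, ← h2, ← h1, ← C.P_inv, sub_eq_add_neg, ← C.hN, ← C.N_inv]
  have hc : ∀ x y, C.P x * C.P y = C.P y * C.P x := fun x y => by rw [C.hP, C.hP, add_comm]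
  calc C.N b * (C.N e)⁻¹ * C.P s * (C.N b * (C.N e)⁻¹)⁻¹
      = C.N b * (C.N e)⁻¹ * ((C.P a)⁻¹ * (C.P s * C.P a)) * (C.N b * (C.N e)⁻¹)⁻¹ := by
        rw [hc s a, inv_mul_cancel_left]
    _ = _ := by group

variable {θ : MulAut G} {f f' : L → L}

theorem f_add (hfP : ∀ t, θ (C.P t) = C.P (f t)) (s t : L) : f (s + t) = f s + f t :=
  C.inj (by rw [← hfP, ← C.hP, map_mul, hfP, hfP, C.hP])

theorem f_neg (hfP : ∀ t, θ (C.P t) = C.P (f t)) (t : L) : f (-t) = -f t :=
  C.inj (by rw [← hfP, ← C.P_inv, map_inv, hfP, C.P_inv])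

theorem f_surj (hfP : ∀ t, θ (C.P t) = C.P (f t)) : Function.Surjective f :=
  Finite.injective_iff_surjective.1 fun s t e =>
    C.inj (θ.injective (by rw [hfP, hfP, e]))

theorem f'_surj (hfN : ∀ t, θ (C.N t) = C.N (f' t)) : Function.Surjective f' :=
  Finite.injective_iff_surjective.1 fun s t e =>
    C.injN (θ.injective (by rw [hfN, hfN, e]))

theorem map_one_eq (hfP : ∀ t, θ (C.P t) = C.P (f t)) (hfN : ∀ t, θ (C.N t) = C.N (f' t))
    (h1 : f 1 = 1) : θ (C.n 1) = C.n 1 ∧ ∀ c, f' c = f c := by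
  have e : θ (C.n 1) = C.P 1 * C.N (f' (-1)) * C.P 1 := by
    rw [C.n_one, map_mul, map_mul, hfP, hfN, h1]
  have hb : f' (-1) = -1 := by
    refine C.mid_eq (a := 1) (fun s => ?_) fun s => ⟨-s, ?_⟩
    · obtain ⟨s₀, rfl⟩ := C.f'_surj hfN s
      refine ⟨f (-s₀), ?_⟩
      rw [← e, ← hfN, ← map_mul, ← map_inv, ← map_mul, C.n_one, C.sw', hfP]
    · have h := C.sw' (-s)
      rw [neg_neg] at h
      rw [← h]; group
  have hn : θ (C.n 1) = C.n 1 := by rw [e, hb, C.n_one]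
  refine ⟨hn, fun c => ?_⟩
  have h := congrArg θ (C.sw (-c))
  rw [← C.n_one, map_mul, map_mul, map_inv, hn, hfP, hfN, C.n_one, C.sw, neg_neg, C.f_neg hfP,
    neg_neg] at h
  exact (C.injN h).symm

variable (hn : ∀ t, t ≠ 0 → ∀ s, C.n t * C.P s * (C.n t)⁻¹ = C.N (-(s / t ^ 2)))
  (hn' : ∀ t, t ≠ 0 → ∀ s, C.n t * C.N s * (C.n t)⁻¹ = C.P (-(t ^ 2 * s)))
include hn hn'

theorem map_n (hfP : ∀ t, θ (C.P t) = C.P (f t)) (hfN : ∀ t, θ (C.N t) = C.N (f t))
    {t : L} (ht : t ≠ 0) : f (t⁻¹) = (f t)⁻¹ ∧ θ (C.n t) = C.n (f t) ∧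
      ∀ s, f (s / t ^ 2) = f s / f t ^ 2 := by
  have h00 : f 0 = 0 := by
    have := C.f_add hfP 0 0
    rwa [add_zero, left_eq_add] at this
  have ha : f t ≠ 0 := fun h => ht (C.inj (θ.injective (by rw [hfP, hfP, h, h00])))
  have e : θ (C.n t) = C.P (f t) * C.N (f (-t⁻¹)) * C.P (f t) := by
    rw [n, map_mul, map_mul, hfP, hfN]
  have hb : f (-t⁻¹) = -(f t)⁻¹ := by
    refine C.mid_eq (a := f t) (fun s => ?_) fun s => ⟨-(s / f t ^ 2), ?_⟩
    · obtain ⟨s₀, rfl⟩ := C.f_surj hfP s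
      refine ⟨f (-(t ^ 2 * s₀)), ?_⟩
      rw [← e, ← hfN, ← map_mul, ← map_inv, ← map_mul, hn' t ht, hfP]
    · have h := hn' (f t) ha (-(s / f t ^ 2))
      rw [show -(f t ^ 2 * -(s / f t ^ 2)) = s by field_simp] at h
      rw [← h]
      simp only [n]
      group
  have hθn : θ (C.n t) = C.n (f t) := by rw [e, hb]; rfl
  refine ⟨neg_injective ((C.f_neg hfP _).symm.trans hb), hθn, fun s => ?_⟩
  have h := congrArg θ (hn t ht s)
  rw [map_mul, map_mul, map_inv, hθn, hfP, hn _ ha, hfN, C.f_neg hfP] at h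
  exact (neg_injective (C.injN h)).symm

theorem map_mul_eq (hfP : ∀ t, θ (C.P t) = C.P (f t)) (hfN : ∀ t, θ (C.N t) = C.N (f t))
    (h1 : f 1 = 1) (s t : L) : f (s * t) = f s * f t := by
  have h00 : f 0 = 0 := by
    have := C.f_add hfP 0 0
    rwa [add_zero, left_eq_add] at this
  have hsq : ∀ s t, f (s * t ^ 2) = f s * f t ^ 2 := fun s t => by
    rcases eq_or_ne t 0 with rfl | ht
    · simp [h00]
    obtain ⟨e1, -, e2⟩ := C.map_n hn hn' hfP hfN (inv_ne_zero ht)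
    rw [inv_inv] at e1
    have := e2 s
    rwa [show s / t⁻¹ ^ 2 = s * t ^ 2 by field_simp,
      show f s / f t⁻¹ ^ 2 = f s * f t ^ 2 by rw [e1, inv_pow, div_eq_mul_inv]] at this
  have h2 : (2 : L) * (f (s * t) - f s * f t) = 0 := by
    have h := hsq s (t + 1)
    rw [show s * (t + 1) ^ 2 = s * t ^ 2 + (s * t + s * t) + s by ring, C.f_add hfP, C.f_add hfP,
      C.f_add hfP, hsq, C.f_add hfP t, h1] at h
    linear_combination h
  rcases eq_or_ne (2 : L) 0 with h2' | h2'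
  · have hsurj : Function.Surjective fun x : L => x ^ 2 :=
      Finite.injective_iff_surjective.1 fun x y (e : x ^ 2 = y ^ 2) => by
        have : (x - y) ^ 2 = 0 := by linear_combination e + (y ^ 2 - x * y) * h2'
        exact sub_eq_zero.1 (eq_zero_of_pow_eq_zero this)
    obtain ⟨u, rfl⟩ := hsurj t
    show f (s * u ^ 2) = f s * f (u ^ 2)
    rw [hsq, ← one_mul (u ^ 2), hsq, h1, one_mul]
  · exact sub_eq_zero.1 ((mul_eq_zero.1 h2).resolve_left h2')

end Cfg

end R1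

/-! ### Tables -/

theorem negl_a : negl chevD4 [18, 13, 12] = [5, 10, 11] := by decide +kernel

theorem negl_b : negl chevD4 [14] = [9] := by decide +kernel

theorem A_neg : (∀ i < 4, tabD4.A i 5 = -tabD4.A i 18) ∧ (∀ i < 4, tabD4.A i 10 = -tabD4.A i 13) ∧
    (∀ i < 4, tabD4.A i 11 = -tabD4.A i 12) ∧ (∀ i < 4, tabD4.A i 9 = -tabD4.A i 14) := by
  decide +kernel

variable {K : Type*} [Field K] [Fintype K] {q : ℕ} (A : Par K q)
include A

set_option quotPrecheck false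
local notation "GG" => ↥(twistedD4 K q)
local notation "GLD" => GL chevD4.Idx K
local notation "YY" => Chev.Tw.D4.sys A
local notation "RA" => ([18, 13, 12] : List ℕ)
local notation "NA" => ([5, 10, 11] : List ℕ)
local notation "RB" => ([14] : List ℕ)
local notation "NB" => ([9] : List ℕ)

theorem tor_neg (c : ℕ → K) {s s' : ℕ} (h : ∀ i < 4, tabD4.A i s = -tabD4.A i s') :
    tor chevD4 tabD4 c s = (tor chevD4 tabD4 c s')⁻¹ := by
  rw [tor_expand, tor_expand, h 0 (by norm_num), h 1 (by norm_num), h 2 (by norm_num),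
    h 3 (by norm_num), zpow_neg, zpow_neg, zpow_neg, zpow_neg, mul_inv, mul_inv, mul_inv]

/-! ### Root subgroups -/

/-- The fixed field. -/
def F0 : Subfield K := RingHom.eqLocusField A.phi (RingHom.id K)

theorem F0_fix (x : F0 A) : A.phi (x : K) = x := x.2

/-- Coefficients on the orbit of three roots. -/
def fA3 (t : K) : ℕ → K := fun r => if r = 18 then t else if r = 13 then A.phi t else A.phi (A.phi t)

/-- Coefficients on the opposite orbit. -/
def fN3 (t : K) : ℕ → K := fun r => if r = 5 then t else if r = 10 then A.phi t else A.phi (A.phi t)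

theorem fA3_fix (t : K) : (YY).IsFixF RA (fA3 A t) := (fix1 A (Or.inl rfl)).2 (by simp [fA3])

theorem fN3_fix (t : K) : (YY).IsFixF NA (fN3 A t) :=
  (fix1 A (a := 5) (b := 10) (c := 11) (Or.inr rfl)).2 (by simp [fN3])

/-- The long orbit root elements. -/
def aP (t : K) : GG := ⟨Good'.P (YY).G RA (fA3 A t), mem1 A (Or.inl rfl) (fA3_fix A t)⟩

/-- The opposite elements. -/
def aN (t : K) : GG :=
  ⟨Good'.P (YY).G NA (fN3 A t), mem1 A (a := 5) (b := 10) (c := 11) (Or.inr rfl) (fN3_fix A t)⟩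

/-- The fixed root elements. -/
def bP (x : F0 A) : GG :=
  ⟨Good'.P (YY).G RB fun _ => (x : K), mem0 A (Or.inl rfl) ((fix0 A (Or.inl rfl)).2 (F0_fix A x))⟩

/-- Their opposites. -/
def bN (x : F0 A) : GG :=
  ⟨Good'.P (YY).G NB fun _ => (x : K),
    mem0 A (a := 9) (Or.inr rfl) ((fix0 A (Or.inr rfl)).2 (F0_fix A x))⟩

theorem aP_val (t : K) : ((aP A t : GG) : GLD) = Good'.P (YY).G RA (fA3 A t) := rfl

theorem bP_val (x : F0 A) : ((bP A x : GG) : GLD) = Good'.P (YY).G RB fun _ => (x : K) := rfl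

theorem bN_val (x : F0 A) : ((bN A x : GG) : GLD) = Good'.P (YY).G NB fun _ => (x : K) := rfl

theorem P_add {R : List ℕ} (h : chkComm2 chevD4 tabD4 0 R R = true) (f g : ℕ → K) :
    Good'.P (YY).G R f * Good'.P (YY).G R g = Good'.P (YY).G R fun r => f r + g r :=
  Good'.P_mul (YY).G (p := 0) Nat.cast_zero h _ (fun _ hx => hx) f g

theorem aP_mul (a b : K) : aP A a * aP A b = aP A (a + b) := Subtype.ext <| by
  refine (P_add A (Ab.facts blk1_chk).2.2.2.1 _ _).trans (Good'.P_congr (YY).G fun r _ => ?_)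
  simp only [fA3]; split_ifs <;> simp

theorem aN_mul (a b : K) : aN A a * aN A b = aN A (a + b) := Subtype.ext <| by
  refine (P_add A (negl_a ▸ (Ab.facts blk1_chk).2.2.2.2.1) _ _).trans
    (Good'.P_congr (YY).G fun r _ => ?_)
  simp only [fN3]; split_ifs <;> simp

theorem bP_mul (a b : F0 A) : bP A a * bP A b = bP A (a + b) := Subtype.ext <| by
  rw [Subgroup.coe_mul, bP_val, bP_val, bP_val, P_add A (Ab.facts blk0_chk).2.2.2.1, AddMemClass.coe_add]

theorem bN_mul (a b : F0 A) : bN A a * bN A b = bN A (a + b) := Subtype.ext <| by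
  rw [Subgroup.coe_mul, bN_val, bN_val, bN_val, P_add A (negl_b ▸ (Ab.facts blk0_chk).2.2.2.2.1),
    AddMemClass.coe_add]

theorem aP_inj : Function.Injective (aP A) := fun a b e => by
  have h := (ab1 A).P_eq_iff.1 (congrArg Subtype.val e) 18 (by simp)
  simpa [fA3] using h

theorem bP_inj : Function.Injective (bP A) := fun a b e => by
  have e1 := congrArg Subtype.val e
  rw [bP_val, bP_val] at e1
  exact Subtype.ext ((ab0 A).P_eq_iff.1 e1 14 (by simp))

theorem posA {y : GG} : y ∈ posSet A 1 ↔ ∃ t, y = aP A t := by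
  rw [posSet_iff A (k := 1) (by decide)]
  constructor
  · rintro ⟨f, hf, e⟩
    obtain ⟨h1, h2⟩ := (fix1 A (Or.inl rfl)).1 hf
    refine ⟨f 18, Subtype.ext (e.trans (Good'.P_congr (YY).G fun r hr => ?_))⟩
    simp only [roots, List.mem_cons, List.not_mem_nil, or_false] at hr
    rcases hr with rfl | rfl | rfl <;> simp [fA3, h1, h2]
  · rintro ⟨t, rfl⟩
    exact ⟨_, fA3_fix A t, rfl⟩

theorem posB {y : GG} : y ∈ posSet A 0 ↔ ∃ x, y = bP A x := by
  rw [posSet_iff A (k := 0) (by decide)]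
  constructor
  · rintro ⟨f, hf, e⟩
    refine ⟨⟨f 14, (fix0 A (Or.inl rfl)).1 hf⟩, Subtype.ext ?_⟩
    rw [bP_val, e]
    refine Good'.P_congr (YY).G fun r hr => ?_
    simp only [roots, List.mem_singleton] at hr
    rw [hr]
  · rintro ⟨x, rfl⟩
    exact ⟨fun _ => (x : K), (fix0 A (Or.inl rfl)).2 (F0_fix A x), bP_val A x⟩

/-- The representative of the long orbit. -/
def nA : GG := nk A 1 (by decide)

/-- The representative of the fixed root. -/
def nB : GG := nk A 0 (by decide)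

theorem nA_conj (c : K) : nA A * aP A c * (nA A)⁻¹ = aN A (-c) := Subtype.ext <| by
  refine ((ab1 A).wl_conj).trans ?_
  rw [negl_a]
  refine Good'.P_congr (YY).G fun r hr => ?_
  simp only [List.mem_cons, List.not_mem_nil, or_false] at hr
  rcases hr with rfl | rfl | rfl
  · show -fA3 A c 18 = _; simp [fA3, fN3]
  · show -fA3 A c 13 = _; simp [fA3, fN3]
  · show -fA3 A c 12 = _; simp [fA3, fN3]

theorem nB_conj (c : F0 A) : nB A * bP A c * (nB A)⁻¹ = bN A (-c) := Subtype.ext <| by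
  rw [Subgroup.coe_mul, Subgroup.coe_mul, Subgroup.coe_inv, bP_val, bN_val]
  refine ((ab0 A).wl_conj).trans ?_
  rw [negl_b, NegMemClass.coe_neg]

theorem negA {y : GG} : y ∈ negSet A 1 (by decide) ↔ ∃ t, y = aN A t := by
  constructor
  · rintro ⟨c, hc, rfl⟩
    obtain ⟨t, rfl⟩ := (posA A).1 hc
    exact ⟨-t, nA_conj A t⟩
  · rintro ⟨t, rfl⟩
    exact ⟨aP A (-t), (posA A).2 ⟨_, rfl⟩, (nA_conj A (-t)).trans (by rw [neg_neg])⟩

theorem negB {y : GG} : y ∈ negSet A 0 (by decide) ↔ ∃ x, y = bN A x := by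
  constructor
  · rintro ⟨c, hc, rfl⟩
    obtain ⟨t, rfl⟩ := (posB A).1 hc
    exact ⟨-t, nB_conj A t⟩
  · rintro ⟨t, rfl⟩
    exact ⟨bP A (-t), (posB A).2 ⟨_, rfl⟩, (nB_conj A (-t)).trans (by rw [neg_neg])⟩

/-! ### The torus -/

/-- The embedding of the units of the fixed field. -/
def inc : (F0 A)ˣ →* Kˣ := Units.map (F0 A).subtype.toMonoidHom

theorem inc_fix (a : (F0 A)ˣ) : phu A (inc A a) = inc A a := Units.ext (F0_fix A _)

/-- The torus elements. -/
def tG (p : Kˣ × (F0 A)ˣ) : GG :=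
  ⟨(YY).G.torHom K (par A p.1 (inc A p.2)), torHom_par_mem A _ _ (inc_fix A _)⟩

theorem tG_HH (p : Kˣ × (F0 A)ˣ) : tG A p ∈ HH K q := (YY).torHom_mem_diag _

theorem tG_one : tG A 1 = 1 := Subtype.ext <| by
  show (YY).G.torHom K (par A (1 : Kˣ) (inc A 1)) = 1
  have : par A (1 : Kˣ) (inc A 1) = 1 := by
    funext j
    fin_cases j <;> simp [par] <;> rfl
  rw [this, map_one]

theorem norm_mem (t : K) : t * A.phi t * A.phi (A.phi t) ∈ F0 A := by
  show A.phi _ = _
  rw [map_mul, map_mul, phi3 A]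
  simp only [RingHom.id_apply]
  ring

/-- The norm. -/
def Nm : Kˣ →* (F0 A)ˣ :=
  MonoidHom.toHomUnits
    { toFun := fun t => ⟨(t : K) * A.phi t * A.phi (A.phi t), norm_mem A t⟩
      map_one' := Subtype.ext (by simp)
      map_mul' := fun s t => Subtype.ext (by
        simp only [Units.val_mul, map_mul, MulMemClass.coe_mul]; ring) }

theorem Nm_val (t : Kˣ) : (((Nm A t : (F0 A)ˣ) : F0 A) : K) = (t : K) * A.phi t * A.phi (A.phi t) :=
  rfl

/-- The weights of the torus on the two orbits. -/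
def Wt : Kˣ × (F0 A)ˣ →* Kˣ × (F0 A)ˣ :=
  ((powMonoidHom 2).comp (MonoidHom.fst _ _) / (inc A).comp (MonoidHom.snd _ _)).prod
    ((powMonoidHom 2).comp (MonoidHom.snd _ _) / (Nm A).comp (MonoidHom.fst _ _))

theorem Wt_fst (p : Kˣ × (F0 A)ˣ) :
    (((Wt A p).1 : Kˣ) : K) = (p.1 : K) ^ 2 * ((p.2 : F0 A) : K)⁻¹ := by
  simp [Wt, inc, div_eq_mul_inv]

theorem Wt_snd (p : Kˣ × (F0 A)ˣ) :
    ((((Wt A p).2 : (F0 A)ˣ) : F0 A) : K) =
      ((p.2 : F0 A) : K) ^ 2 * ((p.1 : K) * A.phi p.1 * A.phi (A.phi p.1))⁻¹ := by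
  simp [Wt, div_eq_mul_inv, Nm_val]

theorem Wt_bij : Function.Bijective (Wt A) := by
  refine Finite.injective_iff_bijective.1 ((injective_iff_map_eq_one _).2 ?_)
  rintro ⟨t, a⟩ h
  have p18 := Wt_fst A (t, a)
  have p14 := Wt_snd A (t, a)
  simp only [h, Prod.fst_one, Prod.snd_one, Units.val_one, OneMemClass.coe_one] at p18 p14
  have ha' : A.phi ((a : F0 A) : K) = (a : F0 A) := F0_fix A _
  have t0 : (t : K) ≠ 0 := t.ne_zero
  have a0 : ((a : F0 A) : K) ≠ 0 := fun e => a.ne_zero (Subtype.ext e)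
  generalize hb : ((a : F0 A) : K) = b at ha' a0 p18 p14
  have hta : (t : K) ^ 2 = b := by field_simp at p18; linear_combination -p18
  have h1 : A.phi t ^ 2 = b := by rw [← map_pow, hta, ha']
  have h2 : A.phi (A.phi t) ^ 2 = b := by rw [← map_pow, h1, ha']
  have hN : b ^ 2 = (t : K) * A.phi t * A.phi (A.phi t) := by
    have hne : (t : K) * A.phi t * A.phi (A.phi t) ≠ 0 := by simp [t0]
    field_simp at p14
    linear_combination -p14
  have hb1 : b = 1 := by
    have h6 : b ^ 4 = b ^ 3 := by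
      linear_combination (b ^ 2 + t * A.phi t * A.phi (A.phi t)) * hN +
        (A.phi t ^ 2 * A.phi (A.phi t) ^ 2) * hta + (b * A.phi (A.phi t) ^ 2) * h1 +
        b ^ 2 * h2
    exact mul_left_cancel₀ (pow_ne_zero 3 a0) (by linear_combination h6)
  have ht1 : (t : K) = 1 := by
    rw [hb1] at hta hN
    have hφt : A.phi t = t := by
      rcases sq_eq_one_iff.1 hta with e | e <;> rw [e] <;> simp
    rw [hφt, hφt] at hN
    linear_combination -hN - (t : K) * hta
  exact Prod.ext (Units.ext ht1) (Units.ext (Subtype.ext (hb.trans hb1)))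

theorem tG_conj_P (p : Kˣ × (F0 A)ˣ) {R : List ℕ} (hR : ∀ r ∈ R, r < chevD4.nroots) (f : ℕ → K) :
    (tG A p : GLD) * Good'.P (YY).G R f * (tG A p : GLD)⁻¹ = Good'.P (YY).G R fun r =>
      tor chevD4 tabD4 (extOne chevD4 (par A p.1 (inc A p.2))) r * f r :=
  (YY).conj_P ((YY).G.torHom_val _) ((YY).G.isChar_tor fun i _ => extOne_ne_zero _ i) hR f

theorem conj_aP (p : Kˣ × (F0 A)ˣ) (s : K) :
    tG A p * aP A s * (tG A p)⁻¹ = aP A (((Wt A p).1 : K) * s) := Subtype.ext <| by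
  refine (tG_conj_P A p (by decide +kernel) _).trans (Good'.P_congr (YY).G fun r hr => ?_)
  obtain ⟨p18, -, p13, p12⟩ := tor_par A p.1 (inc A p.2)
  have hb : A.phi ((p.2 : F0 A) : K) = (p.2 : F0 A) := F0_fix A _
  simp only [List.mem_cons, List.not_mem_nil, or_false] at hr
  rcases hr with rfl | rfl | rfl <;>
    simp only [p18, p13, p12] <;> simp [fA3, Wt_fst, inc, hb, map_mul, map_pow, map_inv₀]

theorem conj_aN (p : Kˣ × (F0 A)ˣ) (s : K) :
    tG A p * aN A s * (tG A p)⁻¹ = aN A (((Wt A p).1 : K)⁻¹ * s) := Subtype.ext <| by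
  refine (tG_conj_P A p (by decide +kernel) _).trans (Good'.P_congr (YY).G fun r hr => ?_)
  obtain ⟨p18, -, p13, p12⟩ := tor_par A p.1 (inc A p.2)
  have hb : A.phi ((p.2 : F0 A) : K) = (p.2 : F0 A) := F0_fix A _
  simp only [List.mem_cons, List.not_mem_nil, or_false] at hr
  rcases hr with rfl | rfl | rfl
  · rw [tor_neg A _ A_neg.1, p18]
    simp [fN3, Wt_fst, inc]
  · rw [tor_neg A _ A_neg.2.1, p13]
    simp [fN3, Wt_fst, inc, hb, map_mul, map_pow, map_inv₀]
  · rw [tor_neg A _ A_neg.2.2.1, p12]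
    simp [fN3, Wt_fst, inc, hb, map_mul, map_pow, map_inv₀]

theorem conj_bP (p : Kˣ × (F0 A)ˣ) (x : F0 A) :
    tG A p * bP A x * (tG A p)⁻¹ = bP A (((Wt A p).2 : F0 A) * x) := Subtype.ext <| by
  rw [Subgroup.coe_mul, Subgroup.coe_mul, Subgroup.coe_inv, bP_val, bP_val,
    tG_conj_P A p (by decide +kernel) _]
  refine Good'.P_congr (YY).G fun r hr => ?_
  rw [List.mem_singleton] at hr
  rw [hr, (tor_par A p.1 (inc A p.2)).2.1, MulMemClass.coe_mul, Wt_snd]
  rfl

/-- The elements exchanging the long orbit groups. -/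
def nAt (t : K) : GG := aP A t * aN A (-t⁻¹) * aP A t

/-- The elements exchanging the fixed root groups. -/
def nBt (x : F0 A) : GG := bP A x * bN A (-x⁻¹) * bP A x

theorem nAt_val (t : K) : ((nAt A t : GG) : GLD) = ((RA).map fun r => (YY).G.Ng K r (fA3 A t r)).prod := by
  rw [Good'.nprod_eq (YY).G (Ab.facts blk1_chk).2.2.2.2.2.2.2.2.2.1 (by decide +kernel), negl_a]
  show Good'.P (YY).G RA _ * Good'.P (YY).G NA _ * Good'.P (YY).G RA _ = _
  refine congrArg (fun z => _ * z * _) (Good'.P_congr (YY).G fun r hr => ?_)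
  simp only [List.mem_cons, List.not_mem_nil, or_false] at hr
  rcases hr with rfl | rfl | rfl
  · show _ = -(fA3 A t 18)⁻¹; simp [fA3, fN3]
  · show _ = -(fA3 A t 13)⁻¹; simp [fA3, fN3, map_inv₀]
  · show _ = -(fA3 A t 12)⁻¹; simp [fA3, fN3, map_inv₀]

theorem nBt_val (x : F0 A) :
    ((nBt A x : GG) : GLD) = ((RB).map fun r => (YY).G.Ng K r (x : K)).prod := by
  rw [Good'.nprod_eq (YY).G (Ab.facts blk0_chk).2.2.2.2.2.2.2.2.2.1 (by decide +kernel), negl_b]
  rw [nBt, Subgroup.coe_mul, Subgroup.coe_mul, bP_val, bN_val]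
  simp

theorem nAt_one : nAt A 1 = nA A := Subtype.ext <| by
  rw [nAt_val]
  refine Eq.trans ?_ (ab1 A).nl_eq.symm
  congr 1
  exact List.map_congr_left fun r _ => by simp [fA3]

theorem nBt_one : nBt A 1 = nB A := Subtype.ext <| by
  rw [nBt_val]
  exact (ab0 A).nl_eq.symm

theorem nAt_neg (t : K) : nAt A (-t) = (nAt A t)⁻¹ := by
  have hz : aP A 0 = 1 := mul_eq_left.1 ((aP_mul A 0 0).trans (by rw [add_zero]))
  have hz' : aN A 0 = 1 := mul_eq_left.1 ((aN_mul A 0 0).trans (by rw [add_zero]))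
  have e : ∀ s, aP A (-s) = (aP A s)⁻¹ := fun s =>
    (inv_eq_of_mul_eq_one_right (by rw [aP_mul, add_neg_cancel, hz])).symm
  have e' : ∀ s, aN A (-s) = (aN A s)⁻¹ := fun s =>
    (inv_eq_of_mul_eq_one_right (by rw [aN_mul, add_neg_cancel, hz'])).symm
  rw [nAt, nAt, inv_neg, e, e']
  group

theorem nBt_neg (x : F0 A) : nBt A (-x) = (nBt A x)⁻¹ := by
  have hz : bP A 0 = 1 := mul_eq_left.1 ((bP_mul A 0 0).trans (by rw [add_zero]))
  have hz' : bN A 0 = 1 := mul_eq_left.1 ((bN_mul A 0 0).trans (by rw [add_zero]))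
  have e : ∀ s, bP A (-s) = (bP A s)⁻¹ := fun s =>
    (inv_eq_of_mul_eq_one_right (by rw [bP_mul, add_neg_cancel, hz])).symm
  have e' : ∀ s, bN A (-s) = (bN A s)⁻¹ := fun s =>
    (inv_eq_of_mul_eq_one_right (by rw [bN_mul, add_neg_cancel, hz'])).symm
  rw [nBt, nBt, inv_neg, e, e']
  group

theorem aP_zero : aP A 0 = 1 := mul_eq_left.1 ((aP_mul A 0 0).trans (by rw [add_zero]))

theorem bP_zero : bP A 0 = 1 := mul_eq_left.1 ((bP_mul A 0 0).trans (by rw [add_zero]))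

theorem nAt_eq (t : Kˣ) : nAt A (t : K) = tG A (t, 1) * nA A := by
  rw [← nAt_one A, ← inv_inv (nAt A 1), ← nAt_neg A, eq_mul_inv_iff_mul_eq]
  refine Subtype.ext ?_
  show _ = (YY).G.torHom K (par A t (inc A 1))
  rw [map_one, Subgroup.coe_mul, nAt_val, nAt_val]
  have hm : ((RA).map fun r => (YY).G.Ng K r (fA3 A (-1) r)) = (RA).map fun r => (YY).G.Ng K r (-1) :=
    List.map_congr_left fun r _ => by simp [fA3]
  rw [hm, ← Good'.hprod_eq (YY).G (Ab.facts blk1_chk).2.2.2.2.2.2.2.2.2.1]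
  let i0 : Fin chevD4.rank := ⟨0, by decide⟩
  let i2 : Fin chevD4.rank := ⟨2, by decide⟩
  let i3 : Fin chevD4.rank := ⟨3, by decide⟩
  have hc : par A t 1 =
      Pi.mulSingle i0 t * (Pi.mulSingle i2 (phu A t) * Pi.mulSingle i3 (phu A (phu A t))) := by
    funext j
    obtain ⟨j, hj⟩ := j
    have h4 : chevD4.rank = 4 := rfl
    match j, hj with
    | 0, _ => simp [par, i0, i2, i3]; rfl
    | 1, _ => simp [par, i0, i2, i3]; rfl
    | 2, _ => simp [par, i0, i2, i3]; rfl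
    | 3, _ => simp [par, i0, i2, i3]; rfl
    | n + 4, h => omega
  rw [hc]
  simp only [map_mul, (sys A).torHom_single]
  simp [fA3]
  rfl

theorem nBt_eq (u : (F0 A)ˣ) : nBt A (u : F0 A) = tG A (1, u) * nB A := by
  rw [← nBt_one A, ← inv_inv (nBt A 1), ← nBt_neg A, eq_mul_inv_iff_mul_eq]
  refine Subtype.ext ?_
  show _ = (YY).G.torHom K (par A 1 (inc A u))
  rw [Subgroup.coe_mul, nBt_val, nBt_val]
  have hm : ((RB).map fun r => (YY).G.Ng K r (((-1 : F0 A)) : K)) = (RB).map fun r => (YY).G.Ng K r (-1) :=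
    List.map_congr_left fun r _ => by simp
  rw [hm, ← Good'.hprod_eq (YY).G (Ab.facts blk0_chk).2.2.2.2.2.2.2.2.2.1]
  let i1 : Fin chevD4.rank := ⟨1, by decide⟩
  have hc : par A 1 (inc A u) = Pi.mulSingle i1 (inc A u) := by
    funext j
    obtain ⟨j, hj⟩ := j
    have h4 : chevD4.rank = 4 := rfl
    match j, hj with
    | 0, _ => simp [par, i1]; rfl
    | 1, _ => simp [par, i1]; rfl
    | 2, _ => simp [par, i1]; rfl
    | 3, _ => simp [par, i1]; rfl
    | n + 4, h => omega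
  rw [hc, (sys A).torHom_single]
  simp
  rfl

theorem nA_sw' (c : K) : nA A * aN A c * (nA A)⁻¹ = aP A (-c) := by
  have h1 : (nA A)⁻¹ = tG A (-1, 1) * nA A := by
    rw [← nAt_eq A, Units.val_neg, Units.val_one, nAt_neg, nAt_one]
  have h2 : nA A * nA A = (tG A (-1, 1))⁻¹ :=
    eq_inv_of_mul_eq_one_right (by rw [← mul_assoc, ← h1, inv_mul_cancel])
  have h3 : tG A (-1, 1) * aP A (-c) * (tG A (-1, 1))⁻¹ = aP A (-c) := by
    rw [conj_aP, Wt_fst]; simp
  conv_lhs => rw [show aN A c = nA A * aP A (-c) * (nA A)⁻¹ by rw [nA_conj, neg_neg]]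
  calc nA A * (nA A * aP A (-c) * (nA A)⁻¹) * (nA A)⁻¹
      = nA A * nA A * aP A (-c) * (nA A * nA A)⁻¹ := by group
    _ = (tG A (-1, 1))⁻¹ * (tG A (-1, 1) * aP A (-c) * (tG A (-1, 1))⁻¹) * tG A (-1, 1) := by
        rw [h2, h3, inv_inv]
    _ = aP A (-c) := by group

theorem nB_sw' (c : F0 A) : nB A * bN A c * (nB A)⁻¹ = bP A (-c) := by
  have h1 : (nB A)⁻¹ = tG A (1, -1) * nB A := by
    rw [← nBt_eq A, Units.val_neg, Units.val_one, nBt_neg, nBt_one]
  have h2 : nB A * nB A = (tG A (1, -1))⁻¹ :=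
    eq_inv_of_mul_eq_one_right (by rw [← mul_assoc, ← h1, inv_mul_cancel])
  have h3 : tG A (1, -1) * bP A (-c) * (tG A (1, -1))⁻¹ = bP A (-c) := by
    rw [conj_bP]
    congr 1
    have : (((Wt A ((1 : Kˣ), (-1 : (F0 A)ˣ))).2 : (F0 A)ˣ) : F0 A) = 1 := Subtype.ext (by
      rw [Wt_snd]; simp)
    rw [this, one_mul]
  conv_lhs => rw [show bN A c = nB A * bP A (-c) * (nB A)⁻¹ by rw [nB_conj, neg_neg]]
  calc nB A * (nB A * bP A (-c) * (nB A)⁻¹) * (nB A)⁻¹
      = nB A * nB A * bP A (-c) * (nB A * nB A)⁻¹ := by group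
    _ = (tG A (1, -1))⁻¹ * (tG A (1, -1) * bP A (-c) * (tG A (1, -1))⁻¹) * tG A (1, -1) := by
        rw [h2, h3, inv_inv]
    _ = bP A (-c) := by group

/-- A negative root element normalising the positive root subgroup is trivial. -/
theorem neg_normalises {k : ℕ} (hk : k < twD4.nb) {y : GG} (hy : y ∈ negSet A k hk)
    (h : ∀ c ∈ posSet A k, y * c * y⁻¹ ∈ posSet A k) : y = 1 := by
  have hyV : y ∈ UM K q := (negSet_le A hk hy).2
  obtain ⟨c₀, hc₀, e₀⟩ := hy
  have hspan := (gens A).mem_span_conj hk hc₀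
  have hB : (y : GLD) ∈ chevD4.borelSubgroup K := by
    refine mem_borel_of_normalises A fun u hu => ?_
    obtain ⟨a, ha, c, hc, e⟩ := (YY).G.exists_split_pos (twD4.blk k)
      (show (u : GLD) ∈ chevD4.posUnipotent K from hu)
    have hW := ((YY).blk_facts hk).1
    have hn := (gens A).n_act k hk
    obtain ⟨-, hcf⟩ := Gens.split_fix ((gens A).le_Fx ((gens A).n_mem k hk))
      ((YY).G.USub_le_pos _ ha) ((YY).G.USub_le_pos _ hc) ((YY).G.keep_conj hW hn ha)
      ((YY).G.flip_conj hW hn hc) (by rw [← e]; exact (gens A).le_Fx u.2)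
    have gc : c ∈ twistedD4 K q := (gens A).pos_fix_mem ((YY).G.USub_le_pos _ hc) hcf
    have hc' : (⟨c, gc⟩ : GG) ∈ posSet A k :=
      ⟨(YY).G.USub_le_pos _ hc, hcf, (YY).G.flip_conj hW hn hc⟩
    have h1 := (h _ hc').1
    have h2 := (YY).closure_normalizes_keep hk hspan a ha
    rw [← show (y : GLD) = (gens A).n k * (c₀ : GLD) * ((gens A).n k)⁻¹ from
      (congrArg Subtype.val e₀).symm] at h2
    have h3 := mul_mem ((YY).G.USub_le_pos _ h2) h1
    show ((y * u * y⁻¹ : GG) : GLD) ∈ chevD4.posUnipotent K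
    convert h3 using 1
    simp only [Subgroup.coe_mul, Subgroup.coe_inv, e]
    group
  exact Subtype.ext (Subgroup.mem_bot.1 ((YY).G.borel_inf_neg (F := K) ▸
    Subgroup.mem_inf.2 ⟨hB, hyV⟩))

/-- The rank-one configuration of the long orbit. -/
def cA : R1.Cfg GG K where
  P := aP A
  N := aN A
  hP := aP_mul A
  hN := aN_mul A
  inj := aP_inj A
  sw c := by
    rw [show aP A 1 * aN A (-1) * aP A 1 = nA A by rw [← nAt_one, nAt, inv_one]]
    exact nA_conj A c
  sw' c := by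
    rw [show aP A 1 * aN A (-1) * aP A 1 = nA A by rw [← nAt_one, nAt, inv_one]]
    exact nA_sw' A c
  triv e h := by
    have hy := neg_normalises A (k := 1) (by decide) (y := aN A (-e)) ((negA A).2 ⟨_, rfl⟩)
      fun c hc => by
        obtain ⟨s, rfl⟩ := (posA A).1 hc
        obtain ⟨s', hs'⟩ := h (-s)
        refine (posA A).2 ⟨-s', ?_⟩
        rw [← nA_sw' A s', ← hs', ← nA_conj A e,
          show aP A s = nA A * aN A (-s) * (nA A)⁻¹ by rw [nA_sw', neg_neg]]
        group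
    rw [← nA_conj A e, conj_eq_one_iff, ← aP_zero A] at hy
    exact aP_inj A hy

/-- The rank-one configuration of the fixed root. -/
def cB : R1.Cfg GG (F0 A) where
  P := bP A
  N := bN A
  hP := bP_mul A
  hN := bN_mul A
  inj := bP_inj A
  sw c := by
    rw [show bP A 1 * bN A (-1) * bP A 1 = nB A by rw [← nBt_one, nBt, inv_one]]
    exact nB_conj A c
  sw' c := by
    rw [show bP A 1 * bN A (-1) * bP A 1 = nB A by rw [← nBt_one, nBt, inv_one]]
    exact nB_sw' A c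
  triv e h := by
    have hy := neg_normalises A (k := 0) (by decide) (y := bN A (-e)) ((negB A).2 ⟨_, rfl⟩)
      fun c hc => by
        obtain ⟨s, rfl⟩ := (posB A).1 hc
        obtain ⟨s', hs'⟩ := h (-s)
        refine (posB A).2 ⟨-s', ?_⟩
        rw [← nB_sw' A s', ← hs', ← nB_conj A e,
          show bP A s = nB A * bN A (-s) * (nB A)⁻¹ by rw [nB_sw', neg_neg]]
        group
    rw [← nB_conj A e, conj_eq_one_iff, ← bP_zero A] at hy
    exact bP_inj A hy

theorem cA_n (t : K) : (cA A).n t = nAt A t := rfl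

theorem cA_hn (t : K) (ht : t ≠ 0) (s : K) :
    (cA A).n t * (cA A).P s * ((cA A).n t)⁻¹ = (cA A).N (-(s / t ^ 2)) := by
  lift t to Kˣ using IsUnit.mk0 t ht
  show nAt A t * aP A s * (nAt A t)⁻¹ = aN A _
  rw [nAt_eq A, show tG A (t, 1) * nA A * aP A s * (tG A (t, 1) * nA A)⁻¹ =
    tG A (t, 1) * (nA A * aP A s * (nA A)⁻¹) * (tG A (t, 1))⁻¹ by group, nA_conj, conj_aN, Wt_fst]
  congr 1
  simp [div_eq_mul_inv, mul_comm]

theorem cA_hn' (t : K) (ht : t ≠ 0) (s : K) :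
    (cA A).n t * (cA A).N s * ((cA A).n t)⁻¹ = (cA A).P (-(t ^ 2 * s)) := by
  lift t to Kˣ using IsUnit.mk0 t ht
  show nAt A t * aN A s * (nAt A t)⁻¹ = aP A _
  rw [nAt_eq A, show tG A (t, 1) * nA A * aN A s * (tG A (t, 1) * nA A)⁻¹ =
    tG A (t, 1) * (nA A * aN A s * (nA A)⁻¹) * (tG A (t, 1))⁻¹ by group, nA_sw', conj_aP, Wt_fst]
  congr 1
  simp

theorem exists_norm (x : F0 A) (hx : x ≠ 0) : ∃ t : Kˣ, ((Nm A t : (F0 A)ˣ) : F0 A) = x := by
  obtain ⟨g, hg⟩ := IsCyclic.exists_generator (α := Kˣ)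
  have hxK : (x : K) ≠ 0 := fun e => hx (Subtype.ext e)
  obtain ⟨j, hj⟩ := (Subgroup.mem_zpowers_iff).1 (hg (Units.mk0 (x : K) hxK))
  have h1 : g ^ (j * ((q - 1 : ℕ) : ℤ)) = 1 := by
    rw [zpow_mul, hj, zpow_natCast]
    exact (phu_fixed A).1 (Units.ext (F0_fix A x))
  have ho : orderOf g = (q - 1) * (q ^ 2 + q + 1) := by
    rw [orderOf_eq_card_of_forall_mem_zpowers hg, Nat.card_units, Nat.card_eq_fintype_card, A.hK]
    obtain ⟨r, rfl⟩ : ∃ r, q = r + 1 := ⟨q - 1, by have := A.hq.one_lt; omega⟩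
    rw [Nat.add_sub_cancel]
    exact Nat.sub_eq_of_eq_add (by ring)
  have h2 := orderOf_dvd_iff_zpow_eq_one.2 h1
  rw [ho, Nat.cast_mul, mul_comm (((q - 1 : ℕ)) : ℤ)] at h2
  have hq1 : (((q - 1 : ℕ)) : ℤ) ≠ 0 := by have := A.hq.one_lt; omega
  obtain ⟨i, hi⟩ := Int.dvd_of_mul_dvd_mul_right hq1 h2
  refine ⟨g ^ i, Subtype.ext ?_⟩
  rw [Nm_val, A.hphi, A.hphi]
  rw [hi, mul_comm, zpow_mul, zpow_natCast] at hj
  have e := congrArg Units.val hj
  rw [Units.val_mk0, Units.val_pow_eq_pow_val] at e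
  rw [← e]
  ring

/-- An automorphism fixing the two chosen root elements is a field automorphism on the generators. -/
theorem exists_field {θ : MulAut GG} (h : Std θ) (ha : θ (aP A 1) = aP A 1)
    (hb : θ (bP A 1) = bP A 1) : ∃ σ : K ≃+* K,
      (∀ t, θ (aP A t) = aP A (σ t) ∧ θ (aN A t) = aN A (σ t)) ∧
      ∀ x : F0 A, ∃ y : F0 A, (y : K) = σ x ∧ θ (bP A x) = bP A y ∧ θ (bN A x) = bN A y := by
  choose f hf using fun t => (posA A).1 (std_posSet A h (k := 1) (by decide) ((posA A).2 ⟨t, rfl⟩))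
  choose f' hf' using fun t => (negA A).1 (std_negSet A h (k := 1) (by decide) ((negA A).2 ⟨t, rfl⟩))
  choose g hg using fun t => (posB A).1 (std_posSet A h (k := 0) (by decide) ((posB A).2 ⟨t, rfl⟩))
  choose g' hg' using fun t => (negB A).1 (std_negSet A h (k := 0) (by decide) ((negB A).2 ⟨t, rfl⟩))
  have hf1 : f 1 = 1 := aP_inj A ((hf 1).symm.trans ha)
  have hg1 : g 1 = 1 := bP_inj A ((hg 1).symm.trans hb)
  obtain ⟨hn1, hff⟩ := (cA A).map_one_eq hf hf' hf1
  obtain ⟨-, hgg⟩ := (cB A).map_one_eq hg hg' hg1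
  have hfN : ∀ t, θ ((cA A).N t) = (cA A).N (f t) := fun t => by rw [← hff]; exact hf' t
  let σh : K →+* K :=
    { toFun := f
      map_one' := hf1
      map_zero' := by
        have := (cA A).f_add hf 0 0
        rwa [add_zero, left_eq_add] at this
      map_mul' := (cA A).map_mul_eq (cA_hn A) (cA_hn' A) hf hfN hf1
      map_add' := (cA A).f_add hf }
  let σ : K ≃+* K := RingEquiv.ofBijective σh (Finite.injective_iff_bijective.1 σh.injective)
  have hσ : ∀ t, σ t = f t := fun _ => rfl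
  refine ⟨σ, fun t => ⟨hf t, hfN t⟩, fun x => ⟨g x, ?_, hg x, by rw [← hgg]; exact hg' x⟩⟩
  -- compare on the norms
  have hφ : ∀ t, A.phi (σ t) = σ (A.phi t) := fun t => by rw [A.hphi, A.hphi, map_pow]
  have hscale : ∀ (t : Kˣ) (y : F0 A),
      g (((Wt A (t, 1)).2 : F0 A) * y) =
        ((Wt A (Units.map (σ : K →+* K).toMonoidHom t, 1)).2 : F0 A) * g y := by
    intro t y
    obtain ⟨-, hnt, -⟩ := (cA A).map_n (cA_hn A) (cA_hn' A) hf hfN t.ne_zero
    have hT : θ (tG A (t, 1)) = tG A (Units.map (σ : K →+* K).toMonoidHom t, 1) := by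
      refine mul_right_cancel (b := nA A) ?_
      rw [← nAt_eq A, ← cA_n A]
      refine Eq.trans ?_ (congrArg (cA A).n (hσ t)).symm
      rw [← hnt, cA_n A, nAt_eq A, map_mul]
      congr 1
      rw [← nAt_one A, ← cA_n A, hn1]
    have e := congrArg θ (conj_bP A (t, 1) y)
    rw [map_mul, map_mul, map_inv, hT, hg, hg, conj_bP] at e
    exact (bP_inj A e).symm
  rcases eq_or_ne x 0 with rfl | hx
  · have h0 := (cB A).f_add hg 0 0
    rw [add_zero, left_eq_add] at h0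
    rw [h0]; simp
  obtain ⟨t, ht⟩ := exists_norm A x⁻¹ (inv_ne_zero hx)
  have h1 := hscale t 1
  rw [hg1, mul_one, mul_one] at h1
  have hw : ((Wt A (t, 1)).2 : F0 A) = x := Subtype.ext (by
    rw [Wt_snd, ← Nm_val, ht]; simp)
  rw [hw] at h1
  have hxK : (x : K) = ((t : K) * A.phi t * A.phi (A.phi t))⁻¹ := by
    rw [← Nm_val, ht]; simp
  rw [h1, Wt_snd, hxK, map_inv₀, map_mul, map_mul, ← hφ, ← hφ, ← hφ]
  simp

/-! ### Field automorphisms -/

/-- The entrywise map of a ring endomorphism. -/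
noncomputable def fm (σ : K →+* K) : GLD →* GLD := Units.map σ.mapMatrix.toMonoidHom

theorem fm_X (σ : K →+* K) (r : ℕ) (t : K) : fm σ ((YY).G.X K r t) = (YY).G.X K r (σ t) :=
  Units.ext (x_map σ r t)

theorem fm_P (σ : K →+* K) (R : List ℕ) (f : ℕ → K) :
    fm σ (Good'.P (YY).G R f) = Good'.P (YY).G R fun r => σ (f r) := by
  induction R with
  | nil => simp [Good'.P_nil]
  | cons r R ih => rw [Good'.P_cons, Good'.P_cons, map_mul, ih, fm_X A]

theorem map_phi (σ : K →+* K) (x : K) : σ (A.phi x) = A.phi (σ x) := by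
  rw [A.hphi, A.hphi, map_pow]

theorem fixF_map (σ : K →+* K) {R : List ℕ} {f : ℕ → K} (hf : (YY).IsFixF R f) :
    (YY).IsFixF R fun r => σ (f r) := fun r hr => by
  show σ (f _) = _
  rw [hf r hr, map_pow]
  exact congrArg (· ^ _) (map_phi A σ _)

theorem fm_mem (σ : K →+* K) {g : GLD} (hg : g ∈ twistedD4 K q) : fm σ g ∈ twistedD4 K q := by
  suffices h : G1 K q ≤ (G1 K q).comap (fm σ) from h hg
  refine gen_cases A fun k hk => ⟨fun f hf => ?_, fun f hf => ?_⟩
  · show fm σ _ ∈ G1 K q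
    rw [fm_P A]; exact (ab A hk).pos _ (fixF_map A σ hf)
  · show fm σ _ ∈ G1 K q
    rw [fm_P A]; exact (ab A hk).neg _ (fixF_map A σ hf)

/-- A field endomorphism on the group. -/
noncomputable def fG (σ : K →+* K) : GG →* GG :=
  ((fm σ).comp (twistedD4 K q).subtype).codRestrict _ fun g => fm_mem A σ g.2

theorem fG_inj (σ : K →+* K) : Function.Injective (fG A σ) := fun g h e => by
  have e' := congrArg (fun z : GG => ((z : GLD) : Matrix chevD4.Idx chevD4.Idx K)) e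
  exact Subtype.ext (Units.ext (Matrix.map_injective σ.injective e'))

/-- Field automorphisms of the group. -/
noncomputable def fA : (K ≃+* K) →* MulAut GG where
  toFun σ := MulEquiv.ofBijective (fG A (σ : K →+* K)) (Finite.injective_iff_bijective.mp (fG_inj A _))
  map_one' := by
    ext g : 1
    exact Subtype.ext (Units.ext (Matrix.ext fun i j => rfl))
  map_mul' σ τ := by
    ext g : 1
    exact Subtype.ext (Units.ext (Matrix.ext fun i j => rfl))

theorem fA_val (σ : K ≃+* K) (g : GG) : ((fA A σ g : GG) : GLD) = fm (σ : K →+* K) g := rfl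

theorem fA_aP (σ : K ≃+* K) (t : K) : fA A σ (aP A t) = aP A (σ t) := Subtype.ext <| by
  rw [fA_val, aP_val, fm_P A, aP_val]
  refine Good'.P_congr (YY).G fun r _ => ?_
  simp only [fA3]
  split_ifs <;> simp [map_phi A]

theorem fA_aN (σ : K ≃+* K) (t : K) : fA A σ (aN A t) = aN A (σ t) := Subtype.ext <| by
  show fm (σ : K →+* K) (Good'.P (YY).G NA (fN3 A t)) = Good'.P (YY).G NA (fN3 A (σ t))
  rw [fm_P A]
  refine Good'.P_congr (YY).G fun r _ => ?_
  simp only [fN3]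
  split_ifs <;> simp [map_phi A]

theorem fA_bP (σ : K ≃+* K) {x y : F0 A} (e : (y : K) = σ x) : fA A σ (bP A x) = bP A y :=
  Subtype.ext <| by
  rw [fA_val, bP_val, fm_P A, bP_val, e]
  rfl

theorem fA_bN (σ : K ≃+* K) {x y : F0 A} (e : (y : K) = σ x) : fA A σ (bN A x) = bN A y :=
  Subtype.ext <| by
  rw [fA_val, bN_val, fm_P A, bN_val, e]
  rfl

theorem ext_gens {θ ψ : MulAut GG} (h1 : ∀ t, θ (aP A t) = ψ (aP A t) ∧ θ (aN A t) = ψ (aN A t))
    (h2 : ∀ x, θ (bP A x) = ψ (bP A x) ∧ θ (bN A x) = ψ (bN A x)) : θ = ψ := by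
  have hall : G1 K q ≤ (θ.toMonoidHom.eqLocus ψ.toMonoidHom).map (twistedD4 K q).subtype := by
    refine gen_cases A fun k hk => ⟨fun f hf => ?_, fun f hf => ?_⟩
    · set y : GG := ⟨_, (ab A hk).pos f hf⟩ with hy
      have hyp : y ∈ posSet A k := (posSet_iff A hk).2 ⟨f, hf, rfl⟩
      refine ⟨y, ?_, rfl⟩
      match k, hk with
      | 0, _ => obtain ⟨x, e⟩ := (posB A).1 hyp; rw [e]; exact (h2 x).1
      | 1, _ => obtain ⟨x, e⟩ := (posA A).1 hyp; rw [e]; exact (h1 x).1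
      | n + 2, h => exact absurd h (by simp [twD4, TwTab.nb])
    · set y : GG := ⟨_, (ab A hk).neg f hf⟩ with hy
      have hyn : y ∈ negSet A k hk := negSet_of_val A hk rfl
      refine ⟨y, ?_, rfl⟩
      match k, hk with
      | 0, _ => obtain ⟨x, e⟩ := (negB A).1 hyn; rw [e]; exact (h2 x).2
      | 1, _ => obtain ⟨x, e⟩ := (negA A).1 hyn; rw [e]; exact (h1 x).2
      | n + 2, h => exact absurd h (by simp [twD4, TwTab.nb])
  refine MulEquiv.ext fun g => ?_
  obtain ⟨g', hg', e'⟩ := hall g.2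
  rw [← Subtype.ext e']
  exact hg'

theorem std_conj {g : GG} (hg : g ∈ HH K q) : Std (MulAut.conj g) := by
  have hB : (g : GLD) ∈ chevD4.borelSubgroup K := Subgroup.mem_sup_right hg
  constructor
  · refine le_antisymm ?_ fun y hy => ⟨g⁻¹ * y * g, ?_, by simp [mul_assoc]⟩
    · rintro _ ⟨y, hy, rfl⟩
      exact borel_normalises A hB hy
    · have := borel_normalises A (b := g⁻¹) (inv_mem hB) hy
      rwa [inv_inv] at this
  · refine le_antisymm ?_ fun y hy => ⟨g⁻¹ * y * g, ?_, by simp [mul_assoc]⟩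
    · rintro _ ⟨y, hy, rfl⟩
      exact (Subgroup.mem_normalizer_iff.1 ((YY).G.diag_normalizes_neg hg) (y : GLD)).1 hy
    · have := (Subgroup.mem_normalizer_iff.1 ((YY).G.diag_normalizes_neg (inv_mem hg)) (y : GLD)).1 hy
      rwa [inv_inv] at this

/-- Every automorphism is inner times a field automorphism. -/
theorem aut_classify (θ : MulAut GG) : ∃ (g : GG) (σ : K ≃+* K), θ = MulAut.conj g * fA A σ := by
  obtain ⟨x, hx⟩ := exists_conj_std A θ
  set θ1 : MulAut GG := MulAut.conj x * θ with hθ1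
  obtain ⟨a, ha⟩ := (posA A).1 (std_posSet A hx (k := 1) (by decide) ((posA A).2 ⟨1, rfl⟩))
  obtain ⟨b, hb⟩ := (posB A).1 (std_posSet A hx (k := 0) (by decide) ((posB A).2 ⟨1, rfl⟩))
  have ha0 : a ≠ 0 := fun e => one_ne_zero (aP_inj A (θ1.injective (by
    rw [ha, e, aP_zero, map_one]) : aP A 1 = aP A 0))
  have hb0 : b ≠ 0 := fun e => one_ne_zero (bP_inj A (θ1.injective (by
    rw [hb, e, bP_zero, map_one]) : bP A 1 = bP A 0))
  obtain ⟨p, hp⟩ := (Wt_bij A).2 ((Units.mk0 a ha0)⁻¹, (Units.mk0 b hb0)⁻¹)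
  set θ2 : MulAut GG := MulAut.conj (tG A p) * θ1 with hθ2
  have h2 : Std θ2 := (std_conj A (tG_HH A p)).mul hx
  have e1 : θ2 (aP A 1) = aP A 1 := by
    rw [hθ2, MulAut.mul_apply, ha, MulAut.conj_apply, conj_aP, hp]
    simp [ha0]
  have e2 : θ2 (bP A 1) = bP A 1 := by
    rw [hθ2, MulAut.mul_apply, hb, MulAut.conj_apply, conj_bP, hp]
    simp [hb0]
  obtain ⟨σ, hσa, hσb⟩ := exists_field A h2 e1 e2
  have e3 : θ2 = fA A σ := ext_gens A
    (fun t => ⟨(hσa t).1.trans (fA_aP A σ t).symm, (hσa t).2.trans (fA_aN A σ t).symm⟩)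
    fun x => by
      obtain ⟨y, hy, h3, h4⟩ := hσb x
      exact ⟨h3.trans (fA_bP A σ hy).symm, h4.trans (fA_bN A σ hy).symm⟩
  refine ⟨x⁻¹ * (tG A p)⁻¹, σ, ?_⟩
  rw [← e3, hθ2, hθ1, ← mul_assoc, ← map_mul, ← mul_assoc, ← map_mul]
  simp [mul_assoc]

theorem fm_pos (σ : K →+* K) : (chevD4.posUnipotent K) ≤ (chevD4.posUnipotent K).comap (fm σ) :=
  (YY).G.posUnipotent_le_of fun r hr hp t => by
    show fm σ _ ∈ chevD4.posUnipotent K
    rw [fm_X A]; exact (YY).G.X_mem_posUnipotent hr hp _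

theorem fm_neg (σ : K →+* K) : (chevD4.negUnipotent K) ≤ (chevD4.negUnipotent K).comap (fm σ) :=
  (YY).G.negUnipotent_le_of fun r hr hp t => by
    show fm σ _ ∈ chevD4.negUnipotent K
    rw [fm_X A]; exact (YY).G.X_mem_negUnipotent hr hp _

theorem fA_inner {σ : K ≃+* K} (h : fA A σ ∈ Cfsg.Inn GG) : σ = 1 := by
  obtain ⟨g, hg⟩ := h
  have e : ∀ z, g * z * g⁻¹ = fA A σ z := fun z => (MulAut.conj_apply g z).symm.trans (DFunLike.congr_fun hg z)
  have hH : g ∈ HH K q := mem_HH_of_normalises A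
    (fun y hy => by rw [e]; exact fm_pos A _ hy) fun y hy => by rw [e]; exact fm_neg A _ hy
  obtain ⟨t, a, ha, he⟩ := (diag_eq A (g : GLD)).1 ⟨hH, g.2⟩
  have ha' : (a : K) ∈ F0 A := congrArg Units.val ha
  set a' : (F0 A)ˣ := Units.mk0 ⟨(a : K), ha'⟩ fun h0 => a.ne_zero (congrArg Subtype.val h0)
  have hinc : inc A a' = a := Units.ext rfl
  have hge : g = tG A (t, a') := Subtype.ext (by
    rw [he]; show _ = (YY).G.torHom K (par A t (inc A a')); rw [hinc])
  have h1 := e (aP A 1)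
  rw [hge, conj_aP, fA_aP, map_one] at h1
  have h2 := e (bP A 1)
  rw [hge, conj_bP, fA_bP A σ (x := 1) (y := 1) (by simp)] at h2
  have hW : Wt A (t, a') = 1 := Prod.ext
    (Units.ext (by simpa using aP_inj A h1)) (Units.ext (by simpa using bP_inj A h2))
  have hg1 : g = 1 := by
    rw [hge, (Wt_bij A).1 (hW.trans (map_one _).symm), tG_one]
  refine RingEquiv.ext fun z => ?_
  have h3 := e (aP A z)
  rw [hg1, one_mul, inv_one, mul_one, fA_aP] at h3
  exact (aP_inj A h3).symm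

theorem out_card : Nat.card (Cfsg.Out GG) = Nat.card (K ≃+* K) := by
  refine (Nat.card_congr (Equiv.ofBijective
    ((QuotientGroup.mk' (Cfsg.Inn GG)).comp (fA A)) ⟨?_, ?_⟩)).symm
  · rw [injective_iff_map_eq_one]
    intro σ h
    exact fA_inner A ((QuotientGroup.eq_one_iff _).mp h)
  · intro c
    obtain ⟨φ, rfl⟩ := QuotientGroup.mk'_surjective _ c
    obtain ⟨g, σ, rfl⟩ := aut_classify A φ
    refine ⟨σ, ?_⟩
    rw [map_mul]
    show QuotientGroup.mk' _ (fA A σ) = _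
    have h1 : QuotientGroup.mk' (Cfsg.Inn GG) (MulAut.conj g) = 1 :=
      (QuotientGroup.eq_one_iff _).mpr (MonoidHom.mem_range.mpr ⟨g, rfl⟩)
    rw [h1, one_mul]

end Cfsg.Agent.Lib.RankOne.TriAut
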