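import Cfsg.Agent.Lib.RankOne.E6Std
import Cfsg.Agent.Lib.RankOne.TrialityOut
import Cfsg.Agent.Lib.Chev.Aut.Out
import Cfsg.Agent.Lib.Chev.Map
import Cfsg.Prelude.Def_KGroupFacts

/-!
The outer automorphisms of the twisted groups of type E6: diagonal and field automorphisms.
-/

set_option autoImplicit false
set_option maxRecDepth 100000
set_option maxHeartbeats 1000000
set_option linter.unusedSectionVars false

open scoped Matrix

namespace Cfsg.Agent.Lib.RankOne.E6Aut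

open Cfsg.Lie Cfsg.Agent.Lib.Chev Cfsg.Agent.Lib.Chev.Tw Cfsg.Agent.Lib.Chev.Tw.E6

variable {K : Type*} [Field K] [Fintype K] {q : ℕ} (A : Par K q)
include A

set_option quotPrecheck false
local notation "GG" => ↥(twistedE6 K q)
local notation "GLD" => GL chevE6.Idx K
local notation "YY" => Chev.Tw.E6.sys A

/-! ### The fixed field and the parameters -/

/-- The fixed field. -/
def F0 : Subfield K := RingHom.eqLocusField A.phi (RingHom.id K)

theorem F0_fix (x : F0 A) : A.phi (x : K) = x := x.2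

/-- The inclusion of the fixed field. -/
def ι : F0 A →+* K := (F0 A).subtype

theorem ι_fix (x : F0 A) : A.phi (ι A x) = ι A x := x.2

/-- The inclusion of the units of the fixed field. -/
def inc : (F0 A)ˣ →* Kˣ := Units.map (ι A).toMonoidHom

theorem inc_fix (a : (F0 A)ˣ) : phu A (inc A a) = inc A a := Units.ext (ι_fix A _)

theorem inc_val (a : (F0 A)ˣ) : ((inc A a : Kˣ) : K) = ι A (a : F0 A) := rfl

theorem norm_mem (t : K) : t * A.phi t ∈ F0 A := by
  show A.phi _ = _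
  rw [map_mul, phi2 A]
  simp only [RingHom.id_apply]
  ring

/-- The norm. -/
def Nm : Kˣ →* (F0 A)ˣ :=
  MonoidHom.toHomUnits
    { toFun := fun t => ⟨(t : K) * A.phi t, norm_mem A t⟩
      map_one' := Subtype.ext (by simp)
      map_mul' := fun s t => Subtype.ext (by
        simp only [Units.val_mul, map_mul, MulMemClass.coe_mul]; ring) }

theorem Nm_val (t : Kˣ) : ι A ((Nm A t : (F0 A)ˣ) : F0 A) = (t : K) * A.phi t := rfl

local notation "WW" => ((F0 A)ˣ × (F0 A)ˣ × Kˣ × Kˣ)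

/-- First coordinate. -/
def w0 : WW →* (F0 A)ˣ := MonoidHom.fst _ _

/-- Second coordinate. -/
def w1 : WW →* (F0 A)ˣ := (MonoidHom.fst _ _).comp (MonoidHom.snd _ _)

/-- Third coordinate. -/
def w2 : WW →* Kˣ := (MonoidHom.fst _ _).comp ((MonoidHom.snd _ _).comp (MonoidHom.snd _ _))

/-- Fourth coordinate. -/
def w3 : WW →* Kˣ := (MonoidHom.snd _ _).comp ((MonoidHom.snd _ _).comp (MonoidHom.snd _ _))

/-- The parameters as a function on the nodes. -/
def pW (p : WW) : Fin chevE6.rank → Kˣ :=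
  par A (w3 A p) (w2 A p) (inc A (w0 A p)) (inc A (w1 A p))

theorem pW_mul (p p' : WW) : pW A (p * p') = pW A p * pW A p' := by
  simp only [pW, map_mul]
  exact par_mul A _ _ _ _ _ _ _ _

/-- The torus elements. -/
def tG (p : WW) : GG :=
  ⟨(YY).G.torHom K (pW A p), torHom_par_mem A (inc_fix A _) (inc_fix A _)⟩

theorem tG_HH (p : WW) : tG A p ∈ HH K q := (YY).torHom_mem_diag _

theorem tG_val (p : WW) : ((tG A p : GG) : GLD) = (YY).G.torHom K (pW A p) := rfl

/-- The weights of the torus. -/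
def Wt : WW →* WW :=
  ((powMonoidHom 2).comp (w0 A) / w1 A).prod
    (((powMonoidHom 2).comp (w1 A) / (w0 A * (Nm A).comp (w2 A))).prod
      (((powMonoidHom 2).comp (w2 A) / (w3 A * (inc A).comp (w1 A))).prod
        ((powMonoidHom 2).comp (w3 A) / w2 A)))

theorem Wt_w0 (p : WW) : w0 A (Wt A p) = w0 A p ^ 2 / w1 A p := rfl

theorem Wt_w1 (p : WW) : w1 A (Wt A p) = w1 A p ^ 2 / (w0 A p * Nm A (w2 A p)) := rfl

theorem Wt_w2 (p : WW) : w2 A (Wt A p) = w2 A p ^ 2 / (w3 A p * inc A (w1 A p)) := rfl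

theorem Wt_w3 (p : WW) : w3 A (Wt A p) = w3 A p ^ 2 / w2 A p := rfl

/-! ### Coefficients on a block -/

/-- Coefficients on a block with a chosen root. -/
def fF (a : ℕ) (x : K) : ℕ → K := fun r => if r = a then x else A.phi x

theorem fF_add (a : ℕ) (x y : K) (r : ℕ) : fF A a (x + y) r = fF A a x r + fF A a y r := by
  simp only [fF]; split_ifs <;> simp

theorem fF_mul (a : ℕ) (x y : K) (r : ℕ) : fF A a (x * y) r = fF A a x r * fF A a y r := by
  simp only [fF]; split_ifs <;> simp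

theorem fF_neg (a : ℕ) (x : K) (r : ℕ) : fF A a (-x) r = -fF A a x r := by
  simp only [fF]; split_ifs <;> simp

theorem fF_inv (a : ℕ) (x : K) (r : ℕ) : fF A a x⁻¹ r = (fF A a x r)⁻¹ := by
  simp only [fF]; split_ifs <;> simp

theorem fF_one (a : ℕ) (r : ℕ) : fF A a 1 r = 1 := by
  simp only [fF]; split_ifs <;> simp

theorem fF_self (a : ℕ) (x : K) : fF A a x a = x := by simp [fF]

/-- The character with given values on the fundamental roots. -/
def chiW (v : WW) : ℕ → K := fun r => ((rchar tabE6 (pW A v) r : Kˣ) : K)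

/-- The data of a block. -/
structure Blk (L : Type*) [Field L] where
  k : ℕ
  hk : k < twE6.nb
  a : ℕ
  a' : ℕ
  η : L →+* K
  w : WW →* Lˣ
  pr : Lˣ → WW
  ha : a ∈ roots k
  hneg : ∀ r ∈ roots k, ∀ x, fF A a' x (ng chevE6 r) = fF A a x r
  fix : ∀ x : L, (YY).IsFixF (roots k) (fF A a (η x))
  fix' : ∀ x : L, (YY).IsFixF (negl chevE6 (roots k)) (fF A a' (η x))
  sur : ∀ f, (YY).IsFixF (roots k) f → ∃ x : L, ∀ r ∈ roots k, f r = fF A a (η x) r
  htor : ∀ p, ∀ r ∈ roots k,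
    tor chevE6 tabE6 (extOne chevE6 (pW A p)) r = fF A a (η (w (Wt A p) : Lˣ)) r
  hchi : ∀ v, ∀ r ∈ roots k, chiW A v r = fF A a (η (w v : Lˣ)) r
  hpr : ∀ t : Lˣ, ((roots k).map fun r => (YY).G.Hg K r (fF A a (η t) r)).prod =
    (YY).G.torHom K (pW A (pr t))
  hself : ∀ t : Lˣ, w (Wt A (pr t)) = t * t

namespace Blk

variable {L : Type*} [Field L] (B : Blk A L)

theorem lt {r : ℕ} (hr : r ∈ roots B.k) : r < chevE6.nroots := (ab A B.hk).lt hr

theorem lt' {r : ℕ} (hr : r ∈ negl chevE6 (roots B.k)) : r < chevE6.nroots := by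
  obtain ⟨s, hs, rfl⟩ := List.mem_map.1 hr
  exact (YY).G.ng_lt (B.lt A hs)

/-- The root elements. -/
def P (x : L) : GG := ⟨Good'.P (YY).G (roots B.k) (fF A B.a (B.η x)), (ab A B.hk).pos _ (B.fix x)⟩

/-- The opposite elements. -/
def N (x : L) : GG :=
  ⟨Good'.P (YY).G (negl chevE6 (roots B.k)) (fF A B.a' (B.η x)), (ab A B.hk).neg _ (B.fix' x)⟩

theorem P_val (x : L) :
    ((B.P A x : GG) : GLD) = Good'.P (YY).G (roots B.k) (fF A B.a (B.η x)) := rfl

theorem N_val (x : L) :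
    ((B.N A x : GG) : GLD) = Good'.P (YY).G (negl chevE6 (roots B.k)) (fF A B.a' (B.η x)) := rfl

theorem P_mul (x y : L) : B.P A x * B.P A y = B.P A (x + y) := Subtype.ext <| by
  refine (Good'.P_mul (YY).G (p := 0) Nat.cast_zero (Ab.facts (ab A B.hk).chk).2.2.2.1 _
    (fun _ h => h) _ _).trans (Good'.P_congr (YY).G fun r _ => ?_)
  rw [map_add, fF_add A]

theorem N_mul (x y : L) : B.N A x * B.N A y = B.N A (x + y) := Subtype.ext <| by
  refine (Good'.P_mul (YY).G (p := 0) Nat.cast_zero (Ab.facts (ab A B.hk).chk).2.2.2.2.1 _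
    (fun _ h => h) _ _).trans (Good'.P_congr (YY).G fun r _ => ?_)
  rw [map_add, fF_add A]

theorem P_inj : Function.Injective (B.P A) := fun x y e => by
  have h := (ab A B.hk).P_eq_iff.1 (congrArg Subtype.val e) B.a B.ha
  rw [fF_self, fF_self] at h
  exact B.η.injective h

theorem P_zero : B.P A 0 = 1 := mul_eq_left.1 ((B.P_mul A 0 0).trans (by rw [add_zero]))

theorem N_zero : B.N A 0 = 1 := mul_eq_left.1 ((B.N_mul A 0 0).trans (by rw [add_zero]))

/-- The representative. -/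
def n1 : GG := nk A B.k B.hk

theorem n1_conj (c : L) : B.n1 A * B.P A c * (B.n1 A)⁻¹ = B.N A (-c) := Subtype.ext <| by
  refine ((ab A B.hk).wl_conj).trans (Good'.P_congr (YY).G fun s hs => ?_)
  obtain ⟨r, hr, rfl⟩ := List.mem_map.1 hs
  rw [(YY).G.ng_ng (B.lt A hr), map_neg, fF_neg A, B.hneg r hr]

theorem pos_iff {y : GG} : y ∈ posSet A B.k ↔ ∃ x, y = B.P A x := by
  rw [posSet_iff A B.hk]
  constructor
  · rintro ⟨f, hf, e⟩
    obtain ⟨x, hx⟩ := B.sur f hf
    exact ⟨x, Subtype.ext (e.trans (Good'.P_congr (YY).G hx))⟩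
  · rintro ⟨x, rfl⟩
    exact ⟨_, B.fix x, rfl⟩

theorem neg_iff {y : GG} : y ∈ negSet A B.k B.hk ↔ ∃ x, y = B.N A x := by
  constructor
  · rintro ⟨c, hc, rfl⟩
    obtain ⟨x, rfl⟩ := (B.pos_iff A).1 hc
    exact ⟨-x, B.n1_conj A x⟩
  · rintro ⟨x, rfl⟩
    exact ⟨B.P A (-x), (B.pos_iff A).2 ⟨_, rfl⟩, (B.n1_conj A (-x)).trans (by rw [neg_neg])⟩

/-- The exchanging elements. -/
def nt (t : L) : GG := B.P A t * B.N A (-t⁻¹) * B.P A t

theorem nt_val (t : L) : ((B.nt A t : GG) : GLD) =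
    ((roots B.k).map fun r => (YY).G.Ng K r (fF A B.a (B.η t) r)).prod := by
  rw [Good'.nprod_eq (YY).G (Ab.facts (ab A B.hk).chk).2.2.2.2.2.2.2.2.2.1 fun r hr => B.lt A hr]
  show Good'.P (YY).G _ _ * Good'.P (YY).G _ _ * Good'.P (YY).G _ _ = _
  refine congrArg (fun z => _ * z * _) (Good'.P_congr (YY).G fun s hs => ?_)
  obtain ⟨r, hr, rfl⟩ := List.mem_map.1 hs
  rw [(YY).G.ng_ng (B.lt A hr), map_neg, map_inv₀, fF_neg A, fF_inv A, B.hneg r hr]

theorem nt_one : B.nt A 1 = B.n1 A := Subtype.ext <| by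
  rw [B.nt_val A]
  refine Eq.trans ?_ (ab A B.hk).nl_eq.symm
  congr 1
  exact List.map_congr_left fun r _ => by rw [map_one, fF_one A]

theorem nt_neg (t : L) : B.nt A (-t) = (B.nt A t)⁻¹ := by
  have e : ∀ s, B.P A (-s) = (B.P A s)⁻¹ := fun s =>
    (inv_eq_of_mul_eq_one_right (by rw [B.P_mul A, add_neg_cancel, B.P_zero A])).symm
  have e' : ∀ s, B.N A (-s) = (B.N A s)⁻¹ := fun s =>
    (inv_eq_of_mul_eq_one_right (by rw [B.N_mul A, add_neg_cancel, B.N_zero A])).symm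
  rw [nt, nt, inv_neg, e, e']
  group

/-- The torus element of a parameter. -/
def h (t : Lˣ) : GG := tG A (B.pr t)

theorem nt_eq (t : Lˣ) : B.nt A (t : L) = B.h A t * B.n1 A := by
  rw [← B.nt_one A, ← inv_inv (B.nt A 1), ← B.nt_neg A, eq_mul_inv_iff_mul_eq]
  refine Subtype.ext ?_
  rw [h, tG_val, Subgroup.coe_mul, B.nt_val A, B.nt_val A, ← B.hpr]
  have hm : ((roots B.k).map fun r => (YY).G.Ng K r (fF A B.a (B.η (-1)) r)) =
      (roots B.k).map fun r => (YY).G.Ng K r (-1) :=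
    List.map_congr_left fun r _ => by rw [map_neg, map_one, fF_neg A, fF_one A]
  rw [hm, ← Good'.hprod_eq (YY).G (Ab.facts (ab A B.hk).chk).2.2.2.2.2.2.2.2.2.1]

theorem conj_gen {g : GLD} {χ : ℕ → K} (hg : (g : Matrix chevE6.Idx chevE6.Idx K) = dmat chevE6 χ)
    (hχ : IsChar chevE6 tabE6 χ) {c : Lˣ}
    (hv : ∀ r ∈ roots B.k, χ r = fF A B.a (B.η (c : L)) r) (x : L) :
    g * (B.P A x : GLD) * g⁻¹ = (B.P A ((c : L) * x) : GLD) ∧
      g * (B.N A x : GLD) * g⁻¹ = (B.N A (((c⁻¹ : Lˣ) : L) * x) : GLD) := by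
  constructor
  · rw [B.P_val, B.P_val, (YY).conj_P hg hχ fun r hr => B.lt A hr]
    refine Good'.P_congr (YY).G fun r hr => ?_
    rw [map_mul, fF_mul A, hv r hr]
  · rw [B.N_val, B.N_val, (YY).conj_P hg hχ fun r hr => B.lt' A hr]
    refine Good'.P_congr (YY).G fun s hs => ?_
    obtain ⟨r, hr, rfl⟩ := List.mem_map.1 hs
    rw [map_mul, fF_mul A, B.hneg r hr, B.hneg r hr, eq_inv_of_mul_eq_one_left (hχ.neg r (B.lt A hr)),
      hv r hr, Units.val_inv_eq_inv_val, map_inv₀, fF_inv A]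

theorem tG_P (p : WW) (x : L) :
    tG A p * B.P A x * (tG A p)⁻¹ = B.P A ((B.w (Wt A p) : L) * x) :=
  Subtype.ext (B.conj_gen A ((YY).G.torHom_val _)
    ((YY).G.isChar_tor fun i _ => extOne_ne_zero _ i) (B.htor p) x).1

theorem tG_N (p : WW) (x : L) :
    tG A p * B.N A x * (tG A p)⁻¹ = B.N A ((((B.w (Wt A p))⁻¹ : Lˣ) : L) * x) :=
  Subtype.ext (B.conj_gen A ((YY).G.torHom_val _)
    ((YY).G.isChar_tor fun i _ => extOne_ne_zero _ i) (B.htor p) x).2

theorem sw' (c : L) : B.n1 A * B.N A c * (B.n1 A)⁻¹ = B.P A (-c) := by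
  have h1 : (B.n1 A)⁻¹ = B.h A (-1) * B.n1 A := by
    rw [← B.nt_eq A, Units.val_neg, Units.val_one, B.nt_neg A, B.nt_one A]
  have h2 : B.n1 A * B.n1 A = (B.h A (-1))⁻¹ :=
    eq_inv_of_mul_eq_one_right (by rw [← mul_assoc, ← h1, inv_mul_cancel])
  have h3 : B.h A (-1) * B.P A (-c) * (B.h A (-1))⁻¹ = B.P A (-c) := by
    rw [h, B.tG_P A, B.hself]; simp
  conv_lhs => rw [show B.N A c = B.n1 A * B.P A (-c) * (B.n1 A)⁻¹ by rw [B.n1_conj A, neg_neg]]
  calc B.n1 A * (B.n1 A * B.P A (-c) * (B.n1 A)⁻¹) * (B.n1 A)⁻¹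
      = B.n1 A * B.n1 A * B.P A (-c) * (B.n1 A * B.n1 A)⁻¹ := by group
    _ = (B.h A (-1))⁻¹ * (B.h A (-1) * B.P A (-c) * (B.h A (-1))⁻¹) * B.h A (-1) := by
        rw [h2, h3, inv_inv]
    _ = B.P A (-c) := by group

end Blk

/-- A negative root element normalising the positive root subgroup is trivial. -/
theorem neg_normalises {k : ℕ} (hk : k < twE6.nb) {y : GG} (hy : y ∈ negSet A k hk)
    (h : ∀ c ∈ posSet A k, y * c * y⁻¹ ∈ posSet A k) : y = 1 := by
  have hyV : y ∈ UM K q := (negSet_le A hk hy).2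
  obtain ⟨c₀, hc₀, e₀⟩ := hy
  have hspan := (gens A).mem_span_conj hk hc₀
  have hB : (y : GLD) ∈ chevE6.borelSubgroup K := by
    refine mem_borel_of_normalises A fun u hu => ?_
    obtain ⟨a, ha, c, hc, e⟩ := (YY).G.exists_split_pos (twE6.blk k)
      (show (u : GLD) ∈ chevE6.posUnipotent K from hu)
    have hW := ((YY).blk_facts hk).1
    have hn := (gens A).n_act k hk
    obtain ⟨-, hcf⟩ := Gens.split_fix ((gens A).le_Fx ((gens A).n_mem k hk))
      ((YY).G.USub_le_pos _ ha) ((YY).G.USub_le_pos _ hc) ((YY).G.keep_conj hW hn ha)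
      ((YY).G.flip_conj hW hn hc) (by rw [← e]; exact (gens A).le_Fx u.2)
    have gc : c ∈ twistedE6 K q := (gens A).pos_fix_mem ((YY).G.USub_le_pos _ hc) hcf
    have hc' : (⟨c, gc⟩ : GG) ∈ posSet A k :=
      ⟨(YY).G.USub_le_pos _ hc, hcf, (YY).G.flip_conj hW hn hc⟩
    have h1 := (h _ hc').1
    have h2 := (YY).closure_normalizes_keep hk hspan a ha
    rw [← show (y : GLD) = (gens A).n k * (c₀ : GLD) * ((gens A).n k)⁻¹ from
      (congrArg Subtype.val e₀).symm] at h2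
    have h3 := mul_mem ((YY).G.USub_le_pos _ h2) h1
    show ((y * u * y⁻¹ : GG) : GLD) ∈ chevE6.posUnipotent K
    convert h3 using 1
    simp only [Subgroup.coe_mul, Subgroup.coe_inv, e]
    group
  exact Subtype.ext (Subgroup.mem_bot.1 ((YY).G.borel_inf_neg (F := K) ▸
    Subgroup.mem_inf.2 ⟨hB, hyV⟩))

namespace Blk

variable {L : Type*} [Field L] (B : Blk A L)

/-- The rank-one configuration of a block. -/
def cfg : TriAut.R1.Cfg GG L where
  P := B.P A
  N := B.N A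
  hP := B.P_mul A
  hN := B.N_mul A
  inj := B.P_inj A
  sw c := by
    rw [show B.P A 1 * B.N A (-1) * B.P A 1 = B.n1 A by rw [← B.nt_one A, nt, inv_one]]
    exact B.n1_conj A c
  sw' c := by
    rw [show B.P A 1 * B.N A (-1) * B.P A 1 = B.n1 A by rw [← B.nt_one A, nt, inv_one]]
    exact B.sw' A c
  triv e h := by
    have hy := neg_normalises A B.hk (y := B.N A (-e)) ((B.neg_iff A).2 ⟨_, rfl⟩)
      fun c hc => by
        obtain ⟨s, rfl⟩ := (B.pos_iff A).1 hc
        obtain ⟨s', hs'⟩ := h (-s)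
        refine (B.pos_iff A).2 ⟨-s', ?_⟩
        rw [← B.sw' A s', ← hs', ← B.n1_conj A e,
          show B.P A s = B.n1 A * B.N A (-s) * (B.n1 A)⁻¹ by rw [B.sw' A, neg_neg]]
        group
    rw [← B.n1_conj A e, conj_eq_one_iff, ← B.P_zero A] at hy
    exact B.P_inj A hy

theorem cfg_n (t : L) : (B.cfg A).n t = B.nt A t := rfl

theorem hn (t : L) (ht : t ≠ 0) (s : L) :
    (B.cfg A).n t * (B.cfg A).P s * ((B.cfg A).n t)⁻¹ = (B.cfg A).N (-(s / t ^ 2)) := by
  lift t to Lˣ using IsUnit.mk0 t ht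
  show B.nt A t * B.P A s * (B.nt A t)⁻¹ = B.N A _
  rw [B.nt_eq A, show B.h A t * B.n1 A * B.P A s * (B.h A t * B.n1 A)⁻¹ =
    B.h A t * (B.n1 A * B.P A s * (B.n1 A)⁻¹) * (B.h A t)⁻¹ by group, B.n1_conj A, h, B.tG_N A,
    B.hself]
  congr 1
  simp [div_eq_mul_inv, sq, mul_comm]

theorem hn' (t : L) (ht : t ≠ 0) (s : L) :
    (B.cfg A).n t * (B.cfg A).N s * ((B.cfg A).n t)⁻¹ = (B.cfg A).P (-(t ^ 2 * s)) := by
  lift t to Lˣ using IsUnit.mk0 t ht
  show B.nt A t * B.N A s * (B.nt A t)⁻¹ = B.P A _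
  rw [B.nt_eq A, show B.h A t * B.n1 A * B.N A s * (B.h A t * B.n1 A)⁻¹ =
    B.h A t * (B.n1 A * B.N A s * (B.n1 A)⁻¹) * (B.h A t)⁻¹ by group, B.sw' A, h, B.tG_P A,
    B.hself]
  congr 1
  simp [sq]

/-- An automorphism preserving the subgroups acts on a block by a field endomorphism. -/
theorem blk_field [Finite L] {θ : MulAut GG} (hθ : Std θ) (h1 : θ (B.P A 1) = B.P A 1) :
    ∃ σ : L →+* L, (∀ x, θ (B.P A x) = B.P A (σ x) ∧ θ (B.N A x) = B.N A (σ x)) ∧
      ∀ t : Lˣ, θ (B.h A t) = B.h A (Units.map σ.toMonoidHom t) := by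
  choose f hf using fun x => (B.pos_iff A).1 (std_posSet A hθ B.hk ((B.pos_iff A).2 ⟨x, rfl⟩))
  choose f' hf' using fun x => (B.neg_iff A).1 (std_negSet A hθ B.hk ((B.neg_iff A).2 ⟨x, rfl⟩))
  have hf1 : f 1 = 1 := B.P_inj A ((hf 1).symm.trans h1)
  obtain ⟨hn1, hff⟩ := (B.cfg A).map_one_eq hf hf' hf1
  have hfN : ∀ t, θ ((B.cfg A).N t) = (B.cfg A).N (f t) := fun t => by rw [← hff]; exact hf' t
  let σ : L →+* L :=
    { toFun := f
      map_one' := hf1
      map_zero' := by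
        have := (B.cfg A).f_add hf 0 0
        rwa [add_zero, left_eq_add] at this
      map_mul' := (B.cfg A).map_mul_eq (B.hn A) (B.hn' A) hf hfN hf1
      map_add' := (B.cfg A).f_add hf }
  refine ⟨σ, fun x => ⟨hf x, hfN x⟩, fun t => ?_⟩
  obtain ⟨-, hnt, -⟩ := (B.cfg A).map_n (B.hn A) (B.hn' A) hf hfN t.ne_zero
  refine mul_right_cancel (b := B.n1 A) ?_
  rw [← B.nt_eq A]
  rw [cfg_n, cfg_n, B.nt_eq A, map_mul, ← B.nt_one A, ← B.cfg_n A 1, hn1, B.cfg_n A 1] at hnt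
  rw [← B.nt_one A]
  exact hnt

theorem cross {M : Type*} [Field M] (C : Blk A M) {θ : MulAut GG} {σ : L →+* L} {τ : M →+* M}
    (hσ : ∀ t : Lˣ, θ (B.h A t) = B.h A (Units.map σ.toMonoidHom t))
    (hτ : ∀ x, θ (C.P A x) = C.P A (τ x) ∧ θ (C.N A x) = C.N A (τ x)) (t : Lˣ) :
    τ ((C.w (Wt A (B.pr t)) : M)) = (C.w (Wt A (B.pr (Units.map σ.toMonoidHom t))) : M) := by
  have e := congrArg θ (C.tG_P A (B.pr t) 1)
  rw [map_mul, map_mul, map_inv, (hτ _).1, (hτ _).1, map_one, mul_one] at e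
  rw [show θ (tG A (B.pr t)) = _ from hσ t] at e
  have e2 : B.h A (Units.map σ.toMonoidHom t) * C.P A 1 * (B.h A (Units.map σ.toMonoidHom t))⁻¹ =
      C.P A _ := C.tG_P A _ 1
  rw [e2, mul_one] at e
  exact (C.P_inj A e).symm

end Blk

/-! ### The four blocks -/

theorem fix_single {a : ℕ} (ha : a = 46 ∨ a = 25 ∨ a = 39 ∨ a = 32) (x : F0 A) :
    (YY).IsFixF [a] (fF A a (ι A x)) := (fix0 A ha).2 (by rw [fF_self, ι_fix])

theorem fix_pair {a b : ℕ}
    (h : (a, b) = (56, 36) ∨ (a, b) = (15, 35) ∨ (a, b) = (42, 37) ∨ (a, b) = (29, 34)) (x : K) :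
    (YY).IsFixF [a, b] (fF A a x) := by
  refine (fix1 A h).2 ?_
  simp only [Prod.mk.injEq] at h
  rcases h with ⟨rfl, rfl⟩ | ⟨rfl, rfl⟩ | ⟨rfl, rfl⟩ | ⟨rfl, rfl⟩ <;> simp [fF]

theorem rchar_head (v : WW) :
    chiW A v 56 = (w3 A v : K) ∧ chiW A v 46 = ι A (w0 A v : (F0 A)ˣ) ∧
    chiW A v 42 = (w2 A v : K) ∧ chiW A v 39 = ι A (w1 A v : (F0 A)ˣ) ∧
    chiW A v 37 = A.phi (w2 A v : K) ∧ chiW A v 36 = A.phi (w3 A v : K) := by
  have key : ∀ (i : ℕ) (hi : i < chevE6.rank),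
      chiW A v (sim chevE6 i) = ((pW A v ⟨i, hi⟩ : Kˣ) : K) := fun i hi =>
    congrArg Units.val ((YY).G.rchar_sim (pW A v) ⟨i, hi⟩)
  have k0 := key 0 (by decide)
  have k1 := key 1 (by decide)
  have k2 := key 2 (by decide)
  have k3 := key 3 (by decide)
  have k4 := key 4 (by decide)
  have k5 := key 5 (by decide)
  exact ⟨k0, k1, k2, k3, k4, k5⟩

theorem tor_head (p : WW) :
    tor chevE6 tabE6 (extOne chevE6 (pW A p)) 56 = (w3 A (Wt A p) : K) ∧
    tor chevE6 tabE6 (extOne chevE6 (pW A p)) 46 = ι A (w0 A (Wt A p) : (F0 A)ˣ) ∧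
    tor chevE6 tabE6 (extOne chevE6 (pW A p)) 42 = (w2 A (Wt A p) : K) ∧
    tor chevE6 tabE6 (extOne chevE6 (pW A p)) 39 = ι A (w1 A (Wt A p) : (F0 A)ˣ) ∧
    tor chevE6 tabE6 (extOne chevE6 (pW A p)) 37 = A.phi (w2 A (Wt A p) : K) ∧
    tor chevE6 tabE6 (extOne chevE6 (pW A p)) 36 = A.phi (w3 A (Wt A p) : K) := by
  obtain ⟨p56, p46, p42, p39, p37, p36⟩ :=
    tor_par A (w3 A p) (w2 A p) (inc A (w0 A p)) (inc A (w1 A p))
  unfold pW
  rw [p56, p46, p42, p39, p37, p36, Wt_w0, Wt_w1, Wt_w2, Wt_w3]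
  have hb : A.phi (ι A (w1 A p : (F0 A)ˣ)) = ι A (w1 A p : (F0 A)ˣ) := ι_fix A _
  refine ⟨?_, ?_, ?_, ?_, ?_, ?_⟩ <;>
    simp [div_eq_mul_inv, inc_val, Nm_val, hb, mul_assoc, mul_comm, mul_left_comm]

/-- The first block. -/
def B0 : Blk A (F0 A) where
  k := 0
  hk := by decide
  a := 46
  a' := 25
  η := ι A
  w := w0 A
  pr t := (t, 1, 1, 1)
  ha := by decide
  hneg r hr x := by
    simp only [roots, List.mem_singleton] at hr; subst hr
    rw [show ng chevE6 46 = 25 by decide +kernel, fF_self, fF_self]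
  fix := fix_single A (Or.inl rfl)
  fix' x := by
    rw [negl_roots.1]; exact fix_single A (Or.inr (Or.inl rfl)) x
  sur f hf := by
    refine ⟨⟨f 46, (fix0 A (Or.inl rfl)).1 hf⟩, fun r hr => ?_⟩
    simp only [roots, List.mem_singleton] at hr; subst hr
    rw [fF_self]; rfl
  htor p r hr := by
    simp only [roots, List.mem_singleton] at hr; subst hr
    rw [fF_self, (tor_head A p).2.1]
  hchi v r hr := by
    simp only [roots, List.mem_singleton] at hr; subst hr
    rw [fF_self, (rchar_head A v).2.1]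
  hpr t := by
    refine Eq.trans ?_ ((tor_blk0 A (inc A t)).trans ?_)
    · simp [roots, fF, inc_val]
    · simp [pW, w0, w1, w2, w3]
  hself t := by
    rw [Wt_w0]
    simp [w0, w1, sq]

/-- The second block. -/
def B1 : Blk A (F0 A) where
  k := 1
  hk := by decide
  a := 39
  a' := 32
  η := ι A
  w := w1 A
  pr t := (1, t, 1, 1)
  ha := by decide
  hneg r hr x := by
    simp only [roots, List.mem_singleton] at hr; subst hr
    rw [show ng chevE6 39 = 32 by decide +kernel, fF_self, fF_self]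
  fix := fix_single A (Or.inr (Or.inr (Or.inl rfl)))
  fix' x := by
    rw [negl_roots.2.1]; exact fix_single A (Or.inr (Or.inr (Or.inr rfl))) x
  sur f hf := by
    refine ⟨⟨f 39, (fix0 A (Or.inr (Or.inr (Or.inl rfl)))).1 hf⟩, fun r hr => ?_⟩
    simp only [roots, List.mem_singleton] at hr; subst hr
    rw [fF_self]; rfl
  htor p r hr := by
    simp only [roots, List.mem_singleton] at hr; subst hr
    rw [fF_self, (tor_head A p).2.2.2.1]
  hchi v r hr := by
    simp only [roots, List.mem_singleton] at hr; subst hr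
    rw [fF_self, (rchar_head A v).2.2.2.1]
  hpr t := by
    refine Eq.trans ?_ ((tor_blk1 A (inc A t)).trans ?_)
    · simp [roots, fF, inc_val]
    · simp [pW, w0, w1, w2, w3]
  hself t := by
    rw [Wt_w1]
    simp [w0, w1, w2, sq]

/-- The third block. -/
def B2 : Blk A K where
  k := 2
  hk := by decide
  a := 42
  a' := 29
  η := RingHom.id K
  w := w2 A
  pr t := (1, 1, t, 1)
  ha := by decide
  hneg r hr x := by
    simp only [roots, List.mem_cons, List.not_mem_nil, or_false] at hr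
    rcases hr with rfl | rfl
    · rw [show ng chevE6 42 = 29 by decide +kernel]; simp [fF]
    · rw [show ng chevE6 37 = 34 by decide +kernel]; simp [fF]
  fix := fix_pair A (Or.inr (Or.inr (Or.inl rfl)))
  fix' x := by
    rw [negl_roots.2.2.1]; exact fix_pair A (Or.inr (Or.inr (Or.inr rfl))) x
  sur f hf := by
    refine ⟨f 42, fun r hr => ?_⟩
    have h := (fix1 A (Or.inr (Or.inr (Or.inl rfl)))).1 hf
    simp only [roots, List.mem_cons, List.not_mem_nil, or_false] at hr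
    rcases hr with rfl | rfl <;> simp [fF, h]
  htor p r hr := by
    obtain ⟨-, -, h42, -, h37, -⟩ := tor_head A p
    simp only [roots, List.mem_cons, List.not_mem_nil, or_false] at hr
    rcases hr with rfl | rfl <;> simp [fF, h42, h37]
  hchi v r hr := by
    obtain ⟨-, -, h42, -, h37, -⟩ := rchar_head A v
    simp only [roots, List.mem_cons, List.not_mem_nil, or_false] at hr
    rcases hr with rfl | rfl <;> simp [fF, h42, h37]
  hpr t := by
    refine Eq.trans ?_ ((tor_blk2 A t).trans ?_)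
    · simp [roots, fF]
    · simp [pW, w0, w1, w2, w3]
  hself t := by
    rw [Wt_w2]
    simp [w1, w2, w3, sq]

/-- The fourth block. -/
def B3 : Blk A K where
  k := 3
  hk := by decide
  a := 56
  a' := 15
  η := RingHom.id K
  w := w3 A
  pr t := (1, 1, 1, t)
  ha := by decide
  hneg r hr x := by
    simp only [roots, List.mem_cons, List.not_mem_nil, or_false] at hr
    rcases hr with rfl | rfl
    · rw [show ng chevE6 56 = 15 by decide +kernel]; simp [fF]
    · rw [show ng chevE6 36 = 35 by decide +kernel]; simp [fF]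
  fix := fix_pair A (Or.inl rfl)
  fix' x := by
    rw [negl_roots.2.2.2]; exact fix_pair A (Or.inr (Or.inl rfl)) x
  sur f hf := by
    refine ⟨f 56, fun r hr => ?_⟩
    have h := (fix1 A (Or.inl rfl)).1 hf
    simp only [roots, List.mem_cons, List.not_mem_nil, or_false] at hr
    rcases hr with rfl | rfl <;> simp [fF, h]
  htor p r hr := by
    obtain ⟨h56, -, -, -, -, h36⟩ := tor_head A p
    simp only [roots, List.mem_cons, List.not_mem_nil, or_false] at hr
    rcases hr with rfl | rfl <;> simp [fF, h56, h36]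
  hchi v r hr := by
    obtain ⟨h56, -, -, -, -, h36⟩ := rchar_head A v
    simp only [roots, List.mem_cons, List.not_mem_nil, or_false] at hr
    rcases hr with rfl | rfl <;> simp [fF, h56, h36]
  hpr t := by
    refine Eq.trans ?_ ((tor_blk3 A t).trans ?_)
    · simp [roots, fF]
    · simp [pW, w0, w1, w2, w3]
  hself t := by
    rw [Wt_w3]
    simp [w2, w3, sq]

theorem exists_norm (x : (F0 A)ˣ) : ∃ t : Kˣ, Nm A t = x := by
  obtain ⟨g, hg⟩ := IsCyclic.exists_generator (α := Kˣ)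
  obtain ⟨j, hj⟩ := (Subgroup.mem_zpowers_iff).1 (hg (inc A x))
  have h1 : g ^ (j * ((q - 1 : ℕ) : ℤ)) = 1 := by
    rw [zpow_mul, hj, zpow_natCast]
    exact (phu_fixed A).1 (inc_fix A x)
  have ho : orderOf g = (q - 1) * (q + 1) := by
    rw [orderOf_eq_card_of_forall_mem_zpowers hg, Nat.card_units, Nat.card_eq_fintype_card, A.hK]
    obtain ⟨r, rfl⟩ : ∃ r, q = r + 1 := ⟨q - 1, by have := A.hq.one_lt; omega⟩
    rw [Nat.add_sub_cancel]
    exact Nat.sub_eq_of_eq_add (by ring)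
  have h2 := orderOf_dvd_iff_zpow_eq_one.2 h1
  rw [ho, Nat.cast_mul, mul_comm (((q - 1 : ℕ)) : ℤ)] at h2
  have hq1 : (((q - 1 : ℕ)) : ℤ) ≠ 0 := by have := A.hq.one_lt; omega
  obtain ⟨i, hi⟩ := Int.dvd_of_mul_dvd_mul_right hq1 h2
  refine ⟨g ^ i, Units.ext (Subtype.ext ?_)⟩
  show ι A ((Nm A (g ^ i) : (F0 A)ˣ) : F0 A) = ι A (x : F0 A)
  rw [Nm_val, A.hphi, ← inc_val, ← hj, hi, zpow_mul', zpow_natCast,
    Units.val_pow_eq_pow_val]
  ring

/-- An automorphism fixing the four chosen root elements is a field automorphism on the generators. -/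
theorem exists_field {θ : MulAut GG} (h : Std θ) (h0 : θ ((B0 A).P A 1) = (B0 A).P A 1)
    (h1 : θ ((B1 A).P A 1) = (B1 A).P A 1) (h2 : θ ((B2 A).P A 1) = (B2 A).P A 1)
    (h3 : θ ((B3 A).P A 1) = (B3 A).P A 1) :
    ∃ (σ : K ≃+* K) (τ : F0 A →+* F0 A), (∀ x, ι A (τ x) = σ (ι A x)) ∧
      (∀ x, θ ((B0 A).P A x) = (B0 A).P A (τ x) ∧ θ ((B0 A).N A x) = (B0 A).N A (τ x)) ∧
      (∀ x, θ ((B1 A).P A x) = (B1 A).P A (τ x) ∧ θ ((B1 A).N A x) = (B1 A).N A (τ x)) ∧
      (∀ x, θ ((B2 A).P A x) = (B2 A).P A (σ x) ∧ θ ((B2 A).N A x) = (B2 A).N A (σ x)) ∧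
      (∀ x, θ ((B3 A).P A x) = (B3 A).P A (σ x) ∧ θ ((B3 A).N A x) = (B3 A).N A (σ x)) := by
  obtain ⟨τ0, hτ0, -⟩ := (B0 A).blk_field A h h0
  obtain ⟨τ1, hτ1, hh1⟩ := (B1 A).blk_field A h h1
  obtain ⟨σ2, hσ2, hh2⟩ := (B2 A).blk_field A h h2
  obtain ⟨σ3, hσ3, -⟩ := (B3 A).blk_field A h h3
  have e32 : σ3 = σ2 := by
    refine RingHom.ext fun x => ?_
    rcases eq_or_ne x 0 with rfl | hx
    · simp
    have e := (B2 A).cross A (B3 A) hh2 hσ3 (Units.mk0 x hx)
    change σ3 (w3 A (Wt A (1, 1, Units.mk0 x hx, 1)) : K) =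
      (w3 A (Wt A (1, 1, Units.map σ2.toMonoidHom (Units.mk0 x hx), 1)) : K) at e
    rw [Wt_w3, Wt_w3] at e
    simp [w2, w3] at e
    exact e
  have e01 : τ0 = τ1 := by
    refine RingHom.ext fun x => ?_
    rcases eq_or_ne x 0 with rfl | hx
    · simp
    have e := (B1 A).cross A (B0 A) hh1 hτ0 (Units.mk0 x hx)
    change τ0 (w0 A (Wt A (1, Units.mk0 x hx, 1, 1)) : F0 A) =
      (w0 A (Wt A (1, Units.map τ1.toMonoidHom (Units.mk0 x hx), 1, 1)) : F0 A) at e
    rw [Wt_w0, Wt_w0] at e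
    simp [w0, w1] at e
    exact e
  have hφ : ∀ t, A.phi (σ2 t) = σ2 (A.phi t) := fun t => by rw [A.hphi, A.hphi, map_pow]
  have e12 : ∀ x, ι A (τ1 x) = σ2 (ι A x) := by
    intro x
    rcases eq_or_ne x 0 with rfl | hx
    · simp
    obtain ⟨t, ht⟩ := exists_norm A (Units.mk0 x hx)
    have e := (B2 A).cross A (B1 A) hh2 hτ1 t
    change τ1 (w1 A (Wt A (1, 1, t, 1)) : F0 A) =
      (w1 A (Wt A (1, 1, Units.map σ2.toMonoidHom t, 1)) : F0 A) at e
    rw [Wt_w1, Wt_w1] at e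
    simp [w0, w1, w2, ht] at e
    have e2 := congrArg (ι A) e
    rw [Nm_val] at e2
    rw [e2, ← show ι A ((Nm A t : (F0 A)ˣ) : F0 A) = ι A x by rw [ht]; rfl, Nm_val, map_mul, ← hφ]
    rfl
  subst e32
  subst e01
  exact ⟨RingEquiv.ofBijective σ3 (Finite.injective_iff_bijective.1 σ3.injective), τ0, e12, hτ0,
    hτ1, hσ2, hσ3⟩

/-! ### Diagonal automorphisms -/

theorem chiW_char (v : WW) : IsChar chevE6 tabE6 (chiW A v) :=
  (YY).G.isChar_of_rootChar ((YY).G.rchar_isRootCharacter _)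

theorem chiW_mul (v v' : WW) (r : ℕ) : chiW A (v * v') r = chiW A v r * chiW A v' r := by
  simp only [chiW, rchar, pW_mul, Pi.mul_apply, mul_zpow, Finset.prod_mul_distrib, Units.val_mul]

/-- The diagonal elements. -/
noncomputable def CW : WW →* GLD :=
  MonoidHom.toHomUnits
    { toFun := fun v => dmat chevE6 (chiW A v)
      map_one' := by
        rw [← dmat_one]
        refine dmat_congr fun r _ => ?_
        have h := chiW_mul A 1 1 r
        rw [mul_one] at h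
        exact mul_left_cancel₀ (Units.ne_zero _) (h.symm.trans (mul_one _).symm)
      map_mul' := fun v v' => by
        rw [dmat_mul]; exact dmat_congr fun r _ => chiW_mul A v v' r }

theorem CW_val (v : WW) : ((CW A v : GLD) : Matrix chevE6.Idx chevE6.Idx K) = dmat chevE6 (chiW A v) :=
  rfl

theorem gen_blocks {H : Subgroup GG}
    (h0 : ∀ x, (B0 A).P A x ∈ H ∧ (B0 A).N A x ∈ H) (h1 : ∀ x, (B1 A).P A x ∈ H ∧ (B1 A).N A x ∈ H)
    (h2 : ∀ x, (B2 A).P A x ∈ H ∧ (B2 A).N A x ∈ H) (h3 : ∀ x, (B3 A).P A x ∈ H ∧ (B3 A).N A x ∈ H) :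
    ∀ g : GG, g ∈ H := by
  have key : ∀ {L : Type _} [Field L] (B : Blk A L), (∀ x, B.P A x ∈ H ∧ B.N A x ∈ H) →
      (∀ y, y ∈ posSet A B.k → y ∈ H) ∧ ∀ y, y ∈ negSet A B.k B.hk → y ∈ H := by
    intro L _ B hB
    refine ⟨fun y hy => ?_, fun y hy => ?_⟩
    · obtain ⟨x, rfl⟩ := (B.pos_iff A).1 hy; exact (hB x).1
    · obtain ⟨x, rfl⟩ := (B.neg_iff A).1 hy; exact (hB x).2
  have hall : G1 K q ≤ H.map (twistedE6 K q).subtype := by
    refine gen_cases A fun k hk => ⟨fun f hf => ?_, fun f hf => ?_⟩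
    · set y : GG := ⟨_, (ab A hk).pos f hf⟩ with hy
      have hyp : y ∈ posSet A k := (posSet_iff A hk).2 ⟨f, hf, rfl⟩
      refine ⟨y, ?_, rfl⟩
      match k, hk with
      | 0, _ => exact (key (B0 A) h0).1 y hyp
      | 1, _ => exact (key (B1 A) h1).1 y hyp
      | 2, _ => exact (key (B2 A) h2).1 y hyp
      | 3, _ => exact (key (B3 A) h3).1 y hyp
      | n + 4, h => exact absurd h (by simp [twE6, TwTab.nb])
    · set y : GG := ⟨_, (ab A hk).neg f hf⟩ with hy
      have hyn : y ∈ negSet A k hk := negSet_of_val A hk rfl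
      refine ⟨y, ?_, rfl⟩
      match k, hk with
      | 0, _ => exact (key (B0 A) h0).2 y hyn
      | 1, _ => exact (key (B1 A) h1).2 y hyn
      | 2, _ => exact (key (B2 A) h2).2 y hyn
      | 3, _ => exact (key (B3 A) h3).2 y hyn
      | n + 4, h => exact absurd h (by simp [twE6, TwTab.nb])
  intro g
  obtain ⟨g', hg', e'⟩ := hall g.2
  rwa [← Subtype.ext e']

theorem CW_mem (v : WW) (g : GG) : CW A v * (g : GLD) * (CW A v)⁻¹ ∈ twistedE6 K q := by
  let H : Subgroup GG := (twistedE6 K q).comap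
    ((MulAut.conj (CW A v)).toMonoidHom.comp (twistedE6 K q).subtype)
  have key : ∀ {L : Type _} [Field L] (B : Blk A L) (x : L), B.P A x ∈ H ∧ B.N A x ∈ H := by
    intro L _ B x
    obtain ⟨e1, e2⟩ := B.conj_gen A (CW_val A v) (chiW_char A v) (B.hchi v) x
    constructor
    · show CW A v * (B.P A x : GLD) * (CW A v)⁻¹ ∈ twistedE6 K q
      rw [e1]; exact SetLike.coe_mem _
    · show CW A v * (B.N A x : GLD) * (CW A v)⁻¹ ∈ twistedE6 K q
      rw [e2]; exact SetLike.coe_mem _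
  exact gen_blocks A (H := H) (key _) (key _) (key _) (key _) g

/-- Diagonal automorphisms of the group. -/
noncomputable def dA : WW →* MulAut GG where
  toFun v :=
    { toFun := fun g => ⟨_, CW_mem A v g⟩
      invFun := fun g => ⟨_, CW_mem A v⁻¹ g⟩
      left_inv := fun g => Subtype.ext (by simp [mul_assoc])
      right_inv := fun g => Subtype.ext (by simp [mul_assoc])
      map_mul' := fun g g' => Subtype.ext (by simp [mul_assoc]) }
  map_one' := MulEquiv.ext fun g => Subtype.ext (by simp)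
  map_mul' v v' := MulEquiv.ext fun g => Subtype.ext (by simp [mul_assoc])

theorem dA_val (v : WW) (g : GG) : ((dA A v g : GG) : GLD) = CW A v * (g : GLD) * (CW A v)⁻¹ := rfl

theorem dA_P {L : Type*} [Field L] (B : Blk A L) (v : WW) (x : L) :
    dA A v (B.P A x) = B.P A ((B.w v : L) * x) ∧
      dA A v (B.N A x) = B.N A ((((B.w v)⁻¹ : Lˣ) : L) * x) :=
  ⟨Subtype.ext (B.conj_gen A (CW_val A v) (chiW_char A v) (B.hchi v) x).1,
    Subtype.ext (B.conj_gen A (CW_val A v) (chiW_char A v) (B.hchi v) x).2⟩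

theorem ext_gens {θ ψ : MulAut GG}
    (h0 : ∀ x, θ ((B0 A).P A x) = ψ ((B0 A).P A x) ∧ θ ((B0 A).N A x) = ψ ((B0 A).N A x))
    (h1 : ∀ x, θ ((B1 A).P A x) = ψ ((B1 A).P A x) ∧ θ ((B1 A).N A x) = ψ ((B1 A).N A x))
    (h2 : ∀ x, θ ((B2 A).P A x) = ψ ((B2 A).P A x) ∧ θ ((B2 A).N A x) = ψ ((B2 A).N A x))
    (h3 : ∀ x, θ ((B3 A).P A x) = ψ ((B3 A).P A x) ∧ θ ((B3 A).N A x) = ψ ((B3 A).N A x)) :
    θ = ψ :=
  MulEquiv.ext (gen_blocks A (H := MonoidHom.eqLocus θ.toMonoidHom ψ.toMonoidHom) h0 h1 h2 h3)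

theorem dA_Wt (p : WW) : dA A (Wt A p) = MulAut.conj (tG A p) := by
  have key : ∀ {L : Type _} [Field L] (B : Blk A L) (x : L),
      dA A (Wt A p) (B.P A x) = MulAut.conj (tG A p) (B.P A x) ∧
      dA A (Wt A p) (B.N A x) = MulAut.conj (tG A p) (B.N A x) := fun B x =>
    ⟨(dA_P A B _ x).1.trans (B.tG_P A p x).symm, (dA_P A B _ x).2.trans (B.tG_N A p x).symm⟩
  exact ext_gens A (key _) (key _) (key _) (key _)

theorem dA_keep (v : WW) (y : GG) : (y ∈ UP K q → dA A v y ∈ UP K q) ∧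
    (y ∈ UM K q → dA A v y ∈ UM K q) := by
  constructor
  · intro hy
    have h' : chevE6.posUnipotent K ≤ (chevE6.posUnipotent K).comap (MulAut.conj (CW A v)).toMonoidHom :=
      (YY).G.posUnipotent_le_of fun r hr hp t => by
        show CW A v * _ * (CW A v)⁻¹ ∈ chevE6.posUnipotent K
        rw [(YY).G.diag_conj_X (CW_val A v) (chiW_char A v) hr]
        exact (YY).G.X_mem_posUnipotent hr hp _
    exact h' hy
  · intro hy
    have h' : chevE6.negUnipotent K ≤ (chevE6.negUnipotent K).comap (MulAut.conj (CW A v)).toMonoidHom :=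
      (YY).G.negUnipotent_le_of fun r hr hp t => by
        show CW A v * _ * (CW A v)⁻¹ ∈ chevE6.negUnipotent K
        rw [(YY).G.diag_conj_X (CW_val A v) (chiW_char A v) hr]
        exact (YY).G.X_mem_negUnipotent hr hp _
    exact h' hy

theorem std_dA (v : WW) : Std (dA A v) := by
  constructor <;> refine le_antisymm ?_ fun y hy => ⟨dA A v⁻¹ y, ?_, ?_⟩
  · rintro _ ⟨y, hy, rfl⟩; exact (dA_keep A v y).1 hy
  · exact (dA_keep A v⁻¹ y).1 hy
  · show (dA A v * dA A v⁻¹) y = y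
    rw [← map_mul, mul_inv_cancel, map_one]; rfl
  · rintro _ ⟨y, hy, rfl⟩; exact (dA_keep A v y).2 hy
  · exact (dA_keep A v⁻¹ y).2 hy
  · show (dA A v * dA A v⁻¹) y = y
    rw [← map_mul, mul_inv_cancel, map_one]; rfl

/-! ### Field automorphisms -/

/-- The entrywise map of a ring endomorphism. -/
noncomputable def fm (σ : K →+* K) : GLD →* GLD := Units.map σ.mapMatrix.toMonoidHom

theorem fm_X (σ : K →+* K) (r : ℕ) (t : K) : fm σ ((YY).G.X K r t) = (YY).G.X K r (σ t) :=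
  Units.ext (x_map σ r t)

theorem fm_P (σ : K →+* K) (R : List ℕ) (f : ℕ → K) :
    fm σ (Good'.P (YY).G R f) = Good'.P (YY).G R fun r => σ (f r) := by
  induction R with
  | nil => simp [Good'.P_nil]
  | cons r R ih => rw [Good'.P_cons, Good'.P_cons, map_mul, ih, fm_X A]

theorem map_phi (σ : K →+* K) (x : K) : σ (A.phi x) = A.phi (σ x) := by
  rw [A.hphi, A.hphi, map_pow]

theorem fixF_map (σ : K →+* K) {R : List ℕ} {f : ℕ → K} (hf : (YY).IsFixF R f) :
    (YY).IsFixF R fun r => σ (f r) := fun r hr => by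
  show σ (f _) = _
  rw [hf r hr, map_pow]
  exact congrArg (· ^ _) (map_phi A σ _)

theorem fm_mem (σ : K →+* K) {g : GLD} (hg : g ∈ twistedE6 K q) : fm σ g ∈ twistedE6 K q := by
  suffices h : G1 K q ≤ (G1 K q).comap (fm σ) from h hg
  refine gen_cases A fun k hk => ⟨fun f hf => ?_, fun f hf => ?_⟩
  · show fm σ _ ∈ G1 K q
    rw [fm_P A]; exact (ab A hk).pos _ (fixF_map A σ hf)
  · show fm σ _ ∈ G1 K q
    rw [fm_P A]; exact (ab A hk).neg _ (fixF_map A σ hf)

/-- A field endomorphism on the group. -/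
noncomputable def fG (σ : K →+* K) : GG →* GG :=
  ((fm σ).comp (twistedE6 K q).subtype).codRestrict _ fun g => fm_mem A σ g.2

theorem fG_inj (σ : K →+* K) : Function.Injective (fG A σ) := fun g h e => by
  have e' := congrArg (fun z : GG => ((z : GLD) : Matrix chevE6.Idx chevE6.Idx K)) e
  exact Subtype.ext (Units.ext (Matrix.map_injective σ.injective e'))

/-- Field automorphisms of the group. -/
noncomputable def fA : (K ≃+* K) →* MulAut GG where
  toFun σ := MulEquiv.ofBijective (fG A (σ : K →+* K)) (Finite.injective_iff_bijective.mp (fG_inj A _))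
  map_one' := by
    ext g : 1
    exact Subtype.ext (Units.ext (Matrix.ext fun i j => rfl))
  map_mul' σ τ := by
    ext g : 1
    exact Subtype.ext (Units.ext (Matrix.ext fun i j => rfl))

theorem fA_val (σ : K ≃+* K) (g : GG) : ((fA A σ g : GG) : GLD) = fm (σ : K →+* K) g := rfl

theorem fA_P {L : Type*} [Field L] (B : Blk A L) (σ : K ≃+* K) {x y : L}
    (e : B.η y = σ (B.η x)) : fA A σ (B.P A x) = B.P A y ∧ fA A σ (B.N A x) = B.N A y := by
  constructor <;> refine Subtype.ext ?_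
  · rw [fA_val, B.P_val, fm_P A, B.P_val, e]
    refine Good'.P_congr (YY).G fun r _ => ?_
    simp only [fF]; split_ifs <;> simp [map_phi A]
  · rw [fA_val, B.N_val, fm_P A, B.N_val, e]
    refine Good'.P_congr (YY).G fun r _ => ?_
    simp only [fF]; split_ifs <;> simp [map_phi A]

theorem fA_one_P {L : Type*} [Field L] (B : Blk A L) (σ : K ≃+* K) :
    fA A σ (B.P A 1) = B.P A 1 := (fA_P A B σ (by simp)).1

theorem fA_keep (σ : K ≃+* K) (y : GG) : (y ∈ UP K q → fA A σ y ∈ UP K q) ∧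
    (y ∈ UM K q → fA A σ y ∈ UM K q) := by
  constructor
  · intro hy
    have h' : chevE6.posUnipotent K ≤ (chevE6.posUnipotent K).comap (fm (σ : K →+* K)) :=
      (YY).G.posUnipotent_le_of fun r hr hp t => by
        show fm _ _ ∈ chevE6.posUnipotent K
        rw [fm_X A]; exact (YY).G.X_mem_posUnipotent hr hp _
    exact h' hy
  · intro hy
    have h' : chevE6.negUnipotent K ≤ (chevE6.negUnipotent K).comap (fm (σ : K →+* K)) :=
      (YY).G.negUnipotent_le_of fun r hr hp t => by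
        show fm _ _ ∈ chevE6.negUnipotent K
        rw [fm_X A]; exact (YY).G.X_mem_negUnipotent hr hp _
    exact h' hy

theorem std_conj {g : GG} (hg : g ∈ HH K q) : Std (MulAut.conj g) := by
  have hB : (g : GLD) ∈ chevE6.borelSubgroup K := Subgroup.mem_sup_right hg
  constructor
  · refine le_antisymm ?_ fun y hy => ⟨g⁻¹ * y * g, ?_, by simp [mul_assoc]⟩
    · rintro _ ⟨y, hy, rfl⟩
      exact borel_normalises A hB hy
    · have := borel_normalises A (b := g⁻¹) (inv_mem hB) hy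
      rwa [inv_inv] at this
  · refine le_antisymm ?_ fun y hy => ⟨g⁻¹ * y * g, ?_, by simp [mul_assoc]⟩
    · rintro _ ⟨y, hy, rfl⟩
      exact (Subgroup.mem_normalizer_iff.1 ((YY).G.diag_normalizes_neg hg) (y : GLD)).1 hy
    · have := (Subgroup.mem_normalizer_iff.1 ((YY).G.diag_normalizes_neg (inv_mem hg)) (y : GLD)).1 hy
      rwa [inv_inv] at this

/-- Every automorphism is a product of an inner, a diagonal and a field automorphism. -/
theorem aut_classify (θ : MulAut GG) :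
    ∃ (g : GG) (v : WW) (σ : K ≃+* K), θ = MulAut.conj g * (dA A v * fA A σ) := by
  obtain ⟨x, hx⟩ := exists_conj_std A θ
  set θ1 : MulAut GG := MulAut.conj x * θ with hθ1
  have pick : ∀ {L : Type _} [Field L] (B : Blk A L), ∃ c : Lˣ, θ1 (B.P A 1) = B.P A (c : L) := by
    intro L _ B
    obtain ⟨c, hc⟩ := (B.pos_iff A).1 (std_posSet A hx B.hk ((B.pos_iff A).2 ⟨1, rfl⟩))
    refine ⟨Units.mk0 c fun e => one_ne_zero (B.P_inj A (θ1.injective ?_) : (1 : L) = 0), hc⟩
    rw [hc, e, B.P_zero A, map_one]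
  obtain ⟨c0, hc0⟩ := pick (B0 A)
  obtain ⟨c1, hc1⟩ := pick (B1 A)
  obtain ⟨c2, hc2⟩ := pick (B2 A)
  obtain ⟨c3, hc3⟩ := pick (B3 A)
  set v : WW := (c0, c1, c2, c3) with hv
  set θ2 : MulAut GG := dA A v⁻¹ * θ1 with hθ2
  have h2 : Std θ2 := (std_dA A v⁻¹).mul hx
  have fixed : ∀ {L : Type _} [Field L] (B : Blk A L), θ1 (B.P A 1) = B.P A (B.w v : L) →
      θ2 (B.P A 1) = B.P A 1 := by
    intro L _ B hB
    rw [hθ2, MulAut.mul_apply, hB, (dA_P A B v⁻¹ _).1, map_inv, Units.inv_mul]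
  obtain ⟨σ, τ, hτ, t0, t1, t2, t3⟩ := exists_field A h2 (fixed (B0 A) hc0) (fixed (B1 A) hc1)
    (fixed (B2 A) hc2) (fixed (B3 A) hc3)
  have e3 : θ2 = fA A σ := ext_gens A
    (fun y => ⟨(t0 y).1.trans (fA_P A (B0 A) σ (hτ y)).1.symm,
      (t0 y).2.trans (fA_P A (B0 A) σ (hτ y)).2.symm⟩)
    (fun y => ⟨(t1 y).1.trans (fA_P A (B1 A) σ (hτ y)).1.symm,
      (t1 y).2.trans (fA_P A (B1 A) σ (hτ y)).2.symm⟩)
    (fun y => ⟨(t2 y).1.trans (fA_P A (B2 A) σ rfl).1.symm,
      (t2 y).2.trans (fA_P A (B2 A) σ rfl).2.symm⟩)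
    (fun y => ⟨(t3 y).1.trans (fA_P A (B3 A) σ rfl).1.symm,
      (t3 y).2.trans (fA_P A (B3 A) σ rfl).2.symm⟩)
  refine ⟨x⁻¹, v, σ, ?_⟩
  rw [← e3, hθ2, hθ1, map_inv, ← mul_assoc (dA A v), ← map_mul, mul_inv_cancel, map_one, one_mul,
    inv_mul_cancel_left]

theorem inner_iff {v : WW} {σ : K ≃+* K} :
    dA A v * fA A σ ∈ Cfsg.Inn GG ↔ v ∈ (Wt A).range ∧ σ = 1 := by
  constructor
  · rintro ⟨g, hg⟩
    have e : ∀ z, g * z * g⁻¹ = dA A v (fA A σ z) := fun z =>
      (MulAut.conj_apply g z).symm.trans (DFunLike.congr_fun hg z)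
    have hH : g ∈ HH K q := mem_HH_of_normalises A
      (fun y hy => by rw [e]; exact (dA_keep A v _).1 ((fA_keep A σ y).1 hy))
      fun y hy => by rw [e]; exact (dA_keep A v _).2 ((fA_keep A σ y).2 hy)
    have hd : (g : GLD) ∈ chevE6.diagonalSubgroup K ⊓ G1 K q := ⟨hH, g.2⟩
    rw [diag_eq A] at hd
    obtain ⟨c, hc, he⟩ := hd
    obtain ⟨s, t, a, b, ha, hb, rfl⟩ := (fix_tau A).1 hc
    obtain ⟨a', rfl⟩ : ∃ a' : (F0 A)ˣ, inc A a' = a :=
      ⟨Units.mk0 ⟨(a : K), congrArg Units.val ha⟩ fun h0 => a.ne_zero (congrArg Subtype.val h0),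
        Units.ext rfl⟩
    obtain ⟨b', rfl⟩ : ∃ b' : (F0 A)ˣ, inc A b' = b :=
      ⟨Units.mk0 ⟨(b : K), congrArg Units.val hb⟩ fun h0 => b.ne_zero (congrArg Subtype.val h0),
        Units.ext rfl⟩
    set p : WW := (a', b', t, s)
    have hge : g = tG A p := Subtype.ext he.symm
    have hw : ∀ {L : Type _} [Field L] (B : Blk A L), B.w (Wt A p) = B.w v := by
      intro L _ B
      have h1 := e (B.P A 1)
      rw [hge, B.tG_P A, fA_one_P, (dA_P A B v 1).1, mul_one, mul_one] at h1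
      exact Units.ext (B.P_inj A h1)
    have hv : Wt A p = v := Prod.ext (hw (B0 A)) (Prod.ext (hw (B1 A))
      (Prod.ext (hw (B2 A)) (hw (B3 A))))
    refine ⟨⟨p, hv⟩, RingEquiv.ext fun z => ?_⟩
    have h3 := e ((B2 A).P A z)
    rw [hge, (B2 A).tG_P A, hv, (fA_P A (B2 A) σ (y := σ z) rfl).1, (dA_P A (B2 A) v _).1] at h3
    exact (mul_left_cancel₀ (Units.ne_zero _) ((B2 A).P_inj A h3)).symm
  · rintro ⟨⟨p, rfl⟩, rfl⟩
    rw [map_one, mul_one, dA_Wt A]
    exact ⟨_, rfl⟩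

theorem card_ker : Nat.card (Wt A).ker = Nat.gcd 3 (q + 1) := by
  have hiff : ∀ p : WW, Wt A p = 1 ↔ (YY).G.torHom K (pW A p) = 1 := by
    intro p
    constructor
    · intro h
      have h1 : dA A (Wt A p) = 1 := by rw [h, map_one]
      have h2 : tG A p ∈ Subgroup.center GG := Subgroup.mem_center_iff.2 fun z => by
        have := DFunLike.congr_fun ((dA_Wt A p).symm.trans h1) z
        rw [MulAut.conj_apply, MulAut.one_apply, mul_inv_eq_iff_eq_mul] at this
        exact this.symm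
      have hd : ∀ r ∈ ([56, 46, 42, 39, 37, 36] : List ℕ),
          tor chevE6 tabE6 (extOne chevE6 (pW A p)) r = 1 := by
        obtain ⟨p56, p46, p42, p39, p37, p36⟩ := tor_head A p
        simp only [List.mem_cons, List.not_mem_nil, or_false]
        rintro r (rfl | rfl | rfl | rfl | rfl | rfl) <;>
          simp [p56, p46, p42, p39, p37, p36, h]
      refine Units.ext ?_
      rw [(YY).G.torHom_val, Units.val_one, ← dmat_one]
      refine dmat_congr fun r hr => ?_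
      rw [(YY).G.tor_eq_prod_sim (extOne_ne_zero _) hr]
      refine Finset.prod_eq_one fun j hj => ?_
      have hj' : j < 6 := Finset.mem_range.1 hj
      rw [hd (sim chevE6 j) (by interval_cases j <;> decide +kernel), one_zpow]
    · intro h
      have h1 : tG A p = 1 := Subtype.ext h
      have hw : ∀ {L : Type _} [Field L] (B : Blk A L), B.w (Wt A p) = 1 := by
        intro L _ B
        have := B.tG_P A p 1
        rw [h1, one_mul, inv_one, mul_one, mul_one] at this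
        exact Units.ext (B.P_inj A this).symm
      exact Prod.ext (hw (B0 A)) (Prod.ext (hw (B1 A)) (Prod.ext (hw (B2 A)) (hw (B3 A))))
  have hinc : Function.Injective (inc A) :=
    Units.map_injective (ι A).injective
  let ψ : {w : Kˣ // w ^ Nat.gcd 3 (q + 1) = 1} → (Wt A).ker := fun w =>
    ⟨(1, 1, w.1 ^ 2, w.1), (hiff _).2 ((ker_iff A (inc_fix A _) (inc_fix A _)).2
      ⟨w.2, rfl, map_one _, map_one _⟩)⟩
  have hψ : Function.Bijective ψ := by
    constructor
    · intro v w e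
      exact Subtype.ext (congrArg (fun x : (Wt A).ker => (x : WW).2.2.2) e)
    · rintro ⟨⟨a, b, t, s⟩, hp⟩
      obtain ⟨h1, h2, h3, h4⟩ := (ker_iff A (inc_fix A _) (inc_fix A _)).1
        ((hiff _).1 (MonoidHom.mem_ker.1 hp))
      have ha : a = 1 := hinc (h3.trans (map_one _).symm)
      have hb : b = 1 := hinc (h4.trans (map_one _).symm)
      have ht : t = s ^ 2 := h2
      subst ha hb ht
      exact ⟨⟨s, h1⟩, rfl⟩
  rw [← Nat.card_eq_of_bijective ψ hψ, card_units_pow_eq_one (K := K),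
    Nat.gcd_eq_right (gcd_dvd A)]

theorem card_quot : Nat.card (WW ⧸ (Wt A).range) = Nat.gcd 3 (q + 1) := by
  have h1 := Subgroup.card_eq_card_quotient_mul_card_subgroup (Wt A).range
  have h2 := Subgroup.card_mul_index (Wt A).ker
  rw [Subgroup.index_ker, card_ker A, h1] at h2
  exact (Nat.eq_of_mul_eq_mul_right Nat.card_pos h2).symm

/-- The outer automorphism group. -/
theorem out_card : Nat.card (Cfsg.Out GG) = Nat.gcd 3 (q + 1) * Nat.card (K ≃+* K) := by
  rw [← card_quot A, ← Nat.card_prod]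
  have key : ∀ v v' σ σ', QuotientGroup.mk' (Cfsg.Inn GG) (dA A v * fA A σ) =
      QuotientGroup.mk' (Cfsg.Inn GG) (dA A v' * fA A σ') ↔ v'⁻¹ * v ∈ (Wt A).range ∧ σ = σ' := by
    intro v v' σ σ'
    rw [eq_comm, QuotientGroup.mk'_apply, QuotientGroup.mk'_apply, QuotientGroup.eq]
    have e : (dA A v' * fA A σ')⁻¹ * (dA A v * fA A σ) =
        fA A σ'⁻¹ * (dA A (v'⁻¹ * v) * fA A (σ * σ'⁻¹)) * (fA A σ'⁻¹)⁻¹ := by
      rw [map_mul, map_mul, map_inv, map_inv]; group
    rw [e, ← (inferInstance : (Cfsg.Inn GG).Normal).mem_comm_iff, inv_mul_cancel_left, inner_iff A,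
      mul_inv_eq_one]
  let Φ : (WW ⧸ (Wt A).range) × (K ≃+* K) → Cfsg.Out GG := fun p =>
    Quotient.liftOn' p.1 (fun v => QuotientGroup.mk' (Cfsg.Inn GG) (dA A v * fA A p.2))
      fun v v' hvv' => (key v v' p.2 p.2).2 ⟨by
        rw [QuotientGroup.leftRel_apply] at hvv'
        simpa using inv_mem hvv', rfl⟩
  refine (Nat.card_congr (Equiv.ofBijective Φ ⟨?_, ?_⟩)).symm
  · rintro ⟨c, σ⟩ ⟨c', σ'⟩ e
    induction c using QuotientGroup.induction_on with
    | H v =>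
    induction c' using QuotientGroup.induction_on with
    | H v' =>
    obtain ⟨h1, h2⟩ := (key v v' σ σ').1 e
    refine Prod.ext (QuotientGroup.eq.2 ?_) h2
    simpa using inv_mem h1
  · intro c
    obtain ⟨φ, rfl⟩ := QuotientGroup.mk'_surjective _ c
    obtain ⟨g, v, σ, rfl⟩ := aut_classify A φ
    refine ⟨((v : WW ⧸ (Wt A).range), σ), ?_⟩
    show QuotientGroup.mk' (Cfsg.Inn GG) (dA A v * fA A σ) = _
    rw [map_mul (QuotientGroup.mk' (Cfsg.Inn GG)) (MulAut.conj g)]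
    have h1 : QuotientGroup.mk' (Cfsg.Inn GG) (MulAut.conj g) = 1 :=
      (QuotientGroup.eq_one_iff _).mpr (MonoidHom.mem_range.mpr ⟨g, rfl⟩)
    rw [h1, one_mul]

end Cfsg.Agent.Lib.RankOne.E6Aut
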