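import Cfsg.Agent.Lib.Chev.Tw.E6
import Cfsg.Agent.Lib.BNPair.Basic

/-!
Automorphisms of the twisted group of type E6 preserving the two unipotent subgroups.
-/

set_option autoImplicit false
set_option maxRecDepth 100000
set_option maxHeartbeats 1000000
set_option linter.unusedSectionVars false

namespace Cfsg.Agent.Lib.RankOne.E6Aut

open scoped Matrix
open Cfsg.Lie Cfsg.Agent.Lib.Chev Cfsg.Agent.Lib.Chev.Tw Cfsg.Agent.Lib.Chev.Tw.E6

theorem w0_chk : allLt chevE6.nroots (fun r =>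
    (decide (npos chevE6 ≤ r) == decide (wl tabE6 (twE6.cat [0, 1, 0, 2, 1, 0, 2, 1, 2, 3, 2, 1, 0, 2, 1, 2, 3, 2, 1, 0, 2, 1, 2, 3]) r < npos chevE6)) &&
    (decide (npos chevE6 ≤ r) ==
      decide (wl tabE6 (twE6.cat [0, 1, 0, 2, 1, 0, 2, 1, 2, 3, 2, 1, 0, 2, 1, 2, 3, 2, 1, 0, 2, 1, 2, 3]).reverse r < npos chevE6))) = true := by
  decide +kernel

theorem flip_chk : allLt twE6.nb (fun k => allLt chevE6.nroots fun r =>
    decide (r < npos chevE6) || decide (npos chevE6 ≤ wl tabE6 (twE6.blk k) r) ||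
      decide (npos chevE6 ≤ wl tabE6 ((twE6.blk k).reverse ++ twE6.cat [0, 1, 0, 2, 1, 0, 2, 1, 2, 3, 2, 1, 0, 2, 1, 2, 3, 2, 1, 0, 2, 1, 2, 3]) r)) =
      true := by decide +kernel

theorem roots_cyc : ∀ k < 4, ∀ x ∈ roots k, ∀ y ∈ roots k,
    y = x ∨ y = twE6.S.rho x := by decide +kernel

/-- The code of a root word that separates two products. -/
theorem sep_chk : coef (applyWord chevE6 tabE6 [(32, 1), (29, 1), (34, 1)] [(3, 1)]) 1 -
    coef (applyWord chevE6 tabE6 [(29, 1), (34, 1), (32, 1)] [(3, 1)]) 1 = 1 := by decide +kernel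

theorem comm_chk : chkComm2 chevE6 tabE6 0 [25, 29, 34] [25, 29, 34] = true ∧
    chkComm2 chevE6 tabE6 0 [25, 15, 35] [25, 15, 35] = true ∧
    chkComm2 chevE6 tabE6 0 [32, 15, 35] [32, 15, 35] = true := by decide +kernel

theorem negl_roots : negl chevE6 (roots 0) = [25] ∧ negl chevE6 (roots 1) = [32] ∧
    negl chevE6 (roots 2) = [29, 34] ∧ negl chevE6 (roots 3) = [15, 35] := by decide +kernel

theorem sim_cover : ∀ i < chevE6.rank, ∃ k < twE6.nb, sim chevE6 i ∈ roots k := by decide +kernel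

variable {K : Type*} [Field K] [Fintype K] {q : ℕ} (A : Par K q)

set_option quotPrecheck false
local notation "GG" => ↥(twistedE6 K q)
local notation "GLD" => GL chevE6.Idx K
local notation "YY" => Chev.Tw.E6.sys A

/-- The positive unipotent subgroup of the group. -/
def UP (K : Type*) [Field K] (q : ℕ) : Subgroup ↥(twistedE6 K q) :=
  (chevE6.posUnipotent K).subgroupOf (twistedE6 K q)

/-- The negative unipotent subgroup of the group. -/
def UM (K : Type*) [Field K] (q : ℕ) : Subgroup ↥(twistedE6 K q) :=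
  (chevE6.negUnipotent K).subgroupOf (twistedE6 K q)

/-- The diagonal subgroup of the group. -/
def HH (K : Type*) [Field K] (q : ℕ) : Subgroup ↥(twistedE6 K q) :=
  (chevE6.diagonalSubgroup K).subgroupOf (twistedE6 K q)

/-- An automorphism preserving both unipotent subgroups. -/
def Std (θ : MulAut GG) : Prop :=
  (UP K q).map θ.toMonoidHom = UP K q ∧ (UM K q).map θ.toMonoidHom = UM K q

theorem map_mul_aut (θ φ : MulAut GG) (L : Subgroup GG) :
    L.map (θ * φ : MulAut GG).toMonoidHom = (L.map φ.toMonoidHom).map θ.toMonoidHom := by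
  rw [Subgroup.map_map]; rfl

theorem map_inv_aut {θ : MulAut GG} {L L' : Subgroup GG} (h : L.map θ.toMonoidHom = L') :
    L'.map (θ⁻¹ : MulAut GG).toMonoidHom = L := by
  rw [← h, ← map_mul_aut, inv_mul_cancel]
  exact Subgroup.map_id L

theorem Std.mul {θ φ : MulAut GG} (hθ : Std θ) (hφ : Std φ) : Std (θ * φ) :=
  ⟨by rw [map_mul_aut, hφ.1, hθ.1], by rw [map_mul_aut, hφ.2, hθ.2]⟩

theorem Std.inv {θ : MulAut GG} (hθ : Std θ) : Std θ⁻¹ :=
  ⟨map_inv_aut hθ.1, map_inv_aut hθ.2⟩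

include A

/-! ### The longest element -/

theorem L0_isB : IsB twE6 ([0, 1, 0, 2, 1, 0, 2, 1, 2, 3, 2, 1, 0, 2, 1, 2, 3, 2, 1, 0, 2, 1, 2, 3] : List ℕ) := (gens A).hL0.isB

/-- The longest element. -/
def flp : GG := ⟨(gens A).nw [0, 1, 0, 2, 1, 0, 2, 1, 2, 3, 2, 1, 0, 2, 1, 2, 3, 2, 1, 0, 2, 1, 2, 3], (gens A).nw_mem (L0_isB A)⟩

theorem conj_flip {g : GLD} {l : List ℕ} (hl : (YY).G.Rep K g l)
    (h : ∀ r < chevE6.nroots, (npos chevE6 ≤ r ↔ wl tabE6 l r < npos chevE6)) :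
    (∀ u ∈ chevE6.posUnipotent K, g * u * g⁻¹ ∈ chevE6.negUnipotent K) ∧
    ∀ u ∈ chevE6.negUnipotent K, g * u * g⁻¹ ∈ chevE6.posUnipotent K := by
  constructor
  · intro u hu
    have h' : chevE6.posUnipotent K ≤ (chevE6.negUnipotent K).comap (MulAut.conj g).toMonoidHom :=
      (YY).G.posUnipotent_le_of fun r hr hp t => by
        obtain ⟨hlt, k, -, hn⟩ := (YY).G.rep_act hl r hr
        simpa [hn t] using (YY).G.X_mem_negUnipotent hlt ((h r hr).1 hp) _
    simpa using h' hu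
  · intro u hu
    have h' : chevE6.negUnipotent K ≤ (chevE6.posUnipotent K).comap (MulAut.conj g).toMonoidHom :=
      (YY).G.negUnipotent_le_of fun r hr hp t => by
        obtain ⟨hlt, k, -, hn⟩ := (YY).G.rep_act hl r hr
        simpa [hn t] using (YY).G.X_mem_posUnipotent hlt
          (not_lt.1 fun hh => absurd ((h r hr).2 hh) (not_le.2 hp)) _
    simpa using h' hu

theorem flp_conj : (UP K q).map (MulAut.conj (flp A)).toMonoidHom = UM K q ∧
    (UM K q).map (MulAut.conj (flp A)).toMonoidHom = UP K q := by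
  have hl := (gens A).rep_nw (L0_isB A)
  have hl' := rep_inv (YY).G hl
  have hc : ∀ r < chevE6.nroots,
      (npos chevE6 ≤ r ↔ wl tabE6 (twE6.cat [0, 1, 0, 2, 1, 0, 2, 1, 2, 3, 2, 1, 0, 2, 1, 2, 3, 2, 1, 0, 2, 1, 2, 3]) r < npos chevE6) ∧
      (npos chevE6 ≤ r ↔ wl tabE6 (twE6.cat [0, 1, 0, 2, 1, 0, 2, 1, 2, 3, 2, 1, 0, 2, 1, 2, 3, 2, 1, 0, 2, 1, 2, 3]).reverse r < npos chevE6) :=
    fun r hr => by
      have := allLt_eq_true w0_chk r hr
      simpa only [Bool.and_eq_true, beq_iff_eq, decide_eq_decide] using this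
  obtain ⟨a1, a2⟩ := conj_flip A hl fun r hr => (hc r hr).1
  obtain ⟨b1, b2⟩ := conj_flip A hl' fun r hr => (hc r hr).2
  constructor
  · refine le_antisymm ?_ fun y hy => ⟨(flp A)⁻¹ * y * flp A, ?_, by simp [mul_assoc]⟩
    · rintro _ ⟨x, hx, rfl⟩
      exact a1 _ hx
    · have := b2 _ hy
      rwa [inv_inv] at this
  · refine le_antisymm ?_ fun y hy => ⟨(flp A)⁻¹ * y * flp A, ?_, by simp [mul_assoc]⟩
    · rintro _ ⟨x, hx, rfl⟩
      exact a2 _ hx
    · have := b1 _ hy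
      rwa [inv_inv] at this

theorem pos_neg_one {x : GG} (h : x ∈ UP K q) (h' : x ∈ UM K q) : x = 1 :=
  Subtype.ext ((YY).pos_neg_trivial h h')

/-! ### Sylow subgroups -/

theorem card_UP : Nat.card ↥(UP K q) = q ^ 36 := by
  have h := (gens A).card_pos (q := q) (e := fun k => [1, 1, 2, 2].getD k 0) (flips A)
  rw [gens_G1] at h
  have e : UP K q = (chevE6.posUnipotent K ⊓ twistedE6 K q).subgroupOf (twistedE6 K q) := by
    rw [UP, Subgroup.inf_subgroupOf_right]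
  rw [e, Nat.card_congr (Subgroup.subgroupOfEquivOfLe (H := chevE6.posUnipotent K ⊓ twistedE6 K q)
    inf_le_right).toEquiv, h]
  rfl

theorem card_UM : Nat.card ↥(UM K q) = q ^ 36 := by
  rw [← (flp_conj A).1, Subgroup.card_map_of_injective (MulEquiv.injective _), card_UP A]

theorem exists_sylow : ∃ (p : ℕ) (_ : Fact p.Prime), IsPGroup p ↥(UP K q) ∧ ¬ p ∣ (UP K q).index := by
  obtain ⟨p, k, hp, hk, hqe⟩ := (isPrimePow_nat_iff q).1 A.hq
  refine ⟨p, ⟨hp⟩, IsPGroup.of_card (n := k * 36) (by rw [card_UP A, pow_mul, hqe]), fun hd => ?_⟩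
  have h := (UP K q).card_mul_index
  rw [card_UP A] at h
  have hi : Nat.gcd 3 (q + 1) * (UP K q).index =
      (q ^ 2 - 1) * (q ^ 5 + 1) * (q ^ 6 - 1) * (q ^ 8 - 1) * (q ^ 9 + 1) * (q ^ 12 - 1) := by
    refine Nat.eq_of_mul_eq_mul_left (pow_pos A.hq.pos 36) ?_
    rw [show q ^ 36 * (Nat.gcd 3 (q + 1) * (UP K q).index) =
      Nat.gcd 3 (q + 1) * (q ^ 36 * (UP K q).index) by ring, h, card_group A]
    ring
  have hpq : p ∣ q := hqe ▸ dvd_pow_self p hk.ne'
  have hn : ∀ n : ℕ, 0 < n → ¬ p ∣ q ^ n - 1 ∧ ¬ p ∣ q ^ n + 1 := fun n hn => by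
    have h2 : 1 ≤ q ^ n := Nat.one_le_pow _ _ A.hq.pos
    constructor <;> intro h1
    · have h3 := Nat.dvd_sub (dvd_pow hpq hn.ne') h1
      rw [show q ^ n - (q ^ n - 1) = 1 by omega] at h3
      exact hp.one_lt.ne' (Nat.dvd_one.1 h3)
    · exact hp.one_lt.ne' (Nat.dvd_one.1 ((Nat.dvd_add_right (dvd_pow hpq hn.ne')).1 h1))
  have hd' := dvd_mul_of_dvd_right hd (Nat.gcd 3 (q + 1))
  rw [hi] at hd'
  simp only [hp.dvd_mul] at hd'
  rcases hd' with ((((h1 | h1) | h1) | h1) | h1) | h1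
  exacts [(hn 2 (by norm_num)).1 h1, (hn 5 (by norm_num)).2 h1, (hn 6 (by norm_num)).1 h1,
    (hn 8 (by norm_num)).1 h1, (hn 9 (by norm_num)).2 h1, (hn 12 (by norm_num)).1 h1]

theorem exists_conj_std (θ : MulAut GG) : ∃ x : GG, Std (MulAut.conj x * θ) := by
  classical
  obtain ⟨p, hp, hP, hi⟩ := exists_sylow A
  let P : Sylow p GG := hP.toSylow hi
  let P2 : Sylow p GG := (hP.map θ.toMonoidHom).toSylow (by
    rw [Subgroup.index_map_of_bijective θ.bijective]
    exact hi)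
  obtain ⟨x, hx⟩ := MulAction.exists_smul_eq GG P2 P
  set θ' : MulAut GG := MulAut.conj x * θ
  have h1 : (UP K q).map θ'.toMonoidHom = UP K q := by
    rw [map_mul_aut]
    exact congrArg (fun Q : Sylow p GG => (Q : Subgroup GG)) hx
  obtain ⟨hcU, hcV⟩ := flp_conj A
  set g : GG := θ' (flp A)
  have h2 : (UM K q).map θ'.toMonoidHom = (UP K q).map (MulAut.conj g).toMonoidHom := by
    rw [← hcU, ← map_mul_aut]
    have e : θ' * MulAut.conj (flp A) = MulAut.conj g * θ' := MulEquiv.ext fun y => by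
      simp [g, map_mul, map_inv]
    rw [e, map_mul_aut, h1]
  obtain ⟨u₁, m, u₂, hu₁, gu₁, hm, gm, hu₂, gu₂, e⟩ := (gens A).normal_form g.2
  obtain ⟨l, hl⟩ := (YY).G.exists_rep hm
  have hkey : ∀ y ∈ UP K q, m * (y : GLD) * m⁻¹ ∈ chevE6.negUnipotent K := by
    intro y hy
    obtain ⟨a, c, ha, hc, hma, hmc, eac⟩ := (YY).exists_split hl.1 ((YY).G.rep_act hl)
      (show (y : GLD) ∈ chevE6.posUnipotent K from hy)
    obtain ⟨haf, -⟩ := Gens.split_fix ((gens A).le_Fx gm) ha hc hma hmc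
      (by rw [← eac]; exact (gens A).le_Fx y.2)
    have ga : a ∈ twistedE6 K q := (gens A).pos_fix_mem ha haf
    set z : GG := ⟨u₂, gu₂⟩⁻¹ * ⟨a, ga⟩ * ⟨u₂, gu₂⟩
    have hz : z ∈ UP K q :=
      mul_mem (mul_mem (inv_mem (show (⟨u₂, gu₂⟩ : GG) ∈ UP K q from hu₂.1)) ha) hu₂.1
    have h3 : MulAut.conj g z ∈ (UM K q).map θ'.toMonoidHom :=
      h2.symm ▸ Subgroup.mem_map_of_mem _ hz
    have h4 : MulAut.conj g z ∈ (UP K q).map θ'.toMonoidHom := by
      rw [h1]
      show (g : GLD) * (u₂⁻¹ * a * u₂) * (g : GLD)⁻¹ ∈ chevE6.posUnipotent K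
      rw [e, show u₁ * m * u₂ * (u₂⁻¹ * a * u₂) * (u₁ * m * u₂)⁻¹ = u₁ * (m * a * m⁻¹) * u₁⁻¹ by
        group]
      exact mul_mem (mul_mem hu₁ hma) (inv_mem hu₁)
    obtain ⟨b, hb, eb⟩ := h3
    obtain ⟨b', hb', eb'⟩ := h4
    have hbb : b = b' := θ'.injective (eb.trans eb'.symm)
    rw [pos_neg_one A (hbb ▸ hb') hb, map_one] at eb
    have h5 : (g : GLD) * (u₂⁻¹ * a * u₂) * (g : GLD)⁻¹ = 1 := (congrArg Subtype.val eb).symm
    rw [conj_eq_one_iff] at h5
    have ha1 : a = 1 := by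
      rw [show a = u₂ * (u₂⁻¹ * a * u₂) * u₂⁻¹ by group, h5]; simp
    rw [eac, ha1, one_mul]
    exact hmc
  set w : GG := ⟨u₁⁻¹, inv_mem gu₁⟩
  refine ⟨w * x, ?_⟩
  rw [map_mul, mul_assoc]
  have hw : w ∈ UP K q := inv_mem hu₁
  have hwU : (UP K q).map (MulAut.conj w).toMonoidHom = UP K q := by
    refine le_antisymm ?_ fun y hy => ⟨w⁻¹ * y * w, mul_mem (mul_mem (inv_mem hw) hy) hw,
      by simp [mul_assoc]⟩
    rintro _ ⟨y, hy, rfl⟩
    exact mul_mem (mul_mem hw hy) (inv_mem hw)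
  refine ⟨by rw [map_mul_aut, h1, hwU], ?_⟩
  rw [map_mul_aut, h2]
  have hle : ((UP K q).map (MulAut.conj g).toMonoidHom).map (MulAut.conj w).toMonoidHom ≤ UM K q := by
    rintro _ ⟨_, ⟨y, hy, rfl⟩, rfl⟩
    show u₁⁻¹ * ((g : GLD) * (y : GLD) * (g : GLD)⁻¹) * u₁⁻¹⁻¹ ∈ chevE6.negUnipotent K
    have := hkey (⟨u₂, gu₂⟩ * y * ⟨u₂, gu₂⟩⁻¹)
      (mul_mem (mul_mem (show (⟨u₂, gu₂⟩ : GG) ∈ UP K q from hu₂.1) hy) (inv_mem hu₂.1))
    convert this using 1
    rw [e]
    show _ = m * (u₂ * (y : GLD) * u₂⁻¹) * m⁻¹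
    group
  refine Subgroup.eq_of_le_of_card_ge hle (le_of_eq ?_)
  rw [Subgroup.card_map_of_injective (MulEquiv.injective _),
    Subgroup.card_map_of_injective (MulEquiv.injective _), card_UM A, card_UP A]

/-! ### Normalisers -/

theorem borel_normalises {b : GG} (hb : (b : GLD) ∈ chevE6.borelSubgroup K) {y : GG} (hy : y ∈ UP K q) :
    b * y * b⁻¹ ∈ UP K q :=
  (Subgroup.mem_normalizer_iff.1
    ((sup_le Subgroup.le_normalizer (YY).G.diag_normalizes_pos : chevE6.borelSubgroup K ≤ _) hb)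
    (y : GLD)).1 hy

theorem mem_borel_of_normalises {g : GG} (h : ∀ y ∈ UP K q, g * y * g⁻¹ ∈ UP K q) :
    (g : GLD) ∈ chevE6.borelSubgroup K := by
  obtain ⟨u₁, m, u₂, hu₁, gu₁, hm, gm, hu₂, gu₂, e⟩ := (gens A).normal_form g.2
  obtain ⟨l, hl⟩ := (YY).G.exists_rep hm
  have hnorm : ∀ y ∈ chevE6.posUnipotent K, y ∈ twistedE6 K q →
      m * y * m⁻¹ ∈ chevE6.posUnipotent K := by
    intro y hy gy
    set v : GG := ⟨u₂, gu₂⟩ with hv
    set w : GG := ⟨y, gy⟩ with hw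
    have hvU : v ∈ UP K q := hu₂.1
    have hwU : w ∈ UP K q := hy
    have h0 := h (v⁻¹ * w * v) (mul_mem (mul_mem (inv_mem hvU) hwU) hvU)
    simp only [UP, Subgroup.mem_subgroupOf, Subgroup.coe_mul, Subgroup.coe_inv] at h0
    have h1 : (g : GLD) * (u₂⁻¹ * y * u₂) * (g : GLD)⁻¹ ∈ chevE6.posUnipotent K := h0
    have h2 := mul_mem (mul_mem (inv_mem hu₁) h1) hu₁
    convert h2 using 1
    rw [e]; group
  have hrho := Gens.isRho_of_fix ((gens A).le_Fx gm) hl
  have hblk : ∀ k < twE6.nb, ∀ r ∈ roots k, npos chevE6 ≤ wl tabE6 l r := by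
    intro k hk r hr
    by_contra hneg
    have hall : ∀ r' ∈ roots k, wl tabE6 l r' < npos chevE6 := by
      have hrot : ∀ x ∈ roots k, wl tabE6 l x < npos chevE6 →
          wl tabE6 l (twE6.S.rho x) < npos chevE6 := fun x hx hxn => by
        rw [hrho x ((ab A hk).lt hx)]
        by_contra h3
        exact absurd ((Sys.rho_pos ((YY).G.wl_lt hl.1 ((ab A hk).lt hx)) (YY)).1 (not_lt.1 h3))
          (not_le.2 hxn)
      intro r' hr'
      have hk4 : k < 4 := by simpa [twE6, TwTab.nb] using hk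
      rcases roots_cyc k hk4 r hr r' hr' with e' | e' <;> rw [e']
      · exact not_le.1 hneg
      · exact hrot r hr (not_le.1 hneg)
    have hP := (ab A hk).P_U (fun _ => (1 : K))
    have gP := (ab A hk).pos _ ((YY).isFixF_const (roots k))
    have hneg' : m * Good'.P (YY).G (roots k) (fun _ => (1 : K)) * m⁻¹ ∈ chevE6.negUnipotent K := by
      have key : ∀ R : List ℕ, (∀ x ∈ R, x < chevE6.nroots ∧ wl tabE6 l x < npos chevE6) →
          m * Good'.P (YY).G R (fun _ => (1 : K)) * m⁻¹ ∈ chevE6.negUnipotent K := by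
        intro R
        induction R with
        | nil => intro _; simp [Good'.P_nil, one_mem]
        | cons a R ih =>
          intro hR
          obtain ⟨ha, han⟩ := hR a List.mem_cons_self
          obtain ⟨hlt, c, -, hn⟩ := (YY).G.rep_act hl a ha
          rw [Good'.P_cons, show ∀ x y : GLD, m * (x * y) * m⁻¹ = (m * x * m⁻¹) * (m * y * m⁻¹) from
            fun x y => by group, hn]
          exact mul_mem ((YY).G.X_mem_negUnipotent hlt han _)
            (ih fun x hx => hR x (List.mem_cons_of_mem _ hx))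
      exact key _ fun x hx => ⟨(ab A hk).lt hx, hall x hx⟩
    have h1 := (YY).pos_neg_trivial (hnorm _ hP gP) hneg'
    rw [conj_eq_one_iff, ← Good'.P_zero (YY).G (roots k), (ab A hk).P_eq_iff] at h1
    exact one_ne_zero (h1 r hr)
  have hmd : m ∈ chevE6.diagonalSubgroup K := by
    have hs : ∀ i < chevE6.rank, npos chevE6 ≤ wl tabE6 l (sim chevE6 i) := by
      intro i hi
      obtain ⟨k, hk, hki⟩ := sim_cover i hi
      exact hblk k hk _ hki
    have h1 := mul_mem hl.2 ((YY).G.nl_mem_diag_of_pos (F := K) _ rfl hl.1 hs)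
    rwa [inv_mul_cancel_right] at h1
  rw [e]
  exact mul_mem (mul_mem (Subgroup.mem_sup_left hu₁) (Subgroup.mem_sup_right hmd))
    (Subgroup.mem_sup_left hu₂.1)

theorem mem_HH_of_normalises {g : GG} (hU : ∀ y ∈ UP K q, g * y * g⁻¹ ∈ UP K q)
    (hV : ∀ y ∈ UM K q, g * y * g⁻¹ ∈ UM K q) : g ∈ HH K q := by
  obtain ⟨v, d, hv, gv, hd, gd, e⟩ := (gens A).borel_decomp (mem_borel_of_normalises A hU) g.2
  have hge : g = ⟨v, gv⟩ * ⟨d, gd⟩ := Subtype.ext e
  set V : GG := ⟨v, gv⟩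
  have hvV : ∀ y ∈ UM K q, V * y * V⁻¹ ∈ UM K q := by
    intro y hy
    have h1 : (⟨d, gd⟩ : GG)⁻¹ * y * ⟨d, gd⟩ ∈ UM K q := by
      have h := (Subgroup.mem_normalizer_iff.1 ((YY).G.diag_normalizes_neg (inv_mem hd)) (y : GLD)).1 hy
      rwa [inv_inv] at h
    have h2 := hV _ h1
    convert h2 using 1
    rw [hge]; group
  obtain ⟨hcU, hcV⟩ := flp_conj A
  set V' : GG := MulAut.conj (flp A) V
  have h3 : V' ∈ UM K q := hcU ▸ Subgroup.mem_map_of_mem _ (show V ∈ UP K q from hv)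
  have h4 : ∀ y ∈ UP K q, V' * y * V'⁻¹ ∈ UP K q := by
    intro y hy
    rw [← hcV] at hy
    obtain ⟨z, hz, rfl⟩ := hy
    rw [← hcV]
    exact ⟨V * z * V⁻¹, hvV z hz, by simp [V', mul_assoc]⟩
  have h5 : V' = 1 := Subtype.ext (Subgroup.mem_bot.1 ((YY).G.borel_inf_neg (F := K) ▸
    Subgroup.mem_inf.2 ⟨mem_borel_of_normalises A h4, h3⟩))
  have h6 : V = 1 := (MulAut.conj (flp A)).injective (h5.trans (map_one _).symm)
  rw [hge, h6, one_mul]
  exact hd

/-- The Tits system of the group. -/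
def bn : Cfsg.BNPair GG := (gens A).bnPair twE6_dist

theorem mem_bn_B {g : GG} : g ∈ (bn A).B ↔ (g : GLD) ∈ chevE6.borelSubgroup K := Iff.rfl

theorem std_borel_le {θ : MulAut GG} (h : Std θ) : ((bn A).B).map θ.toMonoidHom ≤ (bn A).B := by
  rintro _ ⟨b, hb, rfl⟩
  refine mem_borel_of_normalises A fun y hy => ?_
  rw [← h.1] at hy ⊢
  obtain ⟨z, hz, rfl⟩ := hy
  exact ⟨b * z * b⁻¹, borel_normalises A hb hz, by simp⟩

theorem std_borel {θ : MulAut GG} (h : Std θ) : ((bn A).B).map θ.toMonoidHom = (bn A).B := by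
  refine le_antisymm (std_borel_le A h) fun y hy => ⟨(θ⁻¹ : MulAut GG) y, ?_, θ.apply_symm_apply y⟩
  exact std_borel_le A h.inv (Subgroup.mem_map_of_mem _ hy)

theorem std_HH {θ : MulAut GG} (h : Std θ) {g : GG} (hg : g ∈ HH K q) : θ g ∈ HH K q := by
  refine mem_HH_of_normalises A (fun y hy => ?_) fun y hy => ?_
  · rw [← h.1] at hy ⊢
    obtain ⟨z, hz, rfl⟩ := hy
    exact ⟨g * z * g⁻¹, borel_normalises A (Subgroup.mem_sup_right hg) hz, by simp⟩
  · rw [← h.2] at hy ⊢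
    obtain ⟨z, hz, rfl⟩ := hy
    exact ⟨g * z * g⁻¹,
      (Subgroup.mem_normalizer_iff.1 ((YY).G.diag_normalizes_neg hg) (z : GLD)).1 hz, by simp⟩

/-! ### Minimal parabolic subgroups -/

/-- The representative of a block. -/
def nk (k : ℕ) (hk : k < twE6.nb) : GG := (gens A).nG hk

theorem nk_val {k : ℕ} (hk : k < twE6.nb) :
    ((nk A k hk : GG) : GLD) = (YY).G.nl K (twE6.blk k) := rfl

/-- A minimal parabolic subgroup. -/
def minP (k : ℕ) (hk : k < twE6.nb) : Subgroup GG := (bn A).parabolic {nk A k hk}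

theorem nk_mem_S {k : ℕ} (hk : k < twE6.nb) : nk A k hk ∈ (bn A).S := ⟨k, hk, rfl⟩

/-- The elements of a root subgroup. -/
def posSet (k : ℕ) : Set GG :=
  {y | (y : GLD) ∈ flipSetFx (YY) ((gens A).n k)}

/-- The elements of a negative root subgroup. -/
def negSet (k : ℕ) (hk : k < twE6.nb) : Set GG :=
  (fun c : GG => nk A k hk * c * (nk A k hk)⁻¹) '' posSet A k

theorem posSet_card {k : ℕ} (hk : k < twE6.nb) :
    Nat.card (posSet A k) = q ^ [1, 1, 2, 2].getD k 0 := by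
  rw [← flips A k hk]
  exact Nat.card_congr
    { toFun := fun y => ⟨((y.1 : GG) : GLD), y.2⟩
      invFun := fun u => ⟨⟨u.1, (gens A).hU k hk u.1 u.2⟩, u.2⟩
      left_inv := fun _ => rfl
      right_inv := fun _ => rfl }

theorem negSet_card {k : ℕ} (hk : k < twE6.nb) :
    Nat.card (negSet A k hk) = q ^ [1, 1, 2, 2].getD k 0 := by
  rw [negSet, Nat.card_image_of_injective (fun a b (e : nk A k hk * a * (nk A k hk)⁻¹ = _) =>
    mul_left_cancel (mul_right_cancel e)), posSet_card A hk]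

theorem negSet_le {k : ℕ} (hk : k < twE6.nb) : negSet A k hk ⊆ ((minP A k hk ⊓ UM K q : Subgroup GG) : Set GG) := by
  rintro _ ⟨c, hc, rfl⟩
  refine ⟨?_, hc.2.2⟩
  have hn : nk A k hk ∈ minP A k hk := Subgroup.mem_sup_right (Subgroup.subset_closure rfl)
  have hc' : c ∈ minP A k hk := Subgroup.mem_sup_left (Subgroup.mem_sup_left hc.1)
  exact (minP A k hk).mul_mem ((minP A k hk).mul_mem hn hc') ((minP A k hk).inv_mem hn)

theorem minP_cases {k : ℕ} (hk : k < twE6.nb) {y : GG} (hy : y ∈ minP A k hk) :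
    y ∈ (bn A).B ∨ y ∈ BNPair.dc (bn A) (nk A k hk) := by
  set s := nk A k hk
  have hs := nk_mem_S A hk
  have hsN : s ∈ (bn A).N := BNPair.s_mem (bn A) hs
  have step : ∀ z, z ∈ (bn A).B ∨ z ∈ BNPair.dc (bn A) s →
      s * z ∈ (bn A).B ∨ s * z ∈ BNPair.dc (bn A) s := by
    rintro z (hz | hz)
    · exact Or.inr ((BNPair.mem_dc _).2 ⟨1, one_mem _, z, hz, by group⟩)
    · obtain ⟨a, ha, c, hc, rfl⟩ := (BNPair.mem_dc _).1 hz
      rw [show s * (a * s * c) = s * a * s * c by group]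
      rcases BNPair.mem_union (bn A) hs hsN ha with h | h
      · left
        obtain ⟨a', ha', c', hc', e⟩ := (BNPair.mem_dc _).1 h
        rw [e]
        exact mul_mem (mul_mem (mul_mem ha' ((bn A).sq_mem s hs)) hc') hc
      · exact Or.inr (BNPair.dc_mul_right _ hc h)
  let W : Subgroup GG :=
    { carrier := {g | ∀ z, (z ∈ (bn A).B ∨ z ∈ BNPair.dc (bn A) s) →
        (g * z ∈ (bn A).B ∨ g * z ∈ BNPair.dc (bn A) s) ∧
        (g⁻¹ * z ∈ (bn A).B ∨ g⁻¹ * z ∈ BNPair.dc (bn A) s)}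
      one_mem' := fun z hz => by simpa using hz
      mul_mem' := fun {g h} hg hh z hz =>
        ⟨by rw [mul_assoc]; exact (hg _ (hh z hz).1).1,
          by rw [mul_inv_rev, mul_assoc]; exact (hh _ (hg z hz).2).2⟩
      inv_mem' := fun {g} hg z hz => ⟨(hg z hz).2, by rw [inv_inv]; exact (hg z hz).1⟩ }
  have hB : (bn A).B ≤ W := fun b hb z hz => by
    rcases hz with hz | hz
    · exact ⟨Or.inl (mul_mem hb hz), Or.inl (mul_mem (inv_mem hb) hz)⟩
    · exact ⟨Or.inr (BNPair.dc_mul_left _ hb hz), Or.inr (BNPair.dc_mul_left _ (inv_mem hb) hz)⟩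
  have hW : minP A k hk ≤ W := by
    refine sup_le hB ((Subgroup.closure_le _).2 ?_)
    rintro x rfl
    intro z hz
    refine ⟨step z hz, ?_⟩
    have h2 := step _ ((hB ((bn A).B.inv_mem ((bn A).sq_mem s hs)) z hz).1)
    rwa [← mul_assoc, ← BNPair.inv_eq] at h2
  simpa using (hW hy 1 (Or.inl (one_mem _))).1

theorem minP_neg_shape {k : ℕ} (hk : k < twE6.nb) {y : GG} (hy : y ∈ (minP A k hk ⊓ UM K q : Subgroup GG)) :
    y = 1 ∨ ∃ a ∈ (bn A).B, ∃ c ∈ posSet A k, c ≠ 1 ∧ y = a * nk A k hk * c := by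
  obtain ⟨hyP, hyV⟩ := hy
  rcases minP_cases A hk hyP with h | h
  · exact Or.inl (Subtype.ext (Subgroup.mem_bot.1 ((YY).G.borel_inf_neg (F := K) ▸
      Subgroup.mem_inf.2 ⟨h, hyV⟩)))
  refine Or.inr ?_
  obtain ⟨a, ha, b, hb, e⟩ := (BNPair.mem_dc _).1 h
  obtain ⟨v, d, hv, gv, hd, gd, eb⟩ := (gens A).borel_decomp hb b.2
  set n := (gens A).n k with hn
  obtain ⟨a', c', ha', hc', hna, hnc, eac⟩ := (YY).exists_split ((YY).blk_facts hk).1
    ((gens A).n_act k hk) hv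
  obtain ⟨haf, hcf⟩ := Gens.split_fix ((gens A).le_Fx ((gens A).n_mem k hk)) ha' hc' hna hnc
    (by rw [← eac]; exact (gens A).le_Fx gv)
  have ga' : a' ∈ twistedE6 K q := (gens A).pos_fix_mem ha' haf
  have gc' : c' ∈ twistedE6 K q := (gens A).pos_fix_mem hc' hcf
  have hnd : n * d * n⁻¹ ∈ chevE6.diagonalSubgroup K :=
    (Subgroup.mem_normalizer_iff.1 ((YY).G.monomial_le_normalizer ((gens A).n_mono k hk)) d).1 hd
  set D : GG := ⟨d, gd⟩
  set N : GG := nk A k hk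
  set C : GG := D⁻¹ * ⟨c', gc'⟩ * D
  have hC : C ∈ posSet A k := by
    refine ⟨?_, ((gens A).le_Fx C.2), ?_⟩
    · have h := (Subgroup.mem_normalizer_iff.1 ((YY).G.diag_normalizes_pos (inv_mem hd)) c').1 hc'
      rwa [inv_inv] at h
    · have h := (Subgroup.mem_normalizer_iff.1 ((YY).G.diag_normalizes_neg (inv_mem hnd))
        (n * c' * n⁻¹)).1 hnc
      convert h using 1
      show n * (d⁻¹ * c' * d) * n⁻¹ = _
      group
  set a'' : GG := a * (N * ⟨a', ga'⟩ * N⁻¹) * (N * D * N⁻¹)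
  have ha'' : a'' ∈ (bn A).B :=
    mul_mem (mul_mem ha (Subgroup.mem_sup_left hna)) (Subgroup.mem_sup_right hnd)
  have hy' : y = a'' * N * C := by
    rw [e, show b = ⟨a', ga'⟩ * ⟨c', gc'⟩ * D from Subtype.ext (eb.trans (congrArg (fun x : GLD => x * d) eac))]
    simp only [a'', C]
    group
  refine ⟨a'', ha'', C, hC, fun hC1 => ?_, hy'⟩
  rw [hC1, mul_one] at hy'
  obtain ⟨hcU, -⟩ := flp_conj A
  rw [← hcU] at hyV
  obtain ⟨w, hw, ew⟩ := hyV
  set ν : GLD := ((flp A : GG) : GLD) with hν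
  have hνM : ν ∈ chevE6.monomialSubgroup K :=
    (YY).G.monomial_of_rep ((gens A).rep_nw (L0_isB A))
  have hnM := (gens A).n_mono k hk
  have e3 : ν * (w : GLD) * ν⁻¹ = (a'' : GLD) * n := by
    have := congrArg Subtype.val (ew.trans hy')
    exact this
  have h2 := (YY).G.normal_form_coset (F := K) (b := (a'' : GLD)) (b' := 1) (n := n * ν) (n' := ν)
    (u := 1) (u' := (w : GLD)) ha'' (one_mem _) (mul_mem hnM hνM) hνM (one_mem _) hw
    (by rw [mul_one, one_mul, ← mul_assoc, ← e3]; group)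
  have h3 := (Subgroup.mem_normalizer_iff.1 ((YY).G.monomial_le_normalizer hνM) _).1 h2
  have h4 : N ∈ (bn A).B := by
    show n ∈ chevE6.borelSubgroup K
    refine Subgroup.mem_sup_right ?_
    convert inv_mem h3 using 1
    group
  exact BNPair.s_not_mem (bn A) (nk_mem_S A hk) h4

theorem minP_neg {k : ℕ} (hk : k < twE6.nb) :
    ((minP A k hk ⊓ UM K q : Subgroup GG) : Set GG) = negSet A k hk := by
  classical
  have hone : (1 : GG) ∈ posSet A k := by
    refine ⟨one_mem _, one_mem _, ?_⟩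
    simp [one_mem]
  have hfin : (posSet A k).Finite := Set.toFinite _
  symm
  refine Set.eq_of_subset_of_ncard_le (negSet_le A hk) ?_ (Set.toFinite _)
  rw [← Nat.card_coe_set_eq (negSet A k hk), negSet_card A hk, ← posSet_card A hk,
    Nat.card_coe_set_eq]
  let F : GG → GG := fun y => if h : ∃ a ∈ (bn A).B, ∃ c ∈ posSet A k, c ≠ 1 ∧ y = a * nk A k hk * c
    then h.choose_spec.2.choose else 1
  refine Set.ncard_le_ncard_of_injOn F (fun y _ => ?_) ?_ hfin
  · simp only [F]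
    split_ifs with h
    · exact h.choose_spec.2.choose_spec.1
    · exact hone
  · intro y hy z hz e
    have spec : ∀ w ∈ ((minP A k hk ⊓ UM K q : Subgroup GG) : Set GG),
        (w = 1 ∧ F w = 1) ∨ (F w ≠ 1 ∧ ∃ a ∈ (bn A).B, w = a * nk A k hk * F w) := by
      intro w hw
      by_cases h : ∃ a ∈ (bn A).B, ∃ c ∈ posSet A k, c ≠ 1 ∧ w = a * nk A k hk * c
      · right
        simp only [F, dif_pos h]
        exact ⟨h.choose_spec.2.choose_spec.2.1, h.choose, h.choose_spec.1,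
          h.choose_spec.2.choose_spec.2.2⟩
      · left
        exact ⟨(minP_neg_shape A hk hw).resolve_right h, by simp only [F, dif_neg h]⟩
    rcases spec y hy with ⟨ey, fy⟩ | ⟨fy, a, ha, ey⟩ <;>
      rcases spec z hz with ⟨ez, fz⟩ | ⟨fz, a', ha', ez⟩
    · rw [ey, ez]
    · exact absurd (e.symm.trans fy) fz
    · exact absurd (e.trans fz) fy
    · have h1 : y * z⁻¹ = a * a'⁻¹ := by rw [ey, ez, e]; group
      have h2 : (y * z⁻¹ : GG) = 1 := Subtype.ext (Subgroup.mem_bot.1 ((YY).G.borel_inf_neg (F := K) ▸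
        Subgroup.mem_inf.2 ⟨h1 ▸ mul_mem ha (inv_mem ha'), mul_mem hy.2 (inv_mem hz.2)⟩))
      exact mul_inv_eq_one.1 h2

theorem std_minP_le {φ : MulAut GG} (hφ : Std φ) {k : ℕ} (hk : k < twE6.nb) :
    ∃ j, ∃ hj : j < twE6.nb, minP A j hj ≤ (minP A k hk).map φ.toMonoidHom := by
  set M := (minP A k hk).map φ.toMonoidHom with hM
  have hBM : (bn A).B ≤ M := by
    rw [← std_borel A hφ]
    exact Subgroup.map_mono le_sup_left
  by_cases hS : ∃ s ∈ (bn A).S, s ∈ M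
  · obtain ⟨s, ⟨j, hj, e⟩, hsM⟩ := hS
    refine ⟨j, hj, sup_le hBM ((Subgroup.closure_le _).2 ?_)⟩
    rintro x rfl
    have : nk A j hj = s := Subtype.ext e.symm
    rwa [SetLike.mem_coe, this]
  · exfalso
    push Not at hS
    have h1 : M = (bn A).B := by
      rw [BNPair.eq_parabolic (bn A) hBM]
      have : {s ∈ (bn A).S | s ∈ M} = (∅ : Set GG) :=
        Set.eq_empty_of_forall_notMem fun s hs => hS s hs.1 hs.2
      rw [this, Cfsg.BNPair.parabolic, Subgroup.closure_empty, sup_bot_eq]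
    have h3 : φ (nk A k hk) ∈ M :=
      Subgroup.mem_map_of_mem _ (Subgroup.mem_sup_right (Subgroup.subset_closure rfl))
    rw [h1] at h3
    have h4 : (φ⁻¹ : MulAut GG) (φ (nk A k hk)) ∈ (bn A).B :=
      std_borel_le A hφ.inv (Subgroup.mem_map_of_mem _ h3)
    rw [show (φ⁻¹ : MulAut GG) (φ (nk A k hk)) = nk A k hk from φ.symm_apply_apply _] at h4
    exact BNPair.s_not_mem (bn A) (nk_mem_S A hk) h4

theorem std_neg_pre {θ : MulAut GG} (h : Std θ) {k : ℕ} (hk : k < twE6.nb) :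
    ∃ j, ∃ hj : j < twE6.nb, θ '' negSet A j hj = negSet A k hk := by
  classical
  obtain ⟨j, hj, hle⟩ := std_minP_le A h.inv hk
  refine ⟨j, hj, ?_⟩
  have hmap : ∀ z ∈ (minP A j hj ⊓ UM K q : Subgroup GG), θ z ∈ (minP A k hk ⊓ UM K q : Subgroup GG) := by
    intro z hz
    refine ⟨?_, h.2 ▸ Subgroup.mem_map_of_mem θ.toMonoidHom hz.2⟩
    obtain ⟨w, hw, e⟩ := hle hz.1
    rw [← e]
    show θ (θ.symm w) ∈ minP A k hk
    rwa [θ.apply_symm_apply]
  obtain ⟨i, hi, hle'⟩ := std_minP_le A h hj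
  have hik : minP A i hi ≤ minP A k hk := by
    refine hle'.trans ?_
    rintro _ ⟨z, hz, rfl⟩
    obtain ⟨w, hw, e⟩ := hle hz
    rw [← e]
    show θ (θ.symm w) ∈ minP A k hk
    rwa [θ.apply_symm_apply]
  have eik : i = k := by
    have h1 := BNPair.mem_of_mem_parabolic (bn A) (J := {nk A k hk})
      (by rintro x rfl; exact nk_mem_S A hk) (nk_mem_S A hi)
      (hik (Subgroup.mem_sup_right (Subgroup.subset_closure rfl)))
    have h2 : ((nk A i hi : GG) : GLD) = ((nk A k hk : GG) : GLD) := congrArg Subtype.val h1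
    have h3 := allLt_eq_true (allLt_eq_true twE6_dist i hi) k hk
    simp only [Bool.or_eq_true, beq_iff_eq] at h3
    rcases h3 with h3 | h3
    · exact h3
    · obtain ⟨s, hs, hne⟩ := anyLt_eq_true h3
      simp only [decide_eq_true_eq] at hne
      exact absurd ((YY).G.act_unique ((gens A).n_act i hi)
        (show (YY).G.Act K ((gens A).n i) (wl tabE6 (twE6.blk k)) from by
          rw [show (gens A).n i = (gens A).n k from h2]; exact (gens A).n_act k hk) hs) hne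
  subst eik
  rw [← minP_neg A hi, ← minP_neg A hj]
  refine Set.Subset.antisymm ?_ fun z hz => ⟨(θ⁻¹ : MulAut GG) z, ?_, θ.apply_symm_apply z⟩
  · rintro _ ⟨z, hz, rfl⟩
    exact hmap z hz
  · refine ⟨?_, h.inv.2 ▸ Subgroup.mem_map_of_mem (θ⁻¹ : MulAut GG).toMonoidHom hz.2⟩
    obtain ⟨w, hw, e⟩ := hle' hz.1
    rw [← e]
    show θ.symm (θ w) ∈ minP A j hj
    rwa [θ.symm_apply_apply]

theorem posSet_iff {k : ℕ} (hk : k < twE6.nb) {y : GG} :
    y ∈ posSet A k ↔ ∃ f, (YY).IsFixF (roots k) f ∧ (y : GLD) = Good'.P (YY).G (roots k) f :=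
  (ab A hk).flip_iff ((gens A).n_act k hk)

theorem negSet_of_val {k : ℕ} (hk : k < twE6.nb) {y : GG} {f : ℕ → K}
    (e : (y : GLD) = Good'.P (YY).G (negl chevE6 (roots k)) f) : y ∈ negSet A k hk := by
  refine ⟨(nk A k hk)⁻¹ * y * nk A k hk, (posSet_iff A hk).2 ?_, by group⟩
  have e2 : (((nk A k hk)⁻¹ * y * nk A k hk : GG) : GLD) =
      Good'.P (YY).G (roots k) fun r => -f (ng chevE6 r) := by
    show ((nk A k hk : GG) : GLD)⁻¹ * (y : GLD) * ((nk A k hk : GG) : GLD) = _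
    rw [nk_val A hk, e]
    have h := (ab A hk).wl_conj (f := fun r => -f (ng chevE6 r))
    rw [Good'.P_congr (YY).G (R := negl chevE6 (roots k)) (g := f) (fun s hs => ?_)] at h
    · rw [← h]; group
    obtain ⟨r, hr, rfl⟩ := List.mem_map.1 hs
    simp [(YY).G.ng_ng ((ab A hk).lt hr)]
  exact ⟨_, (ab A hk).fix_iff.1 (e2 ▸ (gens A).le_Fx (SetLike.coe_mem _)), e2⟩

theorem mem_negSet {k : ℕ} (hk : k < twE6.nb) {y : GG} (hy : y ∈ negSet A k hk) :
    ∃ f, (y : GLD) = Good'.P (YY).G (negl chevE6 (roots k)) f := by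
  obtain ⟨c, hc, rfl⟩ := hy
  obtain ⟨f, -, e⟩ := (posSet_iff A hk).1 hc
  refine ⟨fun s => -f (ng chevE6 s), ?_⟩
  show ((nk A k hk : GG) : GLD) * (c : GLD) * ((nk A k hk : GG) : GLD)⁻¹ = _
  rw [nk_val A hk, e]
  exact (ab A hk).wl_conj

theorem P_commute {R L L' : List ℕ} (h : chkComm2 chevE6 tabE6 0 R R = true) (hL : ∀ x ∈ L, x ∈ R)
    (hL' : ∀ x ∈ L', x ∈ R) (f g : ℕ → K) :
    Commute (Good'.P (YY).G L f) (Good'.P (YY).G L' g) := by
  induction L with
  | nil => rw [Good'.P_nil]; exact Commute.one_left _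
  | cons x L ih =>
    rw [Good'.P_cons]
    exact (Good'.commute_X_P (YY).G (p := 0) Nat.cast_zero h (hL x List.mem_cons_self) _ hL' g).mul_left
      (ih fun y hy => hL y (List.mem_cons_of_mem _ hy))

theorem negSet_commute {a b : ℕ} (ha : a < twE6.nb) (hb : b < twE6.nb)
    (h : (a, b) = (0, 2) ∨ (a, b) = (0, 3) ∨ (a, b) = (1, 3)) {y z : GG}
    (hy : y ∈ negSet A a ha) (hz : z ∈ negSet A b hb) : Commute y z := by
  obtain ⟨f, ef⟩ := mem_negSet A ha hy
  obtain ⟨g, eg⟩ := mem_negSet A hb hz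
  obtain ⟨c02, c03, c13⟩ := comm_chk
  obtain ⟨e0, e1, e2, e3⟩ := negl_roots
  refine Subtype.ext ?_
  show (y : GLD) * z = z * y
  rw [ef, eg]
  simp only [Prod.mk.injEq] at h
  rcases h with ⟨rfl, rfl⟩ | ⟨rfl, rfl⟩ | ⟨rfl, rfl⟩
  · rw [e0, e2]; exact P_commute A c02 (by simp) (by simp) f g
  · rw [e0, e3]; exact P_commute A c03 (by simp) (by simp) f g
  · rw [e1, e3]; exact P_commute A c13 (by simp) (by simp) f g

theorem neg12_noncommute : ∃ y ∈ negSet A 1 (by decide), ∃ z ∈ negSet A 2 (by decide),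
    ¬ Commute y z := by
  obtain ⟨-, e1, e2, -⟩ := negl_roots
  have hy : Good'.P (YY).G [32] (fun _ => (1 : K)) ∈ twistedE6 K q :=
    mem0 A (a := 32) (Or.inr (Or.inr (Or.inr rfl))) ((YY).isFixF_const _)
  have hz : Good'.P (YY).G [29, 34] (fun _ => (1 : K)) ∈ twistedE6 K q :=
    mem1 A (a := 29) (b := 34) (Or.inr (Or.inr (Or.inr rfl))) ((YY).isFixF_const _)
  refine ⟨⟨_, hy⟩, negSet_of_val A _ (f := fun _ => 1) (by rw [e1]),
    ⟨_, hz⟩, negSet_of_val A _ (f := fun _ => 1) (by rw [e2]), fun hc => ?_⟩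
  have h : (YY).G.wordG (castWord K ([(32, 1), (29, 1), (34, 1)] : List (ℕ × ℤ))) =
      (YY).G.wordG (castWord K ([(29, 1), (34, 1), (32, 1)] : List (ℕ × ℤ))) := by
    have h' : Good'.P (YY).G [32] (fun _ => (1 : K)) * Good'.P (YY).G [29, 34] (fun _ => (1 : K)) =
        Good'.P (YY).G [29, 34] (fun _ => (1 : K)) * Good'.P (YY).G [32] (fun _ => (1 : K)) :=
      congrArg Subtype.val hc.eq
    rw [← Good'.P_append, ← Good'.P_append] at h'
    simpa [Good'.P, castWord] using h'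
  have hlt : ∀ w ∈ ([[(32, 1), (29, 1), (34, 1)], [(29, 1), (34, 1), (32, 1)]] : List (List (ℕ × ℤ))),
      ∀ p ∈ w, p.1 < chevE6.nroots := by decide +kernel
  have hv := congrArg (fun g : GLD =>
    ((g : Matrix chevE6.Idx chevE6.Idx K) *ᵥ vecOf chevE6 K [(3, 1)]) (Sum.inr ⟨1, by decide +kernel⟩)) h
  simp only [(YY).G.wordG_val] at hv
  have hr : InRange chevE6 [(3, (1 : ℤ))] := fun p hp => by
    simp only [List.mem_singleton] at hp; subst hp; decide +kernel
  rw [← ((YY).G.applyWord_spec (F := K) _ (hlt _ (by simp)) [(3, 1)] hr).2,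
    ← ((YY).G.applyWord_spec (F := K) _ (hlt _ (by simp)) [(3, 1)] hr).2, vecOf_apply, vecOf_apply,
    ← sub_eq_zero, ← Int.cast_sub] at hv
  rw [show cd chevE6 (Sum.inr ⟨1, by decide +kernel⟩ : chevE6.Idx) = 1 from rfl, sep_chk,
    Int.cast_one] at hv
  exact one_ne_zero hv

theorem negSet_congr {i j : ℕ} (e : i = j) (hi : i < twE6.nb) (hj : j < twE6.nb) :
    negSet A i hi = negSet A j hj := by
  subst e; rfl

theorem std_negSet {θ : MulAut GG} (h : Std θ) {k : ℕ} (hk : k < twE6.nb) {y : GG}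
    (hy : y ∈ negSet A k hk) : θ y ∈ negSet A k hk := by
  classical
  have hnb : twE6.nb = 4 := rfl
  choose! π hπ hπi using fun i (hi : i < twE6.nb) => std_neg_pre A h hi
  have hsz : ∀ i (hi : i < twE6.nb), [1, 1, 2, 2].getD (π i) 0 = [1, 1, 2, 2].getD i 0 := by
    intro i hi
    refine Nat.pow_right_injective A.hq.one_lt (?_ : q ^ _ = q ^ _)
    rw [← negSet_card A hi, ← negSet_card A (hπ i hi), Nat.card_coe_set_eq, Nat.card_coe_set_eq,
      ← hπi i hi, Set.ncard_image_of_injective _ θ.injective]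
  have hcomm : ∀ a b (ha : a < twE6.nb) (hb : b < twE6.nb),
      ((π a, π b) = (0, 2) ∨ (π a, π b) = (0, 3) ∨ (π a, π b) = (1, 3)) →
      ∀ u ∈ negSet A a ha, ∀ v ∈ negSet A b hb, Commute u v := by
    intro a b ha hb hab u hu v hv
    rw [← hπi a ha] at hu
    rw [← hπi b hb] at hv
    obtain ⟨u', hu', rfl⟩ := hu
    obtain ⟨v', hv', rfl⟩ := hv
    exact (negSet_commute A (hπ a ha) (hπ b hb) hab hu' hv').map θ.toMonoidHom
  obtain ⟨u, hu, v, hv, huv⟩ := neg12_noncommute A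
  have n12 : ¬ ((π 1, π 2) = (0, 2) ∨ (π 1, π 2) = (0, 3) ∨ (π 1, π 2) = (1, 3)) :=
    fun e => huv (hcomm 1 2 (by decide) (by decide) e u hu v hv)
  have inj_of : ∀ i j (hi : i < twE6.nb) (hj : j < twE6.nb), π i = π j →
      negSet A i hi = negSet A j hj := by
    intro i j hi hj e
    rw [← hπi i hi, ← hπi j hj]
    exact congrArg _ (negSet_congr A e _ _)
  have e : π k = k := by
    have h0 := hπ 0 (by decide); have h1 := hπ 1 (by decide)
    have h2 := hπ 2 (by decide); have h3 := hπ 3 (by decide)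
    have s0 := hsz 0 (by decide); have s1 := hsz 1 (by decide)
    have s2 := hsz 2 (by decide); have s3 := hsz 3 (by decide)
    have i01 : π 0 ≠ π 1 := fun e => huv (negSet_commute A (a := 0) (b := 2) (by decide) (by decide)
      (Or.inl rfl) (inj_of 1 0 (by decide) (by decide) e.symm ▸ hu) hv)
    have i23 : π 2 ≠ π 3 := fun e => huv (negSet_commute A (a := 1) (b := 3) (by decide) (by decide)
      (Or.inr (Or.inr rfl)) hu (inj_of 2 3 (by decide) (by decide) e ▸ hv))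
    rw [hnb] at h0 h1 h2 h3 hk
    interval_cases e0 : π 0 <;> simp at s0 <;> interval_cases e1 : π 1 <;> simp at s1 i01 <;>
      interval_cases e2 : π 2 <;> simp at s2 n12 <;> interval_cases e3 : π 3 <;> simp at s3 i23 <;>
      interval_cases k <;> assumption
  rw [← hπi k hk, negSet_congr A e _ hk]
  exact ⟨y, hy, rfl⟩

theorem negSet_of {k : ℕ} (hk : k < twE6.nb) {y : GG} (h1 : y ∈ UM K q)
    (h2 : (nk A k hk)⁻¹ * y * nk A k hk ∈ UP K q) : y ∈ negSet A k hk := by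
  refine ⟨(nk A k hk)⁻¹ * y * nk A k hk, ⟨h2, (gens A).le_Fx (SetLike.coe_mem _), ?_⟩, by group⟩
  have h1' : (y : GLD) ∈ chevE6.negUnipotent K := h1
  convert h1' using 1
  show ((nk A k hk : GG) : GLD) * (((nk A k hk : GG) : GLD)⁻¹ * (y : GLD) * ((nk A k hk : GG) : GLD)) *
    ((nk A k hk : GG) : GLD)⁻¹ = _
  group

theorem flp_posSet {k : ℕ} (hk : k < twE6.nb) {y : GG} (hy : y ∈ posSet A k) :
    MulAut.conj (flp A) y ∈ negSet A k hk := by
  obtain ⟨hcU, -⟩ := flp_conj A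
  refine negSet_of A hk (hcU ▸ Subgroup.mem_map_of_mem _ (show y ∈ UP K q from hy.1)) ?_
  have hl := (YY).G.rep_mul (rep_inv (YY).G ((gens A).rep_n hk)) ((gens A).rep_nw (L0_isB A))
  have hW := ((YY).blk_facts hk).1
  have key := (YY).G.act_conj_USub ((YY).G.rep_act hl) (K := chevE6.posUnipotent K)
    (fun r hr hp hS t => by
      have h := allLt_eq_true (allLt_eq_true flip_chk k hk) r hr
      simp only [Bool.or_eq_true, decide_eq_true_eq] at h
      have hS' : wl tabE6 (twE6.blk k) r < npos chevE6 := hS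
      exact (YY).G.X_mem_posUnipotent ((YY).G.wl_lt hl.1 hr)
        ((h.resolve_left (fun h' => by omega))) t)
    ((YY).mem_flip hW ((gens A).n_act k hk) hy.1 hy.2.2)
  show ((nk A k hk : GG) : GLD)⁻¹ * (((flp A : GG) : GLD) * (y : GLD) * ((flp A : GG) : GLD)⁻¹) *
    ((nk A k hk : GG) : GLD) ∈ chevE6.posUnipotent K
  convert key using 1
  show ((gens A).n k)⁻¹ * _ * (gens A).n k = ((gens A).n k)⁻¹ * (gens A).nw _ * _ * _
  rw [mul_inv_rev, inv_inv]
  simp only [mul_assoc]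
  rfl

theorem flp_image {k : ℕ} (hk : k < twE6.nb) :
    MulAut.conj (flp A) '' posSet A k = negSet A k hk := by
  refine Set.eq_of_subset_of_ncard_le ?_ ?_ (Set.toFinite _)
  · rintro _ ⟨y, hy, rfl⟩
    exact flp_posSet A hk hy
  · rw [Set.ncard_image_of_injective _ (MulEquiv.injective _), ← Nat.card_coe_set_eq,
      ← Nat.card_coe_set_eq, negSet_card A hk, posSet_card A hk]

theorem std_posSet {θ : MulAut GG} (h : Std θ) {k : ℕ} (hk : k < twE6.nb) {y : GG}
    (hy : y ∈ posSet A k) : θ y ∈ posSet A k := by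
  obtain ⟨hcU, hcV⟩ := flp_conj A
  have hφ : Std (MulAut.conj (flp A) * θ * (MulAut.conj (flp A))⁻¹) :=
    ⟨by rw [map_mul_aut, map_inv_aut hcV, map_mul_aut, h.2, hcV],
      by rw [map_mul_aut, map_inv_aut hcU, map_mul_aut, h.1, hcU]⟩
  have h1 := std_negSet A hφ hk (flp_posSet A hk hy)
  rw [← flp_image A hk] at h1
  obtain ⟨z, hz, e⟩ := h1
  rw [MulAut.mul_apply, MulAut.mul_apply,
    show ((MulAut.conj (flp A))⁻¹ : MulAut GG) (MulAut.conj (flp A) y) = y from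
      (MulAut.conj (flp A)).symm_apply_apply _] at e
  exact (MulAut.conj (flp A)).injective e ▸ hz

end Cfsg.Agent.Lib.RankOne.E6Aut
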