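import Mathlib

/-!
Eigenspace projections of an abelian group of operators on a finite-dimensional complex space.
-/

set_option autoImplicit false

namespace Cfsg.Agent.Lib.RankOne.EigenChar

variable {V : Type*} [AddCommGroup V] [Module ℂ V]
variable {E : Type*} [AddCommGroup E] [Fintype E]
variable (R : E → Module.End ℂ V)

/-- The projection on the eigenspace of a character. -/
noncomputable def proj (χ : AddChar E ℂ) : Module.End ℂ V :=
  (Fintype.card E : ℂ)⁻¹ • ∑ a : E, χ (-a) • R a

variable {R}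

theorem sum_proj (h0 : R 0 = 1) : ∑ χ : AddChar E ℂ, proj R χ = 1 := by
  classical
  unfold proj
  rw [← Finset.smul_sum, Finset.sum_comm]
  simp_rw [← Finset.sum_smul, AddChar.sum_apply_eq_ite, neg_eq_zero]
  simp_rw [ite_smul, zero_smul]
  rw [Finset.sum_ite_eq' Finset.univ (0 : E), if_pos (Finset.mem_univ _), h0, smul_smul,
    inv_mul_cancel₀ (Nat.cast_ne_zero.2 Fintype.card_ne_zero), one_smul]

theorem apply_mul_proj (hR : ∀ a b, R (a + b) = R a * R b) (χ : AddChar E ℂ) (b : E) :
    R b * proj R χ = χ b • proj R χ := by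
  unfold proj
  rw [mul_smul_comm, Finset.mul_sum, smul_comm (χ b), Finset.smul_sum (r := χ b)]
  congr 1
  refine Fintype.sum_equiv (Equiv.addLeft b) (fun a => R b * (χ (-a) • R a)) (fun a => χ b • (χ (-a) • R a)) fun a => ?_
  rw [mul_smul_comm, ← hR, Equiv.coe_addLeft, smul_smul, neg_add, AddChar.map_add_eq_mul, ← mul_assoc,
    ← AddChar.map_add_eq_mul, add_neg_cancel, AddChar.map_zero_eq_one, one_mul]

theorem proj_mul_proj (hR : ∀ a b, R (a + b) = R a * R b) [DecidableEq (AddChar E ℂ)] (ψ χ : AddChar E ℂ) :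
    proj R ψ * proj R χ = if ψ = χ then proj R χ else 0 := by
  have h : proj R ψ * proj R χ = ((Fintype.card E : ℂ)⁻¹ * ∑ a : E, (χ - ψ) a) • proj R χ := by
    conv_lhs => rw [proj]
    rw [smul_mul_assoc, Finset.sum_mul, mul_smul]
    congr 1
    rw [Finset.sum_smul]
    refine Finset.sum_congr rfl fun a _ => ?_
    rw [smul_mul_assoc, apply_mul_proj hR, smul_smul, AddChar.sub_apply', mul_comm, AddChar.map_neg_eq_inv,
      div_eq_mul_inv]
  rw [h, AddChar.sum_eq_ite]
  split_ifs with h1 h2 h2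
  · rw [inv_mul_cancel₀ (Nat.cast_ne_zero.2 Fintype.card_ne_zero), one_smul]
  · exact absurd (sub_eq_zero.1 h1).symm h2
  · exact absurd (sub_eq_zero.2 h2.symm) h1
  · rw [mul_zero, zero_smul]

theorem apply_proj_comp {g : Module.End ℂ V} {σ : E ≃+ E} (hg : ∀ a, g * R a = R (σ a) * g) (χ : AddChar E ℂ) :
    g * proj R (χ.compAddMonoidHom σ.toAddMonoidHom) = proj R χ * g := by
  unfold proj
  rw [mul_smul_comm, smul_mul_assoc, Finset.mul_sum, Finset.sum_mul]
  congr 1
  refine Fintype.sum_equiv σ.toEquiv _ _ fun a => ?_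
  rw [mul_smul_comm, hg, smul_mul_assoc]
  congr 1
  show χ (σ (-a)) = χ (-σ a)
  rw [map_neg]

/-- Distinct eigenspaces are independent. -/
theorem card_le_finrank [FiniteDimensional ℂ V] (hR : ∀ a b, R (a + b) = R a * R b) (S : Finset (AddChar E ℂ))
    (hS : ∀ χ ∈ S, proj R χ ≠ 0) : S.card ≤ Module.finrank ℂ V := by
  classical
  have hv : ∀ χ : ↥S, ∃ v : V, proj R (χ : AddChar E ℂ) v ≠ 0 := fun χ => by
    by_contra h
    push Not at h
    exact hS χ χ.2 (LinearMap.ext h)
  choose v hv using hv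
  let w : ↥S → V := fun χ => proj R (χ : AddChar E ℂ) (v χ)
  have hli : LinearIndependent ℂ w := by
    rw [Fintype.linearIndependent_iff]
    intro c hc χ
    have h := congrArg (proj R (χ : AddChar E ℂ)) hc
    rw [map_sum, map_zero, Finset.sum_eq_single χ] at h
    · rw [map_smul, ← Module.End.mul_apply, proj_mul_proj hR, if_pos rfl] at h
      exact (smul_eq_zero.1 h).resolve_right (hv χ)
    · intro ψ _ hne
      rw [map_smul, ← Module.End.mul_apply, proj_mul_proj hR, if_neg fun e => hne (Subtype.ext e).symm,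
        LinearMap.zero_apply, smul_zero]
    · simp
  simpa using hli.fintype_card_le_finrank

/-- An operator moving every occurring character has trace zero. -/
theorem trace_eq_zero [FiniteDimensional ℂ V] (hR : ∀ a b, R (a + b) = R a * R b) (h0 : R 0 = 1)
    {g : Module.End ℂ V} {σ : E ≃+ E} (hg : ∀ a, g * R a = R (σ a) * g)
    (hmove : ∀ χ, proj R χ ≠ 0 → χ.compAddMonoidHom σ.toAddMonoidHom ≠ χ) : LinearMap.trace ℂ V g = 0 := by
  classical
  have e : g = ∑ χ : AddChar E ℂ, g * proj R (χ.compAddMonoidHom σ.toAddMonoidHom) := by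
    conv_lhs => rw [← mul_one g, ← sum_proj h0, Finset.mul_sum]
    refine (Fintype.sum_bijective (fun χ : AddChar E ℂ => χ.compAddMonoidHom σ.toAddMonoidHom) ⟨?_, ?_⟩ _ _
      fun χ => rfl).symm
    · intro a b h
      ext x
      simpa using DFunLike.congr_fun h (σ.symm x)
    · intro a
      exact ⟨a.compAddMonoidHom σ.symm.toAddMonoidHom, by ext x; simp⟩
  rw [e, map_sum]
  refine Finset.sum_eq_zero fun χ _ => ?_
  by_cases hχ : proj R χ = 0
  · rw [apply_proj_comp hg, hχ, zero_mul, map_zero]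
  set ψ := χ.compAddMonoidHom σ.toAddMonoidHom with hψ
  have h1 : g * proj R ψ = g * proj R ψ * proj R ψ := by
    rw [mul_assoc, proj_mul_proj hR, if_pos rfl]
  rw [h1, LinearMap.trace_mul_comm, apply_proj_comp hg, ← mul_assoc, proj_mul_proj hR, if_neg (hmove χ hχ),
    zero_mul, map_zero]

/-- If every non-identity element of a finite group has trace zero, its order divides the dimension. -/
theorem card_dvd_finrank [FiniteDimensional ℂ V] {H : Type*} [Group H] [Fintype H] (ρ : Representation ℂ H V)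
    (h : ∀ x : H, x ≠ 1 → LinearMap.trace ℂ V (ρ x) = 0) : Fintype.card H ∣ Module.finrank ℂ V := by
  classical
  set P : Module.End ℂ V := (Fintype.card H : ℂ)⁻¹ • ∑ x : H, ρ x with hP
  have hn : (Fintype.card H : ℂ) ≠ 0 := Nat.cast_ne_zero.2 Fintype.card_ne_zero
  have hxP : ∀ x : H, ρ x * P = P := fun x => by
    rw [hP, mul_smul_comm, Finset.mul_sum]
    congr 1
    exact Fintype.sum_equiv (Equiv.mulLeft x) _ _ fun y => by rw [← map_mul]; rfl
  have hPP : ∀ v, P (P v) = P v := fun v => by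
    have h1 : P * P = P := by
      conv_lhs => arg 1; rw [hP]
      rw [smul_mul_assoc, Finset.sum_mul]
      simp_rw [hxP]
      rw [Finset.sum_const, Finset.card_univ, ← Nat.cast_smul_eq_nsmul ℂ, smul_smul, inv_mul_cancel₀ hn, one_smul]
    exact LinearMap.congr_fun h1 v
  have hproj : LinearMap.IsProj (LinearMap.range P) P :=
    ⟨fun v => ⟨v, rfl⟩, by rintro _ ⟨v, rfl⟩; exact hPP v⟩
  have ht := LinearMap.IsProj.trace hproj
  have hs : LinearMap.trace ℂ V P = (Fintype.card H : ℂ)⁻¹ * (Module.finrank ℂ V : ℂ) := by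
    rw [hP, map_smul, map_sum, Finset.sum_eq_single 1 (fun x _ hx => h x hx) (by simp), map_one,
      LinearMap.trace_one, smul_eq_mul]
  rw [hs, inv_mul_eq_iff_eq_mul₀ hn] at ht
  exact ⟨_, Nat.cast_injective (R := ℂ) (by rw [Nat.cast_mul]; exact ht)⟩

end Cfsg.Agent.Lib.RankOne.EigenChar
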