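import Cfsg.Agent.Lib.Chev.Tw.F4

/-!
Collection of words in the positive root elements of type F4 in characteristic two, with polynomial
coefficients in variables and their images under the square root of the Frobenius.
-/

set_option autoImplicit false
set_option maxRecDepth 100000

namespace Cfsg.Agent.Lib.RankOne.F4Invol

open Cfsg.Lie Cfsg.Agent.Lib.Chev Cfsg.Agent.Lib.Chev.Tw Cfsg.Agent.Lib.Chev.Tw.F4

/-- A monomial: the exponents of the atoms. -/
abbrev Mon := List ℕ

/-- A sum of monomials. -/
abbrev Poly := List Mon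

def madd : Mon → Mon → Mon
  | [], b => b
  | x :: a, [] => x :: a
  | x :: a, y :: b => (x + y) :: madd a b

def ltM : Mon → Mon → Bool
  | [], [] => false
  | [], _ :: _ => true
  | _ :: _, [] => false
  | x :: a, y :: b => decide (x < y) || (x == y && ltM a b)

def pins (m : Mon) : Poly → Poly
  | [] => [m]
  | x :: p => if m == x then p else if ltM m x then m :: x :: p else x :: pins m p

def padd (p q : Poly) : Poly := p.foldr pins q

def pmulm (m : Mon) (p : Poly) : Poly := (p.map (madd m)).foldr pins []

def pmul (p q : Poly) : Poly := p.foldr (fun m r => padd (pmulm m q) r) []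

def ppow (p : Poly) : ℕ → Poly
  | 0 => [[]]
  | k + 1 => pmul p (ppow p k)

/-- The square root of the Frobenius on exponents. -/
def thM : Mon → Mon
  | [] => []
  | [a] => [0, a]
  | a :: b :: m => (2 * b) :: a :: thM m

def pth (p : Poly) : Poly := (p.map thM).foldr pins []

/-- The `i`-th of `n` variables. -/
def pv (n i : ℕ) : Poly := [(List.range (2 * n)).map fun j => if j == 2 * i then 1 else 0]

/-- A word with polynomial coefficients. -/
abbrev Wd := List (ℕ × Poly)

def okPair (r s : ℕ) : Bool :=
  decide (r < chevF4.nroots) && decide (s < chevF4.nroots) && decide (s ≠ r) && decide (s ≠ ng chevF4 r)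

def cterms (r s : ℕ) (x y : Poly) : Wd :=
  ((tabF4.terms r s).filter fun c => !(c.2.1 % 2 == 0)).map
    fun c => (c.1, pmul (ppow x c.2.2.1) (ppow y c.2.2.2))

/-- Appending a letter to a collected word, stored in reverse. -/
def push (key : ℕ → ℕ) : ℕ → Wd → ℕ × Poly → Wd
  | 0, w, a => a :: w
  | _ + 1, [], a => if a.2 == [] then [] else [a]
  | fuel + 1, (s, y) :: w, (r, x) =>
    if x == [] then (s, y) :: w
    else if s == r then (if padd y x == [] then w else (s, padd y x) :: w)
    else if decide (key s < key r) || !okPair r s then (r, x) :: (s, y) :: w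
    else (cterms r s x y).foldl (push key fuel) (push key fuel (push key fuel w (r, x)) (s, y))

def collect (key : ℕ → ℕ) (w : Wd) : Wd := (w.foldl (push key 200) []).reverse

/-- The roots of the eight classes: short, long, and for a class of type B2 the further two. -/
def ids : ℕ → List ℕ
  | 1 => [33, 24]
  | 2 => [34, 26, 36, 42]
  | 3 => [38, 43]
  | 4 => [29, 41, 44, 47]
  | 5 => [39, 45]
  | 6 => [35, 31, 40, 46]
  | 7 => [37, 32]
  | 8 => [27, 25, 28, 30]
  | _ => []

/-- The roots by class. -/
def ord : List ℕ := ((List.range 8).map fun i => ids (i + 1)).flatten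

/-- The position of a root by class. -/
def akey (r : ℕ) : ℕ := ord.idxOf r

def clP (i : ℕ) (x u : Poly) : Wd :=
  match ids i with
  | [a, b] => [(a, x), (b, pth x)]
  | [a, b, c, d] => [(a, x), (b, pth x), (c, padd (pmul x (pth x)) u), (d, pth u)]
  | _ => []

/-- A product of class elements with polynomial parameters. -/
abbrev Desc := List (ℕ × Poly × Poly)

def dwd (l : Desc) : Wd := (l.map fun c => clP c.1 c.2.1 c.2.2).flatten

def chkEq (l r : Desc) : Bool := collect akey (dwd l) == collect akey (dwd r)

/-- The coefficients of a product, by the numbering of the roots. -/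
def coef (l : Desc) (r : ℕ) : Option Poly := (collect id (dwd l)).lookup r

def chkSort (l : Desc) : Bool :=
  chkSorted chevF4 ((collect id (dwd l)).map Prod.fst) &&
    (collect id (dwd l)).all fun q => (collect id (dwd l)).lookup q.1 == some q.2

variable {K : Type*} [Field K]

def mev : Mon → (ℕ → K) → K
  | [], _ => 1
  | e :: m, v => v 0 ^ e * mev m fun i => v (i + 1)

def pev (v : ℕ → K) (p : Poly) : K := (p.map fun m => mev m v).sum

theorem mev_madd : ∀ (a b : Mon) (v : ℕ → K), mev (madd a b) v = mev a v * mev b v
  | [], b, v => by simp [madd, mev]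
  | x :: a, [], v => by simp [madd, mev]
  | x :: a, y :: b, v => by
    simp only [madd, mev, mev_madd a b, pow_add]; ring

theorem pev_nil (v : ℕ → K) : pev v [] = 0 := rfl

theorem pev_cons (v : ℕ → K) (m : Mon) (p : Poly) : pev v (m :: p) = mev m v + pev v p := by
  simp [pev]

section two
variable (h2 : (2 : K) = 0) (v : ℕ → K)
include h2

theorem pev_pins (m : Mon) : ∀ p : Poly, pev v (pins m p) = mev m v + pev v p
  | [] => by simp [pins, pev]
  | x :: p => by
    simp only [pins]
    split_ifs with h1 h3
    · rw [beq_iff_eq] at h1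
      subst h1
      rw [pev_cons]
      linear_combination -(mev m v) * h2
    · rw [pev_cons]
    · rw [pev_cons, pev_pins m p, pev_cons]; ring

theorem pev_foldr : ∀ p q : Poly, pev v (p.foldr pins q) = pev v p + pev v q
  | [], q => by simp [pev_nil]
  | m :: p, q => by rw [List.foldr_cons, pev_pins h2, pev_foldr p q, pev_cons]; ring

theorem pev_padd (p q : Poly) : pev v (padd p q) = pev v p + pev v q := pev_foldr h2 v p q

theorem pev_pmulm (m : Mon) (p : Poly) : pev v (pmulm m p) = mev m v * pev v p := by
  rw [pmulm, pev_foldr h2, pev_nil, add_zero]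
  induction p with
  | nil => simp [pev_nil]
  | cons a p ih => rw [List.map_cons, pev_cons, ih, mev_madd, pev_cons]; ring

theorem pev_pmul : ∀ p q : Poly, pev v (pmul p q) = pev v p * pev v q
  | [], q => by simp [pmul, pev_nil]
  | m :: p, q => by
    rw [show pmul (m :: p) q = padd (pmulm m q) (pmul p q) from rfl, pev_padd h2, pev_pmulm h2,
      pev_pmul p q, pev_cons]
    ring

theorem pev_ppow (p : Poly) : ∀ k : ℕ, pev v (ppow p k) = pev v p ^ k
  | 0 => by simp [ppow, pev, mev]
  | k + 1 => by rw [ppow, pev_pmul h2, pev_ppow p k, pow_succ]; ring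

theorem mev_thM (θ : K →+* K) : ∀ (m : Mon) (v : ℕ → K),
    (∀ i, θ (v (2 * i)) = v (2 * i + 1) ∧ θ (v (2 * i + 1)) = v (2 * i) ^ 2) →
    mev (thM m) v = θ (mev m v)
  | [], v, _ => by simp [thM, mev]
  | [a], v, h => by
    have := (h 0).1
    simp only [mul_zero, zero_add] at this
    simp [thM, mev, this]
  | a :: b :: m, v, h => by
    have h0 := h 0
    simp only [mul_zero, zero_add] at h0
    simp only [thM, mev, map_mul, map_pow, h0.1, h0.2, ← pow_mul]
    rw [mev_thM θ m (fun i => v (i + 1 + 1)) fun i => by
      have e := h (i + 1)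
      rw [show 2 * (i + 1) = 2 * i + 1 + 1 by ring] at e
      exact e]
    ring

theorem pev_pth (θ : K →+* K)
    (h : ∀ i, θ (v (2 * i)) = v (2 * i + 1) ∧ θ (v (2 * i + 1)) = v (2 * i) ^ 2) (p : Poly) :
    pev v (pth p) = θ (pev v p) := by
  rw [pth, pev_foldr h2, pev_nil, add_zero]
  induction p with
  | nil => simp [pev_nil]
  | cons a p ih => rw [List.map_cons, pev_cons, ih, mev_thM h2 θ a v h, pev_cons, map_add]

end two

section sem
variable [Fintype K] {m : ℕ} (A : Par K m)

set_option quotPrecheck false
local notation "GX" => Chev.Good.X (Chev.Tw.Sys.G (Chev.Tw.F4.sys A)) K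
local notation "GLD" => GL chevF4.Idx K

/-- The root element of a letter. -/
def lev (v : ℕ → K) (a : ℕ × Poly) : GLD := GX a.1 (pev v a.2)

/-- The value of a word. -/
def wev (v : ℕ → K) (w : Wd) : GLD := (w.map (lev A v)).prod

theorem lev_nil (v : ℕ → K) (r : ℕ) : lev A v (r, []) = 1 := by
  simp [lev, pev_nil, (sys A).G.X_zero]

theorem wev_cterms (v : ℕ → K) (r s : ℕ) (x y : Poly) :
    wev A v (cterms r s x y) = (sys A).G.wordG (Good.cw tabF4 r s (pev v x) (pev v y)) := by
  rw [wev, Good.wordG, cterms, Good.cw, List.map_map, List.map_map]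
  conv_rhs => rw [Good'.prod_map_filter (fun c : ℕ × ℤ × ℕ × ℕ => !(c.2.1 % 2 == 0)) _ (tabF4.terms r s) (by
    intro c _ hc
    have hc' : c.2.1 % 2 = 0 := by simpa using hc
    simp only [Function.comp_apply]
    rw [← Good.cast_emod K (cast2 A) c.2.1, Nat.cast_ofNat, hc', Int.cast_zero, zero_mul, zero_mul,
      (sys A).G.X_zero])]
  congr 1
  · refine List.map_congr_left fun c hc => ?_
    simp only [Function.comp_apply, lev, pev_pmul A.h2, pev_ppow A.h2, neg_eq A]
    have hc' : c.2.1 % 2 = 1 := by
      have h0 := (List.mem_filter.1 hc).2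
      simp only [Bool.not_eq_true', beq_eq_false_iff_ne, ne_eq] at h0
      omega
    rw [show (c.2.1 : K) = 1 by
      rw [← Good.cast_emod K (cast2 A) c.2.1, Nat.cast_ofNat, hc', Int.cast_one], one_mul]

theorem foldl_push (v : ℕ → K) (f : Wd → ℕ × Poly → Wd)
    (hf : ∀ w a, wev A v (f w a).reverse = wev A v w.reverse * lev A v a) :
    ∀ (l : Wd) (w : Wd), wev A v (l.foldl f w).reverse = wev A v w.reverse * wev A v l
  | [], w => by simp [wev]
  | a :: l, w => by
    rw [List.foldl_cons, foldl_push v f hf l, hf, mul_assoc]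
    simp [wev]

theorem push_spec (v : ℕ → K) (key : ℕ → ℕ) : ∀ (fuel : ℕ) (w : Wd) (a : ℕ × Poly),
    wev A v (push key fuel w a).reverse = wev A v w.reverse * lev A v a := by
  have cons : ∀ (w : Wd) (a : ℕ × Poly),
      wev A v (a :: w).reverse = wev A v w.reverse * lev A v a := fun w a => by simp [wev]
  intro fuel
  induction fuel with
  | zero => intro w a; exact cons w a
  | succ fuel ih =>
    intro w a
    match w, a with
    | [], a =>
      simp only [push]
      split_ifs with h
      · rw [beq_iff_eq] at h
        obtain ⟨r, x⟩ := a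
        simp only at h
        simp [h, lev_nil, wev]
      · exact cons _ _
    | (s, y) :: w, (r, x) =>
      simp only [push]
      split_ifs with hx hsr hz hk
      · rw [beq_iff_eq] at hx
        rw [hx, lev_nil, mul_one]
      · rw [beq_iff_eq] at hsr hz
        subst hsr
        rw [cons, mul_assoc, lev, lev, (sys A).G.X_add, ← pev_padd A.h2, hz]
        simp [pev_nil, (sys A).G.X_zero]
      · rw [beq_iff_eq] at hsr
        subst hsr
        rw [cons, cons, mul_assoc, lev, lev, lev, (sys A).G.X_add, pev_padd A.h2]
      · exact cons _ _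
      · simp only [Bool.or_eq_true, decide_eq_true_eq, Bool.not_eq_true', not_or,
          Bool.not_eq_false, okPair, Bool.and_eq_true] at hk
        obtain ⟨-, ⟨⟨hr, hs⟩, hne⟩, hne'⟩ := hk
        rw [foldl_push A v _ (ih) (cterms r s x y), ih, ih, cons, wev_cterms]
        have h := (sys A).G.commAt r s hr hs hne hne' (pev v x) (pev v y)
        simp only [mul_assoc] at h ⊢
        simp only [lev]
        rw [← h]

theorem collect_spec (v : ℕ → K) (key : ℕ → ℕ) (w : Wd) :
    wev A v (collect key w) = wev A v w := by
  rw [collect, foldl_push A v _ (push_spec A v key 200)]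
  simp [wev]

/-- The squaring map followed by the square root of the Frobenius. -/
def th : K →+* K where
  toFun x := A.phi x ^ 2
  map_one' := by simp
  map_mul' x y := by rw [map_mul, mul_pow]
  map_zero' := by simp
  map_add' x y := by rw [map_add, F4.sq_add A]

theorem th_th (x : K) : th A (th A x) = x ^ 2 := by
  show A.phi (A.phi x ^ 2) ^ 2 = x ^ 2
  rw [phi_sq' A]

theorem th_phi (x : K) : th A (A.phi x) = x := phi_sq A x

/-- The values of the atoms. -/
def atoms (xs : List K) (j : ℕ) : K :=
  if j % 2 = 0 then xs.getD (j / 2) 0 else th A (xs.getD (j / 2) 0)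

theorem atoms_th (xs : List K) (i : ℕ) : th A (atoms A xs (2 * i)) = atoms A xs (2 * i + 1) ∧
    th A (atoms A xs (2 * i + 1)) = atoms A xs (2 * i) ^ 2 := by
  have e1 : (2 * i) % 2 = 0 := by omega
  have e2 : (2 * i) / 2 = i := by omega
  have e3 : (2 * i + 1) % 2 = 1 := by omega
  have e4 : (2 * i + 1) / 2 = i := by omega
  simp [atoms, e1, e2, e3, e4, th_th A]

/-- The element of a class with given parameters. -/
def cl (i : ℕ) (x u : K) : GLD :=
  match ids i with
  | [a, b] => GX a x * GX b (th A x)
  | [a, b, c, d] => GX a x * GX b (th A x) * GX c (x * th A x + u) * GX d (th A u)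
  | _ => 1

theorem wev_clP (xs : List K) (i : ℕ) (x u : Poly) :
    wev A (atoms A xs) (clP i x u) = cl A i (pev (atoms A xs) x) (pev (atoms A xs) u) := by
  have h := pev_pth A.h2 (atoms A xs) (th A) (atoms_th A xs)
  unfold clP cl
  split <;>
    simp_all [wev, lev, pev_padd A.h2, pev_pmul A.h2, mul_assoc]

/-- The value of a product of class elements. -/
def dev (xs : List K) (l : Desc) : GLD :=
  (l.map fun c => cl A c.1 (pev (atoms A xs) c.2.1) (pev (atoms A xs) c.2.2)).prod

theorem wev_dwd (xs : List K) : ∀ l : Desc, wev A (atoms A xs) (dwd l) = dev A xs l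
  | [] => rfl
  | c :: l => by
    have e : wev A (atoms A xs) (dwd (c :: l)) =
        wev A (atoms A xs) (clP c.1 c.2.1 c.2.2) * wev A (atoms A xs) (dwd l) := by
      simp [wev, dwd]
    rw [e, wev_clP, wev_dwd xs l]
    simp [dev]

theorem dev_eq {l r : Desc} (h : chkEq l r = true) (xs : List K) : dev A xs l = dev A xs r := by
  rw [chkEq, beq_iff_eq] at h
  rw [← wev_dwd, ← wev_dwd, ← collect_spec A _ akey, h, collect_spec]

theorem coef_eq_zero {l : Desc} (hs : chkSort l = true) (xs : List K) (h1 : dev A xs l = 1) {r : ℕ}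
    {p : Poly} (hp : coef l r = some p) : pev (atoms A xs) p = 0 := by
  simp only [chkSort, Bool.and_eq_true, List.all_eq_true, beq_iff_eq] at hs
  obtain ⟨hs, hl⟩ := hs
  set w := collect id (dwd l)
  let f : ℕ → K := fun r => pev (atoms A xs) ((w.lookup r).getD [])
  have e : wev A (atoms A xs) w = Good'.P (sys A).G (w.map Prod.fst) f := by
    rw [wev, Good'.P, Good.wordG, List.map_map, List.map_map]
    congr 1
    refine List.map_congr_left fun q hq => ?_
    simp [lev, f, hl q hq]
  have e0 : Good'.P (sys A).G (w.map Prod.fst) (fun _ => (0 : K)) = 1 := by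
    rw [Good'.P, Good.wordG]
    exact List.prod_eq_one fun z hz => by
      simp only [List.map_map, List.mem_map] at hz
      obtain ⟨q, -, rfl⟩ := hz
      simp [(sys A).G.X_zero]
  rw [← wev_dwd, ← collect_spec A _ id, e, ← e0] at h1
  have hr : r ∈ w.map Prod.fst := by
    by_contra hr
    have : w.lookup r = none := List.lookup_eq_none_iff.2 fun q hq => by
      simp only [bne_iff_ne, ne_eq]
      exact fun e' => hr (List.mem_map.2 ⟨q, hq, e'.symm⟩)
    simp only [coef] at hp
    rw [this] at hp
    cases hp
  have := Good'.P_inj (sys A).G hs h1 r hr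
  simp only [coef] at hp
  have hp' : w.lookup r = some p := hp
  simp only [f, hp', Option.getD_some] at this
  exact this

end sem

end Cfsg.Agent.Lib.RankOne.F4Invol
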