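import Cfsg.Agent.Lib.RankOne.F4InvolUni

/-!
Every involution of a large Ree group is conjugate to a central root element or to a root element
of the other kind.
-/

set_option autoImplicit false
set_option maxRecDepth 100000
set_option maxHeartbeats 1000000
set_option linter.unusedSectionVars false

namespace Cfsg.Agent.Lib.RankOne.F4Invol

open Cfsg.Lie Cfsg.Agent.Lib.Chev Cfsg.Agent.Lib.Chev.Tw Cfsg.Agent.Lib.Chev.Tw.F4

variable {K : Type*} [Field K] [Fintype K] {m : ℕ} (A : Par K m)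

set_option quotPrecheck false
local notation "GLD" => GL chevF4.Idx K

/-- Conjugate in the twisted group. -/
def Cj (g g' : GLD) : Prop := ∃ h ∈ G1 K m, h * g = g' * h

theorem Cj.refl (g : GLD) : Cj (m := m) g g := ⟨1, one_mem _, by rw [one_mul, mul_one]⟩

theorem Cj.trans {g g' g'' : GLD} (h : Cj (m := m) g g') (h' : Cj (m := m) g' g'') :
    Cj (m := m) g g'' := by
  obtain ⟨a, ha, e⟩ := h
  obtain ⟨b, hb, e'⟩ := h'
  exact ⟨b * a, mul_mem hb ha, by rw [mul_assoc, e, ← mul_assoc, e', mul_assoc]⟩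

theorem Cj.symm {g g' : GLD} (h : Cj (m := m) g g') : Cj (m := m) g' g := by
  obtain ⟨a, ha, e⟩ := h
  refine ⟨a⁻¹, inv_mem ha, ?_⟩
  calc a⁻¹ * g' = a⁻¹ * (g' * a) * a⁻¹ := by group
    _ = g * a⁻¹ := by rw [← e]; group

theorem sq_one_conj {h g g' : GLD} (e : h * g = g' * h) (h1 : g * g = 1) : g' * g' = 1 := by
  have e' : g' = h * g * h⁻¹ := by rw [e]; group
  rw [e', show h * g * h⁻¹ * (h * g * h⁻¹) = h * (g * g) * h⁻¹ by group, h1]; group

theorem Cj.conjN {k : ℕ} (hk : k < 2) (g : GLD) : Cj (m := m) g (N A k * g * (N A k)⁻¹) :=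
  ⟨N A k, N_mem A hk, by group⟩

theorem conj_mul (n a b : GLD) : n * (a * b) * n⁻¹ = n * a * n⁻¹ * (n * b * n⁻¹) := by group

theorem th_ne {x : K} (hx : x ≠ 0) : th A x ≠ 0 := fun h =>
  hx ((th A).injective (h.trans (map_zero _).symm))

theorem exists_pow {t : K} (ht : t ≠ 0) : ∃ r : K, r ≠ 0 ∧ r ^ 2 * th A r = t := by
  obtain ⟨r, hr⟩ := exists_root A (Units.mk0 t ht)
  refine ⟨r, r.ne_zero, ?_⟩
  have e := congrArg Units.val hr
  simp only [Units.val_mul, Units.val_pow_eq_pow_val, Units.val_mk0] at e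
  rw [← e, mul_comm]
  rfl

/-- The central root element. -/
def zEl : GLD := cl A 4 0 1

/-- The root element of the other kind. -/
def xEl : GLD := cl A 5 1 0

theorem aP_val (t : K) : ((F4Aut.aP A t : ↥(twistedF4 K (2 ^ m))) : GLD) = cl A 1 (A.phi t) 0 := by
  rw [cl1_eq, th_phi]
  simp [F4Aut.aP, F4Aut.fA2, Good'.P, Good.wordG]

theorem five_one (e : K) : Cj (m := m) (cl A 5 e 0) (cl A 1 e 0) := by
  refine ((Cj.conjN A (k := 1) (by norm_num) _).trans ?_)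
  rw [N_cl A (by norm_num) (by norm_num) (show img 1 5 = 3 from rfl) (by norm_num)]
  refine ((Cj.conjN A (k := 0) (by norm_num) _).trans ?_)
  rw [N_cl A (by norm_num) (by norm_num) (show img 0 3 = 7 from rfl) (by norm_num)]
  refine ((Cj.conjN A (k := 1) (by norm_num) _).trans ?_)
  rw [N_cl A (by norm_num) (by norm_num) (show img 1 7 = 1 from rfl) (by norm_num)]
  exact Cj.refl _

theorem x_scale {e : K} (he : e ≠ 0) : Cj (m := m) (cl A 5 e 0) (xEl A) := by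
  refine (five_one A e).trans (Cj.trans ?_ (five_one A 1).symm)
  obtain ⟨p, hp⟩ := (F4Aut.Wt_bij A).2 ((Units.mk0 _ (th_ne A he))⁻¹, 1)
  have h := congrArg Subtype.val (F4Aut.conj_aP A p (th A e))
  simp only [Subgroup.coe_mul, Subgroup.coe_inv, aP_val, hp, Units.val_inv_eq_inv_val, Units.val_mk0,
    inv_mul_cancel₀ (th_ne A he), map_one, th_A] at h
  exact ⟨_, (F4Aut.tG A p).2, mul_inv_eq_iff_eq_mul.1 h⟩

theorem four_eight (w : K) : Cj (m := m) (cl A 4 0 w) (cl A 8 0 w) := by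
  refine ((Cj.conjN A (k := 0) (by norm_num) _).trans ?_)
  rw [N_cl A (by norm_num) (by norm_num) (show img 0 4 = 6 from rfl) (by norm_num)]
  refine ((Cj.conjN A (k := 1) (by norm_num) _).trans ?_)
  rw [N_cl A (by norm_num) (by norm_num) (show img 1 6 = 2 from rfl) (by norm_num)]
  refine ((Cj.conjN A (k := 0) (by norm_num) _).trans ?_)
  rw [N_cl A (by norm_num) (by norm_num) (show img 0 2 = 8 from rfl) (by norm_num)]
  exact Cj.refl _

theorem z_scale {w : K} (hw : w ≠ 0) : Cj (m := m) (cl A 4 0 w) (zEl A) := by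
  refine (four_eight A w).trans (Cj.trans ?_ (four_eight A 1).symm)
  obtain ⟨r, hr⟩ := exists_root A ((Units.mk0 w hw)⁻¹ ^ 2)
  have hr' : (r : K) * A.phi r * w = 1 := by
    have e := congrArg Units.val hr
    simp only [Units.val_mul, Units.val_pow_eq_pow_val, Units.val_inv_eq_inv_val, Units.val_mk0,
      show ((phu A r : Kˣ) : K) = A.phi r from rfl] at e
    have e' : (r : K) * A.phi r = w⁻¹ := by
      haveI : CharP K 2 := CharTwo.of_one_ne_zero_of_two_eq_zero one_ne_zero A.h2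
      refine (CharTwo.sq_injective (R := K) ?_)
      show (_ : K) ^ 2 = _ ^ 2
      rw [mul_pow, mul_comm, e]
    rw [e', inv_mul_cancel₀ hw]
  obtain ⟨p, hp⟩ := (F4Aut.Wt_bij A).2 (1, r)
  have h := congrArg Subtype.val (F4Aut.conj_wP A p 0 w)
  simp only [Subgroup.coe_mul, Subgroup.coe_inv, hp, mul_zero] at h
  rw [show ((r : K) * A.phi (r : K) * w) = 1 from hr'] at h
  refine ⟨_, (F4Aut.tG A p).2, mul_inv_eq_iff_eq_mul.1 ?_⟩
  rw [cl8_eq, cl8_eq, map_zero]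
  exact h

/-- Conjugate to one of the two representatives. -/
def Good2 (g : GLD) : Prop := Cj (m := m) g (zEl A) ∨ Cj (m := m) g (xEl A)

theorem Good2.step {g g' : GLD} (h : Cj (m := m) g g') (h' : Good2 A g') : Good2 A g :=
  h'.imp h.trans h.trans

theorem case_one {a T2 U2 c T4 U4 e T6 U6 g : K} (ha : a ≠ 0)
    (h1 : cl A 1 a 0 * cl A 2 T2 U2 * cl A 3 c 0 * cl A 4 T4 U4 * cl A 5 e 0 * cl A 6 T6 U6 * cl A 7 g 0 *
      (cl A 1 a 0 * cl A 2 T2 U2 * cl A 3 c 0 * cl A 4 T4 U4 * cl A 5 e 0 * cl A 6 T6 U6 * cl A 7 g 0) = 1) :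
    Cj (m := m) (cl A 1 a 0 * cl A 2 T2 U2 * cl A 3 c 0 * cl A 4 T4 U4 * cl A 5 e 0 * cl A 6 T6 U6 * cl A 7 g 0)
      (xEl A) := by
  obtain ⟨U2, c, T4, U4, e, T6, U6, g, e1⟩ : ∃ U2' c' T4' U4' e' T6' U6' g',
      cl A 8 (T2 / a) 0 * (cl A 1 a 0 * cl A 2 T2 U2 * cl A 3 c 0 * cl A 4 T4 U4 * cl A 5 e 0 *
          cl A 6 T6 U6 * cl A 7 g 0) =
        cl A 1 a 0 * cl A 2 0 U2' * cl A 3 c' 0 * cl A 4 T4' U4' * cl A 5 e' 0 * cl A 6 T6' U6' *
          cl A 7 g' 0 * cl A 8 (T2 / a) 0 := by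
    have h := A1 A a T2 U2 c T4 U4 e T6 U6 g (T2 / a)
    rw [mul_div_cancel₀ _ ha, add_self A T2] at h
    exact ⟨_, _, _, _, _, _, _, _, by simpa only [← mul_assoc] using h⟩
  have h1 := sq_one_conj e1 h1
  refine Cj.trans ⟨_, cl_mem A (by norm_num) _ _, e1⟩ ?_
  obtain ⟨U2, c, T4, U4, e, U6, g, e1⟩ : ∃ U2' c' T4' U4' e' U6' g',
      cl A 8 0 (T6 / a) * (cl A 1 a 0 * cl A 2 0 U2 * cl A 3 c 0 * cl A 4 T4 U4 * cl A 5 e 0 *
          cl A 6 T6 U6 * cl A 7 g 0) =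
        cl A 1 a 0 * cl A 2 0 U2' * cl A 3 c' 0 * cl A 4 T4' U4' * cl A 5 e' 0 * cl A 6 0 U6' *
          cl A 7 g' 0 * cl A 8 0 (T6 / a) := by
    have h := A2 A a U2 c T4 U4 e T6 U6 g (T6 / a)
    rw [mul_div_cancel₀ _ ha, add_self A T6] at h
    exact ⟨_, _, _, _, _, _, _, by simpa only [← mul_assoc] using h⟩
  have h1 := sq_one_conj e1 h1
  refine Cj.trans ⟨_, cl_mem A (by norm_num) _ _, e1⟩ ?_
  obtain rfl : T4 = 0 := (mul_eq_zero.1 (Q36a A _ _ _ _ _ _ _ _ h1)).resolve_right ha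
  obtain rfl : g = 0 := by
    have := Q38a A _ _ _ _ _ _ _ _ h1
    exact (mul_eq_zero.1 this).resolve_left (th_ne A ha)
  obtain rfl : U6 = 0 := by
    have := Q44a A _ _ _ _ _ _ _ _ h1
    simpa [ha] using this
  simp only [cl_zero, mul_one]
  obtain ⟨p, hp⟩ : ∃ p : K, th A p = e / a := ⟨_, th_phi A _⟩
  obtain ⟨c, U4, e1⟩ : ∃ c' U4',
      cl A 7 p 0 * (cl A 1 a 0 * cl A 2 0 U2 * cl A 3 c 0 * cl A 4 0 U4 * cl A 5 e 0) =
        cl A 1 a 0 * cl A 2 0 U2 * cl A 3 c' 0 * cl A 4 0 U4' * cl A 7 p 0 := by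
    have h := A3 A a U2 c U4 e p
    rw [hp, mul_div_cancel₀ _ ha, add_self A, cl_zero, mul_one] at h
    exact ⟨_, _, by simpa only [← mul_assoc] using h⟩
  refine Cj.trans ⟨_, cl_mem A (by norm_num) _ _, e1⟩ ?_
  obtain ⟨p, hp⟩ : ∃ p : K, th A p = c / a := ⟨_, th_phi A _⟩
  obtain ⟨U2, e1⟩ : ∃ U2', cl A 6 p ((U4 + c * p) / a) *
      (cl A 1 a 0 * cl A 2 0 U2 * cl A 3 c 0 * cl A 4 0 U4) =
        cl A 1 a 0 * cl A 2 0 U2' * cl A 6 p ((U4 + c * p) / a) := by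
    have h := A4 A a U2 c U4 p ((U4 + c * p) / a)
    rw [hp, mul_div_cancel₀ _ ha, mul_div_cancel₀ _ ha, add_self A, cl_zero, mul_one,
      show U4 + (U4 + c * p) + c * p = 0 by linear_combination (U4 + c * p) * A.h2, cl_zero, mul_one] at h
    exact ⟨_, by simpa only [← mul_assoc] using h⟩
  refine Cj.trans ⟨_, cl_mem A (by norm_num) _ _, e1⟩ ?_
  have e1 : cl A 4 (U2 / a) 0 * (cl A 1 a 0 * cl A 2 0 U2) = cl A 1 a 0 * cl A 4 (U2 / a) 0 := by
    simp only [← mul_assoc]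
    rw [A5 A, mul_div_cancel₀ _ ha, add_self A, cl_zero, mul_one]
  exact Cj.trans ⟨_, cl_mem A (by norm_num) _ _, e1⟩ ((five_one A a).symm.trans (x_scale A ha))

theorem pair_good (v w : K) (hvw : ¬ (v = 0 ∧ w = 0)) : Good2 A (cl A 2 0 v * cl A 6 0 w) := by
  rcases eq_or_ne v 0 with rfl | hv
  · rw [cl_zero, one_mul]
    have hw : w ≠ 0 := fun h => hvw ⟨rfl, h⟩
    refine Or.inl ((Cj.conjN A (k := 0) (by norm_num) _).trans ?_)
    rw [N_cl A (by norm_num) (by norm_num) (show img 0 6 = 4 from rfl) (by norm_num)]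
    exact z_scale A hw
  rcases eq_or_ne w 0 with rfl | hw
  · rw [cl_zero, mul_one]
    refine Or.inl ((Cj.conjN A (k := 1) (by norm_num) _).trans ?_)
    rw [N_cl A (by norm_num) (by norm_num) (show img 1 2 = 6 from rfl) (by norm_num)]
    refine (Cj.conjN A (k := 0) (by norm_num) _).trans ?_
    rw [N_cl A (by norm_num) (by norm_num) (show img 0 6 = 4 from rfl) (by norm_num)]
    exact z_scale A hv
  obtain ⟨p, hp0, hp⟩ := exists_pow A (div_ne_zero hw hv)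
  have hw' : v * p ^ 2 * th A p = w := by rw [mul_assoc, hp, mul_div_cancel₀ _ hv]
  have e1 : cl A 8 p 0 * (cl A 2 0 v * cl A 3 (v * p) 0) =
      cl A 2 0 v * cl A 4 0 (th A v * p * th A p) * cl A 6 0 w * cl A 8 p 0 := by
    simp only [← mul_assoc]
    rw [P1 A, hw', cl_zero, mul_one]
  have e2 : cl A 7 (th A v * p * th A p / v) 0 * (cl A 2 0 v * cl A 4 0 (th A v * p * th A p) * cl A 6 0 w) =
      cl A 2 0 v * cl A 6 0 w * cl A 7 (th A v * p * th A p / v) 0 := by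
    simp only [← mul_assoc]
    rw [S3 A, mul_div_cancel₀ _ hv, add_self A, cl_zero, mul_one]
  have h12 : Cj (m := m) (cl A 2 0 v * cl A 6 0 w) (cl A 2 0 v * cl A 3 (v * p) 0) :=
    (Cj.trans ⟨_, cl_mem A (by norm_num) _ _, e1⟩ ⟨_, cl_mem A (by norm_num) _ _, e2⟩).symm
  refine Or.inr (h12.trans ((Cj.conjN A (k := 1) (by norm_num) _).trans ?_))
  rw [conj_mul, N_cl A (by norm_num) (by norm_num) (show img 1 2 = 6 from rfl) (by norm_num),
    N_cl A (by norm_num) (by norm_num) (show img 1 3 = 5 from rfl) (by norm_num)]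
  have hc : v * p ≠ 0 := mul_ne_zero hv hp0
  have e3 : cl A 8 (v / (v * p)) 0 * cl A 5 (v * p) 0 =
      cl A 5 (v * p) 0 * cl A 6 0 v * cl A 8 (v / (v * p)) 0 := by
    rw [X1 A, mul_div_cancel₀ _ hc]
  refine Cj.trans ?_ (x_scale A hc)
  refine Cj.trans ?_ (Cj.symm ⟨_, cl_mem A (by norm_num) _ _, e3⟩)
  refine ⟨(cl A 5 (v * p) 0), cl_mem A (by norm_num) _ _, ?_⟩
  group

theorem case_eight {T2 U2 c T4 U4 e T6 U6 g V : K} (hV : V ≠ 0)
    (h1 : cl A 2 T2 U2 * cl A 3 c 0 * cl A 4 T4 U4 * cl A 5 e 0 * cl A 6 T6 U6 * cl A 7 g 0 * cl A 8 0 V *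
      (cl A 2 T2 U2 * cl A 3 c 0 * cl A 4 T4 U4 * cl A 5 e 0 * cl A 6 T6 U6 * cl A 7 g 0 * cl A 8 0 V) = 1) :
    Good2 A (cl A 2 T2 U2 * cl A 3 c 0 * cl A 4 T4 U4 * cl A 5 e 0 * cl A 6 T6 U6 * cl A 7 g 0 * cl A 8 0 V) := by
  obtain rfl : T2 = 0 := (mul_eq_zero.1 (Q37 A _ _ _ _ _ _ _ _ _ _ h1)).resolve_right hV
  obtain ⟨U2, c, T4, U4, e, U6, g, e1⟩ : ∃ U2' c' T4' U4' e' U6' g',
      cl A 1 (T6 / V) 0 * (cl A 2 0 U2 * cl A 3 c 0 * cl A 4 T4 U4 * cl A 5 e 0 * cl A 6 T6 U6 *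
          cl A 7 g 0 * cl A 8 0 V) =
        cl A 2 0 U2' * cl A 3 c' 0 * cl A 4 T4' U4' * cl A 5 e' 0 * cl A 6 0 U6' * cl A 7 g' 0 *
          cl A 8 0 V * cl A 1 (T6 / V) 0 := by
    have h := B1 A U2 c T4 U4 e T6 U6 g V (T6 / V)
    rw [mul_div_cancel₀ _ hV, add_self A T6] at h
    exact ⟨_, _, _, _, _, _, _, by simpa only [← mul_assoc] using h⟩
  have h1 := sq_one_conj e1 h1
  refine Good2.step A ⟨_, cl_mem A (by norm_num) _ _, e1⟩ ?_
  obtain rfl : U2 = 0 := (mul_eq_zero.1 (Q39b A _ _ _ _ _ _ _ _ h1)).resolve_right hV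
  simp only [cl_zero, one_mul] at h1 ⊢
  obtain rfl : T4 = 0 := by
    rcases mul_eq_zero.1 (Q44b A _ _ _ _ _ _ _ h1) with h | h
    · exact h
    · exact (th A).injective (h.trans (map_zero _).symm)
  obtain rfl : c = 0 := (mul_eq_zero.1 (Q40b A _ _ _ _ _ _ h1)).resolve_right hV
  simp only [cl_zero, one_mul]
  obtain ⟨U4, e, U6, e1⟩ : ∃ U4' e' U6',
      cl A 2 (g / V) 0 * (cl A 4 0 U4 * cl A 5 e 0 * cl A 6 0 U6 * cl A 7 g 0 * cl A 8 0 V) =
        cl A 4 0 U4' * cl A 5 e' 0 * cl A 6 0 U6' * cl A 8 0 V * cl A 2 (g / V) 0 := by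
    have h := B2 A U4 e U6 g V (g / V)
    rw [mul_div_cancel₀ _ hV, add_self A, cl_zero, mul_one] at h
    exact ⟨_, _, _, by simpa only [← mul_assoc] using h⟩
  refine Good2.step A ⟨_, cl_mem A (by norm_num) _ _, e1⟩ ?_
  obtain ⟨U4, U6, e1⟩ : ∃ U4' U6',
      cl A 2 0 (e / V) * (cl A 4 0 U4 * cl A 5 e 0 * cl A 6 0 U6 * cl A 8 0 V) =
        cl A 4 0 U4' * cl A 6 0 U6' * cl A 8 0 V * cl A 2 0 (e / V) := by
    have h := B3 A U4 e U6 V (e / V)
    rw [mul_div_cancel₀ _ hV, add_self A, cl_zero, mul_one] at h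
    exact ⟨_, _, by simpa only [← mul_assoc] using h⟩
  refine Good2.step A ⟨_, cl_mem A (by norm_num) _ _, e1⟩ ?_
  have e1 : cl A 3 (U6 / V) 0 * (cl A 4 0 U4 * cl A 6 0 U6 * cl A 8 0 V) =
      cl A 4 0 U4 * cl A 8 0 V * cl A 3 (U6 / V) 0 := by
    simp only [← mul_assoc]
    rw [B4 A, mul_div_cancel₀ _ hV, add_self A, cl_zero, mul_one]
  refine Good2.step A ⟨_, cl_mem A (by norm_num) _ _, e1⟩ ?_
  refine Good2.step A (Cj.conjN A (k := 0) (by norm_num) _) ?_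
  rw [conj_mul, N_cl A (by norm_num) (by norm_num) (show img 0 4 = 6 from rfl) (by norm_num),
    N_cl A (by norm_num) (by norm_num) (show img 0 8 = 2 from rfl) (by norm_num), C26 A]
  exact pair_good A V U4 fun h => hV h.1

theorem S_two {U2 c U4 e U6 : K} (hU2 : U2 ≠ 0) :
    Good2 A (cl A 2 0 U2 * cl A 3 c 0 * cl A 4 0 U4 * cl A 5 e 0 * cl A 6 0 U6) := by
  obtain ⟨U4, e, U6, e1⟩ : ∃ U4' e' U6', cl A 8 (c / U2) 0 *
      (cl A 2 0 U2 * cl A 3 c 0 * cl A 4 0 U4 * cl A 5 e 0 * cl A 6 0 U6) =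
        cl A 2 0 U2 * cl A 4 0 U4' * cl A 5 e' 0 * cl A 6 0 U6' * cl A 8 (c / U2) 0 := by
    have h := S1 A U2 c U4 e U6 (c / U2)
    rw [mul_div_cancel₀ _ hU2, add_self A, cl_zero, mul_one] at h
    exact ⟨_, _, _, by simpa only [← mul_assoc] using h⟩
  refine Good2.step A ⟨_, cl_mem A (by norm_num) _ _, e1⟩ ?_
  obtain ⟨U4, U6, e1⟩ : ∃ U4' U6', cl A 8 0 (e / U2) *
      (cl A 2 0 U2 * cl A 4 0 U4 * cl A 5 e 0 * cl A 6 0 U6) =
        cl A 2 0 U2 * cl A 4 0 U4' * cl A 6 0 U6' * cl A 8 0 (e / U2) := by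
    have h := S2 A U2 U4 e U6 (e / U2)
    rw [mul_div_cancel₀ _ hU2, add_self A, cl_zero, mul_one] at h
    exact ⟨_, _, by simpa only [← mul_assoc] using h⟩
  refine Good2.step A ⟨_, cl_mem A (by norm_num) _ _, e1⟩ ?_
  have e1 : cl A 7 (U4 / U2) 0 * (cl A 2 0 U2 * cl A 4 0 U4 * cl A 6 0 U6) =
      cl A 2 0 U2 * cl A 6 0 U6 * cl A 7 (U4 / U2) 0 := by
    simp only [← mul_assoc]
    rw [S3 A, mul_div_cancel₀ _ hU2, add_self A, cl_zero, mul_one]
  exact Good2.step A ⟨_, cl_mem A (by norm_num) _ _, e1⟩ (pair_good A _ _ fun h => hU2 h.1)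

theorem N1_S (c U4 e U6 : K) : N A 1 * (cl A 3 c 0 * cl A 4 0 U4 * cl A 5 e 0 * cl A 6 0 U6) * (N A 1)⁻¹ =
    cl A 2 0 U6 * cl A 3 e 0 * cl A 4 0 U4 * cl A 5 c 0 := by
  rw [conj_mul, conj_mul, conj_mul,
    N_cl A (by norm_num) (by norm_num) (show img 1 3 = 5 from rfl) (by norm_num),
    N_cl A (by norm_num) (by norm_num) (show img 1 4 = 4 from rfl) (by norm_num),
    N_cl A (by norm_num) (by norm_num) (show img 1 5 = 3 from rfl) (by norm_num),
    N_cl A (by norm_num) (by norm_num) (show img 1 6 = 2 from rfl) (by norm_num), N1s A]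

theorem S_six {c U4 e U6 : K} (hU6 : U6 ≠ 0) :
    Good2 A (cl A 3 c 0 * cl A 4 0 U4 * cl A 5 e 0 * cl A 6 0 U6) := by
  refine Good2.step A (Cj.conjN A (k := 1) (by norm_num) _) ?_
  rw [N1_S]
  simpa [cl_zero] using S_two A (U2 := U6) (c := e) (U4 := U4) (e := c) (U6 := 0) hU6

theorem S_five {c U4 e : K} (he : e ≠ 0) : Good2 A (cl A 3 c 0 * cl A 4 0 U4 * cl A 5 e 0) := by
  have e1 : cl A 8 1 0 * (cl A 3 c 0 * cl A 4 0 U4 * cl A 5 e 0) =
      cl A 3 c 0 * cl A 4 0 (U4 + th A c) * cl A 5 (c + e) 0 * cl A 6 0 e * cl A 8 1 0 := by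
    have h := S1 A 0 c U4 e 0 1
    simp only [cl_zero, mul_one, zero_mul, zero_add, add_zero, map_one] at h
    simp only [one_mul] at h
    simp only [← mul_assoc]
    exact h
  exact Good2.step A ⟨_, cl_mem A (by norm_num) _ _, e1⟩ (S_six A he)

theorem S_good {c U4 e U6 : K} (h : ¬ (c = 0 ∧ U4 = 0 ∧ e = 0 ∧ U6 = 0)) :
    Good2 A (cl A 3 c 0 * cl A 4 0 U4 * cl A 5 e 0 * cl A 6 0 U6) := by
  rcases eq_or_ne U6 0 with rfl | hU6
  swap
  · exact S_six A hU6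
  simp only [cl_zero, mul_one]
  rcases eq_or_ne e 0 with rfl | he
  swap
  · exact S_five A he
  rcases eq_or_ne c 0 with rfl | hc
  · simp only [cl_zero, one_mul, mul_one]
    exact Or.inl (z_scale A fun h0 => h ⟨rfl, h0, rfl, rfl⟩)
  refine Good2.step A (Cj.conjN A (k := 1) (by norm_num) _) ?_
  have e1 := N1_S A c U4 0 0
  simp only [cl_zero, mul_one, one_mul] at e1 ⊢
  rw [e1]
  simpa [cl_zero] using S_five A (c := (0 : K)) (U4 := U4) hc

theorem invol_good {u : GLD} (hp : u ∈ chevF4.posUnipotent K) (hm : u ∈ G1 K m) (h1 : u * u = 1)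
    (hne : u ≠ 1) : Good2 A u := by
  obtain ⟨a, T2, U2, c, T4, U4, e, T6, U6, g, x, y, rfl⟩ := pos_decomp A hp hm
  unfold u8 at h1 hne ⊢
  obtain rfl : x = 0 := by
    rcases mul_eq_zero.1 (Q30 A _ _ _ _ _ _ _ _ _ _ _ _ h1) with h | h
    · exact (pow_eq_zero_iff two_ne_zero).1 h
    · exact (th A).injective (h.trans (map_zero _).symm)
  rcases eq_or_ne y 0 with rfl | hy
  swap
  · obtain rfl : a = 0 := (mul_eq_zero.1 (Q35 A _ _ _ _ _ _ _ _ _ _ _ h1)).resolve_right hy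
    simp only [cl_zero, one_mul] at h1 ⊢
    exact case_eight A hy h1
  simp only [cl_zero, mul_one] at h1 hne ⊢
  rcases eq_or_ne a 0 with rfl | ha
  swap
  · exact Or.inr (case_one A ha h1)
  simp only [cl_zero, one_mul] at h1 hne ⊢
  obtain rfl : T2 = 0 := by
    rcases mul_eq_zero.1 (Q36o A _ _ _ _ _ _ _ _ _ h1) with h | h
    · exact h
    · exact (th A).injective (h.trans (map_zero _).symm)
  obtain rfl : T6 = 0 := by
    have h39 := mul_eq_zero.1 (Q39o A _ _ _ _ _ _ _ _ h1)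
    rcases h39 with h | h
    · have h40 := Q40o A _ _ _ _ _ _ _ _ h1
      rw [h, zero_mul, zero_add] at h40
      rcases mul_eq_zero.1 h40 with h' | h'
      · exact h'
      · exact (th A).injective (h'.trans (map_zero _).symm)
    · exact h
  have h40 := Q40o A _ _ _ _ _ _ _ _ h1
  simp only [map_zero, mul_zero, add_zero] at h40
  have h44 := Q44o A _ _ _ _ _ _ _ h1
  rcases eq_or_ne g 0 with rfl | hg
  · rw [mul_zero, add_zero] at h44
    obtain rfl : T4 = 0 := by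
      rcases mul_eq_zero.1 h44 with h | h
      · exact h
      · exact (th A).injective (h.trans (map_zero _).symm)
    simp only [cl_zero, mul_one] at hne ⊢
    rcases eq_or_ne U2 0 with rfl | hU2
    swap
    · exact S_two A hU2
    simp only [cl_zero, one_mul] at hne ⊢
    refine S_good A ?_
    rintro ⟨rfl, rfl, rfl, rfl⟩
    simp [cl_zero] at hne
  · obtain rfl : T4 = 0 := (mul_eq_zero.1 h40).resolve_right hg
    rw [zero_mul, zero_add] at h44
    obtain rfl : U2 = 0 := (mul_eq_zero.1 h44).resolve_right hg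
    simp only [cl_zero, one_mul] at h1 ⊢
    have eN : N A 1 * (cl A 3 c 0 * cl A 4 0 U4 * cl A 5 e 0 * cl A 6 0 U6 * cl A 7 g 0) * (N A 1)⁻¹ =
        cl A 1 g 0 * cl A 2 0 U6 * cl A 3 e 0 * cl A 4 0 U4 * cl A 5 c 0 * cl A 6 0 0 * cl A 7 0 0 := by
      rw [conj_mul, conj_mul, conj_mul, conj_mul,
        N_cl A (by norm_num) (by norm_num) (show img 1 3 = 5 from rfl) (by norm_num),
        N_cl A (by norm_num) (by norm_num) (show img 1 4 = 4 from rfl) (by norm_num),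
        N_cl A (by norm_num) (by norm_num) (show img 1 5 = 3 from rfl) (by norm_num),
        N_cl A (by norm_num) (by norm_num) (show img 1 6 = 2 from rfl) (by norm_num),
        N_cl A (by norm_num) (by norm_num) (show img 1 7 = 1 from rfl) (by norm_num), N1g A, cl_zero, cl_zero,
        mul_one, mul_one]
    have e2 := mul_inv_eq_iff_eq_mul.1 eN
    exact Or.inr (Cj.trans ⟨_, N_mem A (by norm_num), e2⟩ (case_one A hg (sq_one_conj e2 h1)))

end Cfsg.Agent.Lib.RankOne.F4Invol
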