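import Cfsg.Agent.Lib.Chev.RootsCent
import Cfsg.Agent.Lib.RankOne.F4InvolClass

/-!
The two classes of involutions of the large Ree groups are distinct, and the centralisers of the
representatives lie in maximal parabolic subgroups.
-/

set_option autoImplicit false
set_option maxRecDepth 100000
set_option maxHeartbeats 1000000
set_option linter.unusedSectionVars false

namespace Cfsg.Agent.Lib.RankOne.F4Invol

open Cfsg.Lie Cfsg.Agent.Lib.Chev Cfsg.Agent.Lib.Chev.Tw Cfsg.Agent.Lib.Chev.Tw.F4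

/-- The images of all roots. -/
def rimg (L : List ℕ) : List ℕ := (List.range 48).map (wl tabF4 (twF4.cat L))

theorem words_step : words.all (fun e => [0, 1].all fun k =>
    words.any fun e' => (rimg e).map (wl tabF4 (twF4.blk k)) == rimg e') = true := by decide +kernel

theorem words_five : ∀ w ∈ words, wl tabF4 (twF4.cat w) 39 ∈ [39, 40, 44, 45, 46, 47] →
    w ∈ [[], [0]] := by decide +kernel

theorem words_four : ∀ w ∈ words,
    (wl tabF4 (twF4.cat w) 44 = 44 ∨ wl tabF4 (twF4.cat w) 47 = 44) → w ∈ [[], [1]] := by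
  decide +kernel

theorem words_central : ∀ w ∈ words, wl tabF4 (twF4.cat w) 44 ≠ 39 ∧ wl tabF4 (twF4.cat w) 47 ≠ 39 := by
  decide +kernel

variable {K : Type*} [Field K] [Fintype K] {m : ℕ} (A : Par K m)

set_option quotPrecheck false
local notation "GX" => Chev.Good.X (Chev.Tw.Sys.G (Chev.Tw.F4.sys A)) K
local notation "GLD" => GL chevF4.Idx K
local notation "GG" => ↥(twistedF4 K (2 ^ m))
local notation "R6" => ([39, 40, 44, 45, 46, 47] : List ℕ)

theorem R6_chk : chkComm2 chevF4 tabF4 2 R6 R6 = true ∧ chkSorted chevF4 R6 = true := by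
  decide +kernel

theorem exists_word : ∀ L : List ℕ, Cfsg.Agent.Lib.Chev.Tw.IsB twF4 L → ∃ w ∈ words,
    ∀ s < chevF4.nroots, wl tabF4 (twF4.cat w) s = wl tabF4 (twF4.cat L) s := by
  intro L
  induction L with
  | nil => exact fun _ => ⟨[], by simp [words], fun _ _ => rfl⟩
  | cons k L ih =>
    intro hB
    obtain ⟨w, hw, hwe⟩ := ih fun j hj => hB j (List.mem_cons_of_mem _ hj)
    have hk : k ∈ [0, 1] := by
      have := hB k List.mem_cons_self
      simp [twF4, TwTab.nb] at this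
      simp; omega
    have h := List.all_eq_true.1 (List.all_eq_true.1 words_step w hw) k hk
    obtain ⟨w', hw', he⟩ := List.any_eq_true.1 h
    refine ⟨w', hw', fun s hs => ?_⟩
    simp only [beq_iff_eq, rimg, List.map_map] at he
    have hs' : s ∈ List.range 48 := List.mem_range.2 (show s < 48 from (show chevF4.nroots = 48 by decide +kernel) ▸ hs)
    have := (List.map_inj_left.1 he) s hs'
    simp only [Function.comp_apply] at this
    rw [← this, show twF4.cat (k :: L) = twF4.blk k ++ twF4.cat L by simp [TwTab.cat], wl_append,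
      hwe s hs]

include A in
theorem rep_word {n : GLD} (hn : n ∈ chevF4.monomialSubgroup K) (gn : n ∈ G1 K m) :
    ∃ l w, (sys A).G.Rep K n l ∧ w ∈ words ∧
      ∀ s < chevF4.nroots, wl tabF4 (twF4.cat w) s = wl tabF4 l s := by
  obtain ⟨l, hl⟩ := (sys A).G.exists_rep hn
  obtain ⟨L, hL, he⟩ := (sys A).exists_blocks hl.1
    (Gens.isRho_of_fix (Y := sys A) ((gens A).le_Fx gn) hl)
  obtain ⟨w, hw, hwe⟩ := exists_word L hL
  exact ⟨l, w, hl, hw, fun s hs => (hwe s hs).trans (he s hs)⟩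

/-- Products over six commuting roots. -/
def P6 (f : ℕ → K) : GLD := Good'.P (sys A).G R6 f

/-- A single coefficient. -/
def single (r : ℕ) (c : K) : ℕ → K := fun x => if x = r then c else 0

theorem P6_single {r : ℕ} (hr : r ∈ R6) (c : K) : P6 A (single r c) = GX r c := by
  simp only [List.mem_cons, List.not_mem_nil, or_false] at hr
  rcases hr with rfl | rfl | rfl | rfl | rfl | rfl <;>
    simp [P6, Good'.P, Good.wordG, single, (sys A).G.X_zero]

theorem P6_mul (f g : ℕ → K) : P6 A f * P6 A g = P6 A fun r => f r + g r :=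
  Good'.P_mul (sys A).G (cast2 A) R6_chk.1 R6 (fun _ h => h) f g

/-- A product of the classes five, four and six. -/
def Q (e s t : K) : GLD := cl A 5 e 0 * cl A 4 0 s * cl A 6 0 t

/-- Its coefficients. -/
def qf (e s t : K) : ℕ → K := fun r =>
  single 39 e r + single 45 (th A e) r + (single 44 s r + single 47 (th A s) r) +
    (single 40 t r + single 46 (th A t) r)

theorem Q_eq (e s t : K) : Q A e s t = P6 A (qf A e s t) := by
  show GX 39 e * GX 45 (th A e) * (GX 29 0 * GX 41 (th A 0) * GX 44 (0 * th A 0 + s) * GX 47 (th A s)) *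
    (GX 35 0 * GX 31 (th A 0) * GX 40 (0 * th A 0 + t) * GX 46 (th A t)) = _
  simp only [map_zero, (sys A).G.X_zero, one_mul, zero_mul, zero_add]
  rw [← P6_single A (r := 39) (by simp), ← P6_single A (r := 45) (by simp),
    ← P6_single A (r := 44) (by simp), ← P6_single A (r := 47) (by simp),
    ← P6_single A (r := 40) (by simp), ← P6_single A (r := 46) (by simp), P6_mul, P6_mul, P6_mul,
    P6_mul, P6_mul]
  rfl

theorem qf_val (e s t : K) : qf A e s t 39 = e ∧ qf A e s t 44 = s := by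
  simp [qf, single]

theorem R6_prop : (∀ r ∈ R6, npos chevF4 ≤ r ∧ r < chevF4.nroots) ∧ (R6).Nodup := by decide +kernel

theorem supp {n : GLD} {l : List ℕ} (hl : (sys A).G.Rep K n l) {f f' : ℕ → K}
    (h : n * P6 A f * n⁻¹ = P6 A f') {r : ℕ} (hr : r ∈ R6) (hf : f r ≠ 0) : wl tabF4 l r ∈ R6 :=
  (sys A).G.act_support hl R6_prop.1 R6_prop.2
    (fun a ha b hb t u => (Good'.commute_X (sys A).G (cast2 A) R6_chk.1 ha hb t u).eq) h r hr hf

theorem central_image {n : GLD} (hn : n ∈ chevF4.monomialSubgroup K) (gn : n ∈ G1 K m) {e s t : K}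
    (h : n * Q A 0 1 0 * n⁻¹ = Q A e s t) :
    e = 0 ∧ (s ≠ 0 → ∃ l w, (sys A).G.Rep K n l ∧ w ∈ [[], [1]] ∧
      ∀ x < chevF4.nroots, wl tabF4 (twF4.cat w) x = wl tabF4 l x) := by
  obtain ⟨l, w, hl, hw, he⟩ := rep_word A hn gn
  rw [Q_eq, Q_eq] at h
  have v : qf A 0 1 0 44 = 1 ∧ qf A 0 1 0 47 = 1 := by simp [qf, single]
  have h44 := supp A hl h (r := 44) (by simp) (by simp [v.1])
  have h47 := supp A hl h (r := 47) (by simp) (by simp [v.2])
  obtain ⟨-, c1, -, e1⟩ := (sys A).G.rep_act hl 44 (by decide +kernel)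
  obtain ⟨-, c2, -, e2⟩ := (sys A).G.rep_act hl 47 (by decide +kernel)
  have hQ : P6 A (qf A 0 1 0) = GX 44 1 * GX 47 1 := by
    rw [← Q_eq]
    show GX 39 0 * GX 45 (th A 0) * (GX 29 0 * GX 41 (th A 0) * GX 44 (0 * th A 0 + 1) * GX 47 (th A 1)) *
      (GX 35 0 * GX 31 (th A 0) * GX 40 (0 * th A 0 + 0) * GX 46 (th A 0)) = _
    simp [(sys A).G.X_zero]
  rw [hQ, conj_mul, e1, e2, ← P6_single A h44, ← P6_single A h47, P6_mul] at h
  have hinj := Good'.P_inj (sys A).G R6_chk.2 h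
  obtain ⟨q39, q44⟩ := qf_val A e s t
  have h39 := hinj 39 (by simp)
  obtain ⟨n1, n2⟩ := words_central w hw
  rw [he 44 (by decide +kernel)] at n1
  rw [he 47 (by decide +kernel)] at n2
  rw [q39] at h39
  refine ⟨by simpa [single, Ne.symm n1, Ne.symm n2] using h39.symm, fun hs => ⟨l, w, hl, ?_, he⟩⟩
  refine words_four w hw ?_
  rw [he 44 (by decide +kernel), he 47 (by decide +kernel)]
  by_contra hne
  rw [not_or] at hne
  have h4 := hinj 44 (by simp)
  rw [q44] at h4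
  exact hs (by simpa [single, Ne.symm hne.1, Ne.symm hne.2] using h4.symm)

theorem five_image {n : GLD} (hn : n ∈ chevF4.monomialSubgroup K) (gn : n ∈ G1 K m) {s t e' s' t' : K}
    (h : n * Q A 1 s t * n⁻¹ = Q A e' s' t') :
    ∃ l w, (sys A).G.Rep K n l ∧ w ∈ [[], [0]] ∧
      ∀ x < chevF4.nroots, wl tabF4 (twF4.cat w) x = wl tabF4 l x := by
  obtain ⟨l, w, hl, hw, he⟩ := rep_word A hn gn
  rw [Q_eq, Q_eq] at h
  have h39 := supp A hl h (r := 39) (by simp) (by simp [(qf_val A 1 s t).1])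
  refine ⟨l, w, hl, words_five w hw ?_, he⟩
  rw [he 39 (by decide +kernel)]
  exact h39

theorem zEl_eq : zEl A = Q A 0 1 0 := by simp [zEl, Q, cl_zero]

theorem xEl_eq : xEl A = Q A 1 0 0 := by simp [xEl, Q, cl_zero]

theorem z_central {u : GLD} (hu : u ∈ chevF4.posUnipotent K) (gu : u ∈ G1 K m) :
    u * zEl A * u⁻¹ = zEl A := by
  obtain ⟨a, T2, U2, c, T4, U4, e, T6, U6, g, x, y, rfl⟩ := pos_decomp A hu gu
  rw [mul_inv_eq_iff_eq_mul]
  unfold u8 zEl
  simp only [← mul_assoc]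
  exact Zc A a T2 U2 c T4 U4 e T6 U6 g 1 x y

theorem x_conj {u : GLD} (hu : u ∈ chevF4.posUnipotent K) (gu : u ∈ G1 K m) :
    ∃ s t, u * xEl A * u⁻¹ = Q A 1 s t := by
  obtain ⟨a, T2, U2, c, T4, U4, e, T6, U6, g, x, y, rfl⟩ := pos_decomp A hu gu
  refine ⟨T2 + a * x, x, ?_⟩
  rw [mul_inv_eq_iff_eq_mul]
  unfold u8 xEl Q
  simp only [← mul_assoc]
  exact Xc A a T2 U2 c T4 U4 e T6 U6 g x y

theorem not_cj : ¬ Cj (m := m) (zEl A) (xEl A) := by
  rintro ⟨h, hh, e⟩
  obtain ⟨u₁, n, u₂, p1, g1, hn, gn, p2, g2, rfl⟩ := (gens A).normal_form (g := h) hh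
  obtain ⟨s, t, ex⟩ := x_conj A (inv_mem p1) (inv_mem g1)
  have e2 := z_central A p2.1 g2
  have h1 : n * Q A 0 1 0 * n⁻¹ = Q A 1 s t := by
    rw [← zEl_eq, ← ex, ← e2]
    calc n * (u₂ * zEl A * u₂⁻¹) * n⁻¹ = u₁⁻¹ * (u₁ * n * u₂ * zEl A) * u₂⁻¹ * n⁻¹ := by group
      _ = _ := by rw [e]; group
  exact one_ne_zero (central_image A hn gn h1).1

/-- The minimal parabolic subgroups as sets. -/
theorem mem_parabolic {k : ℕ} (hk : k < twF4.nb) {h : GG} {u₁ n u₂ : GLD}
    (p1 : u₁ ∈ chevF4.posUnipotent K) (g1 : u₁ ∈ G1 K m) (gn : n ∈ G1 K m)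
    (p2 : u₂ ∈ chevF4.posUnipotent K) (g2 : u₂ ∈ G1 K m) (e : (h : GLD) = u₁ * n * u₂)
    {l : List ℕ} {w : List ℕ} (hn : n ∈ chevF4.monomialSubgroup K) (hl : (sys A).G.Rep K n l)
    (hw : w ∈ [[], [k]]) (he : ∀ x < chevF4.nroots, wl tabF4 (twF4.cat w) x = wl tabF4 l x) :
    h ∈ F4Aut.minP A k hk := by
  set P := F4Aut.minP A k hk
  have hB : ∀ {y : GG}, (y : GLD) ∈ chevF4.borelSubgroup K → y ∈ P := fun {y} hy =>
    Subgroup.mem_sup_left hy
  have hN : (⟨n, gn⟩ : GG) ∈ P := by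
    simp only [List.mem_cons, List.not_mem_nil, or_false] at hw
    rcases hw with rfl | rfl
    · refine hB (Subgroup.mem_sup_right ((sys A).G.mem_diag_of_act_id hn ((sys A).G.rep_act hl) ?_))
      intro s hs
      rw [← he s hs]
      rfl
    · have hW := ((sys A).blk_facts hk).1
      have hact : (sys A).G.Act K n (wl tabF4 (twF4.blk k)) := by
        intro r hr
        have h := (sys A).G.rep_act hl r hr
        rwa [← he r hr, cat_single] at h
      have hd := ((sys A).rep_of_act hn hW hact).2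
      have hk' : F4Aut.nk A k hk ∈ P := Subgroup.mem_sup_right (Subgroup.subset_closure rfl)
      have h1 : ((⟨n, gn⟩ : GG) * (F4Aut.nk A k hk)⁻¹) ∈ P := hB (Subgroup.mem_sup_right hd)
      simpa using mul_mem h1 hk'
  have e' : h = ⟨u₁, g1⟩ * ⟨n, gn⟩ * ⟨u₂, g2⟩ := Subtype.ext e
  rw [e']
  exact mul_mem (mul_mem (hB (Subgroup.mem_sup_left p1)) hN) (hB (Subgroup.mem_sup_left p2))

theorem cent_z {h : GG} (e : (h : GLD) * zEl A = zEl A * h) :
    h ∈ F4Aut.minP A 1 (by decide) := by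
  obtain ⟨u₁, n, u₂, p1, g1, hn, gn, p2, g2, eh⟩ := (gens A).normal_form (g := (h : GLD)) h.2
  have e1 := z_central A (inv_mem p1) (inv_mem g1)
  have e2 := z_central A p2.1 g2
  have h1 : n * Q A 0 1 0 * n⁻¹ = Q A 0 1 0 := by
    rw [← zEl_eq]
    calc n * zEl A * n⁻¹ = n * (u₂ * zEl A * u₂⁻¹) * n⁻¹ := by rw [e2]
      _ = u₁⁻¹ * ((u₁ * n * u₂) * zEl A) * u₂⁻¹ * n⁻¹ := by group
      _ = u₁⁻¹ * zEl A * u₁⁻¹⁻¹ := by rw [← eh, e, eh]; group
      _ = zEl A := e1
  obtain ⟨l, w, hl, hw, he⟩ := (central_image A hn gn h1).2 one_ne_zero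
  exact mem_parabolic A _ p1 g1 gn p2.1 g2 eh hn hl hw he

theorem cent_x {h : GG} (e : (h : GLD) * xEl A = xEl A * h) :
    h ∈ F4Aut.minP A 0 (by decide) := by
  obtain ⟨u₁, n, u₂, p1, g1, hn, gn, p2, g2, eh⟩ := (gens A).normal_form (g := (h : GLD)) h.2
  obtain ⟨s, t, e2⟩ := x_conj A p2.1 g2
  obtain ⟨s', t', e1⟩ := x_conj A (inv_mem p1) (inv_mem g1)
  have h1 : n * Q A 1 s t * n⁻¹ = Q A 1 s' t' := by
    rw [← e1, ← e2]
    calc n * (u₂ * xEl A * u₂⁻¹) * n⁻¹ = u₁⁻¹ * ((u₁ * n * u₂) * xEl A) * u₂⁻¹ * n⁻¹ := by group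
      _ = _ := by rw [← eh, e, eh]; group
  obtain ⟨l, w, hl, hw, he⟩ := five_image A hn gn h1
  exact mem_parabolic A _ p1 g1 gn p2.1 g2 eh hn hl hw he

end Cfsg.Agent.Lib.RankOne.F4Invol
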