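import Cfsg.Agent.Lib.RankOne.F4InvolCent
import Cfsg.Agent.Lib.Chev.Tw.TitsSimple

/-!
The count of the classes of involutions in the large Ree groups and the Tits group, and the primes
of the centralisers.
-/

set_option autoImplicit false
set_option maxRecDepth 100000
set_option maxHeartbeats 1000000
set_option linter.unusedSectionVars false

namespace Cfsg.Agent.Lib.RankOne.F4Invol

open Cfsg.Lie Cfsg.Agent.Lib.Chev Cfsg.Agent.Lib.Chev.Tw Cfsg.Agent.Lib.Chev.Tw.F4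

variable {K : Type*} [Field K] [Fintype K] {m : ℕ} (A : Par K m)

set_option quotPrecheck false
local notation "GX" => Chev.Good.X (Chev.Tw.Sys.G (Chev.Tw.F4.sys A)) K
local notation "GLD" => GL chevF4.Idx K
local notation "GG" => ↥(twistedF4 K (2 ^ m))

include A in
theorem into_pos {g : GG} (hg : g * g = 1) :
    ∃ h : GG, ((h * g * h⁻¹ : GG) : GLD) ∈ chevF4.posUnipotent K := by
  classical
  set P := F4Aut.UP K m
  have hodd : ¬ 2 ∣ Fintype.card (GG ⧸ P) := by
    rw [← Nat.card_eq_fintype_card]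
    have h := P.card_mul_index
    rw [F4Aut.card_UP A, card_group A, Subgroup.index, mul_assoc, mul_assoc, mul_assoc] at h
    obtain ⟨r, hr⟩ : ∃ r, 2 ^ (2 * m + 1) = 2 * (r + 1) := by
      refine ⟨2 ^ (2 * m) - 1, ?_⟩
      have := Nat.one_le_two_pow (n := 2 * m)
      rw [pow_succ]; omega
    have h' := Nat.eq_of_mul_eq_mul_left (pow_pos (pow_pos two_pos _) _) h
    rw [h', hr, ← even_iff_two_dvd]
    have e1 : ¬ Even (2 * (r + 1) - 1) := by rintro ⟨d, hd⟩; omega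
    have ev : ∀ n : ℕ, 0 < n → ∃ d, (2 * (r + 1)) ^ n = 2 * (d + 1) := fun n hn => by
      obtain ⟨n, rfl⟩ : ∃ k, n = k + 1 := ⟨n - 1, by omega⟩
      refine ⟨(2 * (r + 1)) ^ n * (r + 1) - 1, ?_⟩
      have h1 : 1 ≤ (2 * (r + 1)) ^ n * (r + 1) := Nat.one_le_iff_ne_zero.2 (by positivity)
      rw [pow_succ, Nat.sub_add_cancel h1]; ring
    obtain ⟨d3, h3⟩ := ev 3 (by norm_num)
    obtain ⟨d4, h4⟩ := ev 4 (by norm_num)
    obtain ⟨d6, h6⟩ := ev 6 (by norm_num)
    rw [h3, h4, h6]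
    have e3 : ¬ Even (2 * (d3 + 1) + 1) := by rintro ⟨d, hd⟩; omega
    have e4 : ¬ Even (2 * (d4 + 1) - 1) := by rintro ⟨d, hd⟩; omega
    have e6 : ¬ Even (2 * (d6 + 1) + 1) := by rintro ⟨d, hd⟩; omega
    simp [Nat.even_mul, e1, e3, e4, e6]
  let σ : Equiv.Perm (GG ⧸ P) := MulAction.toPerm g
  have hσ : σ ^ 2 ^ 1 = 1 := by
    refine Equiv.ext fun x => ?_
    show g • g • x = x
    rw [← mul_smul, hg, one_smul]
  obtain ⟨x, hx⟩ := σ.exists_fixed_point_of_prime hodd hσ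
  obtain ⟨y, rfl⟩ := QuotientGroup.mk_surjective x
  have h1 : (QuotientGroup.mk y : GG ⧸ P) = QuotientGroup.mk (g * y) := hx.symm
  refine ⟨y⁻¹, ?_⟩
  have h2 := QuotientGroup.eq.1 h1
  rw [inv_inv, mul_assoc]
  exact h2

/-- The central representative. -/
def zG : GG := ⟨zEl A, cl_mem A (by norm_num) _ _⟩

/-- The other representative. -/
def xG : GG := ⟨xEl A, cl_mem A (by norm_num) _ _⟩

theorem isConj_of_cj {g g' : GG} (h : Cj (m := m) (g : GLD) g') : IsConj g g' := by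
  obtain ⟨a, ha, e⟩ := h
  exact isConj_iff.2 ⟨⟨a, ha⟩, mul_inv_eq_iff_eq_mul.2 (Subtype.ext e)⟩

theorem not_isConj : ¬ IsConj (zG A) (xG A) := fun h => by
  obtain ⟨c, hc⟩ := isConj_iff.1 h
  exact not_cj A ⟨(c : GLD), c.2, congrArg Subtype.val (mul_inv_eq_iff_eq_mul.1 hc)⟩

theorem classify {g : GG} (hg : orderOf g = 2) : IsConj g (zG A) ∨ IsConj g (xG A) := by
  have hsq : g * g = 1 := by rw [← sq]; exact (congrArg (g ^ ·) hg).symm.trans (pow_orderOf_eq_one g)
  obtain ⟨h, hp⟩ := into_pos A hsq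
  have hne : ((h * g * h⁻¹ : GG) : GLD) ≠ 1 := fun h1 => by
    have h3 : g = 1 := conj_eq_one_iff.1 (Subtype.ext h1 : h * g * h⁻¹ = 1)
    rw [h3, orderOf_one] at hg
    exact absurd hg (by norm_num)
  have h2 : (h * g * h⁻¹) * (h * g * h⁻¹) = 1 := by
    rw [show h * g * h⁻¹ * (h * g * h⁻¹) = h * (g * g) * h⁻¹ by group, hsq]; group
  have hc : IsConj g (h * g * h⁻¹) := isConj_iff.2 ⟨h, rfl⟩
  exact (invol_good A hp (h * g * h⁻¹).2 (congrArg Subtype.val h2) hne).imp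
    (fun e => hc.trans (isConj_of_cj e)) fun e => hc.trans (isConj_of_cj e)

theorem ord_two {g : GG} (h1 : g * g = 1) (h2 : g ≠ 1) : orderOf g = 2 :=
  orderOf_eq_prime (by rw [sq, h1]) h2

theorem X_sq (r : ℕ) (t : K) : GX r t * GX r t = 1 := by
  rw [(sys A).G.X_add, add_self A, (sys A).G.X_zero]

theorem Q_sq (e s : K) : Q A e s 0 * Q A e s 0 = 1 := by
  rw [Q_eq, P6_mul]
  refine List.prod_eq_one fun z hz => ?_
  simp only [List.map_map, List.mem_map] at hz
  obtain ⟨r, -, rfl⟩ := hz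
  simp [add_self A, (sys A).G.X_zero]

theorem Q_ne {e s : K} (h : ¬ (e = 0 ∧ s = 0)) : Q A e s 0 ≠ 1 := by
  intro h1
  rw [Q_eq] at h1
  have h0 : P6 A (fun _ => (0 : K)) = 1 := by
    refine List.prod_eq_one fun z hz => ?_
    simp only [List.map_map, List.mem_map] at hz
    obtain ⟨r, -, rfl⟩ := hz
    simp [(sys A).G.X_zero]
  have hi := Good'.P_inj (sys A).G R6_chk.2 (h1.trans h0.symm)
  obtain ⟨q1, q2⟩ := qf_val A e s 0
  exact h ⟨q1 ▸ hi 39 (by simp), q2 ▸ hi 44 (by simp)⟩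

theorem ord_z : orderOf (zG A) = 2 :=
  ord_two (Subtype.ext (by show zEl A * zEl A = 1; rw [zEl_eq, Q_sq]))
    fun h => Q_ne A (e := 0) (s := 1) (by simp) ((zEl_eq A).symm.trans (congrArg Subtype.val h))

theorem ord_x : orderOf (xG A) = 2 :=
  ord_two (Subtype.ext (by show xEl A * xEl A = 1; rw [xEl_eq, Q_sq]))
    fun h => Q_ne A (e := 1) (s := 0) (by simp) ((xEl_eq A).symm.trans (congrArg Subtype.val h))

include A in
theorem class_count : (ConjClasses.mk '' {g : GG | orderOf g = 2}).ncard = 2 := by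
  have hset : ConjClasses.mk '' {g : GG | orderOf g = 2} =
      {ConjClasses.mk (zG A), ConjClasses.mk (xG A)} := by
    refine Set.Subset.antisymm ?_ ?_
    · rintro _ ⟨g, hg, rfl⟩
      exact (classify A hg).imp ConjClasses.mk_eq_mk_iff_isConj.2 ConjClasses.mk_eq_mk_iff_isConj.2
    · rintro _ (rfl | rfl)
      · exact ⟨_, ord_z A, rfl⟩
      · exact ⟨_, ord_x A, rfl⟩
  rw [hset, Set.ncard_pair]
  exact fun h => not_isConj A (ConjClasses.mk_eq_mk_iff_isConj.1 h)

/-! ### The primes of the centralisers -/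

include A in
theorem card_B : Nat.card ↥(F4Aut.bn A).B =
    (2 ^ (2 * m + 1)) ^ 12 * (2 ^ (2 * m + 1) - 1) ^ 2 := by
  have eH : Nat.card ↥(F4Aut.HH K m) = Nat.card ↥(chevF4.diagonalSubgroup K ⊓ G1 K m) := by
    show Nat.card ↥((chevF4.diagonalSubgroup K).subgroupOf (G1 K m)) = _
    rw [← Subgroup.inf_subgroupOf_right]
    exact Nat.card_congr (Subgroup.subgroupOfEquivOfLe inf_le_right).toEquiv
  rw [← F4Aut.card_UP A, ← card_diag A, ← eH, ← Nat.card_prod]
  refine (Nat.card_eq_of_bijective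
    (fun p : ↥(F4Aut.UP K m) × ↥(F4Aut.HH K m) => (⟨p.1.1 * p.2.1, by
      show ((p.1.1 * p.2.1 : GG) : GLD) ∈ chevF4.borelSubgroup K
      exact mul_mem (Subgroup.mem_sup_left p.1.2) (Subgroup.mem_sup_right p.2.2)⟩ : ↥(F4Aut.bn A).B))
    ⟨?_, ?_⟩).symm
  · rintro ⟨u, d⟩ ⟨u', d'⟩ e
    have e' : (u : GG) * d = u' * d' := congrArg Subtype.val e
    have h1 : ((u' : GG)⁻¹ * u : GG) = d' * (d : GG)⁻¹ := by
      rw [eq_mul_inv_iff_mul_eq, mul_assoc, e']; group
    have h2 : (((u' : GG)⁻¹ * u : GG) : GLD) ∈ chevF4.posUnipotent K ⊓ chevF4.diagonalSubgroup K :=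
      Subgroup.mem_inf.2 ⟨(chevF4.posUnipotent K).mul_mem ((chevF4.posUnipotent K).inv_mem u'.2) u.2,
        by rw [h1]; exact (chevF4.diagonalSubgroup K).mul_mem d'.2 ((chevF4.diagonalSubgroup K).inv_mem d.2)⟩
    rw [(sys A).G.pos_inf_diag, Subgroup.mem_bot] at h2
    have h3 : (u' : GG)⁻¹ * u = 1 := Subtype.ext h2
    obtain rfl : u = u' := Subtype.ext (inv_mul_eq_one.1 h3).symm
    obtain rfl : d = d' := Subtype.ext (mul_left_cancel e')
    rfl
  · rintro ⟨b, hb⟩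
    obtain ⟨u, d, hu, gu, hd, gd, e⟩ := (gens A).borel_decomp hb b.2
    exact ⟨(⟨⟨u, gu⟩, hu⟩, ⟨⟨d, gd⟩, hd⟩), Subtype.ext (Subtype.ext e.symm)⟩

theorem posSet_mul_inv {k : ℕ} {c c' : GG} (h : c ∈ F4Aut.posSet A k) (h' : c' ∈ F4Aut.posSet A k) :
    c⁻¹ * c' ∈ F4Aut.posSet A k := by
  refine ⟨mul_mem (inv_mem h.1) h'.1, mul_mem (inv_mem h.2.1) h'.2.1, ?_⟩
  have := mul_mem (inv_mem h.2.2) h'.2.2
  convert this using 1
  simp only [Subgroup.coe_mul, Subgroup.coe_inv]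
  group

theorem index_B {k : ℕ} (hk : k < twF4.nb) :
    ((F4Aut.bn A).B.subgroupOf (F4Aut.minP A k hk)).index =
      (2 ^ (2 * m + 1)) ^ [1, 2].getD k 0 + 1 := by
  classical
  set P := F4Aut.minP A k hk
  set B := (F4Aut.bn A).B
  set N := F4Aut.nk A k hk
  have hBP : B ≤ P := le_sup_left
  have hNP : N ∈ P := Subgroup.mem_sup_right (Subgroup.subset_closure rfl)
  have hCP : ∀ c ∈ F4Aut.posSet A k, c ∈ P := fun c hc => hBP (Subgroup.mem_sup_left hc.1)
  let Φ : Option ↥(F4Aut.posSet A k) → ↥P ⧸ B.subgroupOf P := fun o =>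
    match o with
    | none => QuotientGroup.mk (1 : ↥P)
    | some c => QuotientGroup.mk ⟨(c.1 : GG) * N, mul_mem (hCP _ c.2) hNP⟩
  have hbij : Function.Bijective Φ := by
    constructor
    · rintro (_ | c) (_ | c') e <;> simp only [Φ, QuotientGroup.eq, Subgroup.mem_subgroupOf] at e
      · rfl
      · exfalso
        rw [Subgroup.coe_mul, Subgroup.coe_inv, Subgroup.coe_one, inv_one, one_mul] at e
        have : N ∈ B := by
          have h1 : (c'.1 : GG)⁻¹ * ((c'.1 : GG) * N) ∈ B :=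
            mul_mem (inv_mem (show (c'.1 : GG) ∈ B from Subgroup.mem_sup_left c'.2.1)) e
          rwa [inv_mul_cancel_left] at h1
        exact BNPair.s_not_mem (F4Aut.bn A) (F4Aut.nk_mem_S A hk) this
      · exfalso
        rw [Subgroup.coe_mul, Subgroup.coe_inv, Subgroup.coe_one, mul_one] at e
        have e' := inv_mem e
        rw [inv_inv] at e'
        have : N ∈ B := by
          have h1 : (c.1 : GG)⁻¹ * ((c.1 : GG) * N) ∈ B :=
            mul_mem (inv_mem (show (c.1 : GG) ∈ B from Subgroup.mem_sup_left c.2.1)) e'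
          rwa [inv_mul_cancel_left] at h1
        exact BNPair.s_not_mem (F4Aut.bn A) (F4Aut.nk_mem_S A hk) this
      · simp only [Subgroup.coe_mul, Subgroup.coe_inv] at e
        congr 1
        set d : GG := (c.1 : GG)⁻¹ * c'.1
        have hd := posSet_mul_inv A c.2 c'.2
        have hB2 : N * N ∈ B := (F4Aut.bn A).sq_mem N (F4Aut.nk_mem_S A hk)
        have e' : N⁻¹ * d * N ∈ B := by
          rw [show N⁻¹ * d * N = (c.1 * N)⁻¹ * (c'.1 * N) by simp only [d]; group]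
          exact e
        have h1 : N * d * N⁻¹ ∈ B := by
          have := mul_mem (mul_mem hB2 e') (inv_mem hB2)
          convert this using 1; group
        have h2 : ((N * d * N⁻¹ : GG) : GLD) ∈ chevF4.negUnipotent K := hd.2.2
        have h3 : N * d * N⁻¹ = 1 := Subtype.ext (Subgroup.mem_bot.1
          ((sys A).G.borel_inf_neg (F := K) ▸ Subgroup.mem_inf.2 ⟨h1, h2⟩))
        exact Subtype.ext (inv_mul_eq_one.1 (conj_eq_one_iff.1 h3))
    · intro q
      obtain ⟨⟨y, hy⟩, rfl⟩ := QuotientGroup.mk_surjective q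
      rcases F4Aut.minP_cases A hk hy with h | h
      · exact ⟨none, QuotientGroup.eq.2 (by rw [Subgroup.mem_subgroupOf]; simpa using h)⟩
      · obtain ⟨a, ha, b, hb, e⟩ := (BNPair.mem_dc _).1 h
        obtain ⟨u, d, hu, gu, hd, gd, ea⟩ := (gens A).borel_decomp ha a.2
        set n := (gens A).n k
        obtain ⟨a', c', ha', hc', hna, hnc, eac⟩ := (sys A).exists_split ((sys A).blk_facts hk).1
          ((gens A).n_act k hk) (inv_mem hu)
        obtain ⟨haf, hcf⟩ := Gens.split_fix ((gens A).le_Fx ((gens A).n_mem k hk)) ha' hc' hna hnc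
          (by rw [← eac]; exact (gens A).le_Fx (inv_mem gu))
        have ga' : a' ∈ twistedF4 K (2 ^ m) := (gens A).pos_fix_mem ha' haf
        have gc' : c' ∈ twistedF4 K (2 ^ m) := (gens A).pos_fix_mem hc' hcf
        set C : GG := ⟨c', gc'⟩
        have hC : C⁻¹ ∈ F4Aut.posSet A k := by
          refine ⟨inv_mem hc', inv_mem hcf, ?_⟩
          have := inv_mem hnc
          convert this using 1
          simp only [Subgroup.coe_inv, C]
          group
        refine ⟨some ⟨C⁻¹, hC⟩, QuotientGroup.eq.2 ?_⟩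
        rw [Subgroup.mem_subgroupOf]
        simp only [Subgroup.coe_mul, Subgroup.coe_inv]
        have hB2 : N * N ∈ B := (F4Aut.bn A).sq_mem N (F4Aut.nk_mem_S A hk)
        have h1 : N * (⟨a', ga'⟩ : GG)⁻¹ * N⁻¹ ∈ B := by
          refine Subgroup.mem_sup_left ?_
          have := inv_mem hna
          convert this using 1
          show ((N : GG) : GLD) * a'⁻¹ * ((N : GG) : GLD)⁻¹ = _
          rw [F4Aut.nk_val]
          show _ = (n * a' * n⁻¹)⁻¹
          simp only [n]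
          rw [show (gens A).n k = (sys A).G.nl K (twF4.blk k) from rfl]
          group
        have h2 : N * (⟨d, gd⟩ : GG) * N⁻¹ ∈ B :=
          Subgroup.mem_sup_right ((Subgroup.mem_normalizer_iff.1
            ((sys A).G.monomial_le_normalizer ((gens A).n_mono k hk)) d).1 hd)
        have key : a = C⁻¹ * (⟨a', ga'⟩ : GG)⁻¹ * ⟨d, gd⟩ := by
          refine Subtype.ext (ea.trans ?_)
          show u * d = c'⁻¹ * a'⁻¹ * d
          rw [← mul_inv_rev, ← eac, inv_inv]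
        have h3 := mul_mem (mul_mem (inv_mem hB2)
          (mul_mem (mul_mem h1 h2) hB2)) hb
        convert h3 using 1
        rw [e, key]
        group
        rfl
  rw [Subgroup.index, ← Nat.card_eq_of_bijective Φ hbij, Finite.card_option, F4Aut.posSet_card A hk]

theorem card_minP {k : ℕ} (hk : k < twF4.nb) : Nat.card ↥(F4Aut.minP A k hk) =
    (2 ^ (2 * m + 1)) ^ 12 * (2 ^ (2 * m + 1) - 1) ^ 2 * ((2 ^ (2 * m + 1)) ^ [1, 2].getD k 0 + 1) := by
  rw [← index_B A hk, ← card_B A, ← Nat.card_congr (Subgroup.subgroupOfEquivOfLe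
    (le_sup_left : (F4Aut.bn A).B ≤ F4Aut.minP A k hk)).toEquiv]
  exact (Subgroup.card_mul_index _).symm

include A in
theorem commute_primes {a b : GG} (ha : orderOf a = 2) (hab : Commute a b) :
    (orderOf b).primeFactors ⊆
      (2 ^ (2 * m + 1) * ((2 ^ (2 * m + 1)) ^ 4 - 1)).primeFactors := by
  set q := 2 ^ (2 * m + 1) with hq
  have key : ∃ k, k < 2 ∧ orderOf b ∣ q ^ 12 * (q - 1) ^ 2 * (q ^ [1, 2].getD k 0 + 1) := by
    rcases classify A ha with h | h <;> obtain ⟨c, hc⟩ := isConj_iff.1 h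
    · refine ⟨1, by norm_num, ?_⟩
      have hm : c * b * c⁻¹ ∈ F4Aut.minP A 1 (by decide) := by
        have e : c * b * c⁻¹ * zG A = zG A * (c * b * c⁻¹) := by
          rw [← hc, show c * b * c⁻¹ * (c * a * c⁻¹) = c * (b * a) * c⁻¹ by group, ← hab.eq]
          group
        exact cent_z A (congrArg Subtype.val e)
      have hd := Subgroup.orderOf_dvd_natCard _ hm
      rw [card_minP A (by decide), show orderOf (c * b * c⁻¹) = orderOf b from
        orderOf_injective (MulAut.conj c).toMonoidHom (MulAut.conj c).injective b] at hd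
      exact hd
    · refine ⟨0, by norm_num, ?_⟩
      have hm : c * b * c⁻¹ ∈ F4Aut.minP A 0 (by decide) := by
        have e : c * b * c⁻¹ * xG A = xG A * (c * b * c⁻¹) := by
          rw [← hc, show c * b * c⁻¹ * (c * a * c⁻¹) = c * (b * a) * c⁻¹ by group, ← hab.eq]
          group
        exact cent_x A (congrArg Subtype.val e)
      have hd := Subgroup.orderOf_dvd_natCard _ hm
      rw [card_minP A (by decide), show orderOf (c * b * c⁻¹) = orderOf b from
        orderOf_injective (MulAut.conj c).toMonoidHom (MulAut.conj c).injective b] at hd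
      exact hd
  obtain ⟨k, hk, hd⟩ := key
  obtain ⟨r, hr⟩ : ∃ r, q = r + 2 := ⟨q - 2, by
    have : 2 ≤ q := by rw [hq]; exact Nat.le_self_pow (by omega) 2
    omega⟩
  have hne : q * (q ^ 4 - 1) ≠ 0 := by
    have : 1 < q ^ 4 := Nat.one_lt_pow (by norm_num) (by omega)
    exact Nat.mul_ne_zero (by omega) (by omega)
  have hfac : q ^ 4 - 1 = (q - 1) * ((q + 1) * (q ^ 2 + 1)) := by
    rw [hr, show r + 2 - 1 = r + 1 by omega]
    exact Nat.sub_eq_of_eq_add (by ring)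
  intro p hp
  obtain ⟨hpp, hpd, -⟩ := Nat.mem_primeFactors.1 hp
  refine Nat.mem_primeFactors.2 ⟨hpp, ?_, hne⟩
  rw [hfac]
  rcases hpp.dvd_mul.1 (hpd.trans hd) with h | h
  · rcases hpp.dvd_mul.1 h with h | h
    · exact Dvd.dvd.mul_right (hpp.dvd_of_dvd_pow h) _
    · exact Dvd.dvd.mul_left (Dvd.dvd.mul_right (hpp.dvd_of_dvd_pow h) _) _
  · refine Dvd.dvd.mul_left (Dvd.dvd.mul_left ?_ _) _
    interval_cases k
    · exact Dvd.dvd.mul_right (by simpa using h) _
    · exact Dvd.dvd.mul_left (by simpa using h) _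

/-! ### The Tits group -/

section tits
variable (A₀ : Par K 0)

set_option quotPrecheck false
local notation "G0" => ↥(twistedF4 K 1)

theorem w1_eq : (F4.w1 A₀ : GL chevF4.Idx K) = cl A₀ 8 1 0 := by
  rw [cl8_eq, map_one]
  show wd A₀ [27, 25, 28] = _
  simp [W, E, wd, Good.wordG, posC, (sys A₀).G.X_zero]

include A₀ in
theorem tits_class_count :
    (ConjClasses.mk '' {g : ↥(commutator G0) | orderOf g = 2}).ncard = 2 := by
  set D := commutator G0
  let z0 : G0 := ⟨zEl A₀, cl_mem A₀ (by norm_num) _ _⟩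
  let x0 : G0 := ⟨xEl A₀, cl_mem A₀ (by norm_num) _ _⟩
  have oz : orderOf z0 = 2 := ord_z A₀
  have ox : orderOf x0 = 2 := ord_x A₀
  have hz : z0 ∈ D := involution_mem_commutator A₀ z0 oz
  have hx : x0 ∈ D := involution_mem_commutator A₀ x0 ox
  have hidx : D.index = 2 := index_commutator A₀
  let w : G0 := ⟨cl A₀ 8 1 0, cl_mem A₀ (by norm_num) _ _⟩
  have hw : w ∉ D := by
    have e : w = F4.w1 A₀ := Subtype.ext (w1_eq A₀).symm
    rw [e]
    exact w1_not_mem A₀
  let n0 : G0 := ⟨N A₀ 0, N_mem A₀ (by norm_num)⟩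
  let n1 : G0 := ⟨N A₀ 1, N_mem A₀ (by norm_num)⟩
  let v : G0 := ⟨cl A₀ 4 1 0, cl_mem A₀ (by norm_num) _ _⟩
  have hv : v ∉ D := by
    have e : v = n0 * n1 * n0 * w * (n0 * n1 * n0)⁻¹ := Subtype.ext (by
      show cl A₀ 4 1 0 = N A₀ 0 * N A₀ 1 * N A₀ 0 * cl A₀ 8 1 0 * (N A₀ 0 * N A₀ 1 * N A₀ 0)⁻¹
      rw [show N A₀ 0 * N A₀ 1 * N A₀ 0 * cl A₀ 8 1 0 * (N A₀ 0 * N A₀ 1 * N A₀ 0)⁻¹ =
        N A₀ 0 * (N A₀ 1 * (N A₀ 0 * cl A₀ 8 1 0 * (N A₀ 0)⁻¹) * (N A₀ 1)⁻¹) * (N A₀ 0)⁻¹ by group,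
        N_cl A₀ (by norm_num) (by norm_num) (show img 0 8 = 2 from rfl) (by norm_num),
        N_cl A₀ (by norm_num) (by norm_num) (show img 1 2 = 6 from rfl) (by norm_num),
        N_cl A₀ (by norm_num) (by norm_num) (show img 0 6 = 4 from rfl) (by norm_num)])
    rw [e]
    intro h
    have h' := (inferInstance : D.Normal).conj_mem _ h (n0 * n1 * n0)⁻¹
    apply hw
    convert h' using 1
    group
  have cz : w * z0 * w⁻¹ = z0 := Subtype.ext (z_central A₀ (cl_pos A₀ (i := 8) (by norm_num) 1 0) w.2)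
  have cx : v * x0 * v⁻¹ = x0 := Subtype.ext (mul_inv_eq_iff_eq_mul.2 (Xw A₀))
  have key : ∀ (g : ↥D) (r : G0) (hr : r ∈ D) (u : G0), u ∉ D → u * r * u⁻¹ = r →
      IsConj (g : G0) r → IsConj g ⟨r, hr⟩ := by
    intro g r hr u hu hur hc
    obtain ⟨c, hc⟩ := isConj_iff.1 hc
    by_cases hcD : c ∈ D
    · exact isConj_iff.2 ⟨⟨c, hcD⟩, Subtype.ext hc⟩
    · refine isConj_iff.2 ⟨⟨u * c, ((Subgroup.mul_mem_iff_of_index_two hidx).2 (by simp [hu, hcD]))⟩,
        Subtype.ext ?_⟩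
      show u * c * (g : G0) * (u * c)⁻¹ = r
      rw [show u * c * (g : G0) * (u * c)⁻¹ = u * (c * g * c⁻¹) * u⁻¹ by group, hc, hur]
  have hset : ConjClasses.mk '' {g : ↥D | orderOf g = 2} =
      {ConjClasses.mk ⟨z0, hz⟩, ConjClasses.mk ⟨x0, hx⟩} := by
    refine Set.Subset.antisymm ?_ ?_
    · rintro _ ⟨g, hg, rfl⟩
      have hg' : orderOf (g : G0) = 2 := (Subgroup.orderOf_coe g).trans hg
      rcases classify A₀ (g := (g : G0)) hg' with h | h
      · exact Or.inl (ConjClasses.mk_eq_mk_iff_isConj.2 (key g z0 hz w hw cz h))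
      · exact Or.inr (ConjClasses.mk_eq_mk_iff_isConj.2 (key g x0 hx v hv cx h))
    · rintro _ (rfl | rfl)
      · exact ⟨_, (Subgroup.orderOf_coe (⟨z0, hz⟩ : ↥D)).symm.trans oz, rfl⟩
      · exact ⟨_, (Subgroup.orderOf_coe (⟨x0, hx⟩ : ↥D)).symm.trans ox, rfl⟩
  rw [hset, Set.ncard_pair]
  intro h
  obtain ⟨c, hc⟩ := isConj_iff.1 (ConjClasses.mk_eq_mk_iff_isConj.1 h)
  exact not_isConj A₀ (isConj_iff.2 ⟨(c : G0), congrArg Subtype.val hc⟩)

end tits

end Cfsg.Agent.Lib.RankOne.F4Invol
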