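import Cfsg.Agent.Lib.RankOne.F4Collect

/-!
Identities in the positive unipotent group of the large Ree groups, by collection.
-/

set_option autoImplicit false
set_option maxRecDepth 100000
set_option maxHeartbeats 1000000
set_option linter.unusedSectionVars false
set_option linter.unusedVariables false

namespace Cfsg.Agent.Lib.RankOne.F4Invol

open Cfsg.Lie Cfsg.Agent.Lib.Chev Cfsg.Agent.Lib.Chev.Tw Cfsg.Agent.Lib.Chev.Tw.F4

theorem mev_zeros : ∀ (n : ℕ) (f : ℕ → ℕ) (v : ℕ → ℕ), (∀ j, f j = 0) →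
    ∀ {K : Type*} [Field K] (w : ℕ → K), mev ((List.range n).map f) w = 1
  | 0, f, v, hf, K, _, w => by simp [mev]
  | n + 1, f, v, hf, K, _, w => by
    rw [List.range_succ_eq_map, List.map_cons, List.map_map, mev, hf, pow_zero, one_mul]
    exact mev_zeros n (f ∘ Nat.succ) v (fun j => hf _) _

theorem mev_single : ∀ (n k : ℕ), k < n → ∀ {K : Type*} [Field K] (w : ℕ → K),
    mev ((List.range n).map fun j => if j == k then 1 else 0) w = w k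
  | 0, k, h, K, _, w => absurd h (Nat.not_lt_zero k)
  | n + 1, 0, _, K, _, w => by
    rw [List.range_succ_eq_map, List.map_cons, List.map_map, mev]
    rw [mev_zeros n _ id (fun j => by simp) fun i => w (i + 1)]
    simp
  | n + 1, k + 1, h, K, _, w => by
    rw [List.range_succ_eq_map, List.map_cons, List.map_map, mev]
    have e : ((fun j => if j == k + 1 then 1 else 0) ∘ Nat.succ : ℕ → ℕ) =
        fun j => if j == k then 1 else 0 := funext fun j => by simp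
    rw [e, mev_single n k (Nat.lt_of_succ_lt_succ h) fun i => w (i + 1)]
    simp

variable {K : Type*} [Field K] [Fintype K] {m : ℕ} (A : Par K m)

theorem pev_pv (xs : List K) {n i : ℕ} (h : i < n) :
    pev (atoms A xs) (pv n i) = xs.getD i 0 := by
  rw [pv, pev_cons, pev_nil, add_zero, mev_single _ _ (by omega)]
  have e1 : (2 * i) % 2 = 0 := by omega
  have e2 : (2 * i) / 2 = i := by omega
  simp [atoms, e1, e2]

theorem pev_one (v : ℕ → K) : pev v [[]] = 1 := by simp [pev, mev]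

include A in
theorem pev_padd' (v : ℕ → K) (p q : Poly) : pev v (padd p q) = pev v p + pev v q := pev_padd A.h2 v p q

include A in
theorem pev_pmul' (v : ℕ → K) (p q : Poly) : pev v (pmul p q) = pev v p * pev v q := pev_pmul A.h2 v p q

include A in
theorem pev_ppow' (v : ℕ → K) (p : Poly) (k : ℕ) : pev v (ppow p k) = pev v p ^ k := pev_ppow A.h2 v p k

theorem pev_pth' (xs : List K) (p : Poly) :
    pev (atoms A xs) (pth p) = th A (pev (atoms A xs) p) :=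
  pev_pth A.h2 (atoms A xs) (th A) (atoms_th A xs) p

/-! ### Identities -/

theorem A1 (a T2 U2 c T4 U4 e T6 U6 g p : K) : cl A 8 (p) 0 * cl A 1 (a) 0 * cl A 2 (T2) (U2) * cl A 3 (c) 0 * cl A 4 (T4) (U4) * cl A 5 (e) 0 * cl A 6 (T6) (U6) * cl A 7 (g) 0 =
    cl A 1 (a) 0 * cl A 2 (T2 + a * p) (th A T2 * a * p + U2) * cl A 3 (T2 * th A T2 * p + U2 * p + a * th A a * p ^ 2 * th A p + c) 0 * cl A 4 (th A T2 * p + T4) (th A T2 * th A T4 * p + T2 * U2 * p * th A p + T2 * a * th A a * p ^ 2 * th A p ^ 2 + T2 * c * th A p + T2 ^ 2 * th A T2 * p * th A p + U4 + a * c * p * th A p + a ^ 2 * th A a * p ^ 3 * th A p ^ 2 + th A c * p) * cl A 5 (T2 * T4 * th A p + T4 * a * p * th A p + U2 * p * th A p + a * th A a * p ^ 2 * th A p ^ 2 + c * th A p + e) 0 * cl A 6 (T2 * th A p + T6 + a * p * th A p) (T2 * th A T6 * th A p + T2 * th A a * p ^ 2 * th A p ^ 2 + T4 * a * p ^ 2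 * th A p + th A T6 * a * p * th A p + U2 * p ^ 2 * th A p + U6 + a * th A a * p ^ 3 * th A p ^ 2 + e * p) * cl A 7 (T6 * p + a * p ^ 2 * th A p + g) 0 * cl A 8 (p) 0 := by
  have h := dev_eq A (l := [(8, (pv 11 10), []), (1, (pv 11 0), []), (2, (pv 11 1), (pv 11 2)), (3, (pv 11 3), []), (4, (pv 11 4), (pv 11 5)), (5, (pv 11 6), []), (6, (pv 11 7), (pv 11 8)), (7, (pv 11 9), [])])
    (r := [(1, (pv 11 0), []), (2, (padd (pv 11 1) (pmul (pv 11 0) (pv 11 10))), (padd (pmul (pmul (pth (pv 11 1)) (pv 11 0)) (pv 11 10)) (pv 11 2))), (3, (padd (padd (padd (pmul (pmul (pv 11 1) (pth (pv 11 1))) (pv 11 10)) (pmul (pv 11 2) (pv 11 10))) (pmul (pmul (pmul (pv 11 0) (pth (pv 11 0))) (ppow (pv 11 10) 2)) (pth (pv 11 10)))) (pv 11 3)), []), (4, (padd (pmul (pth (pv 11 1)) (pv 11 10)) (pv 11 4)), (padd (padd (padd (padd (padd (padd (padd (padd (pmul (pmul (pth (pv 11 1)) (pth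 (pv 11 4))) (pv 11 10)) (pmul (pmul (pmul (pv 11 1) (pv 11 2)) (pv 11 10)) (pth (pv 11 10)))) (pmul (pmul (pmul (pmul (pv 11 1) (pv 11 0)) (pth (pv 11 0))) (ppow (pv 11 10) 2)) (ppow (pth (pv 11 10)) 2))) (pmul (pmul (pv 11 1) (pv 11 3)) (pth (pv 11 10)))) (pmul (pmul (pmul (ppow (pv 11 1) 2) (pth (pv 11 1))) (pv 11 10)) (pth (pv 11 10)))) (pv 11 5)) (pmul (pmul (pmul (pv 11 0) (pv 11 3)) (pv 11 10)) (pth (pv 11 10)))) (pmul (pmul (pmul (ppow (pv 11 0) 2) (pth (pv 11 0))) (ppow (pv 11 10) 3)) (ppow (pth (pv 11 10)) 2))) (pmul (pth (pv 11 3)) (pv 11 10)))), (5, (padd (padd (padd (padd (padd (pmul (pmul (pv 11 1) (pv 11 4)) (pth (pv 11 10))) (pmul (pmul (pmul (pv 11 4) (pv 11 0)) (pv 11 10)) (pth (pv 11 10)))) (pmul (pmul (pv 11 2) (pv 11 10)) (pth (pv 11 10)))) (pmul (pmul (pmul (pv 11 0) (pth (pv 11 0))) (ppow (pv 11 10) 2)) (ppow (pth (pv 11 10)) 2))) (pmul (pv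 11 3) (pth (pv 11 10)))) (pv 11 6)), []), (6, (padd (padd (pmul (pv 11 1) (pth (pv 11 10))) (pv 11 7)) (pmul (pmul (pv 11 0) (pv 11 10)) (pth (pv 11 10)))), (padd (padd (padd (padd (padd (padd (padd (pmul (pmul (pv 11 1) (pth (pv 11 7))) (pth (pv 11 10))) (pmul (pmul (pmul (pv 11 1) (pth (pv 11 0))) (ppow (pv 11 10) 2)) (ppow (pth (pv 11 10)) 2))) (pmul (pmul (pmul (pv 11 4) (pv 11 0)) (ppow (pv 11 10) 2)) (pth (pv 11 10)))) (pmul (pmul (pmul (pth (pv 11 7)) (pv 11 0)) (pv 11 10)) (pth (pv 11 10)))) (pmul (pmul (pv 11 2) (ppow (pv 11 10) 2)) (pth (pv 11 10)))) (pv 11 8)) (pmul (pmul (pmul (pv 11 0) (pth (pv 11 0))) (ppow (pv 11 10) 3)) (ppow (pth (pv 11 10)) 2))) (pmul (pv 11 6) (pv 11 10)))), (7, (padd (padd (pmul (pv 11 7) (pv 11 10)) (pmul (pmul (pv 11 0) (ppow (pv 11 10) 2)) (pth (pv 11 10)))) (pv 11 9)), []), (8, (pv 11 10), [])]) (by decide +kernel) [a,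 T2, U2, c, T4, U4, e, T6, U6, g, p]
  simpa [dev, pev_nil, pev_one, pev_padd' A, pev_pmul' A, pev_ppow' A, pev_pth' A, pev_pv, mul_assoc, add_assoc] using h

theorem A2 (a U2 c T4 U4 e T6 U6 g p : K) : cl A 8 0 (p) * cl A 1 (a) 0 * cl A 2 0 (U2) * cl A 3 (c) 0 * cl A 4 (T4) (U4) * cl A 5 (e) 0 * cl A 6 (T6) (U6) * cl A 7 (g) 0 =
    cl A 1 (a) 0 * cl A 2 0 (U2 + a * th A a * p) * cl A 3 (a * th A a * th A p + c) 0 * cl A 4 (T4 + th A a * p) (th A T4 * th A a * p + th A U2 * p + U2 * a * th A p + U4 + a * c * p + a ^ 2 * th A a * p * th A p) * cl A 5 (T4 * a * p + U2 * p + a * th A a * p ^ 2 + e) 0 * cl A 6 (T6 + a * p) (T4 * a * th A p + th A T6 * a * p + U2 * th A p + U6 + c * p) * cl A 7 (a * th A p + g) 0 * cl A 8 0 (p) := by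
  have h := dev_eq A (l := [(8, [], (pv 10 9)), (1, (pv 10 0), []), (2, [], (pv 10 1)), (3, (pv 10 2), []), (4, (pv 10 3), (pv 10 4)), (5, (pv 10 5), []), (6, (pv 10 6), (pv 10 7)), (7, (pv 10 8), [])])
    (r := [(1, (pv 10 0), []), (2, [], (padd (pv 10 1) (pmul (pmul (pv 10 0) (pth (pv 10 0))) (pv 10 9)))), (3, (padd (pmul (pmul (pv 10 0) (pth (pv 10 0))) (pth (pv 10 9))) (pv 10 2)), []), (4, (padd (pv 10 3) (pmul (pth (pv 10 0)) (pv 10 9))), (padd (padd (padd (padd (padd (pmul (pmul (pth (pv 10 3)) (pth (pv 10 0))) (pv 10 9)) (pmul (pth (pv 10 1)) (pv 10 9))) (pmul (pmul (pv 10 1) (pv 10 0)) (pth (pv 10 9)))) (pv 10 4)) (pmul (pmul (pv 10 0) (pv 10 2)) (pv 10 9))) (pmul (pmul (pmul (ppow (pv 10 0) 2) (pth (pv 10 0))) (pv 10 9)) (pth (pv 10 9))))), (5, (padd (padd (padd (pmul (pmul (pv 10 3) (pv 10 0)) (pv 10 9)) (pmul (pv 10 1) (pv 10 9))) (pmul (pmul (pv 10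 0) (pth (pv 10 0))) (ppow (pv 10 9) 2))) (pv 10 5)), []), (6, (padd (pv 10 6) (pmul (pv 10 0) (pv 10 9))), (padd (padd (padd (padd (pmul (pmul (pv 10 3) (pv 10 0)) (pth (pv 10 9))) (pmul (pmul (pth (pv 10 6)) (pv 10 0)) (pv 10 9))) (pmul (pv 10 1) (pth (pv 10 9)))) (pv 10 7)) (pmul (pv 10 2) (pv 10 9)))), (7, (padd (pmul (pv 10 0) (pth (pv 10 9))) (pv 10 8)), []), (8, [], (pv 10 9))]) (by decide +kernel) [a, U2, c, T4, U4, e, T6, U6, g, p]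
  simpa [dev, pev_nil, pev_one, pev_padd' A, pev_pmul' A, pev_ppow' A, pev_pth' A, pev_pv, mul_assoc, add_assoc] using h

theorem A3 (a U2 c U4 e p : K) : cl A 7 (p) 0 * cl A 1 (a) 0 * cl A 2 0 (U2) * cl A 3 (c) 0 * cl A 4 0 (U4) * cl A 5 (e) 0 =
    cl A 1 (a) 0 * cl A 2 0 (U2) * cl A 3 (th A a * p + c) 0 * cl A 4 0 (U2 * p + U4) * cl A 5 (a * th A p + e) 0 * cl A 7 (p) 0 := by
  have h := dev_eq A (l := [(7, (pv 6 5), []), (1, (pv 6 0), []), (2, [], (pv 6 1)), (3, (pv 6 2), []), (4, [], (pv 6 3)), (5, (pv 6 4), [])])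
    (r := [(1, (pv 6 0), []), (2, [], (pv 6 1)), (3, (padd (pmul (pth (pv 6 0)) (pv 6 5)) (pv 6 2)), []), (4, [], (padd (pmul (pv 6 1) (pv 6 5)) (pv 6 3))), (5, (padd (pmul (pv 6 0) (pth (pv 6 5))) (pv 6 4)), []), (7, (pv 6 5), [])]) (by decide +kernel) [a, U2, c, U4, e, p]
  simpa [dev, pev_nil, pev_one, pev_padd' A, pev_pmul' A, pev_ppow' A, pev_pth' A, pev_pv, mul_assoc, add_assoc] using h

theorem A4 (a U2 c U4 p q : K) : cl A 6 (p) (q) * cl A 1 (a) 0 * cl A 2 0 (U2) * cl A 3 (c) 0 * cl A 4 0 (U4) =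
    cl A 1 (a) 0 * cl A 2 0 (U2 + th A a * p) * cl A 3 (a * th A p + c) 0 * cl A 4 0 (U4 + a * q + c * p) * cl A 6 (p) (q) := by
  have h := dev_eq A (l := [(6, (pv 6 4), (pv 6 5)), (1, (pv 6 0), []), (2, [], (pv 6 1)), (3, (pv 6 2), []), (4, [], (pv 6 3))])
    (r := [(1, (pv 6 0), []), (2, [], (padd (pv 6 1) (pmul (pth (pv 6 0)) (pv 6 4)))), (3, (padd (pmul (pv 6 0) (pth (pv 6 4))) (pv 6 2)), []), (4, [], (padd (padd (pv 6 3) (pmul (pv 6 0) (pv 6 5))) (pmul (pv 6 2) (pv 6 4)))), (6, (pv 6 4), (pv 6 5))]) (by decide +kernel) [a, U2, c, U4, p, q]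
  simpa [dev, pev_nil, pev_one, pev_padd' A, pev_pmul' A, pev_ppow' A, pev_pth' A, pev_pv, mul_assoc, add_assoc] using h

theorem A5 (a U2 p : K) : cl A 4 (p) 0 * cl A 1 (a) 0 * cl A 2 0 (U2) =
    cl A 1 (a) 0 * cl A 2 0 (U2 + a * p) * cl A 4 (p) 0 := by
  have h := dev_eq A (l := [(4, (pv 3 2), []), (1, (pv 3 0), []), (2, [], (pv 3 1))])
    (r := [(1, (pv 3 0), []), (2, [], (padd (pv 3 1) (pmul (pv 3 0) (pv 3 2)))), (4, (pv 3 2), [])]) (by decide +kernel) [a, U2, p]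
  simpa [dev, pev_nil, pev_one, pev_padd' A, pev_pmul' A, pev_ppow' A, pev_pth' A, pev_pv, mul_assoc, add_assoc] using h

theorem N1g (c U4 e U6 g : K) : cl A 5 (c) 0 * cl A 4 0 (U4) * cl A 3 (e) 0 * cl A 2 0 (U6) * cl A 1 (g) 0 =
    cl A 1 (g) 0 * cl A 2 0 (U6) * cl A 3 (e) 0 * cl A 4 0 (U4) * cl A 5 (c) 0 := by
  have h := dev_eq A (l := [(5, (pv 5 0), []), (4, [], (pv 5 1)), (3, (pv 5 2), []), (2, [], (pv 5 3)), (1, (pv 5 4), [])])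
    (r := [(1, (pv 5 4), []), (2, [], (pv 5 3)), (3, (pv 5 2), []), (4, [], (pv 5 1)), (5, (pv 5 0), [])]) (by decide +kernel) [c, U4, e, U6, g]
  simpa [dev, pev_nil, pev_one, pev_padd' A, pev_pmul' A, pev_ppow' A, pev_pth' A, pev_pv, mul_assoc, add_assoc] using h

theorem N1s (c U4 e U6 : K) : cl A 5 (c) 0 * cl A 4 0 (U4) * cl A 3 (e) 0 * cl A 2 0 (U6) =
    cl A 2 0 (U6) * cl A 3 (e) 0 * cl A 4 0 (U4) * cl A 5 (c) 0 := by
  have h := dev_eq A (l := [(5, (pv 4 0), []), (4, [], (pv 4 1)), (3, (pv 4 2), []), (2, [], (pv 4 3))])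
    (r := [(2, [], (pv 4 3)), (3, (pv 4 2), []), (4, [], (pv 4 1)), (5, (pv 4 0), [])]) (by decide +kernel) [c, U4, e, U6]
  simpa [dev, pev_nil, pev_one, pev_padd' A, pev_pmul' A, pev_ppow' A, pev_pth' A, pev_pv, mul_assoc, add_assoc] using h

theorem C26 (U2 U6 : K) : cl A 6 0 (U2) * cl A 2 0 (U6) =
    cl A 2 0 (U6) * cl A 6 0 (U2) := by
  have h := dev_eq A (l := [(6, [], (pv 2 0)), (2, [], (pv 2 1))])
    (r := [(2, [], (pv 2 1)), (6, [], (pv 2 0))]) (by decide +kernel) [U2, U6]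
  simpa [dev, pev_nil, pev_one, pev_padd' A, pev_pmul' A, pev_ppow' A, pev_pth' A, pev_pv, mul_assoc, add_assoc] using h

theorem B1 (U2 c T4 U4 e T6 U6 g V p : K) : cl A 1 (p) 0 * cl A 2 0 (U2) * cl A 3 (c) 0 * cl A 4 (T4) (U4) * cl A 5 (e) 0 * cl A 6 (T6) (U6) * cl A 7 (g) 0 * cl A 8 0 (V) =
    cl A 2 0 (T4 * p + T6 * th A p + U2 + V * p * th A p) * cl A 3 (th A T6 * p + th A V * p * th A p + c + g * th A p) 0 * cl A 4 (T4 + V * th A p) (T4 * th A V * p ^ 2 + T6 * th A V * p * th A p + T6 * g * th A p + U4 + U6 * p + V * g * p * th A p + V * th A V * p ^ 2 * th A p) * cl A 5 (T6 * V * th A p + V ^ 2 * p * th A p + e + th A g * p) 0 * cl A 6 (T6 + V * p) (T6 * th A V * th A p + U6 + V * g * th A p) * cl A 7 (th A V * p + g) 0 * cl A 8 0 (V) * cl A 1 (p) 0 := by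
  have h := dev_eq A (l := [(1, (pv 10 9), []), (2, [], (pv 10 0)), (3, (pv 10 1), []), (4, (pv 10 2), (pv 10 3)), (5, (pv 10 4), []), (6, (pv 10 5), (pv 10 6)), (7, (pv 10 7), []), (8, [], (pv 10 8))])
    (r := [(2, [], (padd (padd (padd (pmul (pv 10 2) (pv 10 9)) (pmul (pv 10 5) (pth (pv 10 9)))) (pv 10 0)) (pmul (pmul (pv 10 8) (pv 10 9)) (pth (pv 10 9))))), (3, (padd (padd (padd (pmul (pth (pv 10 5)) (pv 10 9)) (pmul (pmul (pth (pv 10 8)) (pv 10 9)) (pth (pv 10 9)))) (pv 10 1)) (pmul (pv 10 7) (pth (pv 10 9)))), []), (4, (padd (pv 10 2) (pmul (pv 10 8) (pth (pv 10 9)))), (padd (padd (padd (padd (padd (padd (pmul (pmul (pv 10 2) (pth (pv 10 8))) (ppow (pv 10 9) 2)) (pmul (pmul (pmul (pv 10 5) (pth (pv 10 8))) (pv 10 9)) (pth (pv 10 9)))) (pmul (pmul (pv 10 5) (pv 10 7)) (pth (pv 10 9)))) (pv 10 3)) (pmul (pv 10 6) (pv 10 9))) (pmul (pmul (pmul (pv 10 8) (pv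 10 7)) (pv 10 9)) (pth (pv 10 9)))) (pmul (pmul (pmul (pv 10 8) (pth (pv 10 8))) (ppow (pv 10 9) 2)) (pth (pv 10 9))))), (5, (padd (padd (padd (pmul (pmul (pv 10 5) (pv 10 8)) (pth (pv 10 9))) (pmul (pmul (ppow (pv 10 8) 2) (pv 10 9)) (pth (pv 10 9)))) (pv 10 4)) (pmul (pth (pv 10 7)) (pv 10 9))), []), (6, (padd (pv 10 5) (pmul (pv 10 8) (pv 10 9))), (padd (padd (pmul (pmul (pv 10 5) (pth (pv 10 8))) (pth (pv 10 9))) (pv 10 6)) (pmul (pmul (pv 10 8) (pv 10 7)) (pth (pv 10 9))))), (7, (padd (pmul (pth (pv 10 8)) (pv 10 9)) (pv 10 7)), []), (8, [], (pv 10 8)), (1, (pv 10 9), [])]) (by decide +kernel) [U2, c, T4, U4, e, T6, U6, g, V, p]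
  simpa [dev, pev_nil, pev_one, pev_padd' A, pev_pmul' A, pev_ppow' A, pev_pth' A, pev_pv, mul_assoc, add_assoc] using h

theorem B2 (U4 e U6 g V p : K) : cl A 2 (p) 0 * cl A 4 0 (U4) * cl A 5 (e) 0 * cl A 6 0 (U6) * cl A 7 (g) 0 * cl A 8 0 (V) =
    cl A 4 0 (U4 + V * p ^ 2 * th A p + e * p) * cl A 5 (V * p * th A p + e + g * th A p) 0 * cl A 6 0 (U6 + th A g * p) * cl A 7 (V * p + g) 0 * cl A 8 0 (V) * cl A 2 (p) 0 := by
  have h := dev_eq A (l := [(2, (pv 6 5), []), (4, [], (pv 6 0)), (5, (pv 6 1), []), (6, [], (pv 6 2)), (7, (pv 6 3), []), (8, [], (pv 6 4))])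
    (r := [(4, [], (padd (padd (pv 6 0) (pmul (pmul (pv 6 4) (ppow (pv 6 5) 2)) (pth (pv 6 5)))) (pmul (pv 6 1) (pv 6 5)))), (5, (padd (padd (pmul (pmul (pv 6 4) (pv 6 5)) (pth (pv 6 5))) (pv 6 1)) (pmul (pv 6 3) (pth (pv 6 5)))), []), (6, [], (padd (pv 6 2) (pmul (pth (pv 6 3)) (pv 6 5)))), (7, (padd (pmul (pv 6 4) (pv 6 5)) (pv 6 3)), []), (8, [], (pv 6 4)), (2, (pv 6 5), [])]) (by decide +kernel) [U4, e, U6, g, V, p]
  simpa [dev, pev_nil, pev_one, pev_padd' A, pev_pmul' A, pev_ppow' A, pev_pth' A, pev_pv, mul_assoc, add_assoc] using h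

theorem B3 (U4 e U6 V q : K) : cl A 2 0 (q) * cl A 4 0 (U4) * cl A 5 (e) 0 * cl A 6 0 (U6) * cl A 8 0 (V) =
    cl A 4 0 (U4 + V * th A q) * cl A 5 (V * q + e) 0 * cl A 6 0 (U6 + th A V * q) * cl A 8 0 (V) * cl A 2 0 (q) := by
  have h := dev_eq A (l := [(2, [], (pv 5 4)), (4, [], (pv 5 0)), (5, (pv 5 1), []), (6, [], (pv 5 2)), (8, [], (pv 5 3))])
    (r := [(4, [], (padd (pv 5 0) (pmul (pv 5 3) (pth (pv 5 4))))), (5, (padd (pmul (pv 5 3) (pv 5 4)) (pv 5 1)), []), (6, [], (padd (pv 5 2) (pmul (pth (pv 5 3)) (pv 5 4)))), (8, [], (pv 5 3)), (2, [], (pv 5 4))]) (by decide +kernel) [U4, e, U6, V, q]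
  simpa [dev, pev_nil, pev_one, pev_padd' A, pev_pmul' A, pev_ppow' A, pev_pth' A, pev_pv, mul_assoc, add_assoc] using h

theorem B4 (U4 U6 V p : K) : cl A 3 (p) 0 * cl A 4 0 (U4) * cl A 6 0 (U6) * cl A 8 0 (V) =
    cl A 4 0 (U4) * cl A 6 0 (U6 + V * p) * cl A 8 0 (V) * cl A 3 (p) 0 := by
  have h := dev_eq A (l := [(3, (pv 4 3), []), (4, [], (pv 4 0)), (6, [], (pv 4 1)), (8, [], (pv 4 2))])
    (r := [(4, [], (pv 4 0)), (6, [], (padd (pv 4 1) (pmul (pv 4 2) (pv 4 3)))), (8, [], (pv 4 2)), (3, (pv 4 3), [])]) (by decide +kernel) [U4, U6, V, p]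
  simpa [dev, pev_nil, pev_one, pev_padd' A, pev_pmul' A, pev_ppow' A, pev_pth' A, pev_pv, mul_assoc, add_assoc] using h

theorem S1 (U2 c U4 e U6 p : K) : cl A 8 (p) 0 * cl A 2 0 (U2) * cl A 3 (c) 0 * cl A 4 0 (U4) * cl A 5 (e) 0 * cl A 6 0 (U6) =
    cl A 2 0 (U2) * cl A 3 (U2 * p + c) 0 * cl A 4 0 (U4 + th A c * p) * cl A 5 (U2 * p * th A p + c * th A p + e) 0 * cl A 6 0 (U2 * p ^ 2 * th A p + U6 + e * p) * cl A 8 (p) 0 := by
  have h := dev_eq A (l := [(8, (pv 6 5), []), (2, [], (pv 6 0)), (3, (pv 6 1), []), (4, [], (pv 6 2)), (5, (pv 6 3), []), (6, [], (pv 6 4))])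
    (r := [(2, [], (pv 6 0)), (3, (padd (pmul (pv 6 0) (pv 6 5)) (pv 6 1)), []), (4, [], (padd (pv 6 2) (pmul (pth (pv 6 1)) (pv 6 5)))), (5, (padd (padd (pmul (pmul (pv 6 0) (pv 6 5)) (pth (pv 6 5))) (pmul (pv 6 1) (pth (pv 6 5)))) (pv 6 3)), []), (6, [], (padd (padd (pmul (pmul (pv 6 0) (ppow (pv 6 5) 2)) (pth (pv 6 5))) (pv 6 4)) (pmul (pv 6 3) (pv 6 5)))), (8, (pv 6 5), [])]) (by decide +kernel) [U2, c, U4, e, U6, p]
  simpa [dev, pev_nil, pev_one, pev_padd' A, pev_pmul' A, pev_ppow' A, pev_pth' A, pev_pv, mul_assoc, add_assoc] using h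

theorem S2 (U2 U4 e U6 q : K) : cl A 8 0 (q) * cl A 2 0 (U2) * cl A 4 0 (U4) * cl A 5 (e) 0 * cl A 6 0 (U6) =
    cl A 2 0 (U2) * cl A 4 0 (th A U2 * q + U4) * cl A 5 (U2 * q + e) 0 * cl A 6 0 (U2 * th A q + U6) * cl A 8 0 (q) := by
  have h := dev_eq A (l := [(8, [], (pv 5 4)), (2, [], (pv 5 0)), (4, [], (pv 5 1)), (5, (pv 5 2), []), (6, [], (pv 5 3))])
    (r := [(2, [], (pv 5 0)), (4, [], (padd (pmul (pth (pv 5 0)) (pv 5 4)) (pv 5 1))), (5, (padd (pmul (pv 5 0) (pv 5 4)) (pv 5 2)), []), (6, [], (padd (pmul (pv 5 0) (pth (pv 5 4))) (pv 5 3))), (8, [], (pv 5 4))]) (by decide +kernel) [U2, U4, e, U6, q]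
  simpa [dev, pev_nil, pev_one, pev_padd' A, pev_pmul' A, pev_ppow' A, pev_pth' A, pev_pv, mul_assoc, add_assoc] using h

theorem S3 (U2 U4 U6 p : K) : cl A 7 (p) 0 * cl A 2 0 (U2) * cl A 4 0 (U4) * cl A 6 0 (U6) =
    cl A 2 0 (U2) * cl A 4 0 (U2 * p + U4) * cl A 6 0 (U6) * cl A 7 (p) 0 := by
  have h := dev_eq A (l := [(7, (pv 4 3), []), (2, [], (pv 4 0)), (4, [], (pv 4 1)), (6, [], (pv 4 2))])
    (r := [(2, [], (pv 4 0)), (4, [], (padd (pmul (pv 4 0) (pv 4 3)) (pv 4 1))), (6, [], (pv 4 2)), (7, (pv 4 3), [])]) (by decide +kernel) [U2, U4, U6, p]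
  simpa [dev, pev_nil, pev_one, pev_padd' A, pev_pmul' A, pev_ppow' A, pev_pth' A, pev_pv, mul_assoc, add_assoc] using h

theorem P1 (U2 p : K) : cl A 8 (p) 0 * cl A 2 0 (U2) * cl A 3 (U2 * p) 0 =
    cl A 2 0 (U2) * cl A 3 0 0 * cl A 4 0 (th A U2 * p * th A p) * cl A 6 0 (U2 * p ^ 2 * th A p) * cl A 8 (p) 0 := by
  have h := dev_eq A (l := [(8, (pv 2 1), []), (2, [], (pv 2 0)), (3, (pmul (pv 2 0) (pv 2 1)), [])])
    (r := [(2, [], (pv 2 0)), (3, [], []), (4, [], (pmul (pmul (pth (pv 2 0)) (pv 2 1)) (pth (pv 2 1)))), (6, [], (pmul (pmul (pv 2 0) (ppow (pv 2 1) 2)) (pth (pv 2 1)))), (8, (pv 2 1), [])]) (by decide +kernel) [U2, p]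
  simpa [dev, pev_nil, pev_one, pev_padd' A, pev_pmul' A, pev_ppow' A, pev_pth' A, pev_pv, mul_assoc, add_assoc] using h

theorem X1 (e p : K) : cl A 8 (p) 0 * cl A 5 (e) 0 =
    cl A 5 (e) 0 * cl A 6 0 (e * p) * cl A 8 (p) 0 := by
  have h := dev_eq A (l := [(8, (pv 2 1), []), (5, (pv 2 0), [])])
    (r := [(5, (pv 2 0), []), (6, [], (pmul (pv 2 0) (pv 2 1))), (8, (pv 2 1), [])]) (by decide +kernel) [e, p]
  simpa [dev, pev_nil, pev_one, pev_padd' A, pev_pmul' A, pev_ppow' A, pev_pth' A, pev_pv, mul_assoc, add_assoc] using h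

theorem Zc (a T2 U2 c T4 U4 e T6 U6 g p x y : K) : cl A 1 (a) 0 * cl A 2 (T2) (U2) * cl A 3 (c) 0 * cl A 4 (T4) (U4) * cl A 5 (e) 0 * cl A 6 (T6) (U6) * cl A 7 (g) 0 * cl A 8 (x) (y) * cl A 4 0 (p) =
    cl A 4 0 (p) * cl A 1 (a) 0 * cl A 2 (T2) (U2) * cl A 3 (c) 0 * cl A 4 (T4) (U4) * cl A 5 (e) 0 * cl A 6 (T6) (U6) * cl A 7 (g) 0 * cl A 8 (x) (y) := by
  have h := dev_eq A (l := [(1, (pv 13 0), []), (2, (pv 13 1), (pv 13 2)), (3, (pv 13 3), []), (4, (pv 13 4), (pv 13 5)), (5, (pv 13 6), []), (6, (pv 13 7), (pv 13 8)), (7, (pv 13 9), []), (8, (pv 13 11), (pv 13 12)), (4, [], (pv 13 10))])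
    (r := [(4, [], (pv 13 10)), (1, (pv 13 0), []), (2, (pv 13 1), (pv 13 2)), (3, (pv 13 3), []), (4, (pv 13 4), (pv 13 5)), (5, (pv 13 6), []), (6, (pv 13 7), (pv 13 8)), (7, (pv 13 9), []), (8, (pv 13 11), (pv 13 12))]) (by decide +kernel) [a, T2, U2, c, T4, U4, e, T6, U6, g, p, x, y]
  simpa [dev, pev_nil, pev_one, pev_padd' A, pev_pmul' A, pev_ppow' A, pev_pth' A, pev_pv, mul_assoc, add_assoc] using h

theorem Xc (a T2 U2 c T4 U4 e T6 U6 g x y : K) : cl A 1 (a) 0 * cl A 2 (T2) (U2) * cl A 3 (c) 0 * cl A 4 (T4) (U4) * cl A 5 (e) 0 * cl A 6 (T6) (U6) * cl A 7 (g) 0 * cl A 8 (x) (y) * cl A 5 (1) 0 =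
    cl A 5 (1) 0 * cl A 4 0 (T2 + a * x) * cl A 6 0 (x) * cl A 1 (a) 0 * cl A 2 (T2) (U2) * cl A 3 (c) 0 * cl A 4 (T4) (U4) * cl A 5 (e) 0 * cl A 6 (T6) (U6) * cl A 7 (g) 0 * cl A 8 (x) (y) := by
  have h := dev_eq A (l := [(1, (pv 12 0), []), (2, (pv 12 1), (pv 12 2)), (3, (pv 12 3), []), (4, (pv 12 4), (pv 12 5)), (5, (pv 12 6), []), (6, (pv 12 7), (pv 12 8)), (7, (pv 12 9), []), (8, (pv 12 10), (pv 12 11)), (5, [[]], [])])
    (r := [(5, [[]], []), (4, [], (padd (pv 12 1) (pmul (pv 12 0) (pv 12 10)))), (6, [], (pv 12 10)), (1, (pv 12 0), []), (2, (pv 12 1), (pv 12 2)), (3, (pv 12 3), []), (4, (pv 12 4), (pv 12 5)), (5, (pv 12 6), []), (6, (pv 12 7), (pv 12 8)), (7, (pv 12 9), []), (8, (pv 12 10), (pv 12 11))]) (by decide +kernel) [a, T2, U2, c, T4, U4, e, T6, U6, g, x, y]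
  simpa [dev, pev_nil, pev_one, pev_padd' A, pev_pmul' A, pev_ppow' A, pev_pth' A, pev_pv, mul_assoc, add_assoc] using h

theorem Xw : cl A 4 (1) 0 * cl A 5 (1) 0 =
    cl A 5 (1) 0 * cl A 4 (1) 0 := by
  have h := dev_eq A (l := [(4, [[]], []), (5, [[]], [])])
    (r := [(5, [[]], []), (4, [[]], [])]) (by decide +kernel) []
  simpa [dev, pev_nil, pev_one, pev_padd' A, pev_pmul' A, pev_ppow' A, pev_pth' A, pev_pv, mul_assoc, add_assoc] using h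

/-! ### Equations of involutions -/

theorem Q30 (a T2 U2 c T4 U4 e T6 U6 g x y : K) (h : cl A 1 (a) 0 * cl A 2 (T2) (U2) * cl A 3 (c) 0 * cl A 4 (T4) (U4) * cl A 5 (e) 0 * cl A 6 (T6) (U6) * cl A 7 (g) 0 * cl A 8 (x) (y) * (cl A 1 (a) 0 * cl A 2 (T2) (U2) * cl A 3 (c) 0 * cl A 4 (T4) (U4) * cl A 5 (e) 0 * cl A 6 (T6) (U6) * cl A 7 (g) 0 * cl A 8 (x) (y)) = 1) : (x ^ 2 * th A x) = 0 := by
  have h' := coef_eq_zero A (l := [(1, (pv 12 0), []), (2, (pv 12 1), (pv 12 2)), (3, (pv 12 3), []), (4, (pv 12 4), (pv 12 5)), (5, (pv 12 6), []), (6, (pv 12 7), (pv 12 8)), (7, (pv 12 9), []), (8, (pv 12 10), (pv 12 11)), (1, (pv 12 0), []), (2, (pv 12 1), (pv 12 2)), (3, (pv 12 3), []), (4, (pv 12 4), (pv 12 5)), (5, (pv 12 6), []), (6, (pv 12 7), (pv 12 8)), (7, (pv 12 9), []), (8, (pv 12 10), (pv 12 11))])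
    (by decide +kernel) [a, T2, U2, c, T4, U4, e, T6, U6, g, x, y] (by simpa [dev, pev_nil, pev_one, pev_pv, mul_assoc] using h) (r := 30)
    (p := (pmul (ppow (pv 12 10) 2) (pth (pv 12 10)))) (by decide +kernel)
  simpa [pev_nil, pev_one, pev_padd' A, pev_pmul' A, pev_ppow' A, pev_pth' A, pev_pv, mul_assoc, add_assoc] using h'

theorem Q35 (a T2 U2 c T4 U4 e T6 U6 g y : K) (h : cl A 1 (a) 0 * cl A 2 (T2) (U2) * cl A 3 (c) 0 * cl A 4 (T4) (U4) * cl A 5 (e) 0 * cl A 6 (T6) (U6) * cl A 7 (g) 0 * cl A 8 0 (y) * (cl A 1 (a) 0 * cl A 2 (T2) (U2) * cl A 3 (c) 0 * cl A 4 (T4) (U4) * cl A 5 (e) 0 * cl A 6 (T6) (U6) * cl A 7 (g) 0 * cl A 8 0 (y)) = 1) : (a * y) = 0 := by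
  have h' := coef_eq_zero A (l := [(1, (pv 11 0), []), (2, (pv 11 1), (pv 11 2)), (3, (pv 11 3), []), (4, (pv 11 4), (pv 11 5)), (5, (pv 11 6), []), (6, (pv 11 7), (pv 11 8)), (7, (pv 11 9), []), (8, [], (pv 11 10)), (1, (pv 11 0), []), (2, (pv 11 1), (pv 11 2)), (3, (pv 11 3), []), (4, (pv 11 4), (pv 11 5)), (5, (pv 11 6), []), (6, (pv 11 7), (pv 11 8)), (7, (pv 11 9), []), (8, [], (pv 11 10))])
    (by decide +kernel) [a, T2, U2, c, T4, U4, e, T6, U6, g, y] (by simpa [dev, pev_nil, pev_one, pev_pv, mul_assoc] using h) (r := 35)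
    (p := (pmul (pv 11 0) (pv 11 10))) (by decide +kernel)
  simpa [pev_nil, pev_one, pev_padd' A, pev_pmul' A, pev_ppow' A, pev_pth' A, pev_pv, mul_assoc, add_assoc] using h'

theorem Q36a (a U2 c T4 U4 e U6 g : K) (h : cl A 1 (a) 0 * cl A 2 0 (U2) * cl A 3 (c) 0 * cl A 4 (T4) (U4) * cl A 5 (e) 0 * cl A 6 0 (U6) * cl A 7 (g) 0 * (cl A 1 (a) 0 * cl A 2 0 (U2) * cl A 3 (c) 0 * cl A 4 (T4) (U4) * cl A 5 (e) 0 * cl A 6 0 (U6) * cl A 7 (g) 0) = 1) : (T4 * a) = 0 := by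
  have h' := coef_eq_zero A (l := [(1, (pv 8 0), []), (2, [], (pv 8 1)), (3, (pv 8 2), []), (4, (pv 8 3), (pv 8 4)), (5, (pv 8 5), []), (6, [], (pv 8 6)), (7, (pv 8 7), []), (1, (pv 8 0), []), (2, [], (pv 8 1)), (3, (pv 8 2), []), (4, (pv 8 3), (pv 8 4)), (5, (pv 8 5), []), (6, [], (pv 8 6)), (7, (pv 8 7), [])])
    (by decide +kernel) [a, U2, c, T4, U4, e, U6, g] (by simpa [dev, pev_nil, pev_one, pev_pv, mul_assoc] using h) (r := 36)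
    (p := (pmul (pv 8 3) (pv 8 0))) (by decide +kernel)
  simpa [pev_nil, pev_one, pev_padd' A, pev_pmul' A, pev_ppow' A, pev_pth' A, pev_pv, mul_assoc, add_assoc] using h'

theorem Q38a (a U2 c T4 U4 e U6 g : K) (h : cl A 1 (a) 0 * cl A 2 0 (U2) * cl A 3 (c) 0 * cl A 4 (T4) (U4) * cl A 5 (e) 0 * cl A 6 0 (U6) * cl A 7 (g) 0 * (cl A 1 (a) 0 * cl A 2 0 (U2) * cl A 3 (c) 0 * cl A 4 (T4) (U4) * cl A 5 (e) 0 * cl A 6 0 (U6) * cl A 7 (g) 0) = 1) : (th A a * g) = 0 := by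
  have h' := coef_eq_zero A (l := [(1, (pv 8 0), []), (2, [], (pv 8 1)), (3, (pv 8 2), []), (4, (pv 8 3), (pv 8 4)), (5, (pv 8 5), []), (6, [], (pv 8 6)), (7, (pv 8 7), []), (1, (pv 8 0), []), (2, [], (pv 8 1)), (3, (pv 8 2), []), (4, (pv 8 3), (pv 8 4)), (5, (pv 8 5), []), (6, [], (pv 8 6)), (7, (pv 8 7), [])])
    (by decide +kernel) [a, U2, c, T4, U4, e, U6, g] (by simpa [dev, pev_nil, pev_one, pev_pv, mul_assoc] using h) (r := 38)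
    (p := (pmul (pth (pv 8 0)) (pv 8 7))) (by decide +kernel)
  simpa [pev_nil, pev_one, pev_padd' A, pev_pmul' A, pev_ppow' A, pev_pth' A, pev_pv, mul_assoc, add_assoc] using h'

theorem Q44a (a U2 c T4 U4 e U6 g : K) (h : cl A 1 (a) 0 * cl A 2 0 (U2) * cl A 3 (c) 0 * cl A 4 (T4) (U4) * cl A 5 (e) 0 * cl A 6 0 (U6) * cl A 7 (g) 0 * (cl A 1 (a) 0 * cl A 2 0 (U2) * cl A 3 (c) 0 * cl A 4 (T4) (U4) * cl A 5 (e) 0 * cl A 6 0 (U6) * cl A 7 (g) 0) = 1) : (T4 * th A T4 + U2 * g + U6 * a) = 0 := by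
  have h' := coef_eq_zero A (l := [(1, (pv 8 0), []), (2, [], (pv 8 1)), (3, (pv 8 2), []), (4, (pv 8 3), (pv 8 4)), (5, (pv 8 5), []), (6, [], (pv 8 6)), (7, (pv 8 7), []), (1, (pv 8 0), []), (2, [], (pv 8 1)), (3, (pv 8 2), []), (4, (pv 8 3), (pv 8 4)), (5, (pv 8 5), []), (6, [], (pv 8 6)), (7, (pv 8 7), [])])
    (by decide +kernel) [a, U2, c, T4, U4, e, U6, g] (by simpa [dev, pev_nil, pev_one, pev_pv, mul_assoc] using h) (r := 44)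
    (p := (padd (padd (pmul (pv 8 3) (pth (pv 8 3))) (pmul (pv 8 1) (pv 8 7))) (pmul (pv 8 6) (pv 8 0)))) (by decide +kernel)
  simpa [pev_nil, pev_one, pev_padd' A, pev_pmul' A, pev_ppow' A, pev_pth' A, pev_pv, mul_assoc, add_assoc] using h'

theorem Q37 (T2 U2 c T4 U4 e T6 U6 g y : K) (h : cl A 2 (T2) (U2) * cl A 3 (c) 0 * cl A 4 (T4) (U4) * cl A 5 (e) 0 * cl A 6 (T6) (U6) * cl A 7 (g) 0 * cl A 8 0 (y) * (cl A 2 (T2) (U2) * cl A 3 (c) 0 * cl A 4 (T4) (U4) * cl A 5 (e) 0 * cl A 6 (T6) (U6) * cl A 7 (g) 0 * cl A 8 0 (y)) = 1) : (T2 * y) = 0 := by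
  have h' := coef_eq_zero A (l := [(2, (pv 10 0), (pv 10 1)), (3, (pv 10 2), []), (4, (pv 10 3), (pv 10 4)), (5, (pv 10 5), []), (6, (pv 10 6), (pv 10 7)), (7, (pv 10 8), []), (8, [], (pv 10 9)), (2, (pv 10 0), (pv 10 1)), (3, (pv 10 2), []), (4, (pv 10 3), (pv 10 4)), (5, (pv 10 5), []), (6, (pv 10 6), (pv 10 7)), (7, (pv 10 8), []), (8, [], (pv 10 9))])
    (by decide +kernel) [T2, U2, c, T4, U4, e, T6, U6, g, y] (by simpa [dev, pev_nil, pev_one, pev_pv, mul_assoc] using h) (r := 37)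
    (p := (pmul (pv 10 0) (pv 10 9))) (by decide +kernel)
  simpa [pev_nil, pev_one, pev_padd' A, pev_pmul' A, pev_ppow' A, pev_pth' A, pev_pv, mul_assoc, add_assoc] using h'

theorem Q39b (U2 c T4 U4 e U6 g y : K) (h : cl A 2 0 (U2) * cl A 3 (c) 0 * cl A 4 (T4) (U4) * cl A 5 (e) 0 * cl A 6 0 (U6) * cl A 7 (g) 0 * cl A 8 0 (y) * (cl A 2 0 (U2) * cl A 3 (c) 0 * cl A 4 (T4) (U4) * cl A 5 (e) 0 * cl A 6 0 (U6) * cl A 7 (g) 0 * cl A 8 0 (y)) = 1) : (U2 * y) = 0 := by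
  have h' := coef_eq_zero A (l := [(2, [], (pv 8 0)), (3, (pv 8 1), []), (4, (pv 8 2), (pv 8 3)), (5, (pv 8 4), []), (6, [], (pv 8 5)), (7, (pv 8 6), []), (8, [], (pv 8 7)), (2, [], (pv 8 0)), (3, (pv 8 1), []), (4, (pv 8 2), (pv 8 3)), (5, (pv 8 4), []), (6, [], (pv 8 5)), (7, (pv 8 6), []), (8, [], (pv 8 7))])
    (by decide +kernel) [U2, c, T4, U4, e, U6, g, y] (by simpa [dev, pev_nil, pev_one, pev_pv, mul_assoc] using h) (r := 39)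
    (p := (pmul (pv 8 0) (pv 8 7))) (by decide +kernel)
  simpa [pev_nil, pev_one, pev_padd' A, pev_pmul' A, pev_ppow' A, pev_pth' A, pev_pv, mul_assoc, add_assoc] using h'

theorem Q44b (c T4 U4 e U6 g y : K) (h : cl A 3 (c) 0 * cl A 4 (T4) (U4) * cl A 5 (e) 0 * cl A 6 0 (U6) * cl A 7 (g) 0 * cl A 8 0 (y) * (cl A 3 (c) 0 * cl A 4 (T4) (U4) * cl A 5 (e) 0 * cl A 6 0 (U6) * cl A 7 (g) 0 * cl A 8 0 (y)) = 1) : (T4 * th A T4) = 0 := by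
  have h' := coef_eq_zero A (l := [(3, (pv 7 0), []), (4, (pv 7 1), (pv 7 2)), (5, (pv 7 3), []), (6, [], (pv 7 4)), (7, (pv 7 5), []), (8, [], (pv 7 6)), (3, (pv 7 0), []), (4, (pv 7 1), (pv 7 2)), (5, (pv 7 3), []), (6, [], (pv 7 4)), (7, (pv 7 5), []), (8, [], (pv 7 6))])
    (by decide +kernel) [c, T4, U4, e, U6, g, y] (by simpa [dev, pev_nil, pev_one, pev_pv, mul_assoc] using h) (r := 44)
    (p := (pmul (pv 7 1) (pth (pv 7 1)))) (by decide +kernel)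
  simpa [pev_nil, pev_one, pev_padd' A, pev_pmul' A, pev_ppow' A, pev_pth' A, pev_pv, mul_assoc, add_assoc] using h'

theorem Q40b (c U4 e U6 g y : K) (h : cl A 3 (c) 0 * cl A 4 0 (U4) * cl A 5 (e) 0 * cl A 6 0 (U6) * cl A 7 (g) 0 * cl A 8 0 (y) * (cl A 3 (c) 0 * cl A 4 0 (U4) * cl A 5 (e) 0 * cl A 6 0 (U6) * cl A 7 (g) 0 * cl A 8 0 (y)) = 1) : (c * y) = 0 := by
  have h' := coef_eq_zero A (l := [(3, (pv 6 0), []), (4, [], (pv 6 1)), (5, (pv 6 2), []), (6, [], (pv 6 3)), (7, (pv 6 4), []), (8, [], (pv 6 5)), (3, (pv 6 0), []), (4, [], (pv 6 1)), (5, (pv 6 2), []), (6, [], (pv 6 3)), (7, (pv 6 4), []), (8, [], (pv 6 5))])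
    (by decide +kernel) [c, U4, e, U6, g, y] (by simpa [dev, pev_nil, pev_one, pev_pv, mul_assoc] using h) (r := 40)
    (p := (pmul (pv 6 0) (pv 6 5))) (by decide +kernel)
  simpa [pev_nil, pev_one, pev_padd' A, pev_pmul' A, pev_ppow' A, pev_pth' A, pev_pv, mul_assoc, add_assoc] using h'

theorem Q36o (T2 U2 c T4 U4 e T6 U6 g : K) (h : cl A 2 (T2) (U2) * cl A 3 (c) 0 * cl A 4 (T4) (U4) * cl A 5 (e) 0 * cl A 6 (T6) (U6) * cl A 7 (g) 0 * (cl A 2 (T2) (U2) * cl A 3 (c) 0 * cl A 4 (T4) (U4) * cl A 5 (e) 0 * cl A 6 (T6) (U6) * cl A 7 (g) 0) = 1) : (T2 * th A T2) = 0 := by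
  have h' := coef_eq_zero A (l := [(2, (pv 9 0), (pv 9 1)), (3, (pv 9 2), []), (4, (pv 9 3), (pv 9 4)), (5, (pv 9 5), []), (6, (pv 9 6), (pv 9 7)), (7, (pv 9 8), []), (2, (pv 9 0), (pv 9 1)), (3, (pv 9 2), []), (4, (pv 9 3), (pv 9 4)), (5, (pv 9 5), []), (6, (pv 9 6), (pv 9 7)), (7, (pv 9 8), [])])
    (by decide +kernel) [T2, U2, c, T4, U4, e, T6, U6, g] (by simpa [dev, pev_nil, pev_one, pev_pv, mul_assoc] using h) (r := 36)
    (p := (pmul (pv 9 0) (pth (pv 9 0)))) (by decide +kernel)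
  simpa [pev_nil, pev_one, pev_padd' A, pev_pmul' A, pev_ppow' A, pev_pth' A, pev_pv, mul_assoc, add_assoc] using h'

theorem Q39o (U2 c T4 U4 e T6 U6 g : K) (h : cl A 2 0 (U2) * cl A 3 (c) 0 * cl A 4 (T4) (U4) * cl A 5 (e) 0 * cl A 6 (T6) (U6) * cl A 7 (g) 0 * (cl A 2 0 (U2) * cl A 3 (c) 0 * cl A 4 (T4) (U4) * cl A 5 (e) 0 * cl A 6 (T6) (U6) * cl A 7 (g) 0) = 1) : (T4 * T6) = 0 := by
  have h' := coef_eq_zero A (l := [(2, [], (pv 8 0)), (3, (pv 8 1), []), (4, (pv 8 2), (pv 8 3)), (5, (pv 8 4), []), (6, (pv 8 5), (pv 8 6)), (7, (pv 8 7), []), (2, [], (pv 8 0)), (3, (pv 8 1), []), (4, (pv 8 2), (pv 8 3)), (5, (pv 8 4), []), (6, (pv 8 5), (pv 8 6)), (7, (pv 8 7), [])])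
    (by decide +kernel) [U2, c, T4, U4, e, T6, U6, g] (by simpa [dev, pev_nil, pev_one, pev_pv, mul_assoc] using h) (r := 39)
    (p := (pmul (pv 8 2) (pv 8 5))) (by decide +kernel)
  simpa [pev_nil, pev_one, pev_padd' A, pev_pmul' A, pev_ppow' A, pev_pth' A, pev_pv, mul_assoc, add_assoc] using h'

theorem Q40o (U2 c T4 U4 e T6 U6 g : K) (h : cl A 2 0 (U2) * cl A 3 (c) 0 * cl A 4 (T4) (U4) * cl A 5 (e) 0 * cl A 6 (T6) (U6) * cl A 7 (g) 0 * (cl A 2 0 (U2) * cl A 3 (c) 0 * cl A 4 (T4) (U4) * cl A 5 (e) 0 * cl A 6 (T6) (U6) * cl A 7 (g) 0) = 1) : (T4 * g + T6 * th A T6) = 0 := by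
  have h' := coef_eq_zero A (l := [(2, [], (pv 8 0)), (3, (pv 8 1), []), (4, (pv 8 2), (pv 8 3)), (5, (pv 8 4), []), (6, (pv 8 5), (pv 8 6)), (7, (pv 8 7), []), (2, [], (pv 8 0)), (3, (pv 8 1), []), (4, (pv 8 2), (pv 8 3)), (5, (pv 8 4), []), (6, (pv 8 5), (pv 8 6)), (7, (pv 8 7), [])])
    (by decide +kernel) [U2, c, T4, U4, e, T6, U6, g] (by simpa [dev, pev_nil, pev_one, pev_pv, mul_assoc] using h) (r := 40)
    (p := (padd (pmul (pv 8 2) (pv 8 7)) (pmul (pv 8 5) (pth (pv 8 5))))) (by decide +kernel)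
  simpa [pev_nil, pev_one, pev_padd' A, pev_pmul' A, pev_ppow' A, pev_pth' A, pev_pv, mul_assoc, add_assoc] using h'

theorem Q44o (U2 c T4 U4 e U6 g : K) (h : cl A 2 0 (U2) * cl A 3 (c) 0 * cl A 4 (T4) (U4) * cl A 5 (e) 0 * cl A 6 0 (U6) * cl A 7 (g) 0 * (cl A 2 0 (U2) * cl A 3 (c) 0 * cl A 4 (T4) (U4) * cl A 5 (e) 0 * cl A 6 0 (U6) * cl A 7 (g) 0) = 1) : (T4 * th A T4 + U2 * g) = 0 := by
  have h' := coef_eq_zero A (l := [(2, [], (pv 7 0)), (3, (pv 7 1), []), (4, (pv 7 2), (pv 7 3)), (5, (pv 7 4), []), (6, [], (pv 7 5)), (7, (pv 7 6), []), (2, [], (pv 7 0)), (3, (pv 7 1), []), (4, (pv 7 2), (pv 7 3)), (5, (pv 7 4), []), (6, [], (pv 7 5)), (7, (pv 7 6), [])])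
    (by decide +kernel) [U2, c, T4, U4, e, U6, g] (by simpa [dev, pev_nil, pev_one, pev_pv, mul_assoc] using h) (r := 44)
    (p := (padd (pmul (pv 7 2) (pth (pv 7 2))) (pmul (pv 7 0) (pv 7 6)))) (by decide +kernel)
  simpa [pev_nil, pev_one, pev_padd' A, pev_pmul' A, pev_ppow' A, pev_pth' A, pev_pv, mul_assoc, add_assoc] using h'

end Cfsg.Agent.Lib.RankOne.F4Invol
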