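import Cfsg.Agent.Lib.RankOne.F4Std
import Cfsg.Agent.Lib.RankOne.TrialityOut

/-!
The outer automorphisms of the large Ree group are the field automorphisms.
-/

set_option autoImplicit false
set_option maxRecDepth 100000
set_option maxHeartbeats 1000000
set_option linter.unusedSectionVars false

namespace Cfsg.Agent.Lib.RankOne.F4Aut

open Cfsg.Lie Cfsg.Agent.Lib.Chev Cfsg.Agent.Lib.Chev.Tw Cfsg.Agent.Lib.Chev.Tw.F4

theorem A_neg : (∀ i < 4, tabF4.A i 14 = -tabF4.A i 33) ∧ (∀ i < 4, tabF4.A i 23 = -tabF4.A i 24) := by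
  decide +kernel

theorem negl_a : negl chevF4 [33, 24] = [14, 23] := by decide +kernel

variable {K : Type*} [Field K] [Fintype K] {m : ℕ} (A : Par K m)
include A

set_option quotPrecheck false
local notation "GG" => ↥(twistedF4 K (2 ^ m))
local notation "GLD" => GL chevF4.Idx K
local notation "YY" => Chev.Tw.F4.sys A
local notation "RA" => ([33, 24] : List ℕ)
local notation "NA" => ([14, 23] : List ℕ)

/-- Coefficients on the orbit of two roots. -/
def fA2 (t : K) : ℕ → K := fun r => if r = 33 then A.phi t else t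

/-- Coefficients on the opposite orbit. -/
def fN2 (t : K) : ℕ → K := fun r => if r = 14 then A.phi t else t

theorem fA2_fix (t : K) : (YY).IsFixF RA (fA2 A t) := (fix0 A (Or.inl rfl)).2 (by simp [fA2])

theorem fN2_fix (t : K) : (YY).IsFixF NA (fN2 A t) :=
  (fix0 A (a := 14) (b := 23) (Or.inr rfl)).2 (by simp [fN2])

/-- The root elements of the orbit of two roots. -/
def aP (t : K) : GG := ⟨Good'.P (YY).G RA (fA2 A t), mem0 A (Or.inl rfl) (fA2_fix A t)⟩

/-- The opposite elements. -/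
def aN (t : K) : GG :=
  ⟨Good'.P (YY).G NA (fN2 A t), mem0 A (a := 14) (b := 23) (Or.inr rfl) (fN2_fix A t)⟩

/-- The Suzuki root elements. -/
def wP (x u : K) : GG := ⟨W A posC x u, W_mem A (Or.inl rfl) x u⟩

/-- The opposite Suzuki root elements. -/
def wN (x u : K) : GG := ⟨W A negC x u, W_mem A (Or.inr rfl) x u⟩

theorem P_add {R : List ℕ} (h : chkComm2 chevF4 tabF4 0 R R = true) (f g : ℕ → K) :
    Good'.P (YY).G R f * Good'.P (YY).G R g = Good'.P (YY).G R fun r => f r + g r :=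
  Good'.P_mul (YY).G (p := 0) Nat.cast_zero h _ (fun _ hx => hx) f g

theorem aP_mul (a b : K) : aP A a * aP A b = aP A (a + b) := Subtype.ext <| by
  refine (P_add A (Ab.facts blk0_chk).2.2.2.1 _ _).trans (Good'.P_congr (YY).G fun r _ => ?_)
  simp only [fA2]; split_ifs <;> simp

theorem aN_mul (a b : K) : aN A a * aN A b = aN A (a + b) := Subtype.ext <| by
  refine (P_add A (negl_a ▸ (Ab.facts blk0_chk).2.2.2.2.1) _ _).trans
    (Good'.P_congr (YY).G fun r _ => ?_)
  simp only [fN2]; split_ifs <;> simp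

theorem aP_inj : Function.Injective (aP A) := fun a b e => by
  have h := (ab0 A).P_eq_iff.1 (congrArg Subtype.val e) 24 (by simp)
  simpa [fA2] using h

theorem aP_zero : aP A 0 = 1 := mul_eq_left.1 ((aP_mul A 0 0).trans (by rw [add_zero]))

theorem posA {y : GG} : y ∈ posSet A 0 ↔ ∃ t, y = aP A t := by
  show (y : GLD) ∈ flipSetFx (YY) _ ↔ _
  rw [show (gens A).n 0 = (YY).G.nl K (twF4.blk 0) from rfl, (ab0 A).flip_iff (ab0 A).act]
  constructor
  · rintro ⟨f, hf, e⟩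
    rw [fix0 A (Or.inl rfl)] at hf
    refine ⟨f 24, Subtype.ext (e.trans (Good'.P_congr (YY).G fun r hr => ?_))⟩
    simp only [List.mem_cons, List.not_mem_nil, or_false] at hr
    rcases hr with rfl | rfl <;> simp [fA2, hf]
  · rintro ⟨t, rfl⟩
    exact ⟨_, fA2_fix A t, rfl⟩

theorem posW {y : GG} : y ∈ posSet A 1 ↔ ∃ x u, y = wP A x u := by
  show (y : GLD) ∈ flipSetFx (YY) _ ↔ _
  rw [show (gens A).n 1 = (YY).G.nl K (twF4.blk 1) from rfl, flip1 A]
  exact ⟨fun ⟨x, u, e⟩ => ⟨x, u, Subtype.ext e⟩, fun ⟨x, u, e⟩ => ⟨x, u, congrArg Subtype.val e⟩⟩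

/-- The representative of the orbit of two roots. -/
def nA : GG := nk A 0 (by decide)

/-- The representative of the Suzuki block. -/
def nW : GG := nk A 1 (by decide)

theorem nA_conj (c : K) : nA A * aP A c * (nA A)⁻¹ = aN A (-c) := Subtype.ext <| by
  refine ((ab0 A).wl_conj).trans ?_
  rw [negl_a]
  refine Good'.P_congr (YY).G fun r hr => ?_
  simp only [List.mem_cons, List.not_mem_nil, or_false] at hr
  rcases hr with rfl | rfl
  · show -fA2 A c 33 = _; simp [fA2, fN2]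
  · show -fA2 A c 24 = _; simp [fA2, fN2]

theorem nW_conj (x u : K) : nW A * wP A x u * (nW A)⁻¹ = wN A x u := Subtype.ext (conj_W A x u)

theorem negA {y : GG} : y ∈ negSet A 0 (by decide) ↔ ∃ t, y = aN A t := by
  constructor
  · rintro ⟨c, hc, rfl⟩
    obtain ⟨t, rfl⟩ := (posA A).1 hc
    exact ⟨-t, nA_conj A t⟩
  · rintro ⟨t, rfl⟩
    exact ⟨aP A (-t), (posA A).2 ⟨_, rfl⟩, (nA_conj A (-t)).trans (by rw [neg_neg])⟩

theorem negW {y : GG} : y ∈ negSet A 1 (by decide) ↔ ∃ x u, y = wN A x u := by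
  constructor
  · rintro ⟨c, hc, rfl⟩
    obtain ⟨x, u, rfl⟩ := (posW A).1 hc
    exact ⟨x, u, nW_conj A x u⟩
  · rintro ⟨x, u, rfl⟩
    exact ⟨wP A x u, (posW A).2 ⟨_, _, rfl⟩, nW_conj A x u⟩

/-! ### The torus -/

/-- The torus elements. -/
def tG (p : Kˣ × Kˣ) : GG := ⟨(YY).G.torHom K (par A p.1 p.2), torHom_par_mem A _ _⟩

theorem tG_HH (p : Kˣ × Kˣ) : tG A p ∈ HH K m := (YY).torHom_mem_diag _

theorem tG_one : tG A 1 = 1 := Subtype.ext <| by
  show (YY).G.torHom K (par A (1 : Kˣ) 1) = 1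
  have : par A (1 : Kˣ) 1 = 1 := by
    funext j
    fin_cases j <;> simp [par] <;> rfl
  rw [this, map_one]

/-- The weights of the torus on the two blocks. -/
def Wt : Kˣ × Kˣ →* Kˣ × Kˣ :=
  ((powMonoidHom 2).comp (MonoidHom.fst Kˣ Kˣ) / MonoidHom.snd Kˣ Kˣ).prod
    ((powMonoidHom 2).comp (MonoidHom.snd Kˣ Kˣ) /
      ((powMonoidHom 2).comp ((phu A).comp (MonoidHom.snd Kˣ Kˣ)) * MonoidHom.fst Kˣ Kˣ))

theorem Wt_fst (p : Kˣ × Kˣ) : (((Wt A p).1 : Kˣ) : K) = (p.2 : K)⁻¹ * (p.1 : K) ^ 2 := by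
  simp [Wt, div_eq_mul_inv, mul_comm]

theorem Wt_snd (p : Kˣ × Kˣ) :
    (((Wt A p).2 : Kˣ) : K) = (A.phi p.2 ^ 2)⁻¹ * (p.2 : K) ^ 2 * (p.1 : K)⁻¹ := by
  simp [Wt, phu, div_eq_mul_inv, mul_comm, mul_assoc, mul_left_comm]

theorem Wt_bij : Function.Bijective (Wt A) := by
  refine Finite.injective_iff_bijective.1 ((injective_iff_map_eq_one _).2 ?_)
  rintro ⟨s, t⟩ h
  have h0 := Wt_fst A (s, t)
  have h1 := Wt_snd A (s, t)
  simp only [h, Prod.fst_one, Prod.snd_one, Units.val_one] at h0 h1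
  have s0 : (s : K) ≠ 0 := s.ne_zero
  have t0 : (t : K) ≠ 0 := t.ne_zero
  have ft0 : A.phi t ≠ 0 := (map_ne_zero_iff _ A.phi.injective).2 t0
  field_simp at h0 h1
  have ht : (t : K) = (s : K) ^ 2 := by linear_combination h0
  rw [ht, map_pow] at h1
  have e1 : A.phi s ^ 4 = (s : K) ^ 3 := mul_right_cancel₀ s0 (by linear_combination h1)
  have e2 : (s : K) ^ 2 = A.phi s ^ 3 := by
    have := congrArg A.phi e1
    rw [map_pow, map_pow] at this
    calc (s : K) ^ 2 = (A.phi (A.phi s) ^ 2) ^ 2 := by rw [phi_sq A]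
      _ = A.phi (A.phi s) ^ 4 := by ring
      _ = _ := this
  have hs : (s : K) = 1 := mul_left_cancel₀ (pow_ne_zero 8 s0) (by
    calc (s : K) ^ 8 * s = ((s : K) ^ 3) ^ 3 := by ring
      _ = (A.phi s ^ 4) ^ 3 := by rw [e1]
      _ = (A.phi s ^ 3) ^ 4 := by ring
      _ = ((s : K) ^ 2) ^ 4 := by rw [e2]
      _ = _ := by ring)
  refine Prod.ext (Units.ext hs) (Units.ext ?_)
  rw [ht, hs, one_pow]; rfl

theorem conj_aP (p : Kˣ × Kˣ) (s : K) :
    tG A p * aP A s * (tG A p)⁻¹ = aP A (((Wt A p).1 : K) * s) := Subtype.ext <| by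
  refine ((YY).conj_P ((YY).G.torHom_val _) ((YY).G.isChar_tor fun i _ => extOne_ne_zero _ i)
    (by decide +kernel) _).trans (Good'.P_congr (YY).G fun r hr => ?_)
  obtain ⟨p33, p24, -⟩ := tor_par A p.1 p.2
  simp only [List.mem_cons, List.not_mem_nil, or_false] at hr
  rcases hr with rfl | rfl <;> simp only [p33, p24]
  · simp [fA2, Wt_fst, map_mul, map_pow, map_inv₀]; left; ring
  · simp [fA2, Wt_fst]

theorem tor_neg (c : ℕ → K) {s s' : ℕ} (h : ∀ i < 4, tabF4.A i s = -tabF4.A i s') :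
    tor chevF4 tabF4 c s = (tor chevF4 tabF4 c s')⁻¹ := by
  have ex : ∀ x, tor chevF4 tabF4 c x =
      c 0 ^ tabF4.A 0 x * c 1 ^ tabF4.A 1 x * c 2 ^ tabF4.A 2 x * c 3 ^ tabF4.A 3 x := by
    intro x
    show ∏ i ∈ Finset.range 4, _ = _
    simp [Finset.prod_range_succ]
  rw [ex, ex, h 0 (by norm_num), h 1 (by norm_num), h 2 (by norm_num),
    h 3 (by norm_num), zpow_neg, zpow_neg, zpow_neg, zpow_neg, mul_inv, mul_inv, mul_inv]

theorem conj_aN (p : Kˣ × Kˣ) (s : K) :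
    tG A p * aN A s * (tG A p)⁻¹ = aN A (((Wt A p).1 : K)⁻¹ * s) := Subtype.ext <| by
  refine ((YY).conj_P ((YY).G.torHom_val _) ((YY).G.isChar_tor fun i _ => extOne_ne_zero _ i)
    (by decide +kernel) _).trans (Good'.P_congr (YY).G fun r hr => ?_)
  obtain ⟨p33, p24, -⟩ := tor_par A p.1 p.2
  simp only [List.mem_cons, List.not_mem_nil, or_false] at hr
  rcases hr with rfl | rfl
  · rw [tor_neg A _ A_neg.1, p33]
    simp [fN2, Wt_fst, map_mul, map_pow, map_inv₀]; left; ring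
  · rw [tor_neg A _ A_neg.2, p24]
    simp [fN2, Wt_fst]

theorem conj_wP (p : Kˣ × Kˣ) (x u : K) : tG A p * wP A x u * (tG A p)⁻¹ =
    wP A (((Wt A p).2 : K) * x) (((Wt A p).2 : K) * A.phi ((Wt A p).2 : K) * u) := Subtype.ext <| by
  show (tG A p : GLD) * W A posC x u * (tG A p : GLD)⁻¹ = W A posC _ _
  set χ := tor chevF4 tabF4 (extOne chevF4 (par A p.1 p.2)) with hχdef
  obtain ⟨-, -, p25, p28, -⟩ := tor_par A p.1 p.2
  have e : (tG A p : GLD) * W A posC x u * (tG A p : GLD)⁻¹ =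
      E A posC (χ 27 * A.phi x) (χ 25 * x) (χ 28 * (x * A.phi x + u)) (χ 30 * A.phi u ^ 2) :=
    (YY).diag_conj_wordG ((YY).G.torHom_val _) ((YY).G.isChar_tor fun i _ => extOne_ne_zero _ i)
      (by simp [posC]; decide)
  have hmem : E A posC (χ 27 * A.phi x) (χ 25 * x) (χ 28 * (x * A.phi x + u)) (χ 30 * A.phi u ^ 2) ∈
      twistedF4 K (2 ^ m) := e ▸ (tG A p * wP A x u * (tG A p)⁻¹).2
  obtain ⟨u', e'⟩ := fix_E_iff A ((gens A).le_Fx hmem).2
  obtain ⟨-, -, h3, -⟩ := E_pos_inj A e'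
  rw [e, e', ← hχdef] at *
  have hw : ((Wt A p).2 : K) = χ 25 := by rw [Wt_snd, p25]
  have h28 : χ 28 = χ 25 * A.phi (χ 25) := by
    rw [p25, p28, map_mul, map_mul, map_inv₀, map_inv₀, map_pow, map_pow, phi_sq A]
    have s0 : (p.1 : K) ≠ 0 := p.1.ne_zero
    have t0 : (p.2 : K) ≠ 0 := p.2.ne_zero
    have fs0 : A.phi (p.1 : K) ≠ 0 := (map_ne_zero_iff _ A.phi.injective).2 s0
    have ft0 : A.phi (p.2 : K) ≠ 0 := (map_ne_zero_iff _ A.phi.injective).2 t0
    field_simp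
  rw [hw]
  congr 1
  rw [h28, map_mul] at h3
  linear_combination -h3

/-- The elements exchanging the two orbit groups. -/
def nAt (t : K) : GG := aP A t * aN A (-t⁻¹) * aP A t

theorem nAt_val (t : K) : ((nAt A t : GG) : GLD) = ((RA).map fun r => (YY).G.Ng K r (fA2 A t r)).prod := by
  rw [Good'.nprod_eq (YY).G (Ab.facts blk0_chk).2.2.2.2.2.2.2.2.2.1 (by decide +kernel), negl_a]
  show Good'.P (YY).G RA _ * Good'.P (YY).G NA _ * Good'.P (YY).G RA _ = _
  refine congrArg (fun z => _ * z * _) (Good'.P_congr (YY).G fun r hr => ?_)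
  simp only [List.mem_cons, List.not_mem_nil, or_false] at hr
  rcases hr with rfl | rfl
  · show _ = -(fA2 A t 33)⁻¹; simp [fA2, fN2, map_inv₀]
  · show _ = -(fA2 A t 24)⁻¹; simp [fA2, fN2]

theorem nAt_one : nAt A 1 = nA A := Subtype.ext <| by
  rw [nAt_val]
  refine Eq.trans ?_ (ab0 A).nl_eq.symm
  congr 1
  exact List.map_congr_left fun r _ => by simp [fA2]

theorem neg_self (x : K) : -x = x := F4.neg_eq A x

theorem nA_inv : (nA A)⁻¹ = nA A := by
  have hz' : aN A 0 = 1 := mul_eq_left.1 ((aN_mul A 0 0).trans (by rw [add_zero]))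
  have e : ∀ s, (aP A s)⁻¹ = aP A s := fun s =>
    inv_eq_of_mul_eq_one_right (by rw [aP_mul, add_self A, aP_zero])
  have e' : ∀ s, (aN A s)⁻¹ = aN A s := fun s =>
    inv_eq_of_mul_eq_one_right (by rw [aN_mul, add_self A, hz'])
  rw [← nAt_one, nAt, mul_inv_rev, mul_inv_rev, e, e', mul_assoc]

theorem nAt_eq (t : Kˣ) : nAt A (t : K) = tG A (t, 1) * nA A := by
  rw [← nA_inv, eq_mul_inv_iff_mul_eq]
  refine Subtype.ext ?_
  show _ = (YY).G.torHom K (par A t 1)
  rw [(torHom_pair_mem A t).2, Subgroup.coe_mul, nAt_val, ← nAt_one A, nAt_val]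
  have hm : ((RA).map fun r => (YY).G.Ng K r (fA2 A 1 r)) = (RA).map fun r => (YY).G.Ng K r (-1) :=
    List.map_congr_left fun r _ => by simp [fA2, neg_self A]
  rw [hm, ← Good'.hprod_eq (YY).G (Ab.facts blk0_chk).2.2.2.2.2.2.2.2.2.1]
  simp [fA2]

theorem nA_sw' (c : K) : nA A * aN A c * (nA A)⁻¹ = aP A (-c) := by
  have h := nA_conj A (-c)
  rw [neg_neg] at h
  rw [← h, nA_inv]
  conv_lhs => rw [show nA A * (nA A * aP A (-c) * nA A) * nA A =
    (nA A * nA A) * aP A (-c) * (nA A * nA A) by group]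
  rw [show nA A * nA A = 1 by nth_rw 1 [← nA_inv]; exact inv_mul_cancel _, one_mul, mul_one]

/-- A negative root element normalising the positive root subgroup is trivial. -/
theorem neg_normalises {k : ℕ} (hk : k < twF4.nb) {y : GG} (hy : y ∈ negSet A k hk)
    (h : ∀ c ∈ posSet A k, y * c * y⁻¹ ∈ posSet A k) : y = 1 := by
  have hyV : y ∈ UM K m := (negSet_le A hk hy).2
  obtain ⟨c₀, hc₀, e₀⟩ := hy
  have hspan := (gens A).mem_span_conj hk hc₀
  have hB : (y : GLD) ∈ chevF4.borelSubgroup K := by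
    refine mem_borel_of_normalises A fun u hu => ?_
    obtain ⟨a, ha, c, hc, e⟩ := (YY).G.exists_split_pos (twF4.blk k)
      (show (u : GLD) ∈ chevF4.posUnipotent K from hu)
    have hW := ((YY).blk_facts hk).1
    have hn := (gens A).n_act k hk
    obtain ⟨-, hcf⟩ := Gens.split_fix ((gens A).le_Fx ((gens A).n_mem k hk))
      ((YY).G.USub_le_pos _ ha) ((YY).G.USub_le_pos _ hc) ((YY).G.keep_conj hW hn ha)
      ((YY).G.flip_conj hW hn hc) (by rw [← e]; exact (gens A).le_Fx u.2)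
    have gc : c ∈ twistedF4 K (2 ^ m) := (gens A).pos_fix_mem ((YY).G.USub_le_pos _ hc) hcf
    have hc' : (⟨c, gc⟩ : GG) ∈ posSet A k :=
      ⟨(YY).G.USub_le_pos _ hc, hcf, (YY).G.flip_conj hW hn hc⟩
    have h1 := (h _ hc').1
    have h2 := (YY).closure_normalizes_keep hk hspan a ha
    rw [← show (y : GLD) = (gens A).n k * (c₀ : GLD) * ((gens A).n k)⁻¹ from
      (congrArg Subtype.val e₀).symm] at h2
    have h3 := mul_mem ((YY).G.USub_le_pos _ h2) h1
    show ((y * u * y⁻¹ : GG) : GLD) ∈ chevF4.posUnipotent K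
    convert h3 using 1
    simp only [Subgroup.coe_mul, Subgroup.coe_inv, e]
    group
  exact Subtype.ext (Subgroup.mem_bot.1 ((YY).G.borel_inf_neg (F := K) ▸
    Subgroup.mem_inf.2 ⟨hB, hyV⟩))

/-- The rank-one configuration of the orbit of two roots. -/
def cA : TriAut.R1.Cfg GG K where
  P := aP A
  N := aN A
  hP := aP_mul A
  hN := aN_mul A
  inj := aP_inj A
  sw c := by
    rw [show aP A 1 * aN A (-1) * aP A 1 = nA A by rw [← nAt_one, nAt, inv_one]]
    exact nA_conj A c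
  sw' c := by
    rw [show aP A 1 * aN A (-1) * aP A 1 = nA A by rw [← nAt_one, nAt, inv_one]]
    exact nA_sw' A c
  triv e h := by
    have hy := neg_normalises A (k := 0) (by decide) (y := aN A (-e)) ((negA A).2 ⟨_, rfl⟩)
      fun c hc => by
        obtain ⟨s, rfl⟩ := (posA A).1 hc
        obtain ⟨s', hs'⟩ := h (-s)
        refine (posA A).2 ⟨-s', ?_⟩
        rw [← nA_sw' A s', ← hs', ← nA_conj A e,
          show aP A s = nA A * aN A (-s) * (nA A)⁻¹ by rw [nA_sw', neg_neg]]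
        group
    rw [← nA_conj A e, conj_eq_one_iff, ← aP_zero A] at hy
    exact aP_inj A hy

theorem cA_hn (t : K) (ht : t ≠ 0) (s : K) :
    (cA A).n t * (cA A).P s * ((cA A).n t)⁻¹ = (cA A).N (-(s / t ^ 2)) := by
  lift t to Kˣ using IsUnit.mk0 t ht
  show nAt A t * aP A s * (nAt A t)⁻¹ = aN A _
  rw [nAt_eq A, show tG A (t, 1) * nA A * aP A s * (tG A (t, 1) * nA A)⁻¹ =
    tG A (t, 1) * (nA A * aP A s * (nA A)⁻¹) * (tG A (t, 1))⁻¹ by group, nA_conj, conj_aN, Wt_fst]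
  congr 1
  simp [div_eq_mul_inv, mul_comm]

theorem cA_hn' (t : K) (ht : t ≠ 0) (s : K) :
    (cA A).n t * (cA A).N s * ((cA A).n t)⁻¹ = (cA A).P (-(t ^ 2 * s)) := by
  lift t to Kˣ using IsUnit.mk0 t ht
  show nAt A t * aN A s * (nAt A t)⁻¹ = aP A _
  rw [nAt_eq A, show tG A (t, 1) * nA A * aN A s * (tG A (t, 1) * nA A)⁻¹ =
    tG A (t, 1) * (nA A * aN A s * (nA A)⁻¹) * (tG A (t, 1))⁻¹ by group, nA_sw', conj_aP, Wt_fst]
  congr 1
  simp

theorem cA_n (t : K) : (cA A).n t = nAt A t := rfl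

/-! ### The Suzuki block -/

theorem nW_eq : nW A = wP A 0 1 * wN A 1 1 * wP A 1 0 := Subtype.ext <| by
  show (YY).G.nl K (twF4.blk 1) = W A posC 0 1 * W A negC 1 1 * W A posC 1 0
  have hW : IsW chevF4 (twF4.blk 1) := ((YY).blk_facts (by decide)).1
  rw [(YY).nl_eq_word hW, show twF4.blk 1 = [1, 2, 1, 2] from rfl,
    ← Good'.wordMat_eq_mod (YY).G (cast2 A) blk1_word]
  have h11 : (1 : K) + 1 = 0 := add_self A 1
  simp [W, E, posC, negC, Good.wordG, castWord, h11, mul_assoc]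

theorem exists_phi_ne (hm : 1 ≤ m) : ∃ c : K, A.phi c ≠ c := by
  obtain ⟨c, hc0, hc⟩ := exists_pow_ne_one (K := K) (n := 2 ^ m - 1)
    (by have := Nat.one_lt_two_pow (n := m) (by omega); omega) (by
      rw [A.hK]
      have h1 : 2 ^ m < 2 ^ (2 * m + 1) := Nat.pow_lt_pow_right (by norm_num) (by omega)
      have := Nat.one_le_two_pow (n := m)
      omega)
  refine ⟨c, fun e => ?_⟩
  rw [A.hphi] at e
  apply hc
  refine mul_right_cancel₀ hc0 ?_
  rw [← pow_succ, Nat.sub_add_cancel Nat.one_le_two_pow, e, one_mul]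

/-- An automorphism fixing the two chosen root elements is a field automorphism on the generators. -/
theorem exists_field (hm : 1 ≤ m) {θ : MulAut GG} (h : Std θ) (ha : θ (aP A 1) = aP A 1)
    (hb : ∃ u, θ (wP A 1 0) = wP A 1 u) : ∃ σ : K ≃+* K,
      (∀ t, θ (aP A t) = aP A (σ t) ∧ θ (aN A t) = aN A (σ t)) ∧
      ∀ x u, θ (wP A x u) = wP A (σ x) (σ u) ∧ θ (wN A x u) = wN A (σ x) (σ u) := by
  choose f hf using fun t => (posA A).1 (std_posSet A h (k := 0) (by decide) ((posA A).2 ⟨t, rfl⟩))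
  choose f' hf' using fun t => (negA A).1 (std_negSet A h (k := 0) (by decide) ((negA A).2 ⟨t, rfl⟩))
  choose g d hg using fun x u =>
    (posW A).1 (std_posSet A h (k := 1) (by decide) ((posW A).2 ⟨x, u, rfl⟩))
  have hf1 : f 1 = 1 := aP_inj A ((hf 1).symm.trans ha)
  obtain ⟨hn1, hff⟩ := (cA A).map_one_eq hf hf' hf1
  have hfN : ∀ t, θ ((cA A).N t) = (cA A).N (f t) := fun t => by rw [← hff]; exact hf' t
  let σh : K →+* K :=
    { toFun := f
      map_one' := hf1
      map_zero' := by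
        have := (cA A).f_add hf 0 0
        rwa [add_zero, left_eq_add] at this
      map_mul' := (cA A).map_mul_eq (cA_hn A) (cA_hn' A) hf hfN hf1
      map_add' := (cA A).f_add hf }
  let σ : K ≃+* K := RingEquiv.ofBijective σh (Finite.injective_iff_bijective.1 σh.injective)
  have hσ : ∀ t, σ t = f t := fun _ => rfl
  have hφ : ∀ t, A.phi (σ t) = σ (A.phi t) := fun t => by rw [A.hphi, A.hphi, map_pow]
  obtain ⟨u₁, hu₁⟩ := hb
  -- the torus of the first block
  have hscale : ∀ (t : Kˣ) (x u : K),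
      g ((t : K)⁻¹ * x) ((t : K)⁻¹ * A.phi (t : K)⁻¹ * u) = σ (t : K)⁻¹ * g x u ∧
      d ((t : K)⁻¹ * x) ((t : K)⁻¹ * A.phi (t : K)⁻¹ * u) = σ ((t : K)⁻¹ * A.phi (t : K)⁻¹) * d x u := by
    intro t x u
    obtain ⟨-, hnt, -⟩ := (cA A).map_n (cA_hn A) (cA_hn' A) hf hfN t.ne_zero
    have hT : θ (tG A (t, 1)) = tG A (Units.map (σ : K →+* K).toMonoidHom t, 1) := by
      refine mul_right_cancel (b := nA A) ?_
      rw [← nAt_eq A, ← cA_n A]
      refine Eq.trans ?_ (congrArg (cA A).n (hσ t)).symm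
      rw [← hnt, cA_n A, nAt_eq A, map_mul]
      congr 1
      rw [← nAt_one A, ← cA_n A, hn1]
    have e := congrArg θ (conj_wP A (t, 1) x u)
    rw [map_mul, map_mul, map_inv, hT, hg, hg, conj_wP] at e
    simp only [Wt_snd, Units.val_one, map_one, one_pow, inv_one, one_mul, Units.coe_map] at e
    have e' := congrArg Subtype.val e
    obtain ⟨-, h2, h3, -⟩ := E_pos_inj A e'
    have e'' : (σ : K →+* K).toMonoidHom (t : K) = σ (t : K) := rfl
    simp only [e''] at h2 h3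
    rw [map_mul, map_inv₀ σ, map_inv₀ A.phi, map_inv₀ σ, ← hφ, ← map_inv₀ A.phi]
    refine ⟨h2.symm, ?_⟩
    rw [← h2] at h3
    rw [← map_inv₀ A.phi]
    exact (add_left_cancel h3).symm
  have hz : ∀ x u, wP A x 0 * wP A 0 u = wP A x u := fun x u => Subtype.ext <| by
    show W A posC x 0 * W A posC 0 u = W A posC x u
    rw [W, W, W, E_mul A posC_chk]
    congr 1 <;> simp
  have hmulW : ∀ x y, wP A x 0 * wP A y 0 = wP A (x + y) (y * A.phi x) := fun x y => Subtype.ext <| by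
    show W A posC x 0 * W A posC y 0 = W A posC (x + y) _
    rw [W, W, W, E_mul A posC_chk]
    congr 1
    · rw [map_add]
    · rw [map_add]; linear_combination -(y * A.phi x) * A.h2
    · rw [map_mul, mul_pow, phi_sq A, map_zero]; ring
  have hcen : ∀ a b u v, wP A a u * wP A b v = wP A (a + b) (u + v + b * A.phi a) := fun a b u v =>
    Subtype.ext <| by
    show W A posC a u * W A posC b v = W A posC (a + b) _
    rw [W, W, W, E_mul A posC_chk]
    congr 1
    · rw [map_add]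
    · rw [map_add]; linear_combination -(b * A.phi a) * A.h2
    · rw [map_add, map_add, map_mul, sq_add A, sq_add A, mul_pow, phi_sq A]; ring
  have hg1 : g 1 0 = 1 := (E_pos_inj A (congrArg Subtype.val ((hg 1 0).symm.trans hu₁))).2.1
  -- the centre
  have h01 : θ (wP A 0 1) = wP A 0 1 := by
    have e : wP A 1 0 * wP A 1 0 = wP A 0 1 := by
      rw [hcen, add_self A, map_one]; simp
    rw [← e, map_mul, hu₁, hcen, hcen, add_self A, add_self A]; simp
  have hcentre : ∀ v, θ (wP A 0 v) = wP A 0 (σ v) := by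
    intro v
    rcases eq_or_ne v 0 with rfl | hv
    · have h0 : wP A 0 0 = 1 := mul_eq_left.1 ((hcen 0 0 0 0).trans (by simp))
      rw [map_zero, h0, map_one]
    obtain ⟨r, hr⟩ := exists_root A ((Units.mk0 v hv) ^ 2)
    have hrv : (r : K) * A.phi r = v := by
      have h2 := congrArg Units.val hr
      simp only [Units.val_mul, Units.val_pow_eq_pow_val, Units.val_mk0, phu, Units.coe_map] at h2
      have h3 : ((r : K) * A.phi r + v) ^ 2 = 0 := by
        rw [sq_add A]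
        have h4 : A.phi (r : K) ^ 2 * (r : K) ^ 2 = v ^ 2 := h2
        linear_combination h4 + v ^ 2 * A.h2
      linear_combination (pow_eq_zero_iff (n := 2) (by norm_num)).1 h3 - v * A.h2
    obtain ⟨e1, e2⟩ := hscale r⁻¹ 0 1
    have h01' := (hg 0 1).symm.trans h01
    obtain ⟨-, g0, d0, -⟩ := E_pos_inj A (congrArg Subtype.val h01')
    rw [g0, zero_mul, zero_add, zero_add] at d0
    simp only [Units.val_inv_eq_inv_val, inv_inv, mul_zero, mul_one, hrv] at e1 e2
    rw [hg, e1, e2, g0, d0, mul_zero, mul_one]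
  -- the top
  set D := d 1 0
  have htop : ∀ x, θ (wP A x 0) = wP A (σ x) (D * σ (x * A.phi x)) := by
    intro x
    rcases eq_or_ne x 0 with rfl | hx
    · have h0 : wP A 0 0 = 1 := mul_eq_left.1 ((hcen 0 0 0 0).trans (by simp))
      simp [h0]
    obtain ⟨e1, e2⟩ := hscale (Units.mk0 x hx)⁻¹ 1 0
    simp only [Units.val_inv_eq_inv_val, Units.val_mk0, inv_inv, mul_one, mul_zero] at e1 e2
    rw [hg, e1, e2, hg1, mul_one, mul_comm D]
  have hD : D = 0 := by
    obtain ⟨c, hc⟩ := exists_phi_ne A hm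
    have h2 := congrArg θ (hmulW c 1)
    rw [← hz (c + 1), map_mul, map_mul, htop, htop, htop, hcentre, hcen, hcen] at h2
    obtain ⟨-, -, h3, -⟩ := E_pos_inj A (congrArg Subtype.val h2)
    simp only [map_one, map_mul, map_add, map_zero, mul_one, one_mul, hφ, add_zero] at h3
    have h4 : D * (σ (A.phi c) + σ c) = 0 := by linear_combination -h3
    refine (mul_eq_zero.1 h4).resolve_right fun h5 => hc (σ.injective ?_)
    linear_combination h5 - σ c * A.h2
  have hW : ∀ x u, θ (wP A x u) = wP A (σ x) (σ u) := fun x u => by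
    rw [← hz x u, map_mul, htop, hcentre, hD, zero_mul, hcen]
    simp
  refine ⟨σ, fun t => ⟨hf t, hfN t⟩, fun x u => ⟨hW x u, ?_⟩⟩
  -- the representative is fixed
  have hN0 : θ (wN A 1 1) = wN A 1 1 := by
    set N₀ := wN A 1 1 with hN₀
    set N := θ N₀ with hN
    have hNn : N ∈ negSet A 1 (by decide) :=
      std_negSet A h (k := 1) (by decide) ((negW A).2 ⟨_, _, rfl⟩)
    have hθn : θ (nW A) = wP A 0 1 * N * wP A 1 0 := by
      rw [nW_eq, map_mul, map_mul, hW, hW, ← hN]; simp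
    have hy : N₀⁻¹ * N ∈ negSet A 1 (by decide) := by
      have hsub := minP_neg A (k := 1) (by decide)
      have hN0' : N₀ ∈ negSet A 1 (by decide) := (negW A).2 ⟨_, _, rfl⟩
      rw [← hsub, SetLike.mem_coe] at hN0' hNn ⊢
      exact mul_mem (inv_mem hN0') hNn
    refine (inv_mul_eq_one.1 (neg_normalises A (k := 1) (by decide) hy fun c hc => ?_)).symm
    -- conjugation by the image of the representative
    have hz1 : θ (nW A) * ((wP A 1 0)⁻¹ * c * wP A 1 0) * (θ (nW A))⁻¹ ∈ negSet A 1 (by decide) := by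
      obtain ⟨x, u, e⟩ := (posW A).1 hc
      have hc' : θ⁻¹ ((wP A 1 0)⁻¹ * c * wP A 1 0) ∈ posSet A 1 := by
        refine std_posSet A h.inv (by decide) ((posW A).2 ?_)
        have hi : (wP A 1 0)⁻¹ = wP A 1 1 :=
          inv_eq_of_mul_eq_one_right (by
            rw [hcen, add_self A, map_one, show (0 : K) + 1 + 1 * 1 = 0 by linear_combination A.h2]
            exact mul_eq_left.1 ((hcen 0 0 0 0).trans (by simp)))
        rw [e, hi, hcen, hcen]
        exact ⟨_, _, rfl⟩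
      have h2 := std_negSet A h (k := 1) (by decide)
        (⟨_, hc', rfl⟩ : nW A * θ⁻¹ ((wP A 1 0)⁻¹ * c * wP A 1 0) * (nW A)⁻¹ ∈ negSet A 1 (by decide))
      rw [map_mul, map_mul, map_inv] at h2
      rwa [show θ (θ⁻¹ ((wP A 1 0)⁻¹ * c * wP A 1 0)) = (wP A 1 0)⁻¹ * c * wP A 1 0 from
        θ.apply_symm_apply _] at h2
    obtain ⟨c', hc', e⟩ := hz1
    obtain ⟨x, u, rfl⟩ := (posW A).1 hc'
    refine (posW A).2 ?_
    have e2 : N₀⁻¹ * N * c * (N₀⁻¹ * N)⁻¹ = wP A 1 0 * wP A x u * (wP A 1 0)⁻¹ := by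
      have e' : θ (nW A) * ((wP A 1 0)⁻¹ * c * wP A 1 0) * (θ (nW A))⁻¹ =
          nW A * wP A x u * (nW A)⁻¹ := e.symm
      rw [hθn, nW_eq, ← hN₀] at e'
      calc N₀⁻¹ * N * c * (N₀⁻¹ * N)⁻¹ = (wP A 0 1 * N₀)⁻¹ * (wP A 0 1 * N * wP A 1 0 *
            ((wP A 1 0)⁻¹ * c * wP A 1 0) * (wP A 0 1 * N * wP A 1 0)⁻¹) * (wP A 0 1 * N₀) := by group
        _ = _ := by rw [e']; group
    have hi : (wP A 1 0)⁻¹ = wP A 1 1 :=
      inv_eq_of_mul_eq_one_right (by
        rw [hcen, add_self A, map_one, show (0 : K) + 1 + 1 * 1 = 0 by linear_combination A.h2]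
        exact mul_eq_left.1 ((hcen 0 0 0 0).trans (by simp)))
    rw [e2, hi, hcen, hcen]
    exact ⟨_, _, rfl⟩
  have hn : θ (nW A) = nW A := by
    rw [nW_eq, map_mul, map_mul, hN0, hW, hW]; simp
  rw [← nW_conj, map_mul, map_mul, map_inv, hn, hW, nW_conj]

/-! ### Field automorphisms -/

/-- The entrywise map of a ring endomorphism. -/
noncomputable def fm (σ : K →+* K) : GLD →* GLD := Units.map σ.mapMatrix.toMonoidHom

theorem fm_X (σ : K →+* K) (r : ℕ) (t : K) : fm σ ((YY).G.X K r t) = (YY).G.X K r (σ t) :=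
  Units.ext (x_map σ r t)

theorem fm_P (σ : K →+* K) (R : List ℕ) (f : ℕ → K) :
    fm σ (Good'.P (YY).G R f) = Good'.P (YY).G R fun r => σ (f r) := by
  induction R with
  | nil => simp [Good'.P_nil]
  | cons r R ih => rw [Good'.P_cons, Good'.P_cons, map_mul, ih, fm_X A]

theorem map_phi (σ : K →+* K) (x : K) : σ (A.phi x) = A.phi (σ x) := by
  rw [A.hphi, A.hphi, map_pow]

theorem fixF_map (σ : K →+* K) {R : List ℕ} {f : ℕ → K} (hf : (YY).IsFixF R f) :
    (YY).IsFixF R fun r => σ (f r) := fun r hr => by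
  show σ (f _) = _
  rw [hf r hr, map_pow]
  exact congrArg (· ^ _) (map_phi A σ _)

theorem fm_W (σ : K →+* K) (C : Cls) (x u : K) : fm σ (W A C x u) = W A C (σ x) (σ u) := by
  rw [W, W, E_eq, E_eq, map_mul, map_mul, map_mul, fm_X A, fm_X A, fm_X A, fm_X A, map_add, map_mul,
    map_pow, map_phi A, map_phi A]

theorem fm_mem (σ : K →+* K) {g : GLD} (hg : g ∈ twistedF4 K (2 ^ m)) :
    fm σ g ∈ twistedF4 K (2 ^ m) := by
  suffices h : G1 K m ≤ (G1 K m).comap (fm σ) from h hg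
  refine gen_cases A (fun f hf => ?_) (fun f hf => ?_) (fun x u => ?_) fun x u => ?_
  · show fm σ _ ∈ G1 K m
    rw [fm_P A]; exact (ab0 A).pos _ (fixF_map A σ hf)
  · show fm σ _ ∈ G1 K m
    rw [fm_P A]; exact mem0 A (a := 14) (b := 23) (Or.inr rfl) (fixF_map A σ hf)
  · show fm σ _ ∈ G1 K m
    rw [fm_W A]; exact W_mem A (Or.inl rfl) _ _
  · show fm σ _ ∈ G1 K m
    rw [fm_W A]; exact W_mem A (Or.inr rfl) _ _

/-- A field endomorphism on the group. -/
noncomputable def fG (σ : K →+* K) : GG →* GG :=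
  ((fm σ).comp (twistedF4 K (2 ^ m)).subtype).codRestrict _ fun g => fm_mem A σ g.2

theorem fG_inj (σ : K →+* K) : Function.Injective (fG A σ) := fun g h e => by
  have e' := congrArg (fun z : GG => ((z : GLD) : Matrix chevF4.Idx chevF4.Idx K)) e
  exact Subtype.ext (Units.ext (Matrix.map_injective σ.injective e'))

/-- Field automorphisms of the group. -/
noncomputable def fA : (K ≃+* K) →* MulAut GG where
  toFun σ := MulEquiv.ofBijective (fG A (σ : K →+* K)) (Finite.injective_iff_bijective.mp (fG_inj A _))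
  map_one' := by
    ext g : 1
    exact Subtype.ext (Units.ext (Matrix.ext fun i j => rfl))
  map_mul' σ τ := by
    ext g : 1
    exact Subtype.ext (Units.ext (Matrix.ext fun i j => rfl))

theorem fA_val (σ : K ≃+* K) (g : GG) : ((fA A σ g : GG) : GLD) = fm (σ : K →+* K) g := rfl

theorem fA_aP (σ : K ≃+* K) (t : K) : fA A σ (aP A t) = aP A (σ t) := Subtype.ext <| by
  show fm (σ : K →+* K) (Good'.P (YY).G RA (fA2 A t)) = Good'.P (YY).G RA (fA2 A (σ t))
  rw [fm_P A]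
  refine Good'.P_congr (YY).G fun r _ => ?_
  simp only [fA2]
  split_ifs <;> simp [map_phi A]

theorem fA_aN (σ : K ≃+* K) (t : K) : fA A σ (aN A t) = aN A (σ t) := Subtype.ext <| by
  show fm (σ : K →+* K) (Good'.P (YY).G NA (fN2 A t)) = Good'.P (YY).G NA (fN2 A (σ t))
  rw [fm_P A]
  refine Good'.P_congr (YY).G fun r _ => ?_
  simp only [fN2]
  split_ifs <;> simp [map_phi A]

theorem fA_wP (σ : K ≃+* K) (x u : K) : fA A σ (wP A x u) = wP A (σ x) (σ u) :=
  Subtype.ext (fm_W A (σ : K →+* K) posC x u)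

theorem fA_wN (σ : K ≃+* K) (x u : K) : fA A σ (wN A x u) = wN A (σ x) (σ u) :=
  Subtype.ext (fm_W A (σ : K →+* K) negC x u)

theorem ext_gens {θ ψ : MulAut GG} (h1 : ∀ t, θ (aP A t) = ψ (aP A t) ∧ θ (aN A t) = ψ (aN A t))
    (h2 : ∀ x u, θ (wP A x u) = ψ (wP A x u) ∧ θ (wN A x u) = ψ (wN A x u)) : θ = ψ := by
  have hall : G1 K m ≤ (θ.toMonoidHom.eqLocus ψ.toMonoidHom).map (twistedF4 K (2 ^ m)).subtype := by
    refine gen_cases A (fun f hf => ⟨aP A (f 24), (h1 _).1, ?_⟩)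
      (fun f hf => ⟨aN A (f 23), (h1 _).2, ?_⟩)
      (fun x u => ⟨wP A x u, (h2 x u).1, rfl⟩) fun x u => ⟨wN A x u, (h2 x u).2, rfl⟩
    · rw [fix0 A (Or.inl rfl)] at hf
      refine Good'.P_congr (YY).G fun r hr => ?_
      simp only [List.mem_cons, List.not_mem_nil, or_false] at hr
      rcases hr with rfl | rfl <;> simp [fA2, hf]
    · rw [fix0 A (a := 14) (b := 23) (Or.inr rfl)] at hf
      refine Good'.P_congr (YY).G fun r hr => ?_
      simp only [List.mem_cons, List.not_mem_nil, or_false] at hr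
      rcases hr with rfl | rfl <;> simp [fN2, hf]
  refine MulEquiv.ext fun g => ?_
  obtain ⟨g', hg', e'⟩ := hall g.2
  rw [← Subtype.ext e']
  exact hg'

theorem std_conj {g : GG} (hg : g ∈ HH K m) : Std (MulAut.conj g) := by
  have hB : (g : GLD) ∈ chevF4.borelSubgroup K := Subgroup.mem_sup_right hg
  constructor
  · refine le_antisymm ?_ fun y hy => ⟨g⁻¹ * y * g, ?_, by simp [mul_assoc]⟩
    · rintro _ ⟨y, hy, rfl⟩
      exact borel_normalises A hB hy
    · have := borel_normalises A (b := g⁻¹) (inv_mem hB) hy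
      rwa [inv_inv] at this
  · refine le_antisymm ?_ fun y hy => ⟨g⁻¹ * y * g, ?_, by simp [mul_assoc]⟩
    · rintro _ ⟨y, hy, rfl⟩
      exact (Subgroup.mem_normalizer_iff.1 ((YY).G.diag_normalizes_neg hg) (y : GLD)).1 hy
    · have := (Subgroup.mem_normalizer_iff.1 ((YY).G.diag_normalizes_neg (inv_mem hg)) (y : GLD)).1 hy
      rwa [inv_inv] at this

/-- Every automorphism is inner times a field automorphism. -/
theorem aut_classify (hm : 1 ≤ m) (θ : MulAut GG) :
    ∃ (g : GG) (σ : K ≃+* K), θ = MulAut.conj g * fA A σ := by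
  obtain ⟨x, hx⟩ := exists_conj_std A θ
  set θ1 : MulAut GG := MulAut.conj x * θ with hθ1
  obtain ⟨a, ha⟩ := (posA A).1 (std_posSet A hx (k := 0) (by decide) ((posA A).2 ⟨1, rfl⟩))
  obtain ⟨b, c, hb⟩ := (posW A).1 (std_posSet A hx (k := 1) (by decide) ((posW A).2 ⟨1, 0, rfl⟩))
  have ha0 : a ≠ 0 := fun e => one_ne_zero (aP_inj A (θ1.injective (by
    rw [ha, e, aP_zero, map_one]) : aP A 1 = aP A 0))
  have hb0 : b ≠ 0 := fun e => by
    have h2 : θ1 (wP A 1 0 * wP A 1 0) = 1 := by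
      refine (map_mul θ1 _ _).trans (Subtype.ext ?_)
      rw [hb, e]
      show W A posC 0 c * W A posC 0 c = 1
      rw [W, E_mul A posC_chk, E_eq]
      simp [add_self A, (YY).G.X_zero]
    have h3 := congrArg Subtype.val (θ1.injective (h2.trans (map_one θ1).symm))
    have h4 : W A posC 1 0 * W A posC 1 0 = E A posC 0 0 0 0 := by
      refine Eq.trans h3 ?_
      rw [E_eq]; simp [(YY).G.X_zero]
    rw [W, E_mul A posC_chk] at h4
    have h5 := (E_pos_inj A h4).2.2.1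
    simp [add_self A] at h5
  obtain ⟨p, hp⟩ := (Wt_bij A).2 ((Units.mk0 a ha0)⁻¹, (Units.mk0 b hb0)⁻¹)
  set θ2 : MulAut GG := MulAut.conj (tG A p) * θ1 with hθ2
  have h2 : Std θ2 := (std_conj A (tG_HH A p)).mul hx
  have e1 : θ2 (aP A 1) = aP A 1 := by
    rw [hθ2, MulAut.mul_apply, ha, MulAut.conj_apply, conj_aP, hp]
    simp [ha0]
  have e2 : ∃ u, θ2 (wP A 1 0) = wP A 1 u := by
    refine ⟨((Wt A p).2 : K) * A.phi ((Wt A p).2 : K) * c, ?_⟩
    rw [hθ2, MulAut.mul_apply, hb, MulAut.conj_apply, conj_wP]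
    congr 1
    rw [hp]; simp [hb0]
  obtain ⟨σ, hσa, hσb⟩ := exists_field A hm h2 e1 e2
  have e3 : θ2 = fA A σ := ext_gens A
    (fun t => ⟨(hσa t).1.trans (fA_aP A σ t).symm, (hσa t).2.trans (fA_aN A σ t).symm⟩)
    fun y u => ⟨(hσb y u).1.trans (fA_wP A σ y u).symm, (hσb y u).2.trans (fA_wN A σ y u).symm⟩
  refine ⟨x⁻¹ * (tG A p)⁻¹, σ, ?_⟩
  rw [← e3, hθ2, hθ1, ← mul_assoc, ← map_mul, ← mul_assoc, ← map_mul]
  simp [mul_assoc]

theorem fm_pos (σ : K →+* K) : (chevF4.posUnipotent K) ≤ (chevF4.posUnipotent K).comap (fm σ) :=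
  (YY).G.posUnipotent_le_of fun r hr hp t => by
    show fm σ _ ∈ chevF4.posUnipotent K
    rw [fm_X A]; exact (YY).G.X_mem_posUnipotent hr hp _

theorem fm_neg (σ : K →+* K) : (chevF4.negUnipotent K) ≤ (chevF4.negUnipotent K).comap (fm σ) :=
  (YY).G.negUnipotent_le_of fun r hr hp t => by
    show fm σ _ ∈ chevF4.negUnipotent K
    rw [fm_X A]; exact (YY).G.X_mem_negUnipotent hr hp _

theorem fA_inner {σ : K ≃+* K} (h : fA A σ ∈ Cfsg.Inn GG) : σ = 1 := by
  obtain ⟨g, hg⟩ := h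
  have e : ∀ z, g * z * g⁻¹ = fA A σ z := fun z => (MulAut.conj_apply g z).symm.trans (DFunLike.congr_fun hg z)
  have hH : g ∈ HH K m := mem_HH_of_normalises A
    (fun y hy => by rw [e]; exact fm_pos A _ hy) fun y hy => by rw [e]; exact fm_neg A _ hy
  obtain ⟨s, t, he⟩ := (diag_eq A (g : GLD)).1 ⟨hH, g.2⟩
  have hge : g = tG A (s, t) := Subtype.ext he
  have h1 := e (aP A 1)
  rw [hge, conj_aP, fA_aP, map_one] at h1
  have h2 := e (wP A 1 0)
  rw [hge, conj_wP, fA_wP, map_one, map_zero] at h2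
  have hW : Wt A (s, t) = 1 := Prod.ext
    (Units.ext (by simpa using aP_inj A h1))
    (Units.ext (by simpa using (E_pos_inj A (congrArg Subtype.val h2)).2.1))
  have hg1 : g = 1 := by
    rw [hge, (Wt_bij A).1 (hW.trans (map_one _).symm), tG_one]
  refine RingEquiv.ext fun z => ?_
  have h3 := e (aP A z)
  rw [hg1, one_mul, inv_one, mul_one, fA_aP] at h3
  exact (aP_inj A h3).symm

theorem out_card (hm : 1 ≤ m) : Nat.card (Cfsg.Out GG) = Nat.card (K ≃+* K) := by
  refine (Nat.card_congr (Equiv.ofBijective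
    ((QuotientGroup.mk' (Cfsg.Inn GG)).comp (fA A)) ⟨?_, ?_⟩)).symm
  · rw [injective_iff_map_eq_one]
    intro σ h
    exact fA_inner A ((QuotientGroup.eq_one_iff _).mp h)
  · intro c
    obtain ⟨φ, rfl⟩ := QuotientGroup.mk'_surjective _ c
    obtain ⟨g, σ, rfl⟩ := aut_classify A hm φ
    refine ⟨σ, ?_⟩
    rw [map_mul]
    show QuotientGroup.mk' _ (fA A σ) = _
    have h1 : QuotientGroup.mk' (Cfsg.Inn GG) (MulAut.conj g) = 1 :=
      (QuotientGroup.eq_one_iff _).mpr (MonoidHom.mem_range.mpr ⟨g, rfl⟩)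
    rw [h1, one_mul]

end Cfsg.Agent.Lib.RankOne.F4Aut
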