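import Cfsg.Agent.Lib.RankOne.F4InvolIds
import Cfsg.Agent.Lib.RankOne.F4Out

/-!
The eight classes of root elements of the large Ree groups and the decomposition of the positive
unipotent group over them.
-/

set_option autoImplicit false
set_option maxRecDepth 100000
set_option maxHeartbeats 1000000
set_option linter.unusedSectionVars false

namespace Cfsg.Agent.Lib.RankOne.F4Invol

open Cfsg.Lie Cfsg.Agent.Lib.Chev Cfsg.Agent.Lib.Chev.Tw Cfsg.Agent.Lib.Chev.Tw.F4

variable {K : Type*} [Field K] [Fintype K] {m : ℕ} (A : Par K m)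

set_option quotPrecheck false
local notation "GX" => Chev.Good.X (Chev.Tw.Sys.G (Chev.Tw.F4.sys A)) K
local notation "GLD" => GL chevF4.Idx K

/-- The representative of a block. -/
def N (k : ℕ) : GLD := (sys A).G.nl K (twF4.blk k)

theorem ids_chk : ∀ i < 9, ∀ r ∈ ids i, r < chevF4.nroots ∧ npos chevF4 ≤ r := by decide +kernel

theorem th_A (x : K) : A.phi (th A x) = x := phi_sq' A x

theorem cl1_eq (x u : K) : cl A 1 x u = GX 33 x * GX 24 (th A x) := rfl

theorem cl8_eq (x u : K) : cl A 8 x u = W A posC (th A x) u := by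
  show GX 27 x * GX 25 (th A x) * GX 28 (x * th A x + u) * GX 30 (th A u) = _
  rw [W, E_eq]
  simp only [posC, th_A]
  rw [mul_comm (th A x) x]
  simp only [mul_assoc]
  rfl

theorem cl_zero : ∀ (i : ℕ), cl A i 0 0 = 1 := by
  intro i
  unfold cl
  split <;> first | rfl | simp [(sys A).G.X_zero, map_zero]

theorem cl_pos {i : ℕ} (hi : i < 9) (x u : K) : cl A i x u ∈ chevF4.posUnipotent K := by
  have h := ids_chk i hi
  unfold cl
  split
  · rename_i e
    simp only [e, List.mem_cons, List.not_mem_nil, or_false, forall_eq_or_imp, forall_eq] at h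
    exact mul_mem ((sys A).G.X_mem_posUnipotent h.1.1 h.1.2 _)
      ((sys A).G.X_mem_posUnipotent h.2.1 h.2.2 _)
  · rename_i e
    simp only [e, List.mem_cons, List.not_mem_nil, or_false, forall_eq_or_imp, forall_eq] at h
    obtain ⟨ha, hb, hc, hd⟩ := h
    exact mul_mem (mul_mem (mul_mem ((sys A).G.X_mem_posUnipotent ha.1 ha.2 _)
      ((sys A).G.X_mem_posUnipotent hb.1 hb.2 _)) ((sys A).G.X_mem_posUnipotent hc.1 hc.2 _))
      ((sys A).G.X_mem_posUnipotent hd.1 hd.2 _)
  · exact one_mem _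

/-- The image of a class under a block. -/
def img (k i : ℕ) : ℕ :=
  if k = 0 then [0, 0, 8, 7, 6, 5, 4, 3, 2].getD i 0 else [0, 7, 6, 5, 4, 3, 2, 1, 0].getD i 0

theorem img_chk : ∀ k < 2, ∀ i < 9, img k i ≠ 0 →
    (ids i).map (wl tabF4 (twF4.blk k)) = ids (img k i) ∧ img k (img k i) = i ∧ img k i < 9 := by
  decide +kernel

theorem N_cl {k i j : ℕ} (hk : k < 2) (hi : i < 9) (h : img k i = j) (hj : j ≠ 0) (x u : K) :
    N A k * cl A i x u * (N A k)⁻¹ = cl A j x u := by
  subst h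
  obtain ⟨e, -, -⟩ := img_chk k hk i hi hj
  have hW := ((sys A).blk_facts (show k < twF4.nb from hk)).1
  have hc := ids_chk i hi
  have hX : ∀ r ∈ ids i, ∀ t, N A k * GX r t * (N A k)⁻¹ = GX (wl tabF4 (twF4.blk k) r) t :=
    fun r hr t => (sys A).nl_conj_X_two A.h2 hW (hc r hr).1 t
  have hmul : ∀ a b : GLD, N A k * (a * b) * (N A k)⁻¹ =
      N A k * a * (N A k)⁻¹ * (N A k * b * (N A k)⁻¹) := fun a b => by group
  unfold cl
  split
  · rename_i e'
    rw [e'] at e hX
    simp only [List.map_cons, List.map_nil] at e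
    rw [← e, hmul, hX _ (by simp), hX _ (by simp)]
  · rename_i e'
    rw [e'] at e hX
    simp only [List.map_cons, List.map_nil] at e
    rw [← e, hmul, hmul, hmul, hX _ (by simp), hX _ (by simp), hX _ (by simp), hX _ (by simp)]
  · rename_i h1 h2
    exfalso
    interval_cases i
    · exact hj (by unfold img; split <;> rfl)
    all_goals first | exact h1 _ _ rfl | exact h2 _ _ _ _ rfl

theorem N_mem {k : ℕ} (hk : k < 2) : N A k ∈ G1 K m := n_mem A k hk

theorem N_cl' {k i j : ℕ} (hk : k < 2) (hi : i < 9) (h : img k i = j) (hj : j ≠ 0) (x u : K) :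
    (N A k)⁻¹ * cl A j x u * N A k = cl A i x u := by
  rw [← N_cl A hk hi h hj]; group

theorem cl1_mem (x u : K) : cl A 1 x u ∈ G1 K m := by
  have h := mem0 A (a := 33) (b := 24) (Or.inl rfl) (f := fun r => if r = 33 then x else th A x)
    ((fix0 A (Or.inl rfl)).2 (by simp [th_A A]))
  rw [cl1_eq]
  simpa [Good'.P, Good.wordG] using h

theorem cl8_mem (x u : K) : cl A 8 x u ∈ G1 K m := by
  rw [cl8_eq]; exact W_mem A (Or.inl rfl) _ _

theorem cl_mem {i : ℕ} (hi : i < 9) (x u : K) : cl A i x u ∈ G1 K m := by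
  have cj : ∀ {k i j : ℕ}, k < 2 → i < 9 → img k i = j → j ≠ 0 → (∀ x u, cl A i x u ∈ G1 K m) →
      ∀ x u, cl A j x u ∈ G1 K m := fun {k i j} hk hi h hj hm x u => by
    rw [← N_cl A hk hi h hj]
    exact mul_mem (mul_mem (N_mem A hk) (hm x u)) (inv_mem (N_mem A hk))
  have h2 := cj (k := 0) (i := 8) (j := 2) (by norm_num) (by norm_num) rfl (by norm_num) (cl8_mem A)
  have h7 := cj (k := 1) (i := 1) (j := 7) (by norm_num) (by norm_num) rfl (by norm_num) (cl1_mem A)
  have h3 := cj (k := 0) (i := 7) (j := 3) (by norm_num) (by norm_num) rfl (by norm_num) h7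
  have h5 := cj (k := 1) (i := 3) (j := 5) (by norm_num) (by norm_num) rfl (by norm_num) h3
  have h6 := cj (k := 1) (i := 2) (j := 6) (by norm_num) (by norm_num) rfl (by norm_num) h2
  have h4 := cj (k := 0) (i := 6) (j := 4) (by norm_num) (by norm_num) rfl (by norm_num) h6
  interval_cases i
  · exact one_mem _
  · exact cl1_mem A x u
  · exact h2 x u
  · exact h3 x u
  · exact h4 x u
  · exact h5 x u
  · exact h6 x u
  · exact h7 x u
  · exact cl8_mem A x u

/-- Products over a list of classes. -/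
def Dec : List ℕ → GLD → Prop
  | [], g => g = 1
  | i :: cs, g => ∃ x u r, Dec cs r ∧ g = cl A i x u * r

theorem Dec.snoc : ∀ {cs : List ℕ} {g : GLD}, Dec A cs g → ∀ (i : ℕ) (x u : K),
    Dec A (cs ++ [i]) (g * cl A i x u)
  | [], g, h, i, x, u => ⟨x, u, 1, rfl, by rw [show g = 1 from h, one_mul, mul_one]⟩
  | j :: cs, g, h, i, x, u => by
    obtain ⟨x', u', r, hr, rfl⟩ := h
    exact ⟨x', u', _, hr.snoc i x u, by rw [mul_assoc]⟩

theorem Dec.conj {k : ℕ} (hk : k < 2) : ∀ {cs : List ℕ} {g : GLD},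
    (∀ i ∈ cs, i < 9 ∧ img k i ≠ 0) → Dec A cs g →
      Dec A (cs.map (img k)) ((N A k)⁻¹ * g * N A k)
  | [], g, _, h => by rw [show g = 1 from h]; simp [Dec]
  | i :: cs, g, hcs, h => by
    obtain ⟨x, u, r, hr, rfl⟩ := h
    obtain ⟨hi, hne⟩ := hcs i List.mem_cons_self
    obtain ⟨-, h2, h3⟩ := img_chk k hk i hi hne
    refine ⟨x, u, _, Dec.conj hk (fun j hj => hcs j (List.mem_cons_of_mem _ hj)) hr, ?_⟩
    have e := N_cl' A hk h3 h2 (by rintro rfl; revert hne; unfold img; split <;> simp) x u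
    rw [← e]; group

/-- The classes met by a list of blocks. -/
def clsOf (L : List ℕ) : List ℕ :=
  L.foldl (fun cs k => cs.map (img k) ++ [if k = 0 then 1 else 8]) []

theorem flip_dec {L : List ℕ} (hL : Red chevF4 tabF4 twF4 L)
    (hc : ∀ n < L.length, ∀ i ∈ clsOf (L.take n), i < 9 ∧ img (L.getD n 0) i ≠ 0) :
    ∀ u ∈ flipSetFx (sys A) ((gens A).nw L), Dec A (clsOf L) u := by
  induction hL with
  | nil =>
    intro u hu
    have h := hu.2.2
    rw [Gens.nw_nil, one_mul, inv_one, mul_one] at h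
    exact (sys A).pos_neg_trivial hu.1 h
  | @snoc L k hL hk hred ih =>
    intro u hu
    obtain ⟨a, c, rfl, ha, hc'⟩ := (gens A).flip_snoc_split hL.isB hk hred hu
    have h1 := ih (fun n hn i hi => by
      have := hc n (by simp; omega) i (by rwa [List.take_append_of_le_length hn.le])
      rwa [List.getD_append _ _ _ _ hn] at this) _ ha
    have hlast := hc L.length (by simp)
    have h2 := h1.conj A (k := k) hk (fun i hi => by
      have := hlast i (by simpa using hi)
      simpa [List.getD_append_right] using this)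
    have e : (gens A).n k = N A k := rfl
    rw [e, show (N A k)⁻¹ * (N A k * a * (N A k)⁻¹) * N A k = a by group] at h2
    rw [clsOf, List.foldl_append, List.foldl_cons, List.foldl_nil, ← clsOf]
    have key : ∃ x w, c = cl A (if k = 0 then 1 else 8) x w := by
      match k, hk with
      | 0, _ =>
        obtain ⟨f, hf, e⟩ := ((ab0 A).flip_iff (ab0 A).act).1 hc'
        rw [fix0 A (Or.inl rfl)] at hf
        refine ⟨f 33, 0, ?_⟩
        rw [e, if_pos rfl, cl1_eq]
        have : th A (f 33) = f 24 := by rw [hf]; exact th_phi A _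
        simp [Good'.P, Good.wordG, this]
      | 1, _ =>
        obtain ⟨t, v, rfl⟩ := (flip1 A).1 hc'
        refine ⟨A.phi t, v, ?_⟩
        rw [if_neg one_ne_zero, cl8_eq, th_phi]
      | n + 2, h => exact absurd h (by simp [twF4, TwTab.nb])
    obtain ⟨x, w, rfl⟩ := key
    exact h2.snoc A _ x w

/-- The product over all eight classes. -/
def u8 (a T2 U2 c T4 U4 e T6 U6 g x y : K) : GLD :=
  cl A 1 a 0 * cl A 2 T2 U2 * cl A 3 c 0 * cl A 4 T4 U4 * cl A 5 e 0 * cl A 6 T6 U6 * cl A 7 g 0 *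
    cl A 8 x y

theorem cl_pair : ∀ i ∈ [1, 3, 5, 7], ∀ x u : K, cl A i x u = cl A i x 0 := by
  intro i hi x u
  simp only [List.mem_cons, List.not_mem_nil, or_false] at hi
  rcases hi with rfl | rfl | rfl | rfl <;> rfl

theorem pos_decomp {u : GLD} (hu : u ∈ chevF4.posUnipotent K) (hf : u ∈ G1 K m) :
    ∃ a T2 U2 c T4 U4 e T6 U6 g x y, u = u8 A a T2 U2 c T4 U4 e T6 U6 g x y := by
  have hchk : ∀ n < ([0, 1, 0, 1, 0, 1, 0, 1] : List ℕ).length,
      ∀ i ∈ clsOf (([0, 1, 0, 1, 0, 1, 0, 1] : List ℕ).take n),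
      i < 9 ∧ img (([0, 1, 0, 1, 0, 1, 0, 1] : List ℕ).getD n 0) i ≠ 0 := by decide +kernel
  have h := flip_dec A (gens A).hL0 hchk u ((gens A).mem_flip_L0 hu ((gens A).le_Fx hf))
  rw [show clsOf (gens A).L0 = [1, 2, 3, 4, 5, 6, 7, 8] from rfl] at h
  obtain ⟨a, a', r1, ⟨T2, U2, r2, ⟨c, c', r3, ⟨T4, U4, r4, ⟨e, e', r5, ⟨T6, U6, r6, ⟨g, g', r7,
    ⟨x, y, r8, h8, rfl⟩, rfl⟩, rfl⟩, rfl⟩, rfl⟩, rfl⟩, rfl⟩, rfl⟩ := h
  rw [show r8 = 1 from h8, mul_one, cl_pair A 1 (by simp) a a', cl_pair A 3 (by simp) c c',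
    cl_pair A 5 (by simp) e e', cl_pair A 7 (by simp) g g']
  exact ⟨a, T2, U2, c, T4, U4, e, T6, U6, g, x, y, by simp [u8, mul_assoc]⟩

end Cfsg.Agent.Lib.RankOne.F4Invol
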