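import Cfsg.Agent.Lib.Chev.Tw.F4
import Cfsg.Agent.Lib.BNPair.Basic

/-!
Automorphisms of the large Ree group preserving the two unipotent subgroups.
-/

set_option autoImplicit false
set_option maxRecDepth 100000
set_option maxHeartbeats 1000000
set_option linter.unusedSectionVars false

namespace Cfsg.Agent.Lib.RankOne.F4Aut

open Cfsg.Lie Cfsg.Agent.Lib.Chev Cfsg.Agent.Lib.Chev.Tw Cfsg.Agent.Lib.Chev.Tw.F4

theorem w0_chk : allLt chevF4.nroots (fun r =>
    (decide (npos chevF4 ≤ r) == decide (wl tabF4 (twF4.cat [0, 1, 0, 1, 0, 1, 0, 1]) r < npos chevF4)) &&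
    (decide (npos chevF4 ≤ r) ==
      decide (wl tabF4 (twF4.cat [0, 1, 0, 1, 0, 1, 0, 1]).reverse r < npos chevF4))) = true := by
  decide +kernel

theorem flip_chk : allLt twF4.nb (fun k => allLt chevF4.nroots fun r =>
    decide (r < npos chevF4) || decide (npos chevF4 ≤ wl tabF4 (twF4.blk k) r) ||
      decide (npos chevF4 ≤ wl tabF4 ((twF4.blk k).reverse ++ twF4.cat [0, 1, 0, 1, 0, 1, 0, 1]) r)) =
      true := by decide +kernel

theorem sim_cover : ∀ i < chevF4.rank, sim chevF4 i ∈ ([33, 24, 27, 25] : List ℕ) := by decide +kernel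

variable {K : Type*} [Field K] [Fintype K] {m : ℕ} (A : Par K m)

set_option quotPrecheck false
local notation "GG" => ↥(twistedF4 K (2 ^ m))
local notation "GLD" => GL chevF4.Idx K
local notation "YY" => Chev.Tw.F4.sys A

/-- The positive unipotent subgroup of the group. -/
def UP (K : Type*) [Field K] (m : ℕ) : Subgroup ↥(twistedF4 K (2 ^ m)) :=
  (chevF4.posUnipotent K).subgroupOf (twistedF4 K (2 ^ m))

/-- The negative unipotent subgroup of the group. -/
def UM (K : Type*) [Field K] (m : ℕ) : Subgroup ↥(twistedF4 K (2 ^ m)) :=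
  (chevF4.negUnipotent K).subgroupOf (twistedF4 K (2 ^ m))

/-- The diagonal subgroup of the group. -/
def HH (K : Type*) [Field K] (m : ℕ) : Subgroup ↥(twistedF4 K (2 ^ m)) :=
  (chevF4.diagonalSubgroup K).subgroupOf (twistedF4 K (2 ^ m))

/-- An automorphism preserving both unipotent subgroups. -/
def Std (θ : MulAut GG) : Prop :=
  (UP K m).map θ.toMonoidHom = UP K m ∧ (UM K m).map θ.toMonoidHom = UM K m

theorem map_mul_aut (θ φ : MulAut GG) (L : Subgroup GG) :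
    L.map (θ * φ : MulAut GG).toMonoidHom = (L.map φ.toMonoidHom).map θ.toMonoidHom := by
  rw [Subgroup.map_map]; rfl

theorem map_inv_aut {θ : MulAut GG} {L L' : Subgroup GG} (h : L.map θ.toMonoidHom = L') :
    L'.map (θ⁻¹ : MulAut GG).toMonoidHom = L := by
  rw [← h, ← map_mul_aut, inv_mul_cancel]
  exact Subgroup.map_id L

theorem Std.mul {θ φ : MulAut GG} (hθ : Std θ) (hφ : Std φ) : Std (θ * φ) :=
  ⟨by rw [map_mul_aut, hφ.1, hθ.1], by rw [map_mul_aut, hφ.2, hθ.2]⟩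

theorem Std.inv {θ : MulAut GG} (hθ : Std θ) : Std θ⁻¹ :=
  ⟨map_inv_aut hθ.1, map_inv_aut hθ.2⟩

include A

/-! ### The longest element -/

theorem L0_isB : IsB twF4 ([0, 1, 0, 1, 0, 1, 0, 1] : List ℕ) := (gens A).hL0.isB

/-- The longest element. -/
def flp : GG := ⟨(gens A).nw [0, 1, 0, 1, 0, 1, 0, 1], (gens A).nw_mem (L0_isB A)⟩

theorem conj_flip {g : GLD} {l : List ℕ} (hl : (YY).G.Rep K g l)
    (h : ∀ r < chevF4.nroots, (npos chevF4 ≤ r ↔ wl tabF4 l r < npos chevF4)) :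
    (∀ u ∈ chevF4.posUnipotent K, g * u * g⁻¹ ∈ chevF4.negUnipotent K) ∧
    ∀ u ∈ chevF4.negUnipotent K, g * u * g⁻¹ ∈ chevF4.posUnipotent K := by
  constructor
  · intro u hu
    have h' : chevF4.posUnipotent K ≤ (chevF4.negUnipotent K).comap (MulAut.conj g).toMonoidHom :=
      (YY).G.posUnipotent_le_of fun r hr hp t => by
        obtain ⟨hlt, k, -, hn⟩ := (YY).G.rep_act hl r hr
        simpa [hn t] using (YY).G.X_mem_negUnipotent hlt ((h r hr).1 hp) _
    simpa using h' hu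
  · intro u hu
    have h' : chevF4.negUnipotent K ≤ (chevF4.posUnipotent K).comap (MulAut.conj g).toMonoidHom :=
      (YY).G.negUnipotent_le_of fun r hr hp t => by
        obtain ⟨hlt, k, -, hn⟩ := (YY).G.rep_act hl r hr
        simpa [hn t] using (YY).G.X_mem_posUnipotent hlt
          (not_lt.1 fun hh => absurd ((h r hr).2 hh) (not_le.2 hp)) _
    simpa using h' hu

theorem flp_conj : (UP K m).map (MulAut.conj (flp A)).toMonoidHom = UM K m ∧
    (UM K m).map (MulAut.conj (flp A)).toMonoidHom = UP K m := by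
  have hl := (gens A).rep_nw (L0_isB A)
  have hl' := rep_inv (YY).G hl
  have hc : ∀ r < chevF4.nroots,
      (npos chevF4 ≤ r ↔ wl tabF4 (twF4.cat [0, 1, 0, 1, 0, 1, 0, 1]) r < npos chevF4) ∧
      (npos chevF4 ≤ r ↔ wl tabF4 (twF4.cat [0, 1, 0, 1, 0, 1, 0, 1]).reverse r < npos chevF4) :=
    fun r hr => by
      have := allLt_eq_true w0_chk r hr
      simpa only [Bool.and_eq_true, beq_iff_eq, decide_eq_decide] using this
  obtain ⟨a1, a2⟩ := conj_flip A hl fun r hr => (hc r hr).1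
  obtain ⟨b1, b2⟩ := conj_flip A hl' fun r hr => (hc r hr).2
  constructor
  · refine le_antisymm ?_ fun y hy => ⟨(flp A)⁻¹ * y * flp A, ?_, by simp [mul_assoc]⟩
    · rintro _ ⟨x, hx, rfl⟩
      exact a1 _ hx
    · have := b2 _ hy
      rwa [inv_inv] at this
  · refine le_antisymm ?_ fun y hy => ⟨(flp A)⁻¹ * y * flp A, ?_, by simp [mul_assoc]⟩
    · rintro _ ⟨x, hx, rfl⟩
      exact a2 _ hx
    · have := b1 _ hy
      rwa [inv_inv] at this

theorem pos_neg_one {x : GG} (h : x ∈ UP K m) (h' : x ∈ UM K m) : x = 1 :=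
  Subtype.ext ((YY).pos_neg_trivial h h')

/-! ### Sylow subgroups -/

theorem card_UP : Nat.card ↥(UP K m) = (2 ^ (2 * m + 1)) ^ 12 := by
  have h := (gens A).card_pos (q := 2 ^ (2 * m + 1)) (e := fun k => [1, 2].getD k 0) (flips A)
  rw [show (gens A).G1 = twistedF4 K (2 ^ m) from rfl] at h
  have e : UP K m = (chevF4.posUnipotent K ⊓ twistedF4 K (2 ^ m)).subgroupOf (twistedF4 K (2 ^ m)) := by
    rw [UP, Subgroup.inf_subgroupOf_right]
  rw [e, Nat.card_congr (Subgroup.subgroupOfEquivOfLe (H := chevF4.posUnipotent K ⊓ twistedF4 K (2 ^ m))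
    inf_le_right).toEquiv, h]
  rfl

theorem card_UM : Nat.card ↥(UM K m) = (2 ^ (2 * m + 1)) ^ 12 := by
  rw [← (flp_conj A).1, Subgroup.card_map_of_injective (MulEquiv.injective _), card_UP A]

theorem exists_sylow : ∃ (p : ℕ) (_ : Fact p.Prime), IsPGroup p ↥(UP K m) ∧ ¬ p ∣ (UP K m).index := by
  refine ⟨2, ⟨Nat.prime_two⟩, IsPGroup.of_card (n := (2 * m + 1) * 12) (by rw [card_UP A, pow_mul]),
    fun hd => ?_⟩
  have h := (UP K m).card_mul_index
  rw [card_UP A, card_group A] at h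
  set Q := 2 ^ (2 * m + 1) with hQ
  have hQ2 : 2 ∣ Q := dvd_pow_self 2 (by omega)
  have hQ1 : 1 ≤ Q := Nat.one_le_two_pow
  have hi : (UP K m).index = (Q - 1) * (Q ^ 3 + 1) * (Q ^ 4 - 1) * (Q ^ 6 + 1) :=
    Nat.eq_of_mul_eq_mul_left (pow_pos hQ1 12) (by rw [h]; ring)
  rw [hi] at hd
  have h4 : 1 ≤ Q ^ 4 := Nat.one_le_pow _ _ hQ1
  have d3 : 2 ∣ Q ^ 3 := dvd_pow hQ2 (by norm_num)
  have d4 : 2 ∣ Q ^ 4 := dvd_pow hQ2 (by norm_num)
  have d6 : 2 ∣ Q ^ 6 := dvd_pow hQ2 (by norm_num)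
  rcases (Nat.prime_two.dvd_mul).1 hd with h1 | h1
  · rcases (Nat.prime_two.dvd_mul).1 h1 with h2 | h2
    · rcases (Nat.prime_two.dvd_mul).1 h2 with h3 | h3 <;> omega
    · omega
  · omega

theorem exists_conj_std (θ : MulAut GG) : ∃ x : GG, Std (MulAut.conj x * θ) := by
  classical
  obtain ⟨p, hp, hP, hi⟩ := exists_sylow A
  let P : Sylow p GG := hP.toSylow hi
  let P2 : Sylow p GG := (hP.map θ.toMonoidHom).toSylow (by
    rw [Subgroup.index_map_of_bijective θ.bijective]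
    exact hi)
  obtain ⟨x, hx⟩ := MulAction.exists_smul_eq GG P2 P
  set θ' : MulAut GG := MulAut.conj x * θ
  have h1 : (UP K m).map θ'.toMonoidHom = UP K m := by
    rw [map_mul_aut]
    exact congrArg (fun Q : Sylow p GG => (Q : Subgroup GG)) hx
  obtain ⟨hcU, hcV⟩ := flp_conj A
  set g : GG := θ' (flp A)
  have h2 : (UM K m).map θ'.toMonoidHom = (UP K m).map (MulAut.conj g).toMonoidHom := by
    rw [← hcU, ← map_mul_aut]
    have e : θ' * MulAut.conj (flp A) = MulAut.conj g * θ' := MulEquiv.ext fun y => by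
      simp [g, map_mul, map_inv]
    rw [e, map_mul_aut, h1]
  obtain ⟨u₁, mn, u₂, hu₁, gu₁, hm, gm, hu₂, gu₂, e⟩ := (gens A).normal_form g.2
  obtain ⟨l, hl⟩ := (YY).G.exists_rep hm
  have hkey : ∀ y ∈ UP K m, mn * (y : GLD) * mn⁻¹ ∈ chevF4.negUnipotent K := by
    intro y hy
    obtain ⟨a, c, ha, hc, hma, hmc, eac⟩ := (YY).exists_split hl.1 ((YY).G.rep_act hl)
      (show (y : GLD) ∈ chevF4.posUnipotent K from hy)
    obtain ⟨haf, -⟩ := Gens.split_fix ((gens A).le_Fx gm) ha hc hma hmc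
      (by rw [← eac]; exact (gens A).le_Fx y.2)
    have ga : a ∈ twistedF4 K (2 ^ m) := (gens A).pos_fix_mem ha haf
    set z : GG := ⟨u₂, gu₂⟩⁻¹ * ⟨a, ga⟩ * ⟨u₂, gu₂⟩
    have hz : z ∈ UP K m :=
      mul_mem (mul_mem (inv_mem (show (⟨u₂, gu₂⟩ : GG) ∈ UP K m from hu₂.1)) ha) hu₂.1
    have h3 : MulAut.conj g z ∈ (UM K m).map θ'.toMonoidHom :=
      h2.symm ▸ Subgroup.mem_map_of_mem _ hz
    have h4 : MulAut.conj g z ∈ (UP K m).map θ'.toMonoidHom := by
      rw [h1]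
      show (g : GLD) * (u₂⁻¹ * a * u₂) * (g : GLD)⁻¹ ∈ chevF4.posUnipotent K
      rw [e, show u₁ * mn * u₂ * (u₂⁻¹ * a * u₂) * (u₁ * mn * u₂)⁻¹ = u₁ * (mn * a * mn⁻¹) * u₁⁻¹ by
        group]
      exact mul_mem (mul_mem hu₁ hma) (inv_mem hu₁)
    obtain ⟨b, hb, eb⟩ := h3
    obtain ⟨b', hb', eb'⟩ := h4
    have hbb : b = b' := θ'.injective (eb.trans eb'.symm)
    rw [pos_neg_one A (hbb ▸ hb') hb, map_one] at eb
    have h5 : (g : GLD) * (u₂⁻¹ * a * u₂) * (g : GLD)⁻¹ = 1 := (congrArg Subtype.val eb).symm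
    rw [conj_eq_one_iff] at h5
    have ha1 : a = 1 := by
      rw [show a = u₂ * (u₂⁻¹ * a * u₂) * u₂⁻¹ by group, h5]; simp
    rw [eac, ha1, one_mul]
    exact hmc
  set w : GG := ⟨u₁⁻¹, inv_mem gu₁⟩
  refine ⟨w * x, ?_⟩
  rw [map_mul, mul_assoc]
  have hw : w ∈ UP K m := inv_mem hu₁
  have hwU : (UP K m).map (MulAut.conj w).toMonoidHom = UP K m := by
    refine le_antisymm ?_ fun y hy => ⟨w⁻¹ * y * w, mul_mem (mul_mem (inv_mem hw) hy) hw,
      by simp [mul_assoc]⟩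
    rintro _ ⟨y, hy, rfl⟩
    exact mul_mem (mul_mem hw hy) (inv_mem hw)
  refine ⟨by rw [map_mul_aut, h1, hwU], ?_⟩
  rw [map_mul_aut, h2]
  have hle : ((UP K m).map (MulAut.conj g).toMonoidHom).map (MulAut.conj w).toMonoidHom ≤ UM K m := by
    rintro _ ⟨_, ⟨y, hy, rfl⟩, rfl⟩
    show u₁⁻¹ * ((g : GLD) * (y : GLD) * (g : GLD)⁻¹) * u₁⁻¹⁻¹ ∈ chevF4.negUnipotent K
    have := hkey (⟨u₂, gu₂⟩ * y * ⟨u₂, gu₂⟩⁻¹)
      (mul_mem (mul_mem (show (⟨u₂, gu₂⟩ : GG) ∈ UP K m from hu₂.1) hy) (inv_mem hu₂.1))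
    convert this using 1
    rw [e]
    show _ = mn * (u₂ * (y : GLD) * u₂⁻¹) * mn⁻¹
    group
  refine Subgroup.eq_of_le_of_card_ge hle (le_of_eq ?_)
  rw [Subgroup.card_map_of_injective (MulEquiv.injective _),
    Subgroup.card_map_of_injective (MulEquiv.injective _), card_UM A, card_UP A]

/-! ### Normalisers -/

theorem borel_normalises {b : GG} (hb : (b : GLD) ∈ chevF4.borelSubgroup K) {y : GG} (hy : y ∈ UP K m) :
    b * y * b⁻¹ ∈ UP K m :=
  (Subgroup.mem_normalizer_iff.1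
    ((sup_le Subgroup.le_normalizer (YY).G.diag_normalizes_pos : chevF4.borelSubgroup K ≤ _) hb)
    (y : GLD)).1 hy

theorem mem_borel_of_normalises {g : GG} (h : ∀ y ∈ UP K m, g * y * g⁻¹ ∈ UP K m) :
    (g : GLD) ∈ chevF4.borelSubgroup K := by
  obtain ⟨u₁, mn, u₂, hu₁, gu₁, hm, gm, hu₂, gu₂, e⟩ := (gens A).normal_form g.2
  obtain ⟨l, hl⟩ := (YY).G.exists_rep hm
  have hnorm : ∀ y ∈ chevF4.posUnipotent K, y ∈ twistedF4 K (2 ^ m) →
      mn * y * mn⁻¹ ∈ chevF4.posUnipotent K := by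
    intro y hy gy
    set v : GG := ⟨u₂, gu₂⟩ with hv
    set w : GG := ⟨y, gy⟩ with hw
    have hvU : v ∈ UP K m := hu₂.1
    have hwU : w ∈ UP K m := hy
    have h0 := h (v⁻¹ * w * v) (mul_mem (mul_mem (inv_mem hvU) hwU) hvU)
    simp only [UP, Subgroup.mem_subgroupOf, Subgroup.coe_mul, Subgroup.coe_inv] at h0
    have h1 : (g : GLD) * (u₂⁻¹ * y * u₂) * (g : GLD)⁻¹ ∈ chevF4.posUnipotent K := h0
    have h2 := mul_mem (mul_mem (inv_mem hu₁) h1) hu₁
    convert h2 using 1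
    rw [e]; group
  have hrho := Gens.isRho_of_fix ((gens A).le_Fx gm) hl
  have hrot : ∀ a b, a < chevF4.nroots → twF4.S.rho a = b →
      wl tabF4 l a < npos chevF4 → wl tabF4 l b < npos chevF4 := fun a b ha hab hn => by
    rw [← hab, hrho a ha]
    by_contra h3
    exact absurd ((Sys.rho_pos ((YY).G.wl_lt hl.1 ha) (YY)).1 (not_lt.1 h3)) (not_le.2 hn)
  have hlt : ∀ x ∈ ([33, 24, 27, 25, 28] : List ℕ), x < chevF4.nroots := by decide +kernel
  have hA : npos chevF4 ≤ wl tabF4 l 33 ∧ npos chevF4 ≤ wl tabF4 l 24 := by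
    by_contra hneg
    rw [not_and_or, not_le, not_le] at hneg
    have h2 : wl tabF4 l 33 < npos chevF4 ∧ wl tabF4 l 24 < npos chevF4 := by
      rcases hneg with h | h
      · exact ⟨h, hrot 33 24 (hlt _ (by simp)) (by decide +kernel) h⟩
      · exact ⟨hrot 24 33 (hlt _ (by simp)) (by decide +kernel) h, h⟩
    have hP := (ab0 A).P_U (fun _ => (1 : K))
    have gP := (ab0 A).pos _ ((YY).isFixF_const [33, 24])
    have hneg' : mn * Good'.P (YY).G [33, 24] (fun _ => (1 : K)) * mn⁻¹ ∈ chevF4.negUnipotent K := by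
      obtain ⟨l1, c1, -, e1⟩ := (YY).G.rep_act hl 33 (hlt _ (by simp))
      obtain ⟨l2, c2, -, e2⟩ := (YY).G.rep_act hl 24 (hlt _ (by simp))
      rw [Good'.P_cons, Good'.P_cons, Good'.P_nil, mul_one,
        show ∀ x y : GLD, mn * (x * y) * mn⁻¹ = (mn * x * mn⁻¹) * (mn * y * mn⁻¹) from
          fun x y => by group, e1, e2]
      exact mul_mem ((YY).G.X_mem_negUnipotent l1 h2.1 _) ((YY).G.X_mem_negUnipotent l2 h2.2 _)
    have h1 := (YY).pos_neg_trivial (hnorm _ hP gP) hneg'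
    rw [conj_eq_one_iff, ← Good'.P_zero (YY).G [33, 24], (ab0 A).P_eq_iff] at h1
    exact one_ne_zero (h1 33 (by simp))
  have hB : npos chevF4 ≤ wl tabF4 l 27 ∧ npos chevF4 ≤ wl tabF4 l 25 := by
    by_contra hneg
    rw [not_and_or, not_le, not_le] at hneg
    have h2 : wl tabF4 l 27 < npos chevF4 ∧ wl tabF4 l 25 < npos chevF4 := by
      rcases hneg with h | h
      · exact ⟨h, hrot 27 25 (hlt _ (by simp)) (by decide +kernel) h⟩
      · exact ⟨hrot 25 27 (hlt _ (by simp)) (by decide +kernel) h, h⟩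
    obtain ⟨l1, c1, n1, e1⟩ := (YY).G.rep_act hl 27 (hlt _ (by simp))
    obtain ⟨l2, c2, n2, e2⟩ := (YY).G.rep_act hl 25 (hlt _ (by simp))
    obtain ⟨l3, c3, n3, e3⟩ := (YY).G.rep_act hl 28 (hlt _ (by simp))
    have hU := ((flip1 A).2 ⟨1, 0, rfl⟩ : W A posC 1 0 ∈ _)
    have hW : mn * W A posC 1 0 * mn⁻¹ = (YY).G.X K (wl tabF4 l 27) (c1 * 1) *
        (YY).G.X K (wl tabF4 l 25) (c2 * 1) * (YY).G.X K (wl tabF4 l 28) (c3 * 1) := by
      rw [← e1, ← e2, ← e3, W, E_eq]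
      simp [posC, (YY).G.X_zero, mul_assoc]
    have h4 := hnorm _ hU.1 (W_mem A (Or.inl rfl) 1 0)
    rw [hW] at h4
    have h12 := mul_mem ((YY).G.X_mem_negUnipotent l1 h2.1 (c1 * 1))
      ((YY).G.X_mem_negUnipotent l2 h2.2 (c2 * 1))
    by_cases h28 : npos chevF4 ≤ wl tabF4 l 28
    · have h5 := (YY).pos_neg_trivial ((Subgroup.mul_mem_cancel_right _
        ((YY).G.X_mem_posUnipotent l3 h28 (c3 * 1))).1 h4) h12
      rw [mul_eq_one_iff_eq_inv, (YY).G.X_inv] at h5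
      have h6 := (YY).G.X_root_inj l1 l2 (mul_ne_zero n1 one_ne_zero) h5
      exact absurd ((YY).G.wl_injective hl.1 (hlt _ (by simp)) (hlt _ (by simp)) h6) (by decide)
    · have h5 := (YY).pos_neg_trivial h4
        (mul_mem h12 ((YY).G.X_mem_negUnipotent l3 (not_le.1 h28) (c3 * 1)))
      rw [← hW, conj_eq_one_iff] at h5
      have e' : W A posC 1 0 = E A posC 0 0 0 0 := by rw [h5, E_eq]; simp [(YY).G.X_zero]
      exact one_ne_zero (E_pos_inj A e').2.1
  have hmd : mn ∈ chevF4.diagonalSubgroup K := by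
    have hs : ∀ i < chevF4.rank, npos chevF4 ≤ wl tabF4 l (sim chevF4 i) := by
      intro i hi
      have h := sim_cover i hi
      simp only [List.mem_cons, List.not_mem_nil, or_false] at h
      rcases h with h | h | h | h <;> rw [h]
      exacts [hA.1, hA.2, hB.1, hB.2]
    have h1 := mul_mem hl.2 ((YY).G.nl_mem_diag_of_pos (F := K) _ rfl hl.1 hs)
    rwa [inv_mul_cancel_right] at h1
  rw [e]
  exact mul_mem (mul_mem (Subgroup.mem_sup_left hu₁) (Subgroup.mem_sup_right hmd))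
    (Subgroup.mem_sup_left hu₂.1)

theorem mem_HH_of_normalises {g : GG} (hU : ∀ y ∈ UP K m, g * y * g⁻¹ ∈ UP K m)
    (hV : ∀ y ∈ UM K m, g * y * g⁻¹ ∈ UM K m) : g ∈ HH K m := by
  obtain ⟨v, d, hv, gv, hd, gd, e⟩ := (gens A).borel_decomp (mem_borel_of_normalises A hU) g.2
  have hge : g = ⟨v, gv⟩ * ⟨d, gd⟩ := Subtype.ext e
  set V : GG := ⟨v, gv⟩
  have hvV : ∀ y ∈ UM K m, V * y * V⁻¹ ∈ UM K m := by
    intro y hy
    have h1 : (⟨d, gd⟩ : GG)⁻¹ * y * ⟨d, gd⟩ ∈ UM K m := by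
      have h := (Subgroup.mem_normalizer_iff.1 ((YY).G.diag_normalizes_neg (inv_mem hd)) (y : GLD)).1 hy
      rwa [inv_inv] at h
    have h2 := hV _ h1
    convert h2 using 1
    rw [hge]; group
  obtain ⟨hcU, hcV⟩ := flp_conj A
  set V' : GG := MulAut.conj (flp A) V
  have h3 : V' ∈ UM K m := hcU ▸ Subgroup.mem_map_of_mem _ (show V ∈ UP K m from hv)
  have h4 : ∀ y ∈ UP K m, V' * y * V'⁻¹ ∈ UP K m := by
    intro y hy
    rw [← hcV] at hy
    obtain ⟨z, hz, rfl⟩ := hy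
    rw [← hcV]
    exact ⟨V * z * V⁻¹, hvV z hz, by simp [V', mul_assoc]⟩
  have h5 : V' = 1 := Subtype.ext (Subgroup.mem_bot.1 ((YY).G.borel_inf_neg (F := K) ▸
    Subgroup.mem_inf.2 ⟨mem_borel_of_normalises A h4, h3⟩))
  have h6 : V = 1 := (MulAut.conj (flp A)).injective (h5.trans (map_one _).symm)
  rw [hge, h6, one_mul]
  exact hd

/-- The Tits system of the group. -/
def bn : Cfsg.BNPair GG := (gens A).bnPair twF4_dist

theorem mem_bn_B {g : GG} : g ∈ (bn A).B ↔ (g : GLD) ∈ chevF4.borelSubgroup K := Iff.rfl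

theorem std_borel_le {θ : MulAut GG} (h : Std θ) : ((bn A).B).map θ.toMonoidHom ≤ (bn A).B := by
  rintro _ ⟨b, hb, rfl⟩
  refine mem_borel_of_normalises A fun y hy => ?_
  rw [← h.1] at hy ⊢
  obtain ⟨z, hz, rfl⟩ := hy
  exact ⟨b * z * b⁻¹, borel_normalises A hb hz, by simp⟩

theorem std_borel {θ : MulAut GG} (h : Std θ) : ((bn A).B).map θ.toMonoidHom = (bn A).B := by
  refine le_antisymm (std_borel_le A h) fun y hy => ⟨(θ⁻¹ : MulAut GG) y, ?_, θ.apply_symm_apply y⟩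
  exact std_borel_le A h.inv (Subgroup.mem_map_of_mem _ hy)

theorem std_HH {θ : MulAut GG} (h : Std θ) {g : GG} (hg : g ∈ HH K m) : θ g ∈ HH K m := by
  refine mem_HH_of_normalises A (fun y hy => ?_) fun y hy => ?_
  · rw [← h.1] at hy ⊢
    obtain ⟨z, hz, rfl⟩ := hy
    exact ⟨g * z * g⁻¹, borel_normalises A (Subgroup.mem_sup_right hg) hz, by simp⟩
  · rw [← h.2] at hy ⊢
    obtain ⟨z, hz, rfl⟩ := hy
    exact ⟨g * z * g⁻¹,
      (Subgroup.mem_normalizer_iff.1 ((YY).G.diag_normalizes_neg hg) (z : GLD)).1 hz, by simp⟩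

/-! ### Minimal parabolic subgroups -/

/-- The representative of a block. -/
def nk (k : ℕ) (hk : k < twF4.nb) : GG := (gens A).nG hk

theorem nk_val {k : ℕ} (hk : k < twF4.nb) :
    ((nk A k hk : GG) : GLD) = (YY).G.nl K (twF4.blk k) := rfl

/-- A minimal parabolic subgroup. -/
def minP (k : ℕ) (hk : k < twF4.nb) : Subgroup GG := (bn A).parabolic {nk A k hk}

theorem nk_mem_S {k : ℕ} (hk : k < twF4.nb) : nk A k hk ∈ (bn A).S := ⟨k, hk, rfl⟩

/-- The elements of a root subgroup. -/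
def posSet (k : ℕ) : Set GG :=
  {y | (y : GLD) ∈ flipSetFx (YY) ((gens A).n k)}

/-- The elements of a negative root subgroup. -/
def negSet (k : ℕ) (hk : k < twF4.nb) : Set GG :=
  (fun c : GG => nk A k hk * c * (nk A k hk)⁻¹) '' posSet A k

theorem posSet_card {k : ℕ} (hk : k < twF4.nb) :
    Nat.card (posSet A k) = (2 ^ (2 * m + 1)) ^ [1, 2].getD k 0 := by
  rw [← flips A k hk]
  exact Nat.card_congr
    { toFun := fun y => ⟨((y.1 : GG) : GLD), y.2⟩
      invFun := fun u => ⟨⟨u.1, (gens A).hU k hk u.1 u.2⟩, u.2⟩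
      left_inv := fun _ => rfl
      right_inv := fun _ => rfl }

theorem negSet_card {k : ℕ} (hk : k < twF4.nb) :
    Nat.card (negSet A k hk) = (2 ^ (2 * m + 1)) ^ [1, 2].getD k 0 := by
  rw [negSet, Nat.card_image_of_injective (fun a b (e : nk A k hk * a * (nk A k hk)⁻¹ = _) =>
    mul_left_cancel (mul_right_cancel e)), posSet_card A hk]

theorem negSet_le {k : ℕ} (hk : k < twF4.nb) : negSet A k hk ⊆ ((minP A k hk ⊓ UM K m : Subgroup GG) : Set GG) := by
  rintro _ ⟨c, hc, rfl⟩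
  refine ⟨?_, hc.2.2⟩
  have hn : nk A k hk ∈ minP A k hk := Subgroup.mem_sup_right (Subgroup.subset_closure rfl)
  have hc' : c ∈ minP A k hk := Subgroup.mem_sup_left (Subgroup.mem_sup_left hc.1)
  exact (minP A k hk).mul_mem ((minP A k hk).mul_mem hn hc') ((minP A k hk).inv_mem hn)

theorem minP_cases {k : ℕ} (hk : k < twF4.nb) {y : GG} (hy : y ∈ minP A k hk) :
    y ∈ (bn A).B ∨ y ∈ BNPair.dc (bn A) (nk A k hk) := by
  set s := nk A k hk
  have hs := nk_mem_S A hk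
  have hsN : s ∈ (bn A).N := BNPair.s_mem (bn A) hs
  have step : ∀ z, z ∈ (bn A).B ∨ z ∈ BNPair.dc (bn A) s →
      s * z ∈ (bn A).B ∨ s * z ∈ BNPair.dc (bn A) s := by
    rintro z (hz | hz)
    · exact Or.inr ((BNPair.mem_dc _).2 ⟨1, one_mem _, z, hz, by group⟩)
    · obtain ⟨a, ha, c, hc, rfl⟩ := (BNPair.mem_dc _).1 hz
      rw [show s * (a * s * c) = s * a * s * c by group]
      rcases BNPair.mem_union (bn A) hs hsN ha with h | h
      · left
        obtain ⟨a', ha', c', hc', e⟩ := (BNPair.mem_dc _).1 h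
        rw [e]
        exact mul_mem (mul_mem (mul_mem ha' ((bn A).sq_mem s hs)) hc') hc
      · exact Or.inr (BNPair.dc_mul_right _ hc h)
  let W : Subgroup GG :=
    { carrier := {g | ∀ z, (z ∈ (bn A).B ∨ z ∈ BNPair.dc (bn A) s) →
        (g * z ∈ (bn A).B ∨ g * z ∈ BNPair.dc (bn A) s) ∧
        (g⁻¹ * z ∈ (bn A).B ∨ g⁻¹ * z ∈ BNPair.dc (bn A) s)}
      one_mem' := fun z hz => by simpa using hz
      mul_mem' := fun {g h} hg hh z hz =>
        ⟨by rw [mul_assoc]; exact (hg _ (hh z hz).1).1,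
          by rw [mul_inv_rev, mul_assoc]; exact (hh _ (hg z hz).2).2⟩
      inv_mem' := fun {g} hg z hz => ⟨(hg z hz).2, by rw [inv_inv]; exact (hg z hz).1⟩ }
  have hB : (bn A).B ≤ W := fun b hb z hz => by
    rcases hz with hz | hz
    · exact ⟨Or.inl (mul_mem hb hz), Or.inl (mul_mem (inv_mem hb) hz)⟩
    · exact ⟨Or.inr (BNPair.dc_mul_left _ hb hz), Or.inr (BNPair.dc_mul_left _ (inv_mem hb) hz)⟩
  have hW : minP A k hk ≤ W := by
    refine sup_le hB ((Subgroup.closure_le _).2 ?_)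
    rintro x rfl
    intro z hz
    refine ⟨step z hz, ?_⟩
    have h2 := step _ ((hB ((bn A).B.inv_mem ((bn A).sq_mem s hs)) z hz).1)
    rwa [← mul_assoc, ← BNPair.inv_eq] at h2
  simpa using (hW hy 1 (Or.inl (one_mem _))).1

theorem minP_neg_shape {k : ℕ} (hk : k < twF4.nb) {y : GG} (hy : y ∈ (minP A k hk ⊓ UM K m : Subgroup GG)) :
    y = 1 ∨ ∃ a ∈ (bn A).B, ∃ c ∈ posSet A k, c ≠ 1 ∧ y = a * nk A k hk * c := by
  obtain ⟨hyP, hyV⟩ := hy
  rcases minP_cases A hk hyP with h | h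
  · exact Or.inl (Subtype.ext (Subgroup.mem_bot.1 ((YY).G.borel_inf_neg (F := K) ▸
      Subgroup.mem_inf.2 ⟨h, hyV⟩)))
  refine Or.inr ?_
  obtain ⟨a, ha, b, hb, e⟩ := (BNPair.mem_dc _).1 h
  obtain ⟨v, d, hv, gv, hd, gd, eb⟩ := (gens A).borel_decomp hb b.2
  set n := (gens A).n k with hn
  obtain ⟨a', c', ha', hc', hna, hnc, eac⟩ := (YY).exists_split ((YY).blk_facts hk).1
    ((gens A).n_act k hk) hv
  obtain ⟨haf, hcf⟩ := Gens.split_fix ((gens A).le_Fx ((gens A).n_mem k hk)) ha' hc' hna hnc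
    (by rw [← eac]; exact (gens A).le_Fx gv)
  have ga' : a' ∈ twistedF4 K (2 ^ m) := (gens A).pos_fix_mem ha' haf
  have gc' : c' ∈ twistedF4 K (2 ^ m) := (gens A).pos_fix_mem hc' hcf
  have hnd : n * d * n⁻¹ ∈ chevF4.diagonalSubgroup K :=
    (Subgroup.mem_normalizer_iff.1 ((YY).G.monomial_le_normalizer ((gens A).n_mono k hk)) d).1 hd
  set D : GG := ⟨d, gd⟩
  set N : GG := nk A k hk
  set C : GG := D⁻¹ * ⟨c', gc'⟩ * D
  have hC : C ∈ posSet A k := by
    refine ⟨?_, ((gens A).le_Fx C.2), ?_⟩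
    · have h := (Subgroup.mem_normalizer_iff.1 ((YY).G.diag_normalizes_pos (inv_mem hd)) c').1 hc'
      rwa [inv_inv] at h
    · have h := (Subgroup.mem_normalizer_iff.1 ((YY).G.diag_normalizes_neg (inv_mem hnd))
        (n * c' * n⁻¹)).1 hnc
      convert h using 1
      show n * (d⁻¹ * c' * d) * n⁻¹ = _
      group
  set a'' : GG := a * (N * ⟨a', ga'⟩ * N⁻¹) * (N * D * N⁻¹)
  have ha'' : a'' ∈ (bn A).B :=
    mul_mem (mul_mem ha (Subgroup.mem_sup_left hna)) (Subgroup.mem_sup_right hnd)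
  have hy' : y = a'' * N * C := by
    rw [e, show b = ⟨a', ga'⟩ * ⟨c', gc'⟩ * D from Subtype.ext (eb.trans (congrArg (fun x : GLD => x * d) eac))]
    simp only [a'', C]
    group
  refine ⟨a'', ha'', C, hC, fun hC1 => ?_, hy'⟩
  rw [hC1, mul_one] at hy'
  obtain ⟨hcU, -⟩ := flp_conj A
  rw [← hcU] at hyV
  obtain ⟨w, hw, ew⟩ := hyV
  set ν : GLD := ((flp A : GG) : GLD) with hν
  have hνM : ν ∈ chevF4.monomialSubgroup K :=
    (YY).G.monomial_of_rep ((gens A).rep_nw (L0_isB A))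
  have hnM := (gens A).n_mono k hk
  have e3 : ν * (w : GLD) * ν⁻¹ = (a'' : GLD) * n := by
    have := congrArg Subtype.val (ew.trans hy')
    exact this
  have h2 := (YY).G.normal_form_coset (F := K) (b := (a'' : GLD)) (b' := 1) (n := n * ν) (n' := ν)
    (u := 1) (u' := (w : GLD)) ha'' (one_mem _) (mul_mem hnM hνM) hνM (one_mem _) hw
    (by rw [mul_one, one_mul, ← mul_assoc, ← e3]; group)
  have h3 := (Subgroup.mem_normalizer_iff.1 ((YY).G.monomial_le_normalizer hνM) _).1 h2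
  have h4 : N ∈ (bn A).B := by
    show n ∈ chevF4.borelSubgroup K
    refine Subgroup.mem_sup_right ?_
    convert inv_mem h3 using 1
    group
  exact BNPair.s_not_mem (bn A) (nk_mem_S A hk) h4

theorem minP_neg {k : ℕ} (hk : k < twF4.nb) :
    ((minP A k hk ⊓ UM K m : Subgroup GG) : Set GG) = negSet A k hk := by
  classical
  have hone : (1 : GG) ∈ posSet A k := by
    refine ⟨one_mem _, one_mem _, ?_⟩
    simp [one_mem]
  have hfin : (posSet A k).Finite := Set.toFinite _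
  symm
  refine Set.eq_of_subset_of_ncard_le (negSet_le A hk) ?_ (Set.toFinite _)
  rw [← Nat.card_coe_set_eq (negSet A k hk), negSet_card A hk, ← posSet_card A hk,
    Nat.card_coe_set_eq]
  let F : GG → GG := fun y => if h : ∃ a ∈ (bn A).B, ∃ c ∈ posSet A k, c ≠ 1 ∧ y = a * nk A k hk * c
    then h.choose_spec.2.choose else 1
  refine Set.ncard_le_ncard_of_injOn F (fun y _ => ?_) ?_ hfin
  · simp only [F]
    split_ifs with h
    · exact h.choose_spec.2.choose_spec.1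
    · exact hone
  · intro y hy z hz e
    have spec : ∀ w ∈ ((minP A k hk ⊓ UM K m : Subgroup GG) : Set GG),
        (w = 1 ∧ F w = 1) ∨ (F w ≠ 1 ∧ ∃ a ∈ (bn A).B, w = a * nk A k hk * F w) := by
      intro w hw
      by_cases h : ∃ a ∈ (bn A).B, ∃ c ∈ posSet A k, c ≠ 1 ∧ w = a * nk A k hk * c
      · right
        simp only [F, dif_pos h]
        exact ⟨h.choose_spec.2.choose_spec.2.1, h.choose, h.choose_spec.1,
          h.choose_spec.2.choose_spec.2.2⟩
      · left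
        exact ⟨(minP_neg_shape A hk hw).resolve_right h, by simp only [F, dif_neg h]⟩
    rcases spec y hy with ⟨ey, fy⟩ | ⟨fy, a, ha, ey⟩ <;>
      rcases spec z hz with ⟨ez, fz⟩ | ⟨fz, a', ha', ez⟩
    · rw [ey, ez]
    · exact absurd (e.symm.trans fy) fz
    · exact absurd (e.trans fz) fy
    · have h1 : y * z⁻¹ = a * a'⁻¹ := by rw [ey, ez, e]; group
      have h2 : (y * z⁻¹ : GG) = 1 := Subtype.ext (Subgroup.mem_bot.1 ((YY).G.borel_inf_neg (F := K) ▸
        Subgroup.mem_inf.2 ⟨h1 ▸ mul_mem ha (inv_mem ha'), mul_mem hy.2 (inv_mem hz.2)⟩))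
      exact mul_inv_eq_one.1 h2

theorem std_minP_le {φ : MulAut GG} (hφ : Std φ) {k : ℕ} (hk : k < twF4.nb) :
    ∃ j, ∃ hj : j < twF4.nb, minP A j hj ≤ (minP A k hk).map φ.toMonoidHom := by
  set M := (minP A k hk).map φ.toMonoidHom with hM
  have hBM : (bn A).B ≤ M := by
    rw [← std_borel A hφ]
    exact Subgroup.map_mono le_sup_left
  by_cases hS : ∃ s ∈ (bn A).S, s ∈ M
  · obtain ⟨s, ⟨j, hj, e⟩, hsM⟩ := hS
    refine ⟨j, hj, sup_le hBM ((Subgroup.closure_le _).2 ?_)⟩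
    rintro x rfl
    have : nk A j hj = s := Subtype.ext e.symm
    rwa [SetLike.mem_coe, this]
  · exfalso
    push Not at hS
    have h1 : M = (bn A).B := by
      rw [BNPair.eq_parabolic (bn A) hBM]
      have : {s ∈ (bn A).S | s ∈ M} = (∅ : Set GG) :=
        Set.eq_empty_of_forall_notMem fun s hs => hS s hs.1 hs.2
      rw [this, Cfsg.BNPair.parabolic, Subgroup.closure_empty, sup_bot_eq]
    have h3 : φ (nk A k hk) ∈ M :=
      Subgroup.mem_map_of_mem _ (Subgroup.mem_sup_right (Subgroup.subset_closure rfl))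
    rw [h1] at h3
    have h4 : (φ⁻¹ : MulAut GG) (φ (nk A k hk)) ∈ (bn A).B :=
      std_borel_le A hφ.inv (Subgroup.mem_map_of_mem _ h3)
    rw [show (φ⁻¹ : MulAut GG) (φ (nk A k hk)) = nk A k hk from φ.symm_apply_apply _] at h4
    exact BNPair.s_not_mem (bn A) (nk_mem_S A hk) h4

theorem std_negSet {θ : MulAut GG} (h : Std θ) {k : ℕ} (hk : k < twF4.nb) {y : GG}
    (hy : y ∈ negSet A k hk) : θ y ∈ negSet A k hk := by
  classical
  obtain ⟨j, hj, hle⟩ := std_minP_le A h.inv hk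
  -- the negative root subgroups are told apart by their orders
  have hmap : ∀ z ∈ (minP A j hj ⊓ UM K m : Subgroup GG), θ z ∈ (minP A k hk ⊓ UM K m : Subgroup GG) := by
    intro z hz
    refine ⟨?_, h.2 ▸ Subgroup.mem_map_of_mem θ.toMonoidHom hz.2⟩
    obtain ⟨w, hw, e⟩ := hle hz.1
    rw [← e]
    show θ (θ.symm w) ∈ minP A k hk
    rwa [θ.apply_symm_apply]
  have hcard : (2 ^ (2 * m + 1)) ^ [1, 2].getD j 0 ≤ (2 ^ (2 * m + 1)) ^ [1, 2].getD k 0 := by
    rw [← negSet_card A hj, ← negSet_card A hk, Nat.card_coe_set_eq, Nat.card_coe_set_eq,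
      ← minP_neg A hj, ← minP_neg A hk]
    exact Set.ncard_le_ncard_of_injOn θ hmap θ.injective.injOn (Set.toFinite _)
  obtain ⟨i, hi, hle'⟩ := std_minP_le A h hj
  have hik : minP A i hi ≤ minP A k hk := by
    refine hle'.trans ?_
    rintro _ ⟨z, hz, rfl⟩
    obtain ⟨w, hw, e⟩ := hle hz
    rw [← e]
    show θ (θ.symm w) ∈ minP A k hk
    rwa [θ.apply_symm_apply]
  have eik : i = k := by
    have h1 := BNPair.mem_of_mem_parabolic (bn A) (J := {nk A k hk})
      (by rintro x rfl; exact nk_mem_S A hk) (nk_mem_S A hi)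
      (hik (Subgroup.mem_sup_right (Subgroup.subset_closure rfl)))
    have h2 : ((nk A i hi : GG) : GLD) = ((nk A k hk : GG) : GLD) := congrArg Subtype.val h1
    have h3 := allLt_eq_true (allLt_eq_true twF4_dist i hi) k hk
    simp only [Bool.or_eq_true, beq_iff_eq] at h3
    rcases h3 with h3 | h3
    · exact h3
    · obtain ⟨s, hs, hne⟩ := anyLt_eq_true h3
      simp only [decide_eq_true_eq] at hne
      exact absurd ((YY).G.act_unique ((gens A).n_act i hi)
        (show (YY).G.Act K ((gens A).n i) (wl tabF4 (twF4.blk k)) from by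
          rw [show (gens A).n i = (gens A).n k from h2]; exact (gens A).n_act k hk) hs) hne
  subst eik
  have hmap' : ∀ z ∈ (minP A i hi ⊓ UM K m : Subgroup GG),
      (θ⁻¹ : MulAut GG) z ∈ (minP A j hj ⊓ UM K m : Subgroup GG) := by
    intro z hz
    refine ⟨?_, h.inv.2 ▸ Subgroup.mem_map_of_mem (θ⁻¹ : MulAut GG).toMonoidHom hz.2⟩
    obtain ⟨w, hw, e⟩ := hle' hz.1
    rw [← e]
    show θ.symm (θ w) ∈ minP A j hj
    rwa [θ.symm_apply_apply]
  have hcard' : (2 ^ (2 * m + 1)) ^ [1, 2].getD i 0 ≤ (2 ^ (2 * m + 1)) ^ [1, 2].getD j 0 := by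
    rw [← negSet_card A hi, ← negSet_card A hj, Nat.card_coe_set_eq, Nat.card_coe_set_eq,
      ← minP_neg A hi, ← minP_neg A hj]
    exact Set.ncard_le_ncard_of_injOn _ hmap' (MulEquiv.injective _).injOn (Set.toFinite _)
  have ejk : j = i := by
    have h1 := Nat.pow_right_injective (Nat.one_lt_two_pow (n := 2 * m + 1) (by omega)) (le_antisymm hcard hcard')
    match i, hk, j, hj, h1 with
    | 0, _, 0, _, _ => rfl
    | 1, _, 1, _, _ => rfl
    | 0, _, 1, _, h1 => simp at h1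
    | 1, _, 0, _, h1 => simp at h1
    | n + 2, h2, _, _, _ => exact absurd h2 (by simp [twF4, TwTab.nb])
    | _, _, n + 2, h2, _ => exact absurd h2 (by simp [twF4, TwTab.nb])
  subst ejk
  have hy' : y ∈ ((minP A j hj ⊓ UM K m : Subgroup GG) : Set GG) := negSet_le A hj hy
  have h2 := hmap y hy'
  rw [← minP_neg A hk]
  exact h2

theorem negSet_of {k : ℕ} (hk : k < twF4.nb) {y : GG} (h1 : y ∈ UM K m)
    (h2 : (nk A k hk)⁻¹ * y * nk A k hk ∈ UP K m) : y ∈ negSet A k hk := by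
  refine ⟨(nk A k hk)⁻¹ * y * nk A k hk, ⟨h2, (gens A).le_Fx (SetLike.coe_mem _), ?_⟩, by group⟩
  have h1' : (y : GLD) ∈ chevF4.negUnipotent K := h1
  convert h1' using 1
  show ((nk A k hk : GG) : GLD) * (((nk A k hk : GG) : GLD)⁻¹ * (y : GLD) * ((nk A k hk : GG) : GLD)) *
    ((nk A k hk : GG) : GLD)⁻¹ = _
  group

theorem flp_posSet {k : ℕ} (hk : k < twF4.nb) {y : GG} (hy : y ∈ posSet A k) :
    MulAut.conj (flp A) y ∈ negSet A k hk := by
  obtain ⟨hcU, -⟩ := flp_conj A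
  refine negSet_of A hk (hcU ▸ Subgroup.mem_map_of_mem _ (show y ∈ UP K m from hy.1)) ?_
  have hl := (YY).G.rep_mul (rep_inv (YY).G ((gens A).rep_n hk)) ((gens A).rep_nw (L0_isB A))
  have hW := ((YY).blk_facts hk).1
  have key := (YY).G.act_conj_USub ((YY).G.rep_act hl) (K := chevF4.posUnipotent K)
    (fun r hr hp hS t => by
      have h := allLt_eq_true (allLt_eq_true flip_chk k hk) r hr
      simp only [Bool.or_eq_true, decide_eq_true_eq] at h
      have hS' : wl tabF4 (twF4.blk k) r < npos chevF4 := hS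
      exact (YY).G.X_mem_posUnipotent ((YY).G.wl_lt hl.1 hr)
        ((h.resolve_left (fun h' => by omega))) t)
    ((YY).mem_flip hW ((gens A).n_act k hk) hy.1 hy.2.2)
  show ((nk A k hk : GG) : GLD)⁻¹ * (((flp A : GG) : GLD) * (y : GLD) * ((flp A : GG) : GLD)⁻¹) *
    ((nk A k hk : GG) : GLD) ∈ chevF4.posUnipotent K
  convert key using 1
  show ((gens A).n k)⁻¹ * _ * (gens A).n k = ((gens A).n k)⁻¹ * (gens A).nw _ * _ * _
  rw [mul_inv_rev, inv_inv]
  simp only [mul_assoc]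
  rfl

theorem flp_image {k : ℕ} (hk : k < twF4.nb) :
    MulAut.conj (flp A) '' posSet A k = negSet A k hk := by
  refine Set.eq_of_subset_of_ncard_le ?_ ?_ (Set.toFinite _)
  · rintro _ ⟨y, hy, rfl⟩
    exact flp_posSet A hk hy
  · rw [Set.ncard_image_of_injective _ (MulEquiv.injective _), ← Nat.card_coe_set_eq,
      ← Nat.card_coe_set_eq, negSet_card A hk, posSet_card A hk]

theorem std_posSet {θ : MulAut GG} (h : Std θ) {k : ℕ} (hk : k < twF4.nb) {y : GG}
    (hy : y ∈ posSet A k) : θ y ∈ posSet A k := by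
  obtain ⟨hcU, hcV⟩ := flp_conj A
  have hφ : Std (MulAut.conj (flp A) * θ * (MulAut.conj (flp A))⁻¹) :=
    ⟨by rw [map_mul_aut, map_inv_aut hcV, map_mul_aut, h.2, hcV],
      by rw [map_mul_aut, map_inv_aut hcU, map_mul_aut, h.1, hcU]⟩
  have h1 := std_negSet A hφ hk (flp_posSet A hk hy)
  rw [← flp_image A hk] at h1
  obtain ⟨z, hz, e⟩ := h1
  rw [MulAut.mul_apply, MulAut.mul_apply,
    show ((MulAut.conj (flp A))⁻¹ : MulAut GG) (MulAut.conj (flp A) y) = y from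
      (MulAut.conj (flp A)).symm_apply_apply _] at e
  exact (MulAut.conj (flp A)).injective e ▸ hz

end Cfsg.Agent.Lib.RankOne.F4Aut
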