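import Cfsg.Agent.Lib.Chev.DataG2
import Cfsg.Agent.Lib.Chev.Subgroups
import Cfsg.Agent.Lib.Chev.Map
import Cfsg.Agent.Lib.Classical.LinearSimple

/-!
The embedding of the special linear group of degree three on the long roots of type G2: the adjoint
module is the sum of the traceless matrices, the natural module and its dual.
-/

set_option autoImplicit false
set_option maxRecDepth 100000
set_option maxHeartbeats 4000000

namespace Cfsg.Agent.Lib.RankOne.G2Long

open Cfsg.Lie Cfsg.Agent.Lib.Chev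
open scoped Matrix MatrixGroups commutatorElement

variable {K : Type*} [Field K]

/-- The three parts. -/
abbrev W (K : Type*) := Matrix (Fin 3) (Fin 3) K × (Fin 3 → K) × (Fin 3 → K)

local notation "SL3" => Matrix.SpecialLinearGroup (Fin 3) K

/-- The coordinate of a root. -/
abbrev ro (r : Fin 12) : chevG2.Idx := Sum.inr r
/-- The coordinate of a fundamental coroot. -/
abbrev co (i : Fin 2) : chevG2.Idx := Sum.inl i

theorem idx_all {P : chevG2.Idx → Prop} (h : P (co 0) ∧ P (co 1) ∧ P (ro 0) ∧ P (ro 1) ∧ P (ro 2) ∧ P (ro 3) ∧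
    P (ro 4) ∧ P (ro 5) ∧ P (ro 6) ∧ P (ro 7) ∧ P (ro 8) ∧ P (ro 9) ∧ P (ro 10) ∧ P (ro 11)) : ∀ i, P i := by
  obtain ⟨a, b, c0, c1, c2, c3, c4, c5, c6, c7, c8, c9, c10, c11⟩ := h
  rintro (i | i)
  · obtain ⟨i, hi⟩ := i
    have hi' : i < 2 := hi
    interval_cases i <;> assumption
  · obtain ⟨i, hi⟩ := i
    have hi' : i < 12 := hi
    interval_cases i <;> assumption

/-- Coordinates to parts. -/
def eW : (chevG2.Idx → K) →ₗ[K] W K where
  toFun v := (!![v (co 1) - v (co 0), v (ro 6), v (ro 11);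
      v (ro 5), v (co 0) + v (co 0) - v (co 1), v (ro 10);
      v (ro 0), v (ro 1), -v (co 0)], ![v (ro 8), v (ro 7), v (ro 2)], ![v (ro 3), v (ro 4), v (ro 9)])
  map_add' a b := by
    refine Prod.ext ?_ (Prod.ext ?_ ?_)
    · ext i j; fin_cases i <;> fin_cases j <;> simp <;> ring
    · ext i; fin_cases i <;> simp
    · ext i; fin_cases i <;> simp
  map_smul' c a := by
    refine Prod.ext ?_ (Prod.ext ?_ ?_)
    · ext i j; fin_cases i <;> fin_cases j <;> simp <;> ring
    · ext i; fin_cases i <;> simp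
    · ext i; fin_cases i <;> simp

/-- Parts to coordinates. -/
def pW : W K →ₗ[K] (chevG2.Idx → K) where
  toFun w i := match i with
    | Sum.inl i => (![-w.1 2 2, w.1 0 0 - w.1 2 2] : Fin 2 → K) i
    | Sum.inr r => (![w.1 2 0, w.1 2 1, w.2.1 2, w.2.2 0, w.2.2 1, w.1 1 0, w.1 0 1, w.2.1 1, w.2.1 0, w.2.2 2,
        w.1 1 2, w.1 0 2] : Fin 12 → K) r
  map_add' a b := by
    refine funext (idx_all ?_)
    simp only [co, ro]
    refine ⟨?_, ?_, ?_, ?_, ?_, ?_, ?_, ?_, ?_, ?_, ?_, ?_, ?_, ?_⟩ <;> simp <;> ring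
  map_smul' c a := by
    refine funext (idx_all ?_)
    simp only [co, ro]
    refine ⟨?_, ?_, ?_, ?_, ?_, ?_, ?_, ?_, ?_, ?_, ?_, ?_, ?_, ?_⟩ <;> simp <;> ring

theorem eW_pW {M : Matrix (Fin 3) (Fin 3) K} (h : M.trace = 0) (v w : Fin 3 → K) :
    eW (pW (M, v, w)) = (M, v, w) := by
  rw [Matrix.trace_fin_three] at h
  refine Prod.ext ?_ (Prod.ext ?_ ?_)
  · ext i j; fin_cases i <;> fin_cases j <;> simp [eW, pW, ro, co]
    linear_combination -h
  · ext i; fin_cases i <;> simp [eW, pW, ro, co]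
  · ext i; fin_cases i <;> simp [eW, pW, ro, co]

theorem pW_eW (v : chevG2.Idx → K) : pW (eW v) = v := by
  refine funext (idx_all ?_)
  simp only [co, ro]
  refine ⟨?_, ?_, ?_, ?_, ?_, ?_, ?_, ?_, ?_, ?_, ?_, ?_, ?_, ?_⟩ <;> simp [eW, pW] <;> ring

theorem trace_eW (v : chevG2.Idx → K) : (eW v).1.trace = 0 := by
  rw [Matrix.trace_fin_three]
  simp [eW]

/-- The action on the three parts. -/
def act (g : SL3) : W K →ₗ[K] W K where
  toFun w := ((g : Matrix (Fin 3) (Fin 3) K) * w.1 * ((g⁻¹ : SL3) : Matrix (Fin 3) (Fin 3) K),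
    (g : Matrix (Fin 3) (Fin 3) K) *ᵥ w.2.1, w.2.2 ᵥ* ((g⁻¹ : SL3) : Matrix (Fin 3) (Fin 3) K))
  map_add' a b := by
    simp [Matrix.mul_add, Matrix.add_mul, Matrix.mulVec_add, Matrix.add_vecMul]
  map_smul' c a := by
    simp [Matrix.mulVec_smul, Matrix.smul_vecMul]

theorem act_mul (g h : SL3) (w : W K) : act (g * h) w = act g (act h w) := by
  simp only [act, LinearMap.coe_mk, AddHom.coe_mk, mul_inv_rev, Matrix.SpecialLinearGroup.coe_mul, Matrix.mul_assoc,
    Matrix.mulVec_mulVec, Matrix.vecMul_vecMul]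

theorem act_one (w : W K) : act (1 : SL3) w = w := by
  simp [act]

theorem trace_act (g : SL3) (w : W K) : (act g w).1.trace = w.1.trace := by
  show Matrix.trace ((g : Matrix (Fin 3) (Fin 3) K) * w.1 * ((g⁻¹ : SL3) : Matrix (Fin 3) (Fin 3) K)) = _
  rw [Matrix.trace_mul_comm, ← Matrix.mul_assoc, ← Matrix.SpecialLinearGroup.coe_mul, inv_mul_cancel]
  simp

/-- The action on coordinates. -/
def iLin (g : SL3) : (chevG2.Idx → K) →ₗ[K] (chevG2.Idx → K) := pW ∘ₗ act g ∘ₗ eW

theorem iLin_mul (g h : SL3) : iLin (g * h) = iLin g ∘ₗ iLin h := by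
  refine LinearMap.ext fun v => ?_
  simp only [iLin, LinearMap.comp_apply]
  rw [act_mul, show act h (eW v) = ((act h (eW v)).1, (act h (eW v)).2.1, (act h (eW v)).2.2) from rfl,
    eW_pW (by rw [trace_act, trace_eW])]

theorem iLin_one : iLin (1 : SL3) = LinearMap.id :=
  LinearMap.ext fun v => by simp [iLin, act_one, pW_eW]

/-- The matrix of the action. -/
noncomputable def iMat : SL3 →* Matrix chevG2.Idx chevG2.Idx K where
  toFun g := LinearMap.toMatrix' (iLin g)
  map_one' := by rw [iLin_one, LinearMap.toMatrix'_id]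
  map_mul' g h := by rw [iLin_mul, LinearMap.toMatrix'_comp]

/-- The homomorphism. -/
noncomputable def iG : SL3 →* GL chevG2.Idx K := iMat.toHomUnits

theorem iG_val (g : SL3) : ((iG g : GL chevG2.Idx K) : Matrix chevG2.Idx chevG2.Idx K) =
    LinearMap.toMatrix' (iLin g) := rfl

/-- The natural module inside. -/
theorem iG_block (g : SL3) (i j : Fin 3) :
    ((iG g : GL chevG2.Idx K) : Matrix chevG2.Idx chevG2.Idx K) (ro (![8, 7, 2] i)) (ro (![8, 7, 2] j)) = g i j := by
  rw [iG_val, LinearMap.toMatrix'_apply]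
  fin_cases i <;> fin_cases j <;>
    simp +decide [iLin, act, eW, pW, ro, co, Matrix.mulVec, dotProduct, Fin.sum_univ_three, Pi.single_apply]

theorem iG_injective : Function.Injective (iG : SL3 → GL chevG2.Idx K) := fun g h e =>
  Matrix.SpecialLinearGroup.ext g h fun i j => by rw [← iG_block g i j, e, iG_block]

theorem tv01 (t : K) : iG (Matrix.SpecialLinearGroup.transvection (show (0 : Fin 3) ≠ 1 by decide) t) = goodG2.X K 6 t := by
  refine Units.ext ?_
  rw [iG_val, goodG2.X_val]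
  ext row col
  rw [LinearMap.toMatrix'_apply]
  rw [show (Pi.single col 1 : chevG2.Idx → K) = fun i => if i = col then 1 else 0 from
    funext fun i => Pi.single_apply col 1 i]
  show pW (act _ (eW _)) row = _
  simp only [eW, act, pW, LinearMap.coe_mk, AddHom.coe_mk, Matrix.SpecialLinearGroup.transvection_inv,
    Matrix.SpecialLinearGroup.transvection_coe]
  unfold ChevalleyDatum.x
  rw [dif_pos (show 6 < chevG2.nroots by decide)]
  simp only [ChevalleyDatum.xMat, Matrix.of_apply]
  revert row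
  refine idx_all ⟨?_, ?_, ?_, ?_, ?_, ?_, ?_, ?_, ?_, ?_, ?_, ?_, ?_, ?_⟩ <;>
    (revert col; refine idx_all ⟨?_, ?_, ?_, ?_, ?_, ?_, ?_, ?_, ?_, ?_, ?_, ?_, ?_, ?_⟩) <;>
    simp +decide [Matrix.of_apply, ro, co, Matrix.mulVec, Matrix.vecMul, dotProduct, Fin.sum_univ_three,
        Matrix.mul_apply, Matrix.one_apply, Matrix.single_apply, Pi.single_apply, ChevalleyDatum.chainCoeff, chevG2, chevG2CartanSR, chevG2Coroot, chevG2NegIdx,
        chevG2Chain, chevG2Chain6] <;> ring

theorem tv12 (t : K) : iG (Matrix.SpecialLinearGroup.transvection (show (1 : Fin 3) ≠ 2 by decide) t) = goodG2.X K 10 t := by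
  refine Units.ext ?_
  rw [iG_val, goodG2.X_val]
  ext row col
  rw [LinearMap.toMatrix'_apply]
  rw [show (Pi.single col 1 : chevG2.Idx → K) = fun i => if i = col then 1 else 0 from
    funext fun i => Pi.single_apply col 1 i]
  show pW (act _ (eW _)) row = _
  simp only [eW, act, pW, LinearMap.coe_mk, AddHom.coe_mk, Matrix.SpecialLinearGroup.transvection_inv,
    Matrix.SpecialLinearGroup.transvection_coe]
  unfold ChevalleyDatum.x
  rw [dif_pos (show 10 < chevG2.nroots by decide)]
  simp only [ChevalleyDatum.xMat, Matrix.of_apply]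
  revert row
  refine idx_all ⟨?_, ?_, ?_, ?_, ?_, ?_, ?_, ?_, ?_, ?_, ?_, ?_, ?_, ?_⟩ <;>
    (revert col; refine idx_all ⟨?_, ?_, ?_, ?_, ?_, ?_, ?_, ?_, ?_, ?_, ?_, ?_, ?_, ?_⟩) <;>
    simp +decide [Matrix.of_apply, ro, co, Matrix.mulVec, Matrix.vecMul, dotProduct, Fin.sum_univ_three,
        Matrix.mul_apply, Matrix.one_apply, Matrix.single_apply, Pi.single_apply, ChevalleyDatum.chainCoeff, chevG2, chevG2CartanSR, chevG2Coroot, chevG2NegIdx,
        chevG2Chain, chevG2Chain10] <;> ring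

theorem tv10 (t : K) : iG (Matrix.SpecialLinearGroup.transvection (show (1 : Fin 3) ≠ 0 by decide) t) = goodG2.X K 5 t := by
  refine Units.ext ?_
  rw [iG_val, goodG2.X_val]
  ext row col
  rw [LinearMap.toMatrix'_apply]
  rw [show (Pi.single col 1 : chevG2.Idx → K) = fun i => if i = col then 1 else 0 from
    funext fun i => Pi.single_apply col 1 i]
  show pW (act _ (eW _)) row = _
  simp only [eW, act, pW, LinearMap.coe_mk, AddHom.coe_mk, Matrix.SpecialLinearGroup.transvection_inv,
    Matrix.SpecialLinearGroup.transvection_coe]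
  unfold ChevalleyDatum.x
  rw [dif_pos (show 5 < chevG2.nroots by decide)]
  simp only [ChevalleyDatum.xMat, Matrix.of_apply]
  revert row
  refine idx_all ⟨?_, ?_, ?_, ?_, ?_, ?_, ?_, ?_, ?_, ?_, ?_, ?_, ?_, ?_⟩ <;>
    (revert col; refine idx_all ⟨?_, ?_, ?_, ?_, ?_, ?_, ?_, ?_, ?_, ?_, ?_, ?_, ?_, ?_⟩) <;>
    simp +decide [Matrix.of_apply, ro, co, Matrix.mulVec, Matrix.vecMul, dotProduct, Fin.sum_univ_three,
        Matrix.mul_apply, Matrix.one_apply, Matrix.single_apply, Pi.single_apply, ChevalleyDatum.chainCoeff, chevG2, chevG2CartanSR, chevG2Coroot, chevG2NegIdx,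
        chevG2Chain, chevG2Chain5] <;> ring

theorem tv21 (t : K) : iG (Matrix.SpecialLinearGroup.transvection (show (2 : Fin 3) ≠ 1 by decide) t) = goodG2.X K 1 t := by
  refine Units.ext ?_
  rw [iG_val, goodG2.X_val]
  ext row col
  rw [LinearMap.toMatrix'_apply]
  rw [show (Pi.single col 1 : chevG2.Idx → K) = fun i => if i = col then 1 else 0 from
    funext fun i => Pi.single_apply col 1 i]
  show pW (act _ (eW _)) row = _
  simp only [eW, act, pW, LinearMap.coe_mk, AddHom.coe_mk, Matrix.SpecialLinearGroup.transvection_inv,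
    Matrix.SpecialLinearGroup.transvection_coe]
  unfold ChevalleyDatum.x
  rw [dif_pos (show 1 < chevG2.nroots by decide)]
  simp only [ChevalleyDatum.xMat, Matrix.of_apply]
  revert row
  refine idx_all ⟨?_, ?_, ?_, ?_, ?_, ?_, ?_, ?_, ?_, ?_, ?_, ?_, ?_, ?_⟩ <;>
    (revert col; refine idx_all ⟨?_, ?_, ?_, ?_, ?_, ?_, ?_, ?_, ?_, ?_, ?_, ?_, ?_, ?_⟩) <;>
    simp +decide [Matrix.of_apply, ro, co, Matrix.mulVec, Matrix.vecMul, dotProduct, Fin.sum_univ_three,
        Matrix.mul_apply, Matrix.one_apply, Matrix.single_apply, Pi.single_apply, ChevalleyDatum.chainCoeff, chevG2, chevG2CartanSR, chevG2Coroot, chevG2NegIdx,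
        chevG2Chain, chevG2Chain1] <;> ring

theorem iG_mem (g : SL3) : iG g ∈ chevG2.group K := by
  set H := (chevG2.group K).comap (iG : SL3 →* GL chevG2.Idx K)
  have hc : ∀ a ∈ H, ∀ b ∈ H, ⁅a, b⁆ ∈ H := fun a ha b hb => by
    rw [commutatorElement_def]
    exact mul_mem (mul_mem (mul_mem ha hb) (inv_mem ha)) (inv_mem hb)
  have h01 : ∀ t, Matrix.SpecialLinearGroup.transvection (show (0 : Fin 3) ≠ 1 by decide) t ∈ H := fun t => by
    rw [Subgroup.mem_comap, tv01]; exact goodG2.X_mem_group (by decide) t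
  have h12 : ∀ t, Matrix.SpecialLinearGroup.transvection (show (1 : Fin 3) ≠ 2 by decide) t ∈ H := fun t => by
    rw [Subgroup.mem_comap, tv12]; exact goodG2.X_mem_group (by decide) t
  have h10 : ∀ t, Matrix.SpecialLinearGroup.transvection (show (1 : Fin 3) ≠ 0 by decide) t ∈ H := fun t => by
    rw [Subgroup.mem_comap, tv10]; exact goodG2.X_mem_group (by decide) t
  have h21 : ∀ t, Matrix.SpecialLinearGroup.transvection (show (2 : Fin 3) ≠ 1 by decide) t ∈ H := fun t => by
    rw [Subgroup.mem_comap, tv21]; exact goodG2.X_mem_group (by decide) t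
  have h : H = ⊤ := Classical.SL_eq_top_of_transvection_mem fun i j hij b => by
    fin_cases i <;> fin_cases j <;> first
      | exact absurd rfl hij
      | exact h01 b
      | exact h12 b
      | exact h10 b
      | exact h21 b
      | (rw [← mul_one b, ← Classical.commutator_transvection (show (0 : Fin 3) ≠ 1 by decide)
            (show (1 : Fin 3) ≠ 2 by decide) hij b 1]
         exact hc _ (h01 b) _ (h12 1))
      | (rw [← mul_one b, ← Classical.commutator_transvection (show (2 : Fin 3) ≠ 1 by decide)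
            (show (1 : Fin 3) ≠ 0 by decide) hij b 1]
         exact hc _ (h21 b) _ (h10 1))
  exact Subgroup.mem_comap.1 (show g ∈ H by rw [h]; trivial)

end Cfsg.Agent.Lib.RankOne.G2Long
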