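import Cfsg.Agent.Lib.Chev.All
import Cfsg.Agent.Lib.Chev.NormalForm

/-!
The centralizer of a regular element of the split torus of a Chevalley group.
-/

set_option autoImplicit false
set_option maxHeartbeats 400000

namespace Cfsg.Agent.Lib.RankOne.RegTorus

open Cfsg.Lie Cfsg.Agent.Lib.Chev

variable {D : ChevalleyDatum} {T : Tables} {F : Type*} [Field F] (G : Good D T)
include G

/-- An element commuting with a diagonal element whose values on the roots are distinct and
different from one is diagonal. -/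
theorem mem_diag_of_comm {h g : GL D.Idx F} {χ : ℕ → F} (hh : h ∈ D.diagonalSubgroup F)
    (hv : (h : Matrix D.Idx D.Idx F) = dmat D χ) (hχ : IsChar D T χ)
    (hinj : ∀ r < D.nroots, ∀ s < D.nroots, χ r = χ s → r = s) (hne : ∀ r < D.nroots, χ r ≠ 1)
    (hg : g ∈ D.group F) (hc : h * g = g * h) : g ∈ D.diagonalSubgroup F := by
  obtain ⟨b, hb, n, l, hl, u, hu, rfl⟩ := G.exists_normal_form hg
  have hn := G.monomial_of_rep hl
  set e := h * (n * h⁻¹ * n⁻¹)
  have he : e ∈ D.diagonalSubgroup F :=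
    mul_mem hh ((Subgroup.mem_normalizer_iff.1 (G.monomial_le_normalizer hn) _).1 (inv_mem hh))
  have hub : h * u * h⁻¹ ∈ G.USub F (flipSet D T l) :=
    (Subgroup.mem_normalizer_iff.1 (G.diag_normalizes _ hh) _).1 hu
  have hB : h * b * h⁻¹ * e ∈ D.borelSubgroup F :=
    mul_mem (mul_mem (mul_mem (Subgroup.mem_sup_right hh) hb) (inv_mem (Subgroup.mem_sup_right hh)))
      (Subgroup.mem_sup_right he)
  obtain ⟨e1, e2⟩ := G.normal_form_unique hl hb hB hu hub (by
    calc b * n * u = h * (b * n * u) * h⁻¹ := by rw [hc]; group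
      _ = _ := by simp only [e]; group)
  have hfix : ∀ v ∈ D.posUnipotent F, h * v * h⁻¹ = v → v = 1 := by
    intro v hv' hfx
    rw [← G.tail_npos] at hv'
    obtain ⟨t, rfl⟩ := G.exists_oprod (npos D) (npos D) le_rfl (by have := G.even_n; omega) v hv'
    have key : ∀ (m k : ℕ), k + m ≤ D.nroots →
        h * G.oprod F k m t * h⁻¹ = G.oprod F k m fun r => χ r * t r := by
      intro m
      induction m with
      | zero => intro k _; simp [Good.oprod, Good.wordG]
      | succ m ih =>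
        intro k hk
        rw [G.oprod_succ, G.oprod_succ, ← G.diag_conj_X hv hχ (show k < D.nroots by omega), ← ih (k + 1) (by omega)]
        group
    rw [key _ _ (by have := G.even_n; omega)] at hfx
    have h0 := G.oprod_injective (npos D) (npos D) le_rfl (by have := G.even_n; omega) _ _ hfx
    rw [G.oprod_congr (t' := fun _ => (0 : F)) fun r h1 h2 => ?_]
    · refine List.prod_eq_one fun x hx => ?_
      simp only [List.mem_map] at hx
      obtain ⟨p, ⟨r, -, rfl⟩, rfl⟩ := hx
      exact G.X_zero r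
    · by_contra ht
      have := h0 r h1 h2
      exact hne r (by have := G.even_n; omega) ((mul_eq_right₀ ht).1 this)
  have hu1 : u = 1 := hfix u (G.USub_le_pos _ hu) e2.symm
  obtain ⟨v, hvp, d, hd, rfl⟩ := G.mem_borel.1 hb
  have hdd : h * d * h⁻¹ = d := by rw [G.diagonal_comm hh hd]; group
  have e3 : v * d = h * v * h⁻¹ * (d * e) := by
    rw [e1]
    calc h * (v * d) * h⁻¹ * e = h * v * h⁻¹ * (h * d * h⁻¹) * e := by group
      _ = _ := by rw [hdd]; group
  have hvv : h * v * h⁻¹ ∈ D.posUnipotent F :=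
    (Subgroup.mem_normalizer_iff.1 (G.diag_normalizes_pos hh) _).1 hvp
  have e4 : (h * v * h⁻¹)⁻¹ * v = d * e * d⁻¹ := by
    rw [inv_mul_eq_iff_eq_mul, ← mul_assoc, ← e3]; group
  have h5 : (h * v * h⁻¹)⁻¹ * v = 1 := Subgroup.mem_bot.1 (G.pos_inf_diag (F := F) ▸
    Subgroup.mem_inf.2 ⟨mul_mem (inv_mem hvv) hvp, e4 ▸ mul_mem (mul_mem hd he) (inv_mem hd)⟩)
  have hv1 : v = 1 := hfix v hvp (inv_mul_eq_one.1 h5)
  have he1 : e = 1 := by
    rw [h5] at e4
    have := mul_inv_eq_one.1 e4.symm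
    exact mul_eq_left.1 this
  have hnh : h * n = n * h := by
    have : h * (n * h⁻¹ * n⁻¹) = 1 := he1
    rw [← mul_assoc, ← mul_assoc, mul_inv_eq_one, mul_inv_eq_iff_eq_mul] at this
    exact this
  have hfixr : ∀ r < D.nroots, wl T l r = r := by
    intro r hr
    obtain ⟨hr', c, hc0, hact⟩ := G.rep_act hl r hr
    have e5 : h * (n * G.X F r 1 * n⁻¹) * h⁻¹ = n * (h * G.X F r 1 * h⁻¹) * n⁻¹ := by
      calc h * (n * G.X F r 1 * n⁻¹) * h⁻¹ = (h * n) * G.X F r 1 * (h * n)⁻¹ := by group
        _ = _ := by rw [hnh]; group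
    rw [G.diag_conj_X hv hχ hr, hact, hact, G.diag_conj_X hv hχ hr'] at e5
    have h6 := G.X_injective hr' e5
    rw [mul_one, mul_one, mul_comm c] at h6
    exact hinj _ hr' _ hr (mul_right_cancel₀ hc0 h6)
  have hnd : n ∈ D.diagonalSubgroup F := G.mem_diag_of_act_id hn (G.rep_act hl) hfixr
  rw [hu1, hv1, one_mul, mul_one]
  exact mul_mem hd hnd

end Cfsg.Agent.Lib.RankOne.RegTorus
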