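import Cfsg.Agent.Lib.RankOne.G2LongHom
import Cfsg.Agent.Lib.RankOne.RegTorus
import Cfsg.Agent.Lib.Chev.TorusCard
import Mathlib.FieldTheory.Finite.Extension

/-!
The Singer torus of G2(q).
-/

set_option autoImplicit false
set_option maxRecDepth 100000
set_option maxHeartbeats 1000000

namespace Cfsg.Agent.Lib.RankOne.G2Long

open Cfsg.Lie Cfsg.Agent.Lib.Chev
open scoped Matrix MatrixGroups

variable {F K : Type*} [Field F] [Field K] (f : F →+* K)

/-- The entrywise map. -/
def mapGL : GL chevG2.Idx F →* GL chevG2.Idx K := Units.map f.mapMatrix.toMonoidHom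

theorem mapGL_val (g : GL chevG2.Idx F) :
    ((mapGL f g : GL chevG2.Idx K) : Matrix chevG2.Idx chevG2.Idx K) = (g : Matrix chevG2.Idx chevG2.Idx F).map f :=
  rfl

theorem mapGL_injective : Function.Injective (mapGL f) := fun g h e =>
  Units.ext (Matrix.map_injective f.injective (congrArg Units.val e))

theorem mapGL_mem {g : GL chevG2.Idx F} (hg : g ∈ chevG2.group F) : mapGL f g ∈ chevG2.group K := by
  have h : chevG2.group F ≤ (chevG2.group K).comap (mapGL f) := goodG2.group_le_of fun r hr t => by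
    rw [Subgroup.mem_comap, show mapGL f (goodG2.X F r t) = goodG2.X K r (f t) from
      Units.ext (by rw [mapGL_val, goodG2.X_val, goodG2.X_val, x_map])]
    exact goodG2.X_mem_group hr _
  exact h hg

theorem eW_map (v : chevG2.Idx → F) : eW (fun i => f (v i)) =
    ((eW v).1.map f, (fun i => f ((eW v).2.1 i)), (fun i => f ((eW v).2.2 i))) := by
  refine Prod.ext ?_ (Prod.ext ?_ ?_)
  · ext i j; fin_cases i <;> fin_cases j <;> simp [eW]
  · ext i; fin_cases i <;> simp [eW]
  · ext i; fin_cases i <;> simp [eW]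

theorem pW_map (M : Matrix (Fin 3) (Fin 3) F) (v w : Fin 3 → F) :
    pW (M.map f, (fun i => f (v i)), (fun i => f (w i))) = fun i => f (pW (M, v, w) i) := by
  refine funext (idx_all ?_)
  simp only [co, ro]
  refine ⟨?_, ?_, ?_, ?_, ?_, ?_, ?_, ?_, ?_, ?_, ?_, ?_, ?_, ?_⟩ <;> simp [pW]

theorem iLin_map (g : Matrix.SpecialLinearGroup (Fin 3) F) (v : chevG2.Idx → F) :
    iLin (Matrix.SpecialLinearGroup.map f g) (fun i => f (v i)) = fun i => f (iLin g v i) := by
  show pW (act _ (eW _)) = fun i => f (pW (act g (eW v)) i)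
  rw [eW_map]
  generalize eW v = e
  obtain ⟨M, a, b⟩ := e
  have h1 : act (Matrix.SpecialLinearGroup.map f g) (M.map f, (fun i => f (a i)), (fun i => f (b i))) =
      ((act g (M, a, b)).1.map f, (fun i => f ((act g (M, a, b)).2.1 i)), (fun i => f ((act g (M, a, b)).2.2 i))) := by
    simp only [act, LinearMap.coe_mk, AddHom.coe_mk, ← map_inv]
    refine Prod.ext ?_ (Prod.ext ?_ ?_)
    · show (g : Matrix (Fin 3) (Fin 3) F).map f * M.map f *
        ((g⁻¹ : Matrix.SpecialLinearGroup (Fin 3) F) : Matrix (Fin 3) (Fin 3) F).map f = _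
      ext i j
      simp [Matrix.mul_apply]
    · funext i
      show ((g : Matrix (Fin 3) (Fin 3) F).map f *ᵥ fun i => f (a i)) i = f (((g : Matrix (Fin 3) (Fin 3) F) *ᵥ a) i)
      exact (RingHom.map_mulVec f _ _ i).symm
    · funext i
      show ((fun i => f (b i)) ᵥ* ((g⁻¹ : Matrix.SpecialLinearGroup (Fin 3) F) : Matrix (Fin 3) (Fin 3) F).map f) i = _
      exact (RingHom.map_vecMul f _ _ i).symm
  rw [h1, pW_map]

theorem iG_map (g : Matrix.SpecialLinearGroup (Fin 3) F) :
    mapGL f (iG g) = iG (Matrix.SpecialLinearGroup.map f g) := by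
  refine Units.ext ?_
  rw [mapGL_val, iG_val, iG_val]
  ext row col
  rw [Matrix.map_apply, LinearMap.toMatrix'_apply, LinearMap.toMatrix'_apply,
    ← congrFun (iLin_map f g (Pi.single col 1)) row]
  refine congrFun (congrArg _ (funext fun i => ?_)) row
  rcases eq_or_ne i col with rfl | h
  · simp
  · simp [h]

/-- A diagonal element. -/
def dia (a b : Kˣ) : Matrix.SpecialLinearGroup (Fin 3) K :=
  ⟨Matrix.diagonal ![(a : K), b, ((a * b)⁻¹ : Kˣ)], by
    rw [Matrix.det_diagonal, Fin.prod_univ_three]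
    simp
    field_simp⟩

/-- The torus parameters of a diagonal element. -/
def cab (a b : Kˣ) : Fin chevG2.rank → Kˣ := (![a * b, a * a * b] : Fin 2 → Kˣ)

/-- The character of a diagonal element. -/
def chi (a b : Kˣ) : ℕ → K := tor chevG2 tabG2 (extOne chevG2 (cab a b))

theorem chi_eq (a b : Kˣ) (r : Fin 12) : chi a b r.val =
    ((![a⁻¹ * a⁻¹ * b⁻¹, a⁻¹ * b⁻¹ * b⁻¹, a⁻¹ * b⁻¹, a⁻¹, b⁻¹, a⁻¹ * b, a * b⁻¹, b, a, a * b, a * b * b,
      a * a * b] : Fin 12 → Kˣ) r : K) := by
  have ha := a.ne_zero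
  have hb := b.ne_zero
  have e0 : extOne chevG2 (cab a b) 0 = (a : K) * b := rfl
  have e1 : extOne chevG2 (cab a b) 1 = (a : K) * a * b := rfl
  rw [chi, tor, show chevG2.rank = 2 from rfl, Finset.prod_range_succ, Finset.prod_range_one, e0, e1]
  fin_cases r <;>
    simp [show tabG2.A 0 0 = 0 from rfl, show tabG2.A 1 0 = -1 from rfl,
      show tabG2.A 0 1 = -3 from rfl, show tabG2.A 1 1 = 1 from rfl,
      show tabG2.A 0 2 = -1 from rfl, show tabG2.A 1 2 = 0 from rfl,
      show tabG2.A 0 3 = 1 from rfl, show tabG2.A 1 3 = -1 from rfl,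
      show tabG2.A 0 4 = -2 from rfl, show tabG2.A 1 4 = 1 from rfl,
      show tabG2.A 0 5 = 3 from rfl, show tabG2.A 1 5 = -2 from rfl,
      show tabG2.A 0 6 = -3 from rfl, show tabG2.A 1 6 = 2 from rfl,
      show tabG2.A 0 7 = 2 from rfl, show tabG2.A 1 7 = -1 from rfl,
      show tabG2.A 0 8 = -1 from rfl, show tabG2.A 1 8 = 1 from rfl,
      show tabG2.A 0 9 = 1 from rfl, show tabG2.A 1 9 = 0 from rfl,
      show tabG2.A 0 10 = 3 from rfl, show tabG2.A 1 10 = -1 from rfl,
      show tabG2.A 0 11 = 0 from rfl, show tabG2.A 1 11 = 1 from rfl] <;>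
    field_simp

theorem torHom_eq (a b : Kˣ) : goodG2.torHom K (cab a b) = iG (dia a b) := by
  refine Units.ext ?_
  rw [goodG2.torHom_val, iG_val]
  symm
  apply Matrix.toLin'.injective
  rw [Matrix.toLin'_toMatrix']
  refine LinearMap.ext fun v => funext ?_
  have h : ∀ i, (Matrix.toLin' (dmat chevG2 (chi a b)) v) i =
      (match i with | Sum.inl _ => (1 : K) | Sum.inr r => chi a b r.val) * v i :=
    fun i => by rw [Matrix.toLin'_apply, dmat, Matrix.mulVec_diagonal]; cases i <;> rfl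
  have c0 := chi_eq a b 0; have c1 := chi_eq a b 1; have c2 := chi_eq a b 2; have c3 := chi_eq a b 3
  have c4 := chi_eq a b 4; have c5 := chi_eq a b 5; have c6 := chi_eq a b 6; have c7 := chi_eq a b 7
  have c8 := chi_eq a b 8; have c9 := chi_eq a b 9; have c10 := chi_eq a b 10; have c11 := chi_eq a b 11
  simp at c0 c1 c2 c3 c4 c5 c6 c7 c8 c9 c10 c11
  intro i
  refine Eq.trans ?_ (h i).symm
  have ha := a.ne_zero
  have hb := b.ne_zero
  show pW (act _ (eW v)) i = _
  have hinv : ((dia a b)⁻¹ : Matrix.SpecialLinearGroup (Fin 3) K) = dia a⁻¹ b⁻¹ := by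
    refine inv_eq_of_mul_eq_one_right (Subtype.ext ?_)
    show Matrix.diagonal _ * Matrix.diagonal _ = (1 : Matrix (Fin 3) (Fin 3) K)
    rw [Matrix.diagonal_mul_diagonal, ← Matrix.diagonal_one]
    congr 1
    funext j
    fin_cases j <;> simp <;> field_simp
  simp only [act, LinearMap.coe_mk, AddHom.coe_mk, hinv]
  revert i
  refine idx_all ?_
  simp only [co, ro]
  refine ⟨?_, ?_, ?_, ?_, ?_, ?_, ?_, ?_, ?_, ?_, ?_, ?_, ?_, ?_⟩
  all_goals
    first
      | (simp [pW, eW, dia, c0, c1, c2, c3, c4, c5, c6, c7, c8, c9, c10, c11, Matrix.mulVec_diagonal, Matrix.vecMul_diagonal, Matrix.mul_diagonal, Matrix.diagonal_mul,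
          Matrix.vecHead, Matrix.vecTail]
         try field_simp
         try ring_nf
         try simp)


/-- The cubic companion matrix. -/
def comp (u v : F) : Matrix.SpecialLinearGroup (Fin 3) F :=
  ⟨!![0, 0, 1; 1, 0, -v; 0, 1, u], by rw [Matrix.det_fin_three]; simp⟩

/-- The first column as a polynomial. -/
def phiCol (l : K) (M : Matrix (Fin 3) (Fin 3) F) : K := f (M 0 0) + l * f (M 1 0) + l ^ 2 * f (M 2 0)

theorem row_eq {l : K} {u v : F} (hl : l ^ 3 = f u * l ^ 2 - f v * l + 1) {M : Matrix (Fin 3) (Fin 3) F}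
    (hM : M * (comp u v).1 = (comp u v).1 * M) :
    f (M 0 1) + l * f (M 1 1) + l ^ 2 * f (M 2 1) = phiCol f l M * l ∧
    f (M 0 2) + l * f (M 1 2) + l ^ 2 * f (M 2 2) = phiCol f l M * l ^ 2 := by
  have e : ∀ i j, (M * (comp u v).1) i j = ((comp u v).1 * M) i j := fun i j => by rw [hM]
  have h00 := congrArg f (e 0 0); have h10 := congrArg f (e 1 0); have h20 := congrArg f (e 2 0)
  have h01 := congrArg f (e 0 1); have h11 := congrArg f (e 1 1); have h21 := congrArg f (e 2 1)
  simp [comp, Matrix.mul_apply, Fin.sum_univ_three] at h00 h10 h20 h01 h11 h21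
  have r1 : f (M 0 1) + l * f (M 1 1) + l ^ 2 * f (M 2 1) = phiCol f l M * l := by
    rw [phiCol]
    linear_combination h00 + l * h10 + l ^ 2 * h20 - f (M 2 0) * hl
  refine ⟨r1, ?_⟩
  rw [phiCol] at r1 ⊢
  linear_combination h01 + l * h11 + l ^ 2 * h21 - f (M 2 1) * hl + l * r1

theorem phiCol_mul {l : K} {u v : F} (hl : l ^ 3 = f u * l ^ 2 - f v * l + 1) {M : Matrix (Fin 3) (Fin 3) F}
    (hM : M * (comp u v).1 = (comp u v).1 * M) (N : Matrix (Fin 3) (Fin 3) F) :
    phiCol f l (M * N) = phiCol f l M * phiCol f l N := by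
  obtain ⟨r1, r2⟩ := row_eq f hl hM
  simp only [phiCol, Matrix.mul_apply, Fin.sum_univ_three, map_add, map_mul] at r1 r2 ⊢
  linear_combination f (N 1 0) * r1 + f (N 2 0) * r2

end Cfsg.Agent.Lib.RankOne.G2Long
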