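import Cfsg.Agent.Lib.RankOne.G2Singer

set_option autoImplicit false
set_option maxRecDepth 100000
set_option maxHeartbeats 2000000

namespace Cfsg.Agent.Lib.RankOne.G2Long

open Cfsg.Lie Cfsg.Agent.Lib.Chev
open scoped Matrix MatrixGroups

/-- The exponents of the characters: constant parts. -/
def p0 : Fin 12 → ℤ := ![-2, -1, -1, -1, 0, -1, 1, 0, 1, 1, 1, 2]
/-- The exponents of the characters: Frobenius parts. -/
def p1 : Fin 12 → ℤ := ![-1, -2, -1, 0, -1, 1, -1, 1, 0, 1, 2, 1]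

theorem sep {q : ℕ} (hq : 3 ≤ q) (r s : Fin 12)
    (h : ((q : ℤ) * q + q + 1) ∣ (p0 r + p1 r * q) - (p0 s + p1 s * q)) : r = s := by
  rcases Nat.lt_or_ge q 4 with h4 | h4
  · obtain rfl : q = 3 := by omega
    have key : ∀ r s : Fin 12, ((p0 r + p1 r * 3) - (p0 s + p1 s * 3)) % 13 = 0 → r = s := by decide +kernel
    exact key r s (Int.emod_eq_zero_of_dvd (by simpa using h))
  have key : ∀ r s : Fin 12, (-4 ≤ p0 r - p0 s ∧ p0 r - p0 s ≤ 4 ∧ -4 ≤ p1 r - p1 s ∧ p1 r - p1 s ≤ 4) ∧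
      ((p0 r - p0 s = 4 ∨ p0 r - p0 s = -4) → (p1 r - p1 s ≠ 1 ∧ p1 r - p1 s ≠ -1)) ∧
      (p0 r = p0 s → p1 r = p1 s → r = s) := by decide +kernel
  obtain ⟨⟨a1, a2, a3, a4⟩, a5, a6⟩ := key r s
  rw [show (p0 r + p1 r * q) - (p0 s + p1 s * q) = (p0 r - p0 s) + (p1 r - p1 s) * q by ring] at h
  generalize hd0 : p0 r - p0 s = d0 at *
  generalize hd1 : p1 r - p1 s = d1 at *
  have h5 : (q : ℤ) * 4 + 4 < q * q + q + 1 := by nlinarith
  have b1 : -4 * (q : ℤ) ≤ d1 * q ∧ d1 * q ≤ 4 * q := ⟨by nlinarith, by nlinarith⟩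
  have h0 : d0 + d1 * q = 0 := Int.eq_zero_of_abs_lt_dvd h (abs_lt.2 ⟨by omega, by omega⟩)
  have h1 : d1 = 0 := by
    by_contra h1
    rcases lt_or_gt_of_ne h1 with h2 | h2
    · have : d1 * q ≤ -q := by nlinarith
      rcases (show d1 ≤ -2 ∨ d1 = -1 by omega) with h3 | h3
      · nlinarith
      · subst h3
        obtain rfl : d0 = 4 := by omega
        exact (a5 (Or.inl rfl)).2 rfl
    · have : (q : ℤ) ≤ d1 * q := by nlinarith
      rcases (show 2 ≤ d1 ∨ d1 = 1 by omega) with h3 | h3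
      · nlinarith
      · subst h3
        obtain rfl : d0 = -4 := by omega
        exact (a5 (Or.inr rfl)).1 rfl
  rw [h1, zero_mul, add_zero] at h0
  exact a6 (by omega) (by omega)

theorem nz {q : ℕ} (hq : 3 ≤ q) (r : Fin 12) : ¬ ((q : ℤ) * q + q + 1) ∣ p0 r + p1 r * q := by
  intro h
  have key : ∀ r : Fin 12, (-2 ≤ p0 r ∧ p0 r ≤ 2 ∧ -2 ≤ p1 r ∧ p1 r ≤ 2) ∧ (p1 r ≠ 0 ∨ p0 r ≠ 0) := by
    decide +kernel
  obtain ⟨⟨a1, a2, a3, a4⟩, a5⟩ := key r
  have h5 : (q : ℤ) * 2 + 2 < q * q + q + 1 := by nlinarith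
  have b1 : -2 * (q : ℤ) ≤ p1 r * q ∧ p1 r * q ≤ 2 * q := ⟨by nlinarith, by nlinarith⟩
  have h0 : p0 r + p1 r * q = 0 := Int.eq_zero_of_abs_lt_dvd h (abs_lt.2 ⟨by omega, by omega⟩)
  rcases lt_trichotomy (p1 r) 0 with h2 | h2 | h2
  · have : p1 r * q ≤ -q := by nlinarith
    omega
  · rw [h2, zero_mul, add_zero] at h0
    exact a5.elim (fun a => a h2) (fun a => a h0)
  · have : (q : ℤ) ≤ p1 r * q := by nlinarith
    omega

theorem singer {F K : Type*} [Field F] [Field K] (f : F →+* K) (q : ℕ) (hq : 3 ≤ q) (σ : K →+* K)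
    (hσ : ∀ x, σ x = x ^ q) (hσf : ∀ x, σ (f x) = f x) (hfix : ∀ x, σ x = x → ∃ y, f y = x)
    (l : Kˣ) (hl : orderOf l = q ^ 2 + q + 1) :
    ∃ H : Subgroup ↥(chevG2.group F), IsCyclic ↥H ∧ Nat.card ↥H = q ^ 2 + q + 1 ∧
      Subgroup.centralizer (H : Set ↥(chevG2.group F)) = H := by
  set N := q ^ 2 + q + 1
  set l0 : K := (l : K) with hl0
  set l1 := σ l0 with hl1
  set l2 := σ l1 with hl2
  have hlN : l0 ^ N = 1 := by rw [hl0, ← Units.val_pow_eq_pow_val, ← hl, pow_orderOf_eq_one, Units.val_one]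
  have e1 : l1 = l0 ^ q := hσ _
  have e2 : l2 = l0 ^ (q * q) := by rw [hl2, hσ, e1, ← pow_mul]
  have hprod : l0 * l1 * l2 = 1 := by
    rw [e1, e2, ← hlN, ← pow_succ', ← pow_add]
    congr 1
    simp only [N]; ring
  have e3 : σ l2 = l0 := by
    have hne : l0 * l1 ≠ 0 := left_ne_zero_of_mul_eq_one hprod
    have h := congrArg σ hprod
    rw [map_mul, map_mul, map_one, ← hl1, ← hl2] at h
    exact mul_left_cancel₀ (mul_ne_zero (right_ne_zero_of_mul hne) (right_ne_zero_of_mul_eq_one hprod))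
      (h.trans (by linear_combination -hprod))
  obtain ⟨u, hu⟩ := hfix (l0 + l1 + l2) (by rw [map_add, map_add, ← hl1, ← hl2, e3]; ring)
  obtain ⟨v, hv⟩ := hfix (l0 * l1 + l1 * l2 + l2 * l0) (by
    simp only [map_add, map_mul, ← hl1, ← hl2, e3]; ring)
  have c0 : l0 ^ 3 = f u * l0 ^ 2 - f v * l0 + 1 := by rw [hu, hv]; linear_combination hprod
  have c1 : l1 ^ 3 = f u * l1 ^ 2 - f v * l1 + 1 := by rw [hu, hv]; linear_combination hprod
  have c2 : l2 ^ 3 = f u * l2 ^ 2 - f v * l2 + 1 := by rw [hu, hv]; linear_combination hprod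
  -- exponents
  have hE : ∀ i j : ℤ, l ^ i = l ^ j → (N : ℤ) ∣ i - j := fun i j h => by
    rw [← hl, orderOf_dvd_iff_zpow_eq_one, zpow_sub, h, mul_inv_cancel]
  let E : Fin 12 → ℤ := fun r => p0 r + p1 r * q
  have hNz : (N : ℤ) = (q : ℤ) * q + q + 1 := by simp only [N]; push_cast; ring
  have hsep : ∀ r s : Fin 12, (N : ℤ) ∣ E r - E s → r = s := fun r s h => sep hq r s (by rw [← hNz]; exact h)
  have hnz : ∀ r : Fin 12, ¬ (N : ℤ) ∣ E r := fun r h => nz hq r (by rw [← hNz]; exact h)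
  set b : Kˣ := l ^ q with hb
  have hchi : ∀ r : Fin 12, chi l b r.val = ((l ^ E r : Kˣ) : K) := by
    intro r
    rw [chi_eq, hb]
    congr 1
    have key : ∀ (x y : Kˣ) (r : Fin 12), (![x⁻¹ * x⁻¹ * y⁻¹, x⁻¹ * y⁻¹ * y⁻¹, x⁻¹ * y⁻¹, x⁻¹, y⁻¹, x⁻¹ * y, x * y⁻¹, y,
        x, x * y, x * y * y, x * x * y] : Fin 12 → Kˣ) r = x ^ p0 r * y ^ p1 r := by
      intro x y r
      fin_cases r <;> simp [p0, p1, pow_two, mul_assoc, mul_comm, mul_left_comm] <;> group
    rw [key, ← zpow_natCast l q, ← zpow_mul, ← zpow_add]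
    congr 1
    simp only [E]
    ring
  -- diagonalisation
  set V : Matrix (Fin 3) (Fin 3) K := !![1, l0, l0 ^ 2; 1, l1, l1 ^ 2; 1, l2, l2 ^ 2] with hV
  have hdet : V.det = (l1 - l0) * (l2 - l0) * (l2 - l1) := by rw [hV, Matrix.det_fin_three]; simp; ring
  have hll : ∀ i j : ℤ, |i - j| < (N : ℤ) → i ≠ j → (l ^ i : Kˣ) ≠ l ^ j := fun i j h1 h2 e =>
    h2 (sub_eq_zero.1 (Int.eq_zero_of_abs_lt_dvd (hE i j e) h1))
  have hqq : (q : ℤ) * q < N := by simp only [N]; push_cast; nlinarith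
  have hd0 : V.det ≠ 0 := by
    rw [hdet, e1, e2, hl0, ← Units.val_pow_eq_pow_val, ← Units.val_pow_eq_pow_val]
    refine mul_ne_zero (mul_ne_zero ?_ ?_) ?_ <;> rw [Ne, sub_eq_zero, Units.val_inj]
    · exact fun h => hll q 1 (abs_lt.2 ⟨by nlinarith, by nlinarith⟩) (by omega) (by rw [zpow_natCast, zpow_one, h])
    · exact fun h => hll (q * q : ℕ) 1 (abs_lt.2 ⟨by push_cast; nlinarith, by push_cast; nlinarith⟩)
        (by push_cast; nlinarith) (by rw [zpow_natCast, zpow_one, h])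
    · exact fun h => hll (q * q : ℕ) q (abs_lt.2 ⟨by push_cast; nlinarith, by push_cast; nlinarith⟩)
        (by push_cast; nlinarith) (by rw [zpow_natCast, zpow_natCast, h])
  let P : Matrix.SpecialLinearGroup (Fin 3) K :=
    ⟨Matrix.diagonal ![V.det⁻¹, 1, 1] * V, by
      rw [Matrix.det_mul, Matrix.det_diagonal, Fin.prod_univ_three]; simp [inv_mul_cancel₀ hd0]⟩
  set c := comp u v with hc
  set cK := Matrix.SpecialLinearGroup.map f c with hcK
  have hPc : P * cK = dia l b * P := by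
    refine Subtype.ext ?_
    show Matrix.diagonal _ * V * (c.1.map f) = (dia l b).1 * (Matrix.diagonal _ * V)
    have hb1 : (b : K) = l1 := by rw [hb, Units.val_pow_eq_pow_val, e1]
    have hb2 : (((l * b)⁻¹ : Kˣ) : K) = l2 := by
      rw [Units.val_inv_eq_inv_val, Units.val_mul, hb1]
      exact inv_eq_of_mul_eq_one_right hprod
    have hV' : V * c.1.map f = Matrix.diagonal ![l0, l1, l2] * V := by
      ext i j
      fin_cases i <;> fin_cases j <;>
        simp [hV, hc, comp, Matrix.mul_apply, Fin.sum_univ_three, Matrix.diagonal_apply] <;>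
        first | ring1 | linear_combination -c0 | linear_combination -c1 | linear_combination -c2
    rw [Matrix.mul_assoc, hV', ← Matrix.mul_assoc, ← Matrix.mul_assoc]
    congr 1
    show Matrix.diagonal _ * Matrix.diagonal _ = Matrix.diagonal _ * Matrix.diagonal _
    rw [Matrix.diagonal_mul_diagonal, Matrix.diagonal_mul_diagonal]
    congr 1
    funext i
    have hb3 : l1⁻¹ * (l : K)⁻¹ = l2 := by rw [← hb2, ← hb1]; simp [mul_comm]
    fin_cases i <;> simp [hb1, hb3, hl0] <;> ring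
  -- the centralizer inside the linear group
  let C : Subgroup (Matrix.SpecialLinearGroup (Fin 3) F) := Subgroup.centralizer ({c} : Set (Matrix.SpecialLinearGroup (Fin 3) F))
  have hmem : ∀ {M}, M ∈ C → M.1 * c.1 = c.1 * M.1 := fun {M} h =>
    congrArg (fun z : Matrix.SpecialLinearGroup (Fin 3) F => (z : Matrix (Fin 3) (Fin 3) F))
      (Subgroup.mem_centralizer_singleton_iff.1 h)
  have hσp : ∀ (x : K) (M : Matrix (Fin 3) (Fin 3) F), σ (phiCol f x M) = phiCol f (σ x) M := fun x M => by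
    simp [phiCol, map_add, map_mul, map_pow, hσf]
  have hphiN : ∀ M : Matrix.SpecialLinearGroup (Fin 3) F, M ∈ C → phiCol f l0 M.1 ^ N = 1 := by
    intro M hM
    obtain ⟨a1, a2⟩ := row_eq f c0 (hmem hM)
    obtain ⟨b1, b2⟩ := row_eq f c1 (hmem hM)
    obtain ⟨d1, d2⟩ := row_eq f c2 (hmem hM)
    have hVM : V * M.1.map f =
        Matrix.diagonal ![phiCol f l0 M.1, phiCol f l1 M.1, phiCol f l2 M.1] * V := by
      ext i j
      fin_cases i <;> fin_cases j <;>
        simp [hV, Matrix.mul_apply, Fin.sum_univ_three, Matrix.diagonal_apply, a1, a2, b1, b2, d1, d2] <;>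
        simp [phiCol]
    have hd := congrArg Matrix.det hVM
    rw [Matrix.det_mul, Matrix.det_mul, Matrix.det_diagonal, Fin.prod_univ_three,
      show (M.1.map f).det = 1 from (Matrix.SpecialLinearGroup.map f M).2, mul_one] at hd
    simp only [Matrix.cons_val] at hd
    have h1 : (1 : K) = phiCol f l0 M.1 * phiCol f l1 M.1 * phiCol f l2 M.1 :=
      mul_right_cancel₀ hd0 (by rw [one_mul]; exact hd)
    symm
    have q1 : phiCol f l1 M.1 = phiCol f l0 M.1 ^ q := (hσp l0 M.1).symm.trans (hσ _)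
    have q2 : phiCol f l2 M.1 = phiCol f l0 M.1 ^ (q * q) :=
      (hσp l1 M.1).symm.trans (by rw [hσ, q1, ← pow_mul])
    rw [q1, q2, ← pow_succ', ← pow_add] at h1
    rw [h1]
    symm
    congr 1
    simp only [N]; ring
  have hphiInj : ∀ M M' : Matrix.SpecialLinearGroup (Fin 3) F, M ∈ C → M' ∈ C →
      phiCol f l0 M.1 = phiCol f l0 M'.1 → M = M' := by
    intro M M' hM hM' h
    have h1 : phiCol f l1 M.1 = phiCol f l1 M'.1 := (hσp l0 M.1).symm.trans ((congrArg σ h).trans (hσp l0 M'.1))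
    have h2 : phiCol f l2 M.1 = phiCol f l2 M'.1 := (hσp l1 M.1).symm.trans ((congrArg σ h1).trans (hσp l1 M'.1))
    refine Subtype.ext (Matrix.map_injective f.injective ?_)
    have hrow : V * M.1.map f = V * M'.1.map f := by
      obtain ⟨a1, a2⟩ := row_eq f c0 (hmem hM)
      obtain ⟨b1, b2⟩ := row_eq f c1 (hmem hM)
      obtain ⟨d1, d2⟩ := row_eq f c2 (hmem hM)
      obtain ⟨a1', a2'⟩ := row_eq f c0 (hmem hM')
      obtain ⟨b1', b2'⟩ := row_eq f c1 (hmem hM')
      obtain ⟨d1', d2'⟩ := row_eq f c2 (hmem hM')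
      ext i j
      fin_cases i <;> fin_cases j <;>
        simp [hV, Matrix.mul_apply, Fin.sum_univ_three, a1, a2, b1, b2, d1, d2, a1', a2', b1', b2', d1', d2', h, h1,
          h2] <;>
        simpa [phiCol] using by assumption
    have hu' : IsUnit V := (Matrix.isUnit_iff_isUnit_det V).2 (Ne.isUnit hd0)
    exact hu'.mul_left_cancel hrow
  have hcC : c ∈ C := Subgroup.mem_centralizer_singleton_iff.2 rfl
  let Φ : ↥C →* K :=
    { toFun := fun M => phiCol f l0 M.1.1
      map_one' := by simp [phiCol]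
      map_mul' := fun M N => phiCol_mul f c0 (hmem M.2) N.1.1 }
  have hΦinj : Function.Injective Φ := fun M M' h => Subtype.ext (hphiInj _ _ M.2 M'.2 h)
  have hord : orderOf c = N := by
    have h1 : Φ ⟨c, hcC⟩ = l0 := by simp [Φ, phiCol, hc, comp]
    have h2 := orderOf_injective Φ hΦinj ⟨c, hcC⟩
    rw [h1, hl0, orderOf_units, hl, ← Subgroup.orderOf_coe] at h2
    exact h2.symm
  have hCeq : C = Subgroup.zpowers c := by
    have hfin : ∀ M : ↥C, Φ M ∈ Polynomial.nthRootsFinset N (1 : K) := fun M =>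
      (Polynomial.mem_nthRootsFinset (by positivity) 1).2 (hphiN _ M.2)
    haveI : Finite ↥C := Finite.of_injective (fun M : ↥C => (⟨Φ M, hfin M⟩ : ↥(Polynomial.nthRootsFinset N (1 : K))))
      fun M M' e => hΦinj (congrArg Subtype.val e)
    refine (Subgroup.eq_of_le_of_card_ge (Subgroup.zpowers_le.2 hcC) ?_).symm
    rw [Nat.card_zpowers, hord]
    refine (Nat.card_le_card_of_injective (fun M : ↥C => (⟨Φ M, hfin M⟩ : ↥(Polynomial.nthRootsFinset N (1 : K))))
      fun M M' e => hΦinj (congrArg Subtype.val e)).trans ?_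
    rw [Nat.card_eq_fintype_card, Fintype.card_coe]
    classical
    exact (Multiset.toFinset_card_le _).trans (by
      have := Polynomial.card_nthRoots N (1 : K); simpa [Polynomial.nthRootsFinset] using this)
  -- transfer
  set s : ↥(chevG2.group F) := ⟨iG c, iG_mem c⟩ with hs
  refine ⟨Subgroup.zpowers s, inferInstance, ?_, ?_⟩
  · rw [Nat.card_zpowers, ← Subgroup.orderOf_coe]
    show orderOf (iG c) = N
    rw [orderOf_injective iG iG_injective c, hord]
  · refine le_antisymm (fun z hz => ?_) ?_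
    · have hzs : z.1 * iG c = iG c * z.1 :=
        congrArg Subtype.val ((Subgroup.mem_centralizer_iff.1 hz s (Subgroup.mem_zpowers s)).symm)
      set z' := mapGL f z.1
      have hz's : z' * iG cK = iG cK * z' := by
        rw [hcK, ← iG_map, ← map_mul, ← map_mul, hzs]
      set y := iG P * z' * (iG P)⁻¹
      have hy : iG (dia l b) * y = y * iG (dia l b) := by
        have e : dia l b = P * cK * P⁻¹ := by rw [hPc]; group
        rw [e, map_mul, map_mul, map_inv]
        calc iG P * iG cK * (iG P)⁻¹ * y = iG P * (iG cK * z') * (iG P)⁻¹ := by simp only [y]; group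
          _ = _ := by rw [← hz's]; simp only [y]; group
      have hyG : y ∈ chevG2.group K :=
        mul_mem (mul_mem (iG_mem P) (mapGL_mem f z.2)) (inv_mem (iG_mem P))
      have hdiag : iG (dia l b) ∈ chevG2.diagonalSubgroup K := by
        rw [← torHom_eq, ← goodG2.torHom_range]; exact ⟨_, rfl⟩
      have hchi' : ∀ r, r < chevG2.nroots → ∃ r' : Fin 12, r'.val = r := fun r hr => ⟨⟨r, hr⟩, rfl⟩
      have hyd : y ∈ chevG2.diagonalSubgroup K := by
        refine RegTorus.mem_diag_of_comm goodG2 (χ := chi l b) hdiag ?_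
          (goodG2.isChar_tor fun i _ => extOne_ne_zero _ i) ?_ ?_ hyG hy
        · rw [← torHom_eq, goodG2.torHom_val]; rfl
        · intro r hr t ht e
          obtain ⟨r', rfl⟩ := hchi' r hr
          obtain ⟨t', rfl⟩ := hchi' t ht
          rw [hchi, hchi] at e
          rw [hsep _ _ (hE _ _ (Units.ext e))]
        · intro r hr e
          obtain ⟨r', rfl⟩ := hchi' r hr
          rw [hchi, ← Units.val_one, Units.val_inj, ← zpow_zero l] at e
          exact hnz r' (by simpa using hE _ _ e)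
      rw [← goodG2.torHom_range] at hyd
      obtain ⟨p, hp⟩ := hyd
      let p' : Fin 2 → Kˣ := p
      set x1 : Kˣ := (p' 0)⁻¹ * p' 1 with hx1
      set x2 : Kˣ := p' 0 ^ 2 * (p' 1)⁻¹ with hx2
      have hp' : p = cab x1 x2 := by
        show p' = (![x1 * x2, x1 * x1 * x2] : Fin 2 → Kˣ)
        funext i
        fin_cases i <;> (refine Units.ext ?_; simp [hx1, hx2]; field_simp)
      rw [hp', torHom_eq] at hp
      set D := dia x1 x2
      have hz'eq : z' = iG (P⁻¹ * D * P) := by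
        rw [map_mul, map_mul, map_inv, hp]; simp only [y]; group
      set MK := P⁻¹ * D * P
      let M0 : Matrix (Fin 3) (Fin 3) F := Matrix.of fun i j =>
        (z.1 : Matrix chevG2.Idx chevG2.Idx F) (ro (![8, 7, 2] i)) (ro (![8, 7, 2] j))
      have hM0 : M0.map f = MK.1 := by
        ext i j
        rw [← iG_block MK i j, ← hz'eq]
        rfl
      have hdetM : M0.det = 1 := f.injective (by rw [RingHom.map_det, map_one, RingHom.mapMatrix_apply, hM0, MK.2])
      let M : Matrix.SpecialLinearGroup (Fin 3) F := ⟨M0, hdetM⟩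
      have hzM : z.1 = iG M := mapGL_injective f (by
        rw [iG_map, show Matrix.SpecialLinearGroup.map f M = MK from Subtype.ext hM0]; exact hz'eq)
      have hMC : M ∈ C := Subgroup.mem_centralizer_singleton_iff.2 (iG_injective (by
        rw [map_mul, map_mul, ← hzM]; exact hzs))
      rw [hCeq] at hMC
      obtain ⟨k, hk⟩ := Subgroup.mem_zpowers_iff.1 hMC
      exact Subgroup.mem_zpowers_iff.2 ⟨k, Subtype.ext (by rw [hzM, ← hk, map_zpow]; rfl)⟩
    · rw [Subgroup.le_centralizer_iff_isMulCommutative]; infer_instance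

end Cfsg.Agent.Lib.RankOne.G2Long
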