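import Mathlib
import Cfsg.Agent.Lib.Geometry.HermBasis

/-!
A lower bound for invariant sets of nonzero skew-Hermitian matrices over a finite field.
-/

set_option autoImplicit false
set_option maxHeartbeats 1000000

namespace Cfsg.Agent.Lib.RankOne.HermOrbit

open Matrix

/-- A finite field with its involution. -/
structure Invol (F : Type*) [Field F] [Fintype F] (q : ℕ) where
  σ : F →+* F
  ne : σ ≠ RingHom.id F
  two : ∀ a, σ (σ a) = a
  pow : ∀ a, σ a = a ^ q
  card : Fintype.card F = q ^ 2

variable {F : Type*} [Field F] [Fintype F] {q : ℕ} (I : Invol F q)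

/-- The conjugate transpose. -/
def adj {a b : Type*} (M : Matrix a b F) : Matrix b a F := Mᵀ.map I.σ

theorem adj_mul {a b c : Type*} [Fintype b] (M : Matrix a b F) (N : Matrix b c F) :
    adj I (M * N) = adj I N * adj I M := by
  rw [adj, Matrix.transpose_mul, Matrix.map_mul]; rfl

theorem adj_adj {a b : Type*} (M : Matrix a b F) : adj I (adj I M) = M := by
  ext i j; exact I.two _

theorem adj_add {a b : Type*} (M N : Matrix a b F) : adj I (M + N) = adj I M + adj I N := by
  ext i j; exact map_add I.σ _ _

theorem adj_sub {a b : Type*} (M N : Matrix a b F) : adj I (M - N) = adj I M - adj I N := by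
  ext i j; exact map_sub I.σ _ _

theorem adj_neg {a b : Type*} (M : Matrix a b F) : adj I (-M) = -adj I M := by
  ext i j; exact map_neg I.σ _

theorem adj_zero {a b : Type*} : adj I (0 : Matrix a b F) = 0 := by
  ext i j; exact map_zero I.σ

theorem adj_one {a : Type*} [DecidableEq a] : adj I (1 : Matrix a a F) = 1 := by
  rw [adj, Matrix.transpose_one, Matrix.map_one I.σ (map_zero _) (map_one _)]

theorem adj_smul {a b : Type*} (c : F) (M : Matrix a b F) : adj I (c • M) = I.σ c • adj I M := by
  ext i j; exact map_mul I.σ _ _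

theorem trace_adj {a : Type*} [Fintype a] (M : Matrix a a F) : (adj I M).trace = I.σ M.trace := by
  simp [adj, Matrix.trace, Matrix.diag]

include I in
theorem two_le : 2 ≤ q := by
  have h := Fintype.one_lt_card (α := F)
  rw [I.card] at h
  rcases q with _ | _ | q <;> simp_all

include I in
theorem natCard_units' : Nat.card Fˣ = q ^ 2 - 1 := by
  rw [Nat.card_units, Nat.card_eq_fintype_card, I.card]

/-- The fixed units. -/
theorem card_fixed_units : Nat.card {u : Fˣ // I.σ (u : F) = u} = q - 1 := by
  have h2 := two_le I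
  have e : {u : Fˣ // I.σ (u : F) = u} ≃ ↥(powMonoidHom (q - 1) : Fˣ →* Fˣ).ker :=
    Equiv.subtypeEquivRight fun u => by
      rw [MonoidHom.mem_ker, powMonoidHom_apply, I.pow]
      constructor
      · intro h
        apply mul_right_cancel (b := u)
        rw [← pow_succ, Nat.sub_add_cancel (by omega), one_mul]
        exact Units.ext (by rw [Units.val_pow_eq_pow_val]; exact h)
      · intro h
        rw [← Units.val_pow_eq_pow_val, show u ^ q = u from by
          conv_lhs => rw [← Nat.sub_add_cancel (show 1 ≤ q by omega), pow_succ, h, one_mul]]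
  rw [Nat.card_congr e, IsCyclic.card_powMonoidHom_ker, natCard_units' I]
  exact Nat.gcd_eq_right ⟨q + 1, by rw [mul_comm, ← Nat.sq_sub_sq, one_pow]⟩

include I in
theorem card_quotient_units : Nat.card ↥(powMonoidHom (q - 1) : Fˣ →* Fˣ).range = q + 1 := by
  have h2 := two_le I
  have h := (powMonoidHom (q - 1) : Fˣ →* Fˣ).ker.card_mul_index
  rw [Subgroup.index_ker, natCard_units' I, IsCyclic.card_powMonoidHom_ker, natCard_units' I,
    Nat.gcd_eq_right ⟨q + 1, by rw [mul_comm, ← Nat.sq_sub_sq, one_pow]⟩,
    show q ^ 2 - 1 = (q - 1) * (q + 1) by rw [mul_comm, ← Nat.sq_sub_sq, one_pow]] at h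
  exact Nat.eq_of_mul_eq_mul_left (by omega) h

theorem exists_skew : ∃ s : F, s ≠ 0 ∧ I.σ s = -s := by
  obtain ⟨y, hy⟩ : ∃ y, I.σ y ≠ y := by
    by_contra h
    push Not at h
    exact I.ne (RingHom.ext h)
  exact ⟨y - I.σ y, sub_ne_zero.2 (Ne.symm hy), by rw [map_sub, I.two]; ring⟩

theorem exists_trace (c : F) (hc : I.σ c = c) : ∃ x, x + I.σ x = c := by
  by_cases h : ∀ y, y + I.σ y = 0
  · exfalso
    refine I.ne (RingHom.ext fun y => ?_)
    have h1 := h 1
    rw [map_one] at h1
    linear_combination h y - y * h1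
  push Not at h
  obtain ⟨y, hy⟩ := h
  have hfix : I.σ (y + I.σ y) = y + I.σ y := by rw [map_add, I.two, add_comm]
  refine ⟨c / (y + I.σ y) * y, ?_⟩
  rw [map_mul, map_div₀, hc, hfix, ← mul_add, div_mul_cancel₀ _ hy]

theorem exists_norm {c : F} (hc : I.σ c = c) : ∃ x, I.σ x * x = c :=
  Geometry.exists_mul_conj_eq I.ne I.two hc

theorem exists_addChar (F : Type*) [Field F] [Fintype F] : ∃ φ : AddChar F ℂ, φ 1 ≠ 1 :=
  AddChar.exists_apply_ne_zero.2 one_ne_zero

variable [DecidableEq F]

/-- The nonzero values allowed on the diagonal. -/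
noncomputable def skewVals : Finset F := Finset.univ.filter fun c => I.σ c = -c ∧ c ≠ 0

theorem card_skewVals : (skewVals I).card = q - 1 := by
  obtain ⟨s, hs0, hs⟩ := exists_skew I
  rw [← card_fixed_units I, ← Fintype.card_coe, ← Nat.card_eq_fintype_card]
  refine Nat.card_congr ⟨fun c => ⟨Units.mk0 ((c : F) / s) (div_ne_zero (Finset.mem_filter.1 c.2).2.2 hs0), ?_⟩,
    fun u => ⟨s * (u.1 : F), Finset.mem_filter.2 ⟨Finset.mem_univ _, ?_, mul_ne_zero hs0 u.1.ne_zero⟩⟩, ?_, ?_⟩
  · have h := (Finset.mem_filter.1 c.2).2.1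
    show I.σ ((c : F) / s) = (c : F) / s
    generalize (c : F) = d at h ⊢
    rw [map_div₀, hs, h, neg_div_neg_eq]
  · rw [map_mul, hs, u.2, neg_mul]
  · intro c; exact Subtype.ext (mul_div_cancel₀ _ hs0)
  · intro u; exact Subtype.ext (Units.ext (mul_div_cancel_left₀ _ hs0))

/-- Congruence by a matrix. -/
def act {r : ℕ} (A H : Matrix (Fin r) (Fin r) F) : Matrix (Fin r) (Fin r) F := adj I A * H * A

theorem act_act {r : ℕ} (A B H : Matrix (Fin r) (Fin r) F) : act I B (act I A H) = act I (A * B) H := by
  rw [act, act, act, adj_mul]; simp only [Matrix.mul_assoc]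

theorem act_apply {r : ℕ} (A H : Matrix (Fin r) (Fin r) F) (i j : Fin r) :
    act I A H i j = (fun k => I.σ (A k i)) ⬝ᵥ (H *ᵥ fun l => A l j) := by
  simp only [act, Matrix.mul_apply, dotProduct, Matrix.mulVec, adj, Matrix.map_apply, Matrix.transpose_apply,
    Finset.mul_sum, Finset.sum_mul]
  rw [Finset.sum_comm]
  simp only [mul_assoc]

/-- An invertible matrix with a given first column and determinant one. -/
theorem exists_col {r : ℕ} {v : Fin (r + 2) → F} (hv : v ≠ 0) :
    ∃ A : Matrix (Fin (r + 2)) (Fin (r + 2)) F, A.det = 1 ∧ ∀ i, A i 0 = v i := by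
  obtain ⟨i, hi⟩ : ∃ i, v i ≠ 0 := Function.ne_iff.1 hv
  -- move the coordinate to the front
  let P : Matrix (Fin (r + 2)) (Fin (r + 2)) F := Equiv.Perm.permMatrix F (Equiv.swap 0 i)
  let C : Matrix (Fin (r + 2)) (Fin (r + 2)) F := (1 : Matrix (Fin (r + 2)) (Fin (r + 2)) F).updateCol 0 (fun k => v (Equiv.swap 0 i k))
  have hC : C.det = v i := by
    simp only [C]
    rw [← Matrix.cramer_apply, Matrix.cramer_one]
    simp
  let D : Matrix (Fin (r + 2)) (Fin (r + 2)) F :=
    Matrix.diagonal fun k => if k = 1 then (P.det * v i)⁻¹ else 1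
  have hP : P.det ≠ 0 := by
    rw [Matrix.det_permutation, Equiv.Perm.sign_swap']
    split_ifs <;> simp
  refine ⟨P * C * D, ?_, fun k => ?_⟩
  · rw [Matrix.det_mul, Matrix.det_mul, hC, Matrix.det_diagonal, Finset.prod_ite_eq' Finset.univ (1 : Fin (r + 2)),
      if_pos (Finset.mem_univ _), mul_inv_cancel₀ (mul_ne_zero hP hi)]
  · rw [Matrix.mul_diagonal, if_neg (by simp), mul_one, show P = (Equiv.swap 0 i).toPEquiv.toMatrix from rfl, PEquiv.toMatrix_toPEquiv_mul, Matrix.submatrix_apply]
    simp [C]

/-- Block embedding fixing the first vector up to a scalar. -/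
def blk {r : ℕ} (μ : F) (B : Matrix (Fin r) (Fin r) F) : Matrix (Fin (r + 1)) (Fin (r + 1)) F :=
  Matrix.of fun i j => Fin.cases (Fin.cases μ (fun _ => 0) j) (fun i' => Fin.cases 0 (fun j' => B i' j') j) i

theorem det_blk {r : ℕ} (μ : F) (B : Matrix (Fin r) (Fin r) F) : (blk μ B).det = μ * B.det := by
  rw [Matrix.det_succ_row_zero, Fin.sum_univ_succ]
  simp [blk, Matrix.submatrix]
  exact Or.inl rfl

theorem act_blk_zero {r : ℕ} (μ : F) (B : Matrix (Fin r) (Fin r) F) (H : Matrix (Fin (r + 1)) (Fin (r + 1)) F) :
    act I (blk μ B) H 0 0 = I.σ μ * H 0 0 * μ := by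
  rw [act_apply]
  simp [dotProduct, Matrix.mulVec, Fin.sum_univ_succ, blk, mul_assoc]

theorem act_blk_row {r : ℕ} (μ : F) (B : Matrix (Fin r) (Fin r) F) (H : Matrix (Fin (r + 1)) (Fin (r + 1)) F) (j : Fin r) :
    act I (blk μ B) H 0 j.succ = I.σ μ * ∑ l : Fin r, H 0 l.succ * B l j := by
  rw [act_apply]
  simp [dotProduct, Matrix.mulVec, Fin.sum_univ_succ, blk]

theorem act_blk_inner {r : ℕ} (μ : F) (B : Matrix (Fin r) (Fin r) F) (H : Matrix (Fin (r + 1)) (Fin (r + 1)) F) :
    (act I (blk μ B) H).submatrix Fin.succ Fin.succ = act I B (H.submatrix Fin.succ Fin.succ) := by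
  ext i j
  rw [Matrix.submatrix_apply, act_apply, act_apply]
  simp [dotProduct, Matrix.mulVec, Fin.sum_univ_succ, blk]

/-- Skew-Hermitian matrices with a totally isotropic form vanish. -/
theorem exists_nonzero_value {r : ℕ} {H : Matrix (Fin r) (Fin r) F} (hH : adj I H = -H) (h0 : H ≠ 0) :
    ∃ v : Fin r → F, (fun k => I.σ (v k)) ⬝ᵥ (H *ᵥ v) ≠ 0 := by
  by_contra h
  push Not at h
  apply h0
  ext i j
  have hdiag : ∀ k, H k k = 0 := fun k => by
    have := h (Pi.single k 1)
    rwa [show (fun l => I.σ ((Pi.single k (1 : F) : Fin r → F) l)) = Pi.single k 1 by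
      funext l; rcases eq_or_ne l k with rfl | e <;> simp [*], single_one_dotProduct, Matrix.mulVec_single_one] at this
  rcases eq_or_ne i j with rfl | hij
  · exact hdiag i
  have key : ∀ l : F, l * H i j + I.σ l * H j i = 0 := fun l => by
    have := h (Pi.single i 1 + l • Pi.single j 1)
    rw [show (fun k => I.σ ((Pi.single i (1 : F) + l • Pi.single j 1 : Fin r → F) k)) = Pi.single i 1 + I.σ l • Pi.single j 1 by
      funext k
      rcases eq_or_ne k i with rfl | e <;> rcases eq_or_ne k j with rfl | e' <;> simp_all] at this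
    simp [Matrix.mulVec_add, Matrix.mulVec_smul, add_dotProduct, dotProduct_add, single_one_dotProduct,
      Matrix.mulVec_single_one, hdiag] at this
    linear_combination this
  obtain ⟨y, hy⟩ : ∃ y, I.σ y ≠ y := by
    by_contra hh
    push Not at hh
    exact I.ne (RingHom.ext hh)
  have h1 := key 1
  rw [map_one, one_mul, one_mul] at h1
  have h2 : (y - I.σ y) * H i j = 0 := by linear_combination key y - I.σ y * h1
  exact (mul_eq_zero.1 h2).resolve_left (sub_ne_zero.2 (Ne.symm hy))

/-- The bound. -/
theorem bound : ∀ (r : ℕ) (S : Finset (Matrix (Fin r) (Fin r) F)), S.Nonempty →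
    (∀ H ∈ S, adj I H = -H ∧ H ≠ 0) →
    (∀ A : Matrix (Fin r) (Fin r) F, A.det ≠ 0 → (A.det = 1 ∨ r = 1) → ∀ H ∈ S, act I A H ∈ S) →
    q ^ (2 * r) - 1 ≤ (q + 1) * S.card := by
  intro r
  induction r with
  | zero => intro S _ _ _; simp
  | succ r ih =>
    intro S ⟨H₁, hH₁⟩ hS hinv
    have h2 := two_le I
    -- some member has a nonzero corner
    obtain ⟨H₀, hH₀, hc₀⟩ : ∃ H ∈ S, H 0 0 ≠ 0 := by
      obtain ⟨v, hv⟩ := exists_nonzero_value I (hS _ hH₁).1 (hS _ hH₁).2
      rcases r with _ | r
      · refine ⟨H₁, hH₁, fun e => hv ?_⟩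
        simp [dotProduct, Matrix.mulVec, e]
      · have hv0 : v ≠ 0 := fun e => hv (by simp [e])
        obtain ⟨A, hA, hcol⟩ := exists_col hv0
        refine ⟨_, hinv A (by rw [hA]; exact one_ne_zero) (Or.inl hA) _ hH₁, ?_⟩
        rw [act_apply]
        simpa [hcol] using hv
    set T : F → Finset (Matrix (Fin (r + 1)) (Fin (r + 1)) F) := fun c => S.filter fun H => H 0 0 = c
    -- every nonzero value occurs
    have hne : ∀ c ∈ skewVals I, ∃ H ∈ S, H 0 0 = c := by
      intro c hc
      obtain ⟨hc1, hc0⟩ := (Finset.mem_filter.1 hc).2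
      have hd : I.σ (H₀ 0 0) = -(H₀ 0 0) := by
        have := congrFun (congrFun (hS _ hH₀).1 0) 0
        exact this
      obtain ⟨x, hx⟩ := exists_norm I (c := c / H₀ 0 0) (by rw [map_div₀, hc1, hd, neg_div_neg_eq])
      have hx0 : x ≠ 0 := fun e => by
        rw [e, mul_zero] at hx
        exact div_ne_zero hc0 hc₀ hx.symm
      let B : Matrix (Fin r) (Fin r) F := Matrix.diagonal fun k => if (k : ℕ) = 0 then x⁻¹ else 1
      refine ⟨_, hinv (blk x B) ?_ ?_ _ hH₀, ?_⟩
      · rw [det_blk, Matrix.det_diagonal]
        exact mul_ne_zero hx0 (Finset.prod_ne_zero_iff.2 fun k _ => by split <;> simp [hx0])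
      · rcases r with _ | r
        · exact Or.inr rfl
        · left
          rw [det_blk, Matrix.det_diagonal, Fin.prod_univ_succ]
          simp [hx0]
      · rw [act_blk_zero, show I.σ x * H₀ 0 0 * x = I.σ x * x * H₀ 0 0 by ring, hx, div_mul_cancel₀ _ hc₀]
    have hTc : ∀ c ∈ skewVals I, q ^ (2 * r) ≤ (T c).card := by
      intro c hc
      obtain ⟨hc1, hc0⟩ := (Finset.mem_filter.1 hc).2
      obtain ⟨H, hH, hHc⟩ := hne c hc
      let U : (Fin r → F) → Matrix (Fin (r + 1)) (Fin (r + 1)) F := fun y =>
        Matrix.of fun i j => Fin.cases (Fin.cases 1 y j) (fun i' => Fin.cases 0 (fun j' => if i' = j' then 1 else 0) j) i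
      have hU : ∀ y, (U y).det = 1 := fun y => by
        rw [Matrix.det_of_upperTriangular]
        · refine Finset.prod_eq_one fun i _ => ?_
          refine Fin.cases ?_ (fun i => ?_) i <;> simp [U]
        · intro i j hij
          induction i using Fin.cases with
          | zero => exact absurd hij (by simp)
          | succ i =>
            induction j using Fin.cases with
            | zero => simp [U]
            | succ j => simp [U, (Fin.succ_lt_succ_iff.1 hij).ne']
      have hrow : ∀ y j, act I (U y) H 0 (Fin.succ j) = c * y j + H 0 j.succ := fun y j => by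
        rw [act_apply]
        simp [dotProduct, Matrix.mulVec, Fin.sum_univ_succ, U, hHc]
      have h00 : ∀ y, act I (U y) H 0 0 = c := fun y => by
        rw [act_apply]
        simp [dotProduct, Matrix.mulVec, Fin.sum_univ_succ, U, hHc]
      calc q ^ (2 * r) = (Finset.univ : Finset (Fin r → F)).card := by
            rw [Finset.card_univ, Fintype.card_fun, I.card, Fintype.card_fin, ← pow_mul]
        _ ≤ (T c).card := Finset.card_le_card_of_injOn (fun y => act I (U y) H)
            (fun y _ => Finset.mem_coe.2 (Finset.mem_filter.2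
              ⟨hinv _ (by rw [hU]; exact one_ne_zero) (Or.inl (hU y)) _ hH, h00 y⟩))
            (fun y _ y' _ e => funext fun j => by
              have := congrFun (congrFun e 0) j.succ
              simp only [hrow] at this
              exact mul_left_cancel₀ hc0 (add_right_cancel this))
    -- the members with zero corner
    have hT0 : q ^ (2 * r) - 1 ≤ (q + 1) * (T 0).card := by
      rcases r with _ | r
      · simp
      by_cases hrad : ∃ H ∈ S, ∀ i, H i 0 = 0
      · set S' := (S.filter fun H => ∀ i, H i 0 = 0).image fun H => H.submatrix Fin.succ Fin.succ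
        have hzero : ∀ H ∈ S, (∀ i, H i 0 = 0) → ∀ j, H 0 j = 0 := fun H hH h j => by
          have := congrFun (congrFun (hS H hH).1 0) j
          rw [show adj I H 0 j = I.σ (H j 0) from rfl, h j, map_zero] at this
          exact neg_eq_zero.1 this.symm
        have hle : S'.card ≤ (T 0).card :=
          Finset.card_image_le.trans (Finset.card_le_card fun H hH => by
            rw [Finset.mem_filter] at hH ⊢
            exact ⟨hH.1, hH.2 0⟩)
        refine le_trans ?_ (Nat.mul_le_mul_left _ hle)
        apply ih S'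
        · obtain ⟨H, hH, h⟩ := hrad
          exact ⟨_, Finset.mem_image_of_mem _ (Finset.mem_filter.2 ⟨hH, h⟩)⟩
        · intro H' hH'
          obtain ⟨H, hH, rfl⟩ := Finset.mem_image.1 hH'
          obtain ⟨hH, h⟩ := Finset.mem_filter.1 hH
          refine ⟨?_, fun e => (hS H hH).2 ?_⟩
          · ext i j; exact congrFun (congrFun (hS H hH).1 i.succ) j.succ
          · ext i j
            induction j using Fin.cases with
            | zero => exact h i
            | succ j =>
              induction i using Fin.cases with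
              | zero => exact hzero H hH h _
              | succ i => exact congrFun (congrFun e i) j
        · intro B hB _ H' hH'
          obtain ⟨H, hH, rfl⟩ := Finset.mem_image.1 hH'
          obtain ⟨hH, h⟩ := Finset.mem_filter.1 hH
          refine Finset.mem_image.2 ⟨act I (blk B.det⁻¹ B) H, Finset.mem_filter.2
            ⟨hinv _ (by rw [det_blk, inv_mul_cancel₀ hB]; exact one_ne_zero)
              (Or.inl (by rw [det_blk, inv_mul_cancel₀ hB])) _ hH, fun i => ?_⟩, act_blk_inner I _ _ _⟩
          rw [act_apply]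
          simp [dotProduct, Matrix.mulVec, Fin.sum_univ_succ, blk, h]
      push Not at hrad
      -- an isotropic vector
      obtain ⟨H, hH, hH00⟩ : ∃ H ∈ S, H 0 0 = 0 := by
        set d := -(H₀ 1 1 - I.σ 1 * (H₀ 1 0 * H₀ 0 1 / H₀ 0 0)) / H₀ 0 0 with hd
        have hsk : ∀ a b, I.σ (H₀ a b) = -(H₀ b a) := fun a b => congrFun (congrFun (hS _ hH₀).1 b) a
        have hdfix : I.σ d = d := by
          rw [hd, map_div₀, map_neg, map_sub, map_mul, map_div₀, map_mul, map_one, map_one, hsk, hsk, hsk, hsk]
          field_simp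
          ring
        obtain ⟨z, hz⟩ := exists_norm I hdfix
        let v : Fin (r + 2) → F := fun k => if k = 0 then z - H₀ 0 1 / H₀ 0 0 else if k = 1 then 1 else 0
        have hv0 : v ≠ 0 := fun e => by
          have := congrFun e 1
          simp [v] at this
        obtain ⟨A, hA, hcol⟩ := exists_col hv0
        refine ⟨_, hinv A (by rw [hA]; exact one_ne_zero) (Or.inl hA) _ hH₀, ?_⟩
        rw [act_apply]
        simp only [hcol]
        have hsum : ∀ f : Fin (r + 2) → F, (∑ k, f k * v k) = f 0 * (z - H₀ 0 1 / H₀ 0 0) + f 1 := by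
          intro f
          rw [Fin.sum_univ_succ, Fin.sum_univ_succ, Finset.sum_eq_zero fun k _ => by
            have h1 : k.succ.succ ≠ (1 : Fin (r + 2)) := fun e => by simpa using congrArg Fin.val e
            simp only [v]
            rw [if_neg (Fin.succ_ne_zero _), if_neg h1, mul_zero]]
          simp [v]
        have hsum' : ∀ f : Fin (r + 2) → F, (∑ k, I.σ (v k) * f k) = I.σ (z - H₀ 0 1 / H₀ 0 0) * f 0 + f 1 := by
          intro f
          rw [Fin.sum_univ_succ, Fin.sum_univ_succ, Finset.sum_eq_zero fun k _ => by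
            have h1 : k.succ.succ ≠ (1 : Fin (r + 2)) := fun e => by simpa using congrArg Fin.val e
            simp only [v]
            rw [if_neg (Fin.succ_ne_zero _), if_neg h1, map_zero, zero_mul]]
          simp [v]
        simp only [dotProduct, Matrix.mulVec, hsum, hsum']
        rw [hd, map_one, one_mul] at hz
        rw [map_sub, map_div₀, hsk, hsk]
        field_simp at hz ⊢
        linear_combination hz
      have hy : (fun l : Fin (r + 1) => H 0 l.succ) ≠ 0 := fun e => by
        obtain ⟨i, hi⟩ := hrad H hH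
        induction i using Fin.cases with
        | zero => exact hi hH00
        | succ i =>
          apply hi
          have := congrFun (congrFun (hS H hH).1 i.succ) 0
          rw [show adj I H i.succ 0 = I.σ (H 0 i.succ) from rfl, show H 0 i.succ = 0 from congrFun e i, map_zero] at this
          exact neg_eq_zero.1 this.symm
      set Y : Finset (Fin (r + 1) → F) := (T 0).image fun G l => G 0 l.succ
      have hY : ∀ (μ : F) (B : Matrix (Fin (r + 1)) (Fin (r + 1)) F), μ * B.det = 1 →
          (fun j => I.σ μ * ∑ l, H 0 l.succ * B l j) ∈ Y := fun μ B h => by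
        refine Finset.mem_image.2 ⟨act I (blk μ B) H, Finset.mem_filter.2
          ⟨hinv _ (by rw [det_blk, h]; exact one_ne_zero) (Or.inl (by rw [det_blk, h])) _ hH, ?_⟩,
          funext fun j => act_blk_row I μ B H j⟩
        rw [act_blk_zero, hH00, mul_zero, zero_mul]
      refine le_trans ?_ (Nat.mul_le_mul_left _ (Finset.card_image_le (f := fun G : Matrix _ _ F => fun l : Fin (r + 1) => G 0 l.succ)))
      show _ ≤ (q + 1) * Y.card
      rcases r with _ | r
      · -- one coordinate
        have hsub : (Finset.univ : Finset ↥(powMonoidHom (q - 1) : Fˣ →* Fˣ).range).card ≤ Y.card := by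
          refine Finset.card_le_card_of_injOn (fun u _ => (((u : Fˣ) : F)) * H 0 (Fin.succ 0)) (fun u _ => ?_) ?_
          · obtain ⟨w, hw⟩ := u.2
            have h := hY (w : F) (Matrix.diagonal fun _ => (w : F)⁻¹) (by simp)
            refine Finset.mem_coe.2 (Eq.mp (congrArg (· ∈ Y) ?_) h)
            funext j
            have hj : j = 0 := Fin.ext (by omega)
            subst hj
            rw [Fin.sum_univ_one, Matrix.diagonal_apply_eq]
            show _ = (((u : Fˣ) : F)) * H 0 (Fin.succ 0)
            rw [← hw, powMonoidHom_apply, Units.val_pow_eq_pow_val, I.pow]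
            rw [show (w : F) ^ q = (w : F) ^ (q - 1) * w by rw [← pow_succ, Nat.sub_add_cancel (by omega)]]
            field_simp
          · intro u _ u' _ e
            have := congrFun e 0
            refine Subtype.ext (Units.ext (mul_right_cancel₀ ?_ this))
            exact fun e0 => hy (funext fun l => by rw [show l = 0 from Fin.ext (by omega)]; exact e0)
        rw [Finset.card_univ, ← Nat.card_eq_fintype_card, card_quotient_units I] at hsub
        calc q ^ (2 * (0 + 1)) - 1 = (q + 1) * (q - 1) := by rw [← Nat.sq_sub_sq, one_pow]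
          _ ≤ (q + 1) * Y.card := Nat.mul_le_mul_left _ (by omega)
      · have hsub : Finset.univ.erase (0 : Fin (r + 2) → F) ⊆ Y := by
          intro z hz
          obtain ⟨A₁, hA₁, hc₁⟩ := exists_col hy
          obtain ⟨A₂, hA₂, hc₂⟩ := exists_col (Finset.mem_erase.1 hz).1
          have h := hY 1 (A₁.transpose⁻¹ * A₂.transpose) (by
            rw [Matrix.det_mul, Matrix.det_nonsing_inv, Matrix.det_transpose, Matrix.det_transpose, hA₁, hA₂]
            simp)
          refine Eq.mp (congrArg (· ∈ Y) ?_) h
          funext j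
          have hrow : (fun l => H 0 l.succ) ᵥ* (A₁.transpose⁻¹ * A₂.transpose) = z := by
            have e1 : (Pi.single 0 1 : Fin (r + 2) → F) ᵥ* A₁.transpose = fun l => H 0 l.succ := by
              rw [Matrix.single_one_vecMul]; funext l; exact hc₁ l
            rw [← e1, Matrix.vecMul_vecMul, ← Matrix.mul_assoc,
              Matrix.mul_nonsing_inv _ (by rw [Matrix.det_transpose, hA₁]; exact isUnit_one), Matrix.one_mul,
              Matrix.single_one_vecMul]
            funext l; exact hc₂ l
          rw [map_one, one_mul]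
          exact congrFun hrow j
        have := Finset.card_le_card hsub
        rw [Finset.card_erase_of_mem (Finset.mem_univ _), Finset.card_univ, Fintype.card_fun, Fintype.card_fin,
          I.card, ← pow_mul] at this
        exact this.trans (Nat.le_mul_of_pos_left _ (by omega))
    have hdisj : ∀ c ∈ (insert 0 (skewVals I) : Finset F), T c ⊆ S := fun c _ => Finset.filter_subset _ _
    have hsum : ∑ c ∈ insert 0 (skewVals I), (T c).card ≤ S.card := by
      rw [← Finset.card_biUnion]
      · exact Finset.card_le_card (Finset.biUnion_subset.2 hdisj)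
      · intro a _ b _ hab
        exact Finset.disjoint_left.2 fun H h1 h2 => hab ((Finset.mem_filter.1 h1).2.symm.trans (Finset.mem_filter.1 h2).2)
    rw [Finset.sum_insert (fun h => (Finset.mem_filter.1 h).2.2 rfl)] at hsum
    have h3 : (q - 1) * q ^ (2 * r) ≤ ∑ c ∈ skewVals I, (T c).card := by
      rw [← card_skewVals I]
      exact Finset.card_nsmul_le_sum _ _ _ hTc
    have h4 : (q + 1) * ((T 0).card + (q - 1) * q ^ (2 * r)) ≤ (q + 1) * S.card := Nat.mul_le_mul_left _ (by omega)
    refine le_trans ?_ h4
    rw [Nat.mul_add (q + 1), ← mul_assoc, show (q + 1) * (q - 1) = q ^ 2 - 1 by rw [← Nat.sq_sub_sq, one_pow], Nat.sub_mul,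
      one_mul, ← pow_add, show 2 + 2 * r = 2 * (r + 1) by ring]
    have : q ^ (2 * r) ≤ q ^ (2 * (r + 1)) := Nat.pow_le_pow_right (by omega) (by omega)
    have : 1 ≤ q ^ (2 * r) := Nat.one_le_pow _ _ (by omega)
    omega

end Cfsg.Agent.Lib.RankOne.HermOrbit
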