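import Cfsg.Agent.Lib.RankOne.InvolCertE6
import Cfsg.Agent.Lib.Chev.DataE6

/-!
The certificate of type E6 passes the checks on the nodes from 0 to 1536.
-/

set_option autoImplicit false
set_option maxRecDepth 100000

namespace Cfsg.Agent.Lib.RankOne.InvolTwo

open Cfsg.Lie Cfsg.Agent.Lib.Chev

theorem nodesE6_0 : allLt 256 (fun i => chkNode chevE6 tabE6 tbE6 certE6 repsE6 (0 + i)) = true := by
  decide +kernel

theorem nodesE6_256 : allLt 256 (fun i => chkNode chevE6 tabE6 tbE6 certE6 repsE6 (256 + i)) = true := by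
  decide +kernel

theorem nodesE6_512 : allLt 256 (fun i => chkNode chevE6 tabE6 tbE6 certE6 repsE6 (512 + i)) = true := by
  decide +kernel

theorem nodesE6_768 : allLt 256 (fun i => chkNode chevE6 tabE6 tbE6 certE6 repsE6 (768 + i)) = true := by
  decide +kernel

theorem nodesE6_1024 : allLt 256 (fun i => chkNode chevE6 tabE6 tbE6 certE6 repsE6 (1024 + i)) = true := by
  decide +kernel

theorem nodesE6_1280 : allLt 256 (fun i => chkNode chevE6 tabE6 tbE6 certE6 repsE6 (1280 + i)) = true := by
  decide +kernel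

end Cfsg.Agent.Lib.RankOne.InvolTwo
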