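import Cfsg.Agent.Lib.RankOne.InvolCertE6
import Cfsg.Agent.Lib.Chev.DataE6

/-!
The certificate of type E6 passes the checks on the nodes from 4608 to 6423.
-/

set_option autoImplicit false
set_option maxRecDepth 100000

namespace Cfsg.Agent.Lib.RankOne.InvolTwo

open Cfsg.Lie Cfsg.Agent.Lib.Chev

theorem nodesE6_4608 : allLt 256 (fun i => chkNode chevE6 tabE6 tbE6 certE6 repsE6 (4608 + i)) = true := by
  decide +kernel

theorem nodesE6_4864 : allLt 256 (fun i => chkNode chevE6 tabE6 tbE6 certE6 repsE6 (4864 + i)) = true := by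
  decide +kernel

theorem nodesE6_5120 : allLt 256 (fun i => chkNode chevE6 tabE6 tbE6 certE6 repsE6 (5120 + i)) = true := by
  decide +kernel

theorem nodesE6_5376 : allLt 256 (fun i => chkNode chevE6 tabE6 tbE6 certE6 repsE6 (5376 + i)) = true := by
  decide +kernel

theorem nodesE6_5632 : allLt 256 (fun i => chkNode chevE6 tabE6 tbE6 certE6 repsE6 (5632 + i)) = true := by
  decide +kernel

theorem nodesE6_5888 : allLt 256 (fun i => chkNode chevE6 tabE6 tbE6 certE6 repsE6 (5888 + i)) = true := by
  decide +kernel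

theorem nodesE6_6144 : allLt 256 (fun i => chkNode chevE6 tabE6 tbE6 certE6 repsE6 (6144 + i)) = true := by
  decide +kernel

theorem nodesE6_6400 : allLt 23 (fun i => chkNode chevE6 tabE6 tbE6 certE6 repsE6 (6400 + i)) = true := by
  decide +kernel

end Cfsg.Agent.Lib.RankOne.InvolTwo
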