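import Cfsg.Agent.Lib.RankOne.InvolCertF4
import Cfsg.Agent.Lib.Chev.DataF4

/-!
The certificate of type F4 passes the checks on the nodes from 0 to 1465.
-/

set_option autoImplicit false
set_option maxRecDepth 100000

namespace Cfsg.Agent.Lib.RankOne.InvolTwo

open Cfsg.Lie Cfsg.Agent.Lib.Chev

theorem nodesF4_0 : allLt 256 (fun i => chkNode chevF4 tabF4 tbF4 certF4 repsF4 (0 + i)) = true := by
  decide +kernel

theorem nodesF4_256 : allLt 256 (fun i => chkNode chevF4 tabF4 tbF4 certF4 repsF4 (256 + i)) = true := by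
  decide +kernel

theorem nodesF4_512 : allLt 256 (fun i => chkNode chevF4 tabF4 tbF4 certF4 repsF4 (512 + i)) = true := by
  decide +kernel

theorem nodesF4_768 : allLt 256 (fun i => chkNode chevF4 tabF4 tbF4 certF4 repsF4 (768 + i)) = true := by
  decide +kernel

theorem nodesF4_1024 : allLt 256 (fun i => chkNode chevF4 tabF4 tbF4 certF4 repsF4 (1024 + i)) = true := by
  decide +kernel

theorem nodesF4_1280 : allLt 185 (fun i => chkNode chevF4 tabF4 tbF4 certF4 repsF4 (1280 + i)) = true := by
  decide +kernel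

end Cfsg.Agent.Lib.RankOne.InvolTwo
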