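import Cfsg.Agent.Lib.RankOne.InvolRankE6
import Cfsg.Agent.Lib.RankOne.InvolChkE6p0
import Cfsg.Agent.Lib.RankOne.InvolChkE6p1
import Cfsg.Agent.Lib.RankOne.InvolChkE6p2
import Cfsg.Agent.Lib.RankOne.InvolChkE6p3

/-!
The involution classes of the Chevalley group of type E6 in characteristic two.
-/

set_option autoImplicit false
set_option maxRecDepth 100000

namespace Cfsg.Agent.Lib.RankOne.InvolTwo.E6

open Cfsg.Lie Cfsg.Agent.Lib.Chev Cfsg.Agent.Lib.Chev.Tw Cfsg.Agent.Lib.RankOne.InvolTwo

theorem tabOk : chkTab chevE6 tabE6 tbE6 = true := by decide +kernel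

theorem npos_eq : npos chevE6 = 36 := by decide +kernel

theorem nodes : ∀ id < 6423, chkNode chevE6 tabE6 tbE6 certE6 repsE6 id = true := by
  have h : ∀ id < 0, chkNode chevE6 tabE6 tbE6 certE6 repsE6 id = true :=
    fun id h => absurd h (Nat.not_lt_zero id)
  replace h := cover h nodesE6_0
  replace h := cover h nodesE6_256
  replace h := cover h nodesE6_512
  replace h := cover h nodesE6_768
  replace h := cover h nodesE6_1024
  replace h := cover h nodesE6_1280
  replace h := cover h nodesE6_1536
  replace h := cover h nodesE6_1792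
  replace h := cover h nodesE6_2048
  replace h := cover h nodesE6_2304
  replace h := cover h nodesE6_2560
  replace h := cover h nodesE6_2816
  replace h := cover h nodesE6_3072
  replace h := cover h nodesE6_3328
  replace h := cover h nodesE6_3584
  replace h := cover h nodesE6_3840
  replace h := cover h nodesE6_4096
  replace h := cover h nodesE6_4352
  replace h := cover h nodesE6_4608
  replace h := cover h nodesE6_4864
  replace h := cover h nodesE6_5120
  replace h := cover h nodesE6_5376
  replace h := cover h nodesE6_5632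
  replace h := cover h nodesE6_5888
  replace h := cover h nodesE6_6144
  replace h := cover h nodesE6_6400
  exact h

theorem root_ok : allLt (npos chevE6) (fun i => (nS (certE6.get 6422)).testBit i &&
    !(nN (certE6.get 6422)).testBit i) = true := by decide +kernel

theorem rep0 : chkRepList chevE6 tbE6 34359738368 [35] = true ∧
    chkScale chevE6 tabE6 [(35, 71)] = true := by decide +kernel

theorem rep1 : chkRepList chevE6 tbE6 5368709120 [32, 30] = true ∧
    chkScale chevE6 tabE6 [(30, 66), (32, 68)] = true := by decide +kernel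

theorem rep2 : chkRepList chevE6 tbE6 2684878848 [19, 29, 31] = true ∧
    chkScale chevE6 tabE6 [(19, 55), (29, 65), (31, 67)] = true := by decide +kernel

variable {F : Type*} [Field F]

/-- The representatives as matrices. -/
abbrev mats (F : Type*) [Field F] : List (Matrix chevE6.Idx chevE6.Idx F) :=
  [Cfsg.Lie.chevE6.x F 71 1, Cfsg.Lie.chevE6.x F 68 1 * Cfsg.Lie.chevE6.x F 66 1, Cfsg.Lie.chevE6.x F 55 1 * Cfsg.Lie.chevE6.x F 65 1 * Cfsg.Lie.chevE6.x F 67 1]

/-- A representative. -/
abbrev el (F : Type*) [Field F] (L : List ℕ) : GL chevE6.Idx F := repEl goodE6 L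

theorem el0_val : (el F [35]).val = Cfsg.Lie.chevE6.x F 71 1 := by
  simp [repEl, Xr, npos_eq, (goodE6).X_val, mul_assoc]

theorem el1_val : (el F [32, 30]).val = Cfsg.Lie.chevE6.x F 68 1 * Cfsg.Lie.chevE6.x F 66 1 := by
  simp [repEl, Xr, npos_eq, (goodE6).X_val, mul_assoc]

theorem el2_val : (el F [19, 29, 31]).val = Cfsg.Lie.chevE6.x F 55 1 * Cfsg.Lie.chevE6.x F 65 1 * Cfsg.Lie.chevE6.x F 67 1 := by
  simp [repEl, Xr, npos_eq, (goodE6).X_val, mul_assoc]

theorem two [CharP F 2] : (2 : F) = 0 := by exact_mod_cast CharP.cast_eq_zero F 2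

theorem sqrtF [Fintype F] [CharP F 2] (a : F) : ∃ b : F, b ^ 2 = a := by
  obtain ⟨b, hb⟩ := FiniteField.isSquare_of_char_two (ringChar.eq F 2) a
  exact ⟨b, by rw [hb, pow_two]⟩

theorem mem_cases {y : GL chevE6.Idx F} (h : (y : Matrix chevE6.Idx chevE6.Idx F) ∈ mats F) :
    y = el F [35] ∨ y = el F [32, 30] ∨ y = el F [19, 29, 31] := by
  simp only [mats, List.mem_cons, List.not_mem_nil, or_false] at h
  rcases h with h | h | h
  · exact Or.inl (Units.ext (h.trans el0_val.symm))
  · exact Or.inr (Or.inl (Units.ext (h.trans el1_val.symm)))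
  · exact Or.inr (Or.inr (Units.ext (h.trans el2_val.symm)))

theorem order_two [CharP F 2] {y : GL chevE6.Idx F} (h : (y : Matrix chevE6.Idx chevE6.Idx F) ∈ mats F) :
    y ∈ chevE6.group F ∧ orderOf y = 2 := by
  rcases mem_cases h with rfl | rfl | rfl
  · exact ⟨repEl_mem _ _, orderOf_repEl goodE6 tabOk two rep0.1 (i := 35) (by simp)⟩
  · exact ⟨repEl_mem _ _, orderOf_repEl goodE6 tabOk two rep1.1 (i := 32) (by simp)⟩
  · exact ⟨repEl_mem _ _, orderOf_repEl goodE6 tabOk two rep2.1 (i := 19) (by simp)⟩

theorem setting [Fintype F] [CharP F 2] :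
    Setting goodE6 F (InClass chevE6 (mats F)) tbE6 repsE6 where
  two := two
  sqrt := sqrtF
  small := by rw [npos_eq]; norm_num
  tab := tabOk
  conj := InClass.of_conj
  one := Or.inl rfl
  rep := by
    intro k hk f hf
    have hk' : k < 3 := hk
    interval_cases k
    · exact rep_inClass goodE6 tabOk two sqrtF rep0.1 rep0.2 (by decide) (by decide) (by rw [el0_val]; simp [mats]) f hf
    · exact rep_inClass goodE6 tabOk two sqrtF rep1.1 rep1.2 (by decide) (by decide) (by rw [el1_val]; simp [mats]) f hf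
    · exact rep_inClass goodE6 tabOk two sqrtF rep2.1 rep2.2 (by decide) (by decide) (by rw [el2_val]; simp [mats]) f hf

theorem classify_all [Fintype F] [CharP F 2] {g : GL chevE6.Idx F} (hg : g ∈ chevE6.group F)
    (ho : orderOf g = 2) : ∃ y ∈ chevE6.group F, (y : Matrix chevE6.Idx chevE6.Idx F) ∈ mats F ∧
      ∃ h ∈ chevE6.group F, h * g * h⁻¹ = y :=
  group_classify goodE6 tabOk two
    (fun _ hu hs => classify setting certE6 6423 6422 (by norm_num) nodes root_ok hu hs)
    hg ho

theorem rank0 [CharP F 2] : ((el F [35]).val - 1).rank = 22 := by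
  have h := rank_sub_one (K := F) goodE6 two rankE6_0
  rw [el0_val]
  simpa [castWord, ChevalleyDatum.wordMat, mul_assoc] using h

theorem rank1 [CharP F 2] : ((el F [32, 30]).val - 1).rank = 32 := by
  have h := rank_sub_one (K := F) goodE6 two rankE6_1
  rw [el1_val]
  simpa [castWord, ChevalleyDatum.wordMat, mul_assoc] using h

theorem rank2 [CharP F 2] : ((el F [19, 29, 31]).val - 1).rank = 38 := by
  have h := rank_sub_one (K := F) goodE6 two rankE6_2
  rw [el2_val]
  simpa [castWord, ChevalleyDatum.wordMat, mul_assoc] using h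

theorem distinct [CharP F 2] {y₁ y₂ : GL chevE6.Idx F}
    (h₁ : (y₁ : Matrix chevE6.Idx chevE6.Idx F) ∈ mats F)
    (h₂ : (y₂ : Matrix chevE6.Idx chevE6.Idx F) ∈ mats F)
    (hc : ∃ h ∈ chevE6.group F, h * y₁ * h⁻¹ = y₂) : y₁ = y₂ := by
  obtain ⟨h, hh, e⟩ := hc
  have hr := rank_conj h y₁
  rw [e] at hr
  rcases mem_cases h₁ with rfl | rfl | rfl <;> rcases mem_cases h₂ with rfl | rfl | rfl <;>
    first
      | rfl
      | (exfalso; simp only [rank0, rank1, rank2] at hr; omega)

end Cfsg.Agent.Lib.RankOne.InvolTwo.E6
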