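import Cfsg.Agent.Lib.RankOne.InvolRankF4
import Cfsg.Agent.Lib.RankOne.InvolChkF4

/-!
The involution classes of the Chevalley group of type F4 in characteristic two.
-/

set_option autoImplicit false
set_option maxRecDepth 100000

namespace Cfsg.Agent.Lib.RankOne.InvolTwo.F4

open Cfsg.Lie Cfsg.Agent.Lib.Chev Cfsg.Agent.Lib.Chev.Tw Cfsg.Agent.Lib.RankOne.InvolTwo

theorem tabOk : chkTab chevF4 tabF4 tbF4 = true := by decide +kernel

theorem npos_eq : npos chevF4 = 24 := by decide +kernel

theorem nodes : ∀ id < 1465, chkNode chevF4 tabF4 tbF4 certF4 repsF4 id = true := by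
  have h : ∀ id < 0, chkNode chevF4 tabF4 tbF4 certF4 repsF4 id = true :=
    fun id h => absurd h (Nat.not_lt_zero id)
  replace h := cover h nodesF4_0
  replace h := cover h nodesF4_256
  replace h := cover h nodesF4_512
  replace h := cover h nodesF4_768
  replace h := cover h nodesF4_1024
  replace h := cover h nodesF4_1280
  exact h

theorem root_ok : allLt (npos chevF4) (fun i => (nS (certF4.get 1464)).testBit i &&
    !(nN (certF4.get 1464)).testBit i) = true := by decide +kernel

theorem rep0 : chkRepList chevF4 tbF4 8388608 [23] = true ∧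
    chkScale chevF4 tabF4 [(23, 47)] = true := by decide +kernel

theorem rep1 : chkRepList chevF4 tbF4 1048576 [20] = true ∧
    chkScale chevF4 tabF4 [(20, 44)] = true := by decide +kernel

theorem rep2 : chkRepList chevF4 tbF4 9437184 [23, 20] = true ∧
    chkScale chevF4 tabF4 [(23, 15), (20, 44)] = true := by decide +kernel

theorem rep3 : chkRepList chevF4 tbF4 2129920 [15, 21] = true ∧
    chkScale chevF4 tabF4 [(15, 39), (21, 45)] = true := by decide +kernel

variable {F : Type*} [Field F]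

/-- The representatives as matrices. -/
abbrev mats (F : Type*) [Field F] : List (Matrix chevF4.Idx chevF4.Idx F) :=
  [Cfsg.Lie.chevF4.x F 47 1, Cfsg.Lie.chevF4.x F 44 1, Cfsg.Lie.chevF4.x F 47 1 * Cfsg.Lie.chevF4.x F 44 1, Cfsg.Lie.chevF4.x F 39 1 * Cfsg.Lie.chevF4.x F 45 1]

/-- A representative. -/
abbrev el (F : Type*) [Field F] (L : List ℕ) : GL chevF4.Idx F := repEl goodF4 L

theorem el0_val : (el F [23]).val = Cfsg.Lie.chevF4.x F 47 1 := by
  simp [repEl, Xr, npos_eq, (goodF4).X_val, mul_assoc]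

theorem el1_val : (el F [20]).val = Cfsg.Lie.chevF4.x F 44 1 := by
  simp [repEl, Xr, npos_eq, (goodF4).X_val, mul_assoc]

theorem el2_val : (el F [23, 20]).val = Cfsg.Lie.chevF4.x F 47 1 * Cfsg.Lie.chevF4.x F 44 1 := by
  simp [repEl, Xr, npos_eq, (goodF4).X_val, mul_assoc]

theorem el3_val : (el F [15, 21]).val = Cfsg.Lie.chevF4.x F 39 1 * Cfsg.Lie.chevF4.x F 45 1 := by
  simp [repEl, Xr, npos_eq, (goodF4).X_val, mul_assoc]

theorem two [CharP F 2] : (2 : F) = 0 := by exact_mod_cast CharP.cast_eq_zero F 2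

theorem sqrtF [Fintype F] [CharP F 2] (a : F) : ∃ b : F, b ^ 2 = a := by
  obtain ⟨b, hb⟩ := FiniteField.isSquare_of_char_two (ringChar.eq F 2) a
  exact ⟨b, by rw [hb, pow_two]⟩

theorem mem_cases {y : GL chevF4.Idx F} (h : (y : Matrix chevF4.Idx chevF4.Idx F) ∈ mats F) :
    y = el F [23] ∨ y = el F [20] ∨ y = el F [23, 20] ∨ y = el F [15, 21] := by
  simp only [mats, List.mem_cons, List.not_mem_nil, or_false] at h
  rcases h with h | h | h | h
  · exact Or.inl (Units.ext (h.trans el0_val.symm))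
  · exact Or.inr (Or.inl (Units.ext (h.trans el1_val.symm)))
  · exact Or.inr (Or.inr (Or.inl (Units.ext (h.trans el2_val.symm))))
  · exact Or.inr (Or.inr (Or.inr (Units.ext (h.trans el3_val.symm))))

theorem order_two [CharP F 2] {y : GL chevF4.Idx F} (h : (y : Matrix chevF4.Idx chevF4.Idx F) ∈ mats F) :
    y ∈ chevF4.group F ∧ orderOf y = 2 := by
  rcases mem_cases h with rfl | rfl | rfl | rfl
  · exact ⟨repEl_mem _ _, orderOf_repEl goodF4 tabOk two rep0.1 (i := 23) (by simp)⟩
  · exact ⟨repEl_mem _ _, orderOf_repEl goodF4 tabOk two rep1.1 (i := 20) (by simp)⟩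
  · exact ⟨repEl_mem _ _, orderOf_repEl goodF4 tabOk two rep2.1 (i := 23) (by simp)⟩
  · exact ⟨repEl_mem _ _, orderOf_repEl goodF4 tabOk two rep3.1 (i := 15) (by simp)⟩

theorem setting [Fintype F] [CharP F 2] :
    Setting goodF4 F (InClass chevF4 (mats F)) tbF4 repsF4 where
  two := two
  sqrt := sqrtF
  small := by rw [npos_eq]; norm_num
  tab := tabOk
  conj := InClass.of_conj
  one := Or.inl rfl
  rep := by
    intro k hk f hf
    have hk' : k < 4 := hk
    interval_cases k
    · exact rep_inClass goodF4 tabOk two sqrtF rep0.1 rep0.2 (by decide) (by decide) (by rw [el0_val]; simp [mats]) f hf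
    · exact rep_inClass goodF4 tabOk two sqrtF rep1.1 rep1.2 (by decide) (by decide) (by rw [el1_val]; simp [mats]) f hf
    · exact rep_inClass goodF4 tabOk two sqrtF rep2.1 rep2.2 (by decide) (by decide) (by rw [el2_val]; simp [mats]) f hf
    · exact rep_inClass goodF4 tabOk two sqrtF rep3.1 rep3.2 (by decide) (by decide) (by rw [el3_val]; simp [mats]) f hf

theorem classify_all [Fintype F] [CharP F 2] {g : GL chevF4.Idx F} (hg : g ∈ chevF4.group F)
    (ho : orderOf g = 2) : ∃ y ∈ chevF4.group F, (y : Matrix chevF4.Idx chevF4.Idx F) ∈ mats F ∧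
      ∃ h ∈ chevF4.group F, h * g * h⁻¹ = y :=
  group_classify goodF4 tabOk two
    (fun _ hu hs => classify setting certF4 1465 1464 (by norm_num) nodes root_ok hu hs)
    hg ho

theorem rank0 [CharP F 2] : ((el F [23]).val - 1).rank = 16 := by
  have h := rank_sub_one (K := F) goodF4 two rankF4_0
  rw [el0_val]
  simpa [castWord, ChevalleyDatum.wordMat, mul_assoc] using h

theorem rank1 [CharP F 2] : ((el F [20]).val - 1).rank = 16 := by
  have h := rank_sub_one (K := F) goodF4 two rankF4_1
  rw [el1_val]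
  simpa [castWord, ChevalleyDatum.wordMat, mul_assoc] using h

theorem rank2 [CharP F 2] : ((el F [23, 20]).val - 1).rank = 21 := by
  have h := rank_sub_one (K := F) goodF4 two rankF4_2
  rw [el2_val]
  simpa [castWord, ChevalleyDatum.wordMat, mul_assoc] using h

theorem rank3 [CharP F 2] : ((el F [15, 21]).val - 1).rank = 24 := by
  have h := rank_sub_one (K := F) goodF4 two rankF4_3
  rw [el3_val]
  simpa [castWord, ChevalleyDatum.wordMat, mul_assoc] using h

theorem central : chkCentral chevF4 tbF4 23 = true ∧ chkCentral chevF4 tbF4 20 = true ∧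
    chkInvariant chevF4 tabF4 261691415953527 = true ∧
    (261691415953527 : ℕ).testBit (npos chevF4 + 23) ≠
      (261691415953527 : ℕ).testBit (npos chevF4 + 20) := by decide +kernel

theorem long_short [CharP F 2] :
    ¬ ∃ h ∈ chevF4.group F, h * el F [23] * h⁻¹ = el F [20] := by
  have e : ∀ i : ℕ, el F [i] = Xr goodF4 i (1 : F) := fun i => by simp [repEl]
  rw [e, e]
  exact not_conj_of_length goodF4 tabOk two central.1 central.2.1 central.2.2.1 central.2.2.2

theorem distinct [CharP F 2] {y₁ y₂ : GL chevF4.Idx F}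
    (h₁ : (y₁ : Matrix chevF4.Idx chevF4.Idx F) ∈ mats F)
    (h₂ : (y₂ : Matrix chevF4.Idx chevF4.Idx F) ∈ mats F)
    (hc : ∃ h ∈ chevF4.group F, h * y₁ * h⁻¹ = y₂) : y₁ = y₂ := by
  obtain ⟨h, hh, e⟩ := hc
  have hr := rank_conj h y₁
  rw [e] at hr
  have ls : ∀ y y' : GL chevF4.Idx F, y = el F [23] → y' = el F [20] →
      ¬ (h * y * h⁻¹ = y' ∨ h * y' * h⁻¹ = y) := by
    rintro _ _ rfl rfl (e' | e')
    · exact long_short ⟨h, hh, e'⟩
    · exact long_short ⟨h⁻¹, inv_mem hh, by rw [← e']; group⟩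
  rcases mem_cases h₁ with rfl | rfl | rfl | rfl <;> rcases mem_cases h₂ with rfl | rfl | rfl | rfl <;>
    first
      | rfl
      | (exfalso; simp only [rank0, rank1, rank2, rank3] at hr; omega)
      | exact absurd (Or.inl e) (ls _ _ rfl rfl)
      | exact absurd (Or.inr e) (ls _ _ rfl rfl)

end Cfsg.Agent.Lib.RankOne.InvolTwo.F4
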