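import Cfsg.Agent.Lib.RankOne.InvolSound

/-!
From a certificate to the involution classes of the whole group, and invariants that separate the
representatives: the rank of `y - 1` and the length of a central root.
-/

set_option autoImplicit false
set_option linter.unusedSectionVars false

namespace Cfsg.Agent.Lib.RankOne.InvolTwo

open Cfsg.Lie Cfsg.Agent.Lib.Chev Cfsg.Agent.Lib.Chev.Tw
open scoped Matrix

variable {D : ChevalleyDatum} {T : Tables} {K : Type*} [Field K]

/-- Extend a checked range of nodes by a block. -/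
theorem cover {f : ℕ → Bool} {st m : ℕ} (h : ∀ id < st, f id = true)
    (h' : allLt m (fun i => f (st + i)) = true) : ∀ id < st + m, f id = true := by
  intro id hid
  by_cases hlt : id < st
  · exact h id hlt
  · have := allLt_eq_true h' (id - st) (by omega)
    rwa [show st + (id - st) = id by omega] at this

/-- Conjugate to one of the listed matrices, or trivial. -/
def InClass (D : ChevalleyDatum) (l : List (Matrix D.Idx D.Idx K)) (u : GL D.Idx K) : Prop :=
  u = 1 ∨ ∃ y ∈ D.group K, (y : Matrix D.Idx D.Idx K) ∈ l ∧ ∃ h ∈ D.group K, h * u * h⁻¹ = y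

theorem InClass.of_conj {l : List (Matrix D.Idx D.Idx K)} (h : GL D.Idx K) (hh : h ∈ D.group K)
    (u : GL D.Idx K) (hu : InClass D l (h * u * h⁻¹)) : InClass D l u := by
  rcases hu with e | ⟨y, hy, hm, k, hk, e⟩
  · left
    calc u = h⁻¹ * (h * u * h⁻¹) * h := by group
      _ = 1 := by rw [e]; group
  · exact Or.inr ⟨y, hy, hm, k * h, mul_mem hk hh, by rw [← e]; group⟩

/-- A diagonal element can scale the listed coefficients. -/
def chkScale (D : ChevalleyDatum) (T : Tables) : List (ℕ × ℕ) → Bool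
  | [] => true
  | (i, b) :: rest =>
    decide (b < D.nroots) && decide (i < npos D) &&
      (isum D.rank (fun j => T.c b j * T.A j (npos D + i)) == 1 ||
        isum D.rank (fun j => T.c b j * T.A j (npos D + i)) == -1 ||
        isum D.rank (fun j => T.c b j * T.A j (npos D + i)) == 2 ||
        isum D.rank (fun j => T.c b j * T.A j (npos D + i)) == -2) &&
      rest.all (fun q => isum D.rank (fun j => T.c b j * T.A j (npos D + q.1)) == 0) &&
      chkScale D T rest

section
variable (G : Good D T)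
include G

theorem scale (hsq : ∀ a : K, ∃ b, b ^ 2 = a) : ∀ (st : List (ℕ × ℕ)), chkScale D T st = true →
    ∀ f : ℕ → K, (∀ q ∈ st, f q.1 ≠ 0) → ∃ h ∈ D.group K, ∃ f' : ℕ → K,
      h * Ok G (npos D) f * h⁻¹ = Ok G (npos D) f' ∧ (∀ q ∈ st, f' q.1 = 1) ∧
      (∀ i, f i = 0 → f' i = 0) ∧ (∀ i, f i ≠ 0 → f' i ≠ 0) := by
  intro st
  induction st with
  | nil =>
    intro _ f _
    exact ⟨1, one_mem _, f, by group, by simp, fun _ h => h, fun _ h => h⟩
  | cons q st ih =>
    obtain ⟨i, b⟩ := q
    intro hchk f hf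
    simp only [chkScale, Bool.and_eq_true, decide_eq_true_eq, List.all_eq_true, beq_iff_eq,
      Bool.or_eq_true] at hchk
    obtain ⟨⟨⟨⟨hb, hi⟩, hpi⟩, hrest⟩, hst⟩ := hchk
    obtain ⟨h, hh, f', e, h1, h0, hne⟩ := ih hst f fun q hq => hf q (List.mem_cons_of_mem _ hq)
    have hP : ∀ r, isum D.rank (fun j => T.c b j * T.A j r) = Chev.P D T b r := fun r => by
      rw [isum_eq]; rfl
    simp only [hP] at hpi hrest
    have ha : f' i ≠ 0 := hne i (hf (i, b) List.mem_cons_self)
    obtain ⟨c, hc0, hc⟩ : ∃ c : K, c ≠ 0 ∧ c ^ Chev.P D T b (npos D + i) * f' i = 1 := by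
      obtain ⟨r, hr⟩ := hsq (f' i)
      have hr0 : r ≠ 0 := fun e => ha (by rw [← hr, e]; ring)
      rcases hpi with ((e | e) | e) | e <;> rw [e]
      · exact ⟨(f' i)⁻¹, inv_ne_zero ha, by rw [zpow_one, inv_mul_cancel₀ ha]⟩
      · exact ⟨f' i, ha, by rw [zpow_neg_one, inv_mul_cancel₀ ha]⟩
      · exact ⟨r⁻¹, inv_ne_zero hr0, by
          rw [zpow_ofNat, inv_pow, hr, inv_mul_cancel₀ ha]⟩
      · exact ⟨r, hr0, by
          rw [zpow_neg, zpow_ofNat, hr, inv_mul_cancel₀ ha]⟩
    let f'' : ℕ → K := fun j => c ^ Chev.P D T b (npos D + j) * f' j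
    have e2 : G.Hg K b c * Ok G (npos D) f' * (G.Hg K b c)⁻¹ = Ok G (npos D) f'' := by
      show MulAut.conj (G.Hg K b c) (Ok G (npos D) f') = _
      rw [Ok, map_list_prod, List.map_map]
      refine congrArg List.prod (List.map_congr_left fun j hj => ?_)
      have hj' := List.mem_range.1 hj
      simp only [Function.comp_apply, MulAut.conj_apply]
      rw [Xr_of_lt G hj', Xr_of_lt G hj', G.Hg_conj_X hb (add_npos_lt G hj') hc0]
    refine ⟨G.Hg K b c * h, mul_mem (G.Hg_mem_group hb c) hh, f'', ?_, ?_, ?_, ?_⟩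
    · rw [← e2, ← e]; group
    · intro q hq
      rcases List.mem_cons.1 hq with rfl | hq
      · exact hc
      · show c ^ Chev.P D T b (npos D + q.1) * f' q.1 = 1
        rw [hrest q hq, zpow_zero, one_mul, h1 q hq]
    · intro j hj
      show _ * f' j = 0
      rw [h0 j hj, mul_zero]
    · intro j hj
      exact mul_ne_zero (zpow_ne_zero _ hc0) (hne j hj)

/-- The product of the listed root elements with parameter one. -/
def repEl (L : List ℕ) : GL D.Idx K := (L.map fun i => Xr G i (1 : K)).prod

theorem repEl_mem (L : List ℕ) : repEl (K := K) G L ∈ D.group K :=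
  list_prod_mem fun z hz => by
    obtain ⟨i, -, rfl⟩ := List.mem_map.1 hz
    exact Xr_mem_group G i _

/-- The listed roots commute, are distinct and form the given set. -/
def chkRepList (D : ChevalleyDatum) (tb : BT) (R : ℕ) (L : List ℕ) : Bool :=
  L.isPerm ((List.range (npos D)).filter fun i => R.testBit i) &&
    L.all (fun i => L.all fun j => i == j || tm tb i j == [])

variable {tb : BT} (htb : chkTab D T tb = true) (h2 : (2 : K) = 0)
include htb h2

theorem repEl_eq {R : ℕ} {L : List ℕ} (h : chkRepList D tb R L = true) (f : ℕ → K)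
    (h1 : ∀ i < npos D, R.testBit i = true → f i = 1)
    (h0 : ∀ i < npos D, R.testBit i = false → f i = 0) :
    Ok G (npos D) f = repEl G L := by
  simp only [chkRepList, Bool.and_eq_true, List.isPerm_iff, List.all_eq_true, Bool.or_eq_true,
    beq_iff_eq] at h
  obtain ⟨hp, hcm⟩ := h
  rw [Ok, Good'.prod_map_filter (fun i => R.testBit i) (fun i => Xr G i (f i)) _ fun i hi e => by
    rw [h0 i (List.mem_range.1 hi) e, Xr_zero], repEl]
  have hlt : ∀ i ∈ L, i < npos D ∧ R.testBit i = true := fun i hi => by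
    simpa using hp.mem_iff.1 hi
  rw [List.map_congr_left (g := fun i => Xr G i (1 : K)) fun i hi => by
    rw [h1 i (List.mem_range.1 (List.mem_filter.1 hi).1) (List.mem_filter.1 hi).2]]
  refine ((hp.map _).prod_eq' (List.pairwise_of_forall_mem_list ?_)).symm
  intro a ha b hb
  obtain ⟨i, hi, rfl⟩ := List.mem_map.1 ha
  obtain ⟨j, hj, rfl⟩ := List.mem_map.1 hb
  exact commute_Xr h2 htb (hlt i hi).1 (hlt j hj).1 (hcm i hi j hj) _ _

theorem repEl_sq {R : ℕ} {L : List ℕ} (h : chkRepList D tb R L = true) :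
    repEl (K := K) G L * repEl G L = 1 := by
  simp only [chkRepList, Bool.and_eq_true, List.isPerm_iff, List.all_eq_true, Bool.or_eq_true,
    beq_iff_eq] at h
  obtain ⟨hp, hcm⟩ := h
  have hlt : ∀ i ∈ L, i < npos D := fun i hi => by
    have := hp.mem_iff.1 hi
    simp only [List.mem_filter, List.mem_range] at this
    exact this.1
  have key : ∀ M : List ℕ, (∀ i ∈ M, i ∈ L) → repEl (K := K) G M * repEl G M = 1 := by
    intro M
    induction M with
    | nil => intro _; simp [repEl]
    | cons i M ih =>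
      intro hM
      have hc : Commute (Xr G i (1 : K)) (repEl G M) := by
        refine Commute.list_prod_right _ _ fun z hz => ?_
        obtain ⟨j, hj, rfl⟩ := List.mem_map.1 hz
        have hi' := hM i List.mem_cons_self
        have hj' := hM j (List.mem_cons_of_mem _ hj)
        exact commute_Xr h2 htb (hlt i hi') (hlt j hj') (hcm i hi' j hj') _ _
      have e : repEl (K := K) G (i :: M) = Xr G i 1 * repEl G M := by simp [repEl]
      rw [e]
      calc Xr G i (1 : K) * repEl G M * (Xr G i 1 * repEl G M)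
          = Xr G i (1 : K) * (repEl G M * Xr G i 1) * repEl G M := by group
        _ = Xr G i (1 : K) * (Xr G i 1 * repEl G M) * repEl G M := by rw [hc.eq]
        _ = (Xr G i (1 : K) * Xr G i 1) * (repEl G M * repEl G M) := by group
        _ = 1 := by
          rw [ih fun j hj => hM j (List.mem_cons_of_mem _ hj), Xr_add,
            show (1 : K) + 1 = 0 by linear_combination h2, Xr_zero, one_mul]
  exact key L fun i hi => hi

theorem orderOf_repEl {R : ℕ} {L : List ℕ} (h : chkRepList D tb R L = true) {i : ℕ} (hi : i ∈ L) :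
    orderOf (repEl (K := K) G L) = 2 := by
  refine orderOf_eq_prime (by rw [pow_two, repEl_sq G htb h2 h]) fun e => ?_
  have hi' : i < npos D ∧ R.testBit i = true := by
    simp only [chkRepList, Bool.and_eq_true, List.isPerm_iff] at h
    simpa using h.1.mem_iff.1 hi
  let f : ℕ → K := fun j => if R.testBit j then 1 else 0
  rw [← repEl_eq G htb h2 h f (fun j _ e' => by simp [f, e']) (fun j _ e' => by simp [f, e']),
    ← Ok_zero_fun G (npos D)] at e
  have := Ok_inj G (g := i) (Eqv.rfl' G e) hi'.1 le_rfl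
  simp [f, hi'.2] at this

theorem rep_inClass (hsq : ∀ a : K, ∃ b, b ^ 2 = a) {R : ℕ} {L : List ℕ} {st : List (ℕ × ℕ)}
    (h : chkRepList D tb R L = true) (hst : chkScale D T st = true)
    (hcov : L.all (fun i => (st.map Prod.fst).contains i) = true)
    (hsub : st.all (fun q => L.contains q.1) = true) {l : List (Matrix D.Idx D.Idx K)}
    (hl : (repEl G L : GL D.Idx K).val ∈ l) (f : ℕ → K)
    (hf : ∀ i < npos D, R.testBit i = true ↔ f i ≠ 0) : InClass D l (Ok G (npos D) f) := by
  have hmem : ∀ i, i ∈ L ↔ i < npos D ∧ R.testBit i = true := fun i => by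
    simp only [chkRepList, Bool.and_eq_true, List.isPerm_iff] at h
    simpa using h.1.mem_iff (a := i)
  simp only [List.all_eq_true, List.contains_iff_mem] at hcov hsub
  obtain ⟨k, hk, f', e, h1, h0, -⟩ := scale G hsq st hst f fun q hq => by
    obtain ⟨a, b⟩ := (hmem q.1).1 (hsub q hq)
    exact (hf _ a).1 b
  refine Or.inr ⟨_, repEl_mem G L, hl, k, hk, ?_⟩
  rw [e]
  refine repEl_eq G htb h2 h f' (fun i hi hR => ?_) fun i hi hR => ?_
  · obtain ⟨q, hq, rfl⟩ := List.mem_map.1 (hcov i ((hmem i).2 ⟨hi, hR⟩))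
    exact h1 q hq
  · refine h0 i ?_
    by_contra hne
    rw [(hf i hi).2 hne] at hR
    cases hR

/-- Every involution of the group lies in one of the listed classes. -/
theorem group_classify [Fintype K] [CharP K 2] {l : List (Matrix D.Idx D.Idx K)}
    (hu : ∀ u ∈ D.posUnipotent K, u * u = 1 → InClass D l u) {g : GL D.Idx K}
    (hg : g ∈ D.group K) (ho : orderOf g = 2) :
    ∃ y ∈ D.group K, (y : Matrix D.Idx D.Idx K) ∈ l ∧ ∃ h ∈ D.group K, h * g * h⁻¹ = y := by
  haveI : Fact (Nat.Prime 2) := ⟨Nat.prime_two⟩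
  obtain ⟨P, hP⟩ := G.exists_sylow (F := K) 2
  have hg2 : g * g = 1 := by rw [← pow_two, ← ho, pow_orderOf_eq_one]
  have hp : IsPGroup 2 (Subgroup.zpowers (⟨g, hg⟩ : ↥(D.group K))) :=
    IsPGroup.of_card (n := 1) (by rw [Nat.card_zpowers, ← Subgroup.orderOf_coe, pow_one]; exact ho)
  obtain ⟨Q, hQ⟩ := hp.exists_le_sylow
  obtain ⟨a, ha⟩ := MulAction.exists_smul_eq ↥(D.group K) Q P
  have hmem : (a : GL D.Idx K) * g * (a : GL D.Idx K)⁻¹ ∈ D.posUnipotent K := by
    have h1 : a * ⟨g, hg⟩ * a⁻¹ ∈ (P : Subgroup ↥(D.group K)) := by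
      rw [← ha, Sylow.smul_def]
      exact ⟨⟨g, hg⟩, hQ (Subgroup.mem_zpowers _), rfl⟩
    rw [hP] at h1
    exact h1
  have hsq : (a : GL D.Idx K) * g * (a : GL D.Idx K)⁻¹ * ((a : GL D.Idx K) * g * (a : GL D.Idx K)⁻¹) = 1 := by
    rw [show (a : GL D.Idx K) * g * (a : GL D.Idx K)⁻¹ * ((a : GL D.Idx K) * g * (a : GL D.Idx K)⁻¹)
      = (a : GL D.Idx K) * (g * g) * (a : GL D.Idx K)⁻¹ by group, hg2, mul_one, mul_inv_cancel]
  rcases InClass.of_conj _ a.2 g (hu _ hmem hsq) with e | h
  · rw [e, orderOf_one] at ho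
    norm_num at ho
  · exact h

end

/-! ### Length of a root that is central in the positive unipotent group -/

/-- The root is central and the set is invariant under the fundamental reflections. -/
def chkCentral (D : ChevalleyDatum) (tb : BT) (i : ℕ) : Bool :=
  decide (i < npos D) && allLt (npos D) fun j => j == i || tm tb j i == []

def chkInvariant (D : ChevalleyDatum) (T : Tables) (Lg : ℕ) : Bool :=
  allLt D.rank fun i => allLt D.nroots fun r => Lg.testBit (T.w i r) == Lg.testBit r

theorem testBit_wl {Lg : ℕ} (G : Good D T) (h : chkInvariant D T Lg = true) :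
    ∀ {l : List ℕ}, IsW D l → ∀ {r : ℕ}, r < D.nroots → Lg.testBit (wl T l r) = Lg.testBit r
  | [], _, _, _ => rfl
  | i :: l, hl, r, hr => by
    show Lg.testBit (T.w i (wl T l r)) = _
    have := allLt_eq_true (allLt_eq_true h i hl.tail.1) _ (G.wl_lt hl.tail.2 hr)
    rw [beq_iff_eq] at this
    rw [this, testBit_wl G h hl.tail.2 hr]

theorem central_commute (G : Good D T) {tb : BT} (htb : chkTab D T tb = true) (h2 : (2 : K) = 0)
    {i : ℕ} (h : chkCentral D tb i = true) (t : K) {u : GL D.Idx K}
    (hu : u ∈ D.posUnipotent K) : Commute u (Xr G i t) := by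
  simp only [chkCentral, Bool.and_eq_true, decide_eq_true_eq] at h
  obtain ⟨hi, hc⟩ := h
  have hle : D.posUnipotent K ≤ Subgroup.centralizer {Xr G i t} := by
    refine G.posUnipotent_le_of fun r hr hp s => Subgroup.mem_centralizer_singleton_iff.2 ?_
    have he := G.even_n
    have hr' : r - npos D < npos D := by omega
    have hj := allLt_eq_true hc (r - npos D) hr'
    simp only [Bool.or_eq_true, beq_iff_eq] at hj
    have := (commute_Xr (G := G) h2 htb hr' hi hj s t).eq
    rw [Xr_of_lt G hr', show npos D + (r - npos D) = r by omega] at this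
    exact this
  exact Subgroup.mem_centralizer_singleton_iff.1 (hle hu)

theorem not_conj_of_length (G : Good D T) {tb : BT} (htb : chkTab D T tb = true) (h2 : (2 : K) = 0)
    {i j : ℕ} (hi : chkCentral D tb i = true) (hj : chkCentral D tb j = true) {Lg : ℕ}
    (hL : chkInvariant D T Lg = true) (hne : Lg.testBit (npos D + i) ≠ Lg.testBit (npos D + j)) :
    ¬ ∃ h ∈ D.group K, h * Xr G i (1 : K) * h⁻¹ = Xr G j 1 := by
  rintro ⟨h, hh, e⟩
  obtain ⟨b, hb, n, l, hl, u, hu, rfl⟩ := G.exists_normal_form hh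
  have hu' := central_commute G htb h2 hi (1 : K) (G.USub_le_pos _ hu)
  have hi' : i < npos D := by
    simp only [chkCentral, Bool.and_eq_true, decide_eq_true_eq] at hi; exact hi.1
  have hj' : j < npos D := by
    simp only [chkCentral, Bool.and_eq_true, decide_eq_true_eq] at hj; exact hj.1
  have hiN := add_npos_lt G hi'
  have hjN := add_npos_lt G hj'
  obtain ⟨hlt, c, hc, hact⟩ := G.rep_act hl _ hiN
  have e1 : n * Xr G i (1 : K) * n⁻¹ = b⁻¹ * Xr G j 1 * b := by
    rw [← e]
    calc n * Xr G i (1 : K) * n⁻¹ = n * (Xr G i 1 * (u * u⁻¹)) * n⁻¹ := by group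
      _ = n * (Xr G i 1 * u * u⁻¹) * n⁻¹ := by group
      _ = n * (u * Xr G i 1 * u⁻¹) * n⁻¹ := by rw [← hu'.eq]
      _ = _ := by group
  obtain ⟨v, hv, d, hd, rfl⟩ := G.mem_borel.1 hb
  obtain ⟨-, c', hc', hd'⟩ := G.act_diag (inv_mem hd) (npos D + j) hjN
  have hvc := central_commute G htb h2 hj (1 : K) hv
  have e2 : (v * d)⁻¹ * Xr G j (1 : K) * (v * d) = d⁻¹ * Xr G j 1 * d := by
    calc (v * d)⁻¹ * Xr G j (1 : K) * (v * d) = d⁻¹ * (v⁻¹ * (Xr G j 1 * v)) * d := by group
      _ = d⁻¹ * (v⁻¹ * (v * Xr G j 1)) * d := by rw [hvc.eq]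
      _ = _ := by group
  rw [e2, Xr_of_lt G hi', Xr_of_lt G hj', hact] at e1
  have e3 := hd' (1 : K)
  rw [inv_inv] at e3
  rw [e3] at e1
  have := G.X_root_inj hlt hjN (by simp [hc]) e1
  exact hne (by rw [← this, testBit_wl G hL hl.1 hiN])

/-! ### Ranks over the field with two elements -/

/-- The bit of a number as an element of the field. -/
def bK (K : Type*) [Field K] (x j : ℕ) : K := if x.testBit j then 1 else 0

theorem bK_xor (h2 : (2 : K) = 0) (x y j : ℕ) : bK K (x ^^^ y) j = bK K x j + bK K y j := by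
  unfold bK
  rw [Nat.testBit_xor]
  cases x.testBit j <;> cases y.testBit j <;> simp
  linear_combination -h2

/-- The sum of the rows selected by the bits of `x`. -/
def comb (B : List ℕ) (x : ℕ) : ℕ → ℕ
  | 0 => 0
  | k + 1 => comb B x k ^^^ (if x.testBit k then nthNat B k else 0)

theorem bK_comb (h2 : (2 : K) = 0) (B : List ℕ) (x j : ℕ) : ∀ k,
    bK K (comb B x k) j = ∑ a ∈ Finset.range k, bK K x a * bK K (nthNat B a) j
  | 0 => by simp [comb, bK]
  | k + 1 => by
    rw [comb, bK_xor h2, bK_comb h2 B x j k, Finset.sum_range_succ]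
    congr 1
    by_cases h : x.testBit k <;> simp [bK, h]

/-- A column of the word agrees with the matrix plus one. -/
def chkCol (M : List ℕ) (b : ℕ) (m : ℕ) (v : List (ℕ × ℤ)) : Bool :=
  allLt m fun a => coef v a % 2 == if ((nthNat M a).testBit b != (a == b)) then 1 else 0

/-- A certificate for the rank modulo two of a word minus one. -/
def chkRank (D : ChevalleyDatum) (T : Tables) (w : List (ℕ × ℤ)) (k : ℕ) (M B C P : List ℕ) :
    Bool :=
  w.all (fun c => decide (c.1 < D.nroots)) &&
    allLt (D.nroots + D.rank) (fun b =>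
      chkCol M b (D.nroots + D.rank) (applyWordMod D T 2 w [(b, 1)])) &&
    allLt (D.nroots + D.rank) (fun a => allLt (D.nroots + D.rank) fun b =>
      (comb C (nthNat B a) k).testBit b == (nthNat M a).testBit b) &&
    allLt k (fun i => allLt k fun j =>
      (comb B (nthNat P i) (D.nroots + D.rank)).testBit j == (i == j)) &&
    allLt k (fun i => allLt k fun j =>
      (nthNat C i).testBit (nthNat (pivots C k) j) == (i == j) &&
        decide (nthNat (pivots C k) j < D.nroots + D.rank))
where
  /-- The lowest bits of the rows. -/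
  pivots (C : List ℕ) (k : ℕ) : List ℕ :=
    (List.range k).map fun i => Nat.log2 (nthNat C i)

theorem cd_inj {x y : D.Idx} (h : cd D x = cd D y) : x = y := by
  rcases x with i | r <;> rcases y with i' | r' <;> simp only [cd, Sum.elim_inl, Sum.elim_inr] at h
  · exact congrArg Sum.inl (Fin.ext (by omega))
  · have := r'.isLt; omega
  · have := r.isLt; omega
  · exact congrArg Sum.inr (Fin.ext h)

theorem rank_sub_one (G : Good D T) (h2 : (2 : K) = 0) {w : List (ℕ × ℤ)} {k : ℕ}
    {M B C P : List ℕ} (h : chkRank D T w k M B C P = true) :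
    (D.wordMat K (castWord K w) - 1).rank = k := by
  simp only [chkRank, Bool.and_eq_true, List.all_eq_true, decide_eq_true_eq] at h
  obtain ⟨⟨⟨⟨hw, hcol⟩, hBC⟩, hPB⟩, hC⟩ := h
  set m := D.nroots + D.rank
  have hp : ((2 : ℕ) : K) = 0 := by exact_mod_cast h2
  have hentry : ∀ x y : D.Idx,
      (D.wordMat K (castWord K w) - 1) x y = bK K (nthNat M (cd D x)) (cd D y) := by
    intro x y
    have hy := cd_lt y
    have hr : InRange D [(cd D y, 1)] := fun q hq => by simp at hq; subst hq; exact hy
    have e := (Good'.applyWordMod_spec G hp w hw _ hr).2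
    rw [vecOf_singleton, Int.cast_one, one_smul] at e
    rw [Matrix.sub_apply, entry_eq (D.wordMat K (castWord K w)), ← e, vecOf_apply,
      ← Good.cast_emod K hp, Nat.cast_ofNat]
    have hc := allLt_eq_true (allLt_eq_true hcol _ hy) _ (cd_lt x)
    rw [beq_iff_eq] at hc
    rw [hc]
    have hxy : (cd D x == cd D y) = decide (x = y) := by
      by_cases hxy : x = y
      · simp [hxy]
      · have : cd D x ≠ cd D y := fun e' => hxy (cd_inj e')
        simp [hxy, this]
    rw [hxy, Matrix.one_apply]
    unfold bK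
    by_cases hxy' : x = y <;> cases (nthNat M (cd D x)).testBit (cd D y) <;> simp [hxy']
    linear_combination -h2
  let e : D.Idx ≃ Fin m := Equiv.ofBijective (fun x => ⟨cd D x, cd_lt x⟩)
    ((Fintype.bijective_iff_injective_and_card _).2 ⟨fun a b hab => cd_inj (congrArg Fin.val hab),
      by simp [ChevalleyDatum.Idx, m, add_comm]⟩)
  let MM : Matrix (Fin m) (Fin m) K := Matrix.of fun a b => bK K (nthNat M a) b
  let BB : Matrix (Fin m) (Fin k) K := Matrix.of fun a j => bK K (nthNat B a) j
  let CC : Matrix (Fin k) (Fin m) K := Matrix.of fun j b => bK K (nthNat C j) b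
  let PP : Matrix (Fin k) (Fin m) K := Matrix.of fun i a => bK K (nthNat P i) a
  have hpiv : ∀ j : Fin k, nthNat (chkRank.pivots C k) j < m := fun j =>
    (by
      have := allLt_eq_true (allLt_eq_true hC j j.2) j j.2
      simp only [Bool.and_eq_true, decide_eq_true_eq] at this
      exact this.2)
  let QQ : Matrix (Fin m) (Fin k) K :=
    Matrix.of fun b j => if b.val = nthNat (chkRank.pivots C k) j then 1 else 0
  have e1 : MM = BB * CC := by
    ext a b
    have := allLt_eq_true (allLt_eq_true hBC a a.2) b b.2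
    rw [beq_iff_eq] at this
    simp only [MM, BB, CC, Matrix.mul_apply, Matrix.of_apply]
    rw [Fin.sum_univ_eq_sum_range (fun j => bK K (nthNat B a) j * bK K (nthNat C j) b),
      ← bK_comb h2]
    unfold bK
    rw [this]
  have e2 : PP * BB = 1 := by
    ext i j
    have := allLt_eq_true (allLt_eq_true hPB i i.2) j j.2
    rw [beq_iff_eq] at this
    simp only [PP, BB, Matrix.mul_apply, Matrix.of_apply]
    rw [Fin.sum_univ_eq_sum_range (fun a => bK K (nthNat P i) a * bK K (nthNat B a) j),
      ← bK_comb h2]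
    unfold bK
    rw [this, Matrix.one_apply]
    simp [Fin.ext_iff]
  have e3 : CC * QQ = 1 := by
    ext i j
    have := allLt_eq_true (allLt_eq_true hC i i.2) j j.2
    simp only [Bool.and_eq_true, beq_iff_eq] at this
    simp only [CC, QQ, Matrix.mul_apply, Matrix.of_apply]
    rw [Finset.sum_eq_single (⟨_, hpiv j⟩ : Fin m) (fun b _ hb => by
      rw [if_neg (fun e' => hb (Fin.ext e')), mul_zero]) (fun h' => absurd (Finset.mem_univ _) h')]
    simp only [if_true, mul_one]
    unfold bK
    rw [this.1, Matrix.one_apply]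
    simp [Fin.ext_iff]
  have hMM : (D.wordMat K (castWord K w) - 1) = MM.submatrix e e := by
    ext x y
    rw [hentry x y]
    rfl
  rw [hMM, Matrix.rank_submatrix]
  refine le_antisymm ?_ ?_
  · rw [e1]
    exact (Matrix.rank_mul_le_left _ _).trans ((Matrix.rank_le_card_width _).trans_eq (by simp))
  · have : (1 : Matrix (Fin k) (Fin k) K).rank ≤ MM.rank := by
      rw [show (1 : Matrix (Fin k) (Fin k) K) = PP * MM * QQ by
        rw [e1, ← Matrix.mul_assoc PP, e2, Matrix.one_mul, e3]]
      exact (Matrix.rank_mul_le_left _ _).trans (Matrix.rank_mul_le_right _ _)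
    rwa [Matrix.rank_one, Fintype.card_fin] at this

/-- Conjugate elements have equal ranks of the difference with one. -/
theorem rank_conj {n : Type*} [Fintype n] [DecidableEq n] (h y : GL n K) :
    ((((h * y * h⁻¹ : GL n K)) : Matrix n n K) - 1).rank = ((y : Matrix n n K) - 1).rank := by
  have e : (((h * y * h⁻¹ : GL n K)) : Matrix n n K) - 1 =
      (h : Matrix n n K) * ((y : Matrix n n K) - 1) * ((h⁻¹ : GL n K) : Matrix n n K) := by
    rw [Matrix.mul_sub, Matrix.sub_mul, Matrix.mul_one, Units.val_mul, Units.val_mul, Units.mul_inv]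
  rw [e, Matrix.rank_mul_eq_left_of_isUnit_det, Matrix.rank_mul_eq_right_of_isUnit_det]
  · exact (Matrix.isUnit_iff_isUnit_det _).1 h.isUnit
  · exact (Matrix.isUnit_iff_isUnit_det _).1 (h⁻¹).isUnit

end Cfsg.Agent.Lib.RankOne.InvolTwo
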