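import Cfsg.Agent.Lib.RankOne.InvolFinish
import Cfsg.Agent.Lib.Chev.DataF4

/-!
Ranks of the representatives minus one in type F4 over the field with two elements.
-/

set_option autoImplicit false
set_option maxRecDepth 100000

namespace Cfsg.Agent.Lib.RankOne.InvolTwo

open Cfsg.Lie Cfsg.Agent.Lib.Chev

theorem rankF4_0 : chkRank chevF4 tabF4 [(47, 1)] 16
    [0, 0, 0, 0, 0, 0, 0, 0, 0, 0, 0, 0, 0, 0, 0, 0, 0, 0, 0, 0, 0, 0, 0, 0, 2, 0, 4, 0, 0, 8, 0, 16, 32, 0, 0, 0, 128, 0, 256, 512, 2048, 0, 32768, 65536, 262144, 2097152, 8388608, 2251799813685249, 1, 0, 1, 0]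
    [0, 0, 0, 0, 0, 0, 0, 0, 0, 0, 0, 0, 0, 0, 0, 0, 0, 0, 0, 0, 0, 0, 0, 0, 1, 0, 2, 0, 0, 4, 0, 8, 16, 0, 0, 0, 32, 0, 64, 128, 256, 0, 512, 1024, 2048, 4096, 8192, 49152, 32768, 0, 32768, 0]
    [2, 4, 8, 16, 32, 128, 256, 512, 2048, 32768, 65536, 262144, 2097152, 8388608, 2251799813685248, 1]
    [16777216, 67108864, 536870912, 2147483648, 4294967296, 68719476736, 274877906944, 549755813888, 1099511627776, 4398046511104, 8796093022208, 17592186044416, 35184372088832, 70368744177664, 422212465065984, 281474976710656] = true := by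
  decide +kernel

theorem rankF4_1 : chkRank chevF4 tabF4 [(44, 1)] 16
    [0, 0, 0, 0, 0, 0, 0, 0, 0, 0, 0, 0, 0, 0, 0, 0, 0, 0, 1, 2, 4, 0, 0, 0, 0, 0, 0, 16, 32, 64, 0, 0, 0, 128, 256, 512, 1024, 2048, 4096, 8192, 16384, 1, 2, 4, 281474976710664, 16, 32, 64, 0, 8, 0, 0]
    [0, 0, 0, 0, 0, 0, 0, 0, 0, 0, 0, 0, 0, 0, 0, 0, 0, 0, 1, 2, 4, 0, 0, 0, 0, 0, 0, 8, 16, 32, 0, 0, 0, 64, 128, 256, 512, 1024, 2048, 4096, 8192, 1, 2, 4, 49152, 8, 16, 32, 0, 32768, 0, 0]
    [1, 2, 4, 16, 32, 64, 128, 256, 512, 1024, 2048, 4096, 8192, 16384, 281474976710656, 8]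
    [262144, 524288, 1048576, 134217728, 268435456, 536870912, 8589934592, 17179869184, 34359738368, 68719476736, 137438953472, 274877906944, 549755813888, 1099511627776, 580542139465728, 562949953421312] = true := by
  decide +kernel

theorem rankF4_2 : chkRank chevF4 tabF4 [(47, 1), (44, 1)] 21
    [0, 0, 0, 0, 0, 0, 0, 0, 0, 0, 0, 0, 0, 0, 0, 0, 0, 0, 1, 2, 4, 0, 0, 0, 2, 0, 4, 16, 32, 72, 0, 16, 32, 128, 256, 512, 1152, 2048, 4352, 8704, 18432, 1, 32770, 65540, 281474976972809, 2097168, 8388640, 2251799813685313, 1, 8, 1, 0]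
    [0, 0, 0, 0, 0, 0, 0, 0, 0, 0, 0, 0, 0, 0, 0, 0, 0, 0, 1, 2, 4, 0, 0, 0, 2, 0, 4, 8, 16, 1048608, 0, 8, 16, 64, 128, 256, 576, 1024, 2176, 4352, 9216, 1, 16386, 32772, 1114113, 131080, 262160, 524321, 1, 1048576, 1, 0]
    [1, 2, 4, 16, 32, 64, 128, 256, 512, 1024, 2048, 4096, 8192, 16384, 32768, 65536, 281474976972800, 2097152, 8388608, 2251799813685248, 8]
    [262144, 524288, 1048576, 134217728, 268435456, 562950490292224, 8589934592, 17179869184, 34359738368, 77309411328, 137438953472, 292057776128, 584115552256, 1236950581248, 4398047035392, 8796094070784, 580542139727872, 35184506306560, 70369012613120, 703687978909696, 562949953421312] = true := by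
  decide +kernel

theorem rankF4_3 : chkRank chevF4 tabF4 [(39, 1), (45, 1)] 24
    [0, 0, 0, 0, 0, 0, 0, 0, 0, 1, 2, 0, 0, 8, 16, 0, 0, 0, 0, 0, 128, 1, 2, 0, 0, 1, 2, 8, 2048, 4096, 32, 64, 16, 32768, 128, 262144, 524288, 2097665, 4195330, 1688849860264192, 134225928, 65536, 131072, 32768, 17180917888, 1125899906842628, 35651585, 71303170, 260, 0, 0, 4]
    [0, 0, 0, 0, 0, 0, 0, 0, 0, 1, 2, 0, 0, 4, 8, 0, 0, 0, 0, 0, 16, 1, 2, 0, 0, 1, 2, 4, 32, 64, 128, 256, 8, 512, 16, 1024, 2048, 4097, 8194, 4734976, 32772, 65536, 131072, 512, 262160, 8404992, 1052673, 2105346, 12582912, 0, 0, 8388608]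
    [1, 2, 8, 16, 128, 2048, 4096, 32, 64, 32768, 262144, 524288, 2097664, 4195328, 1125899906842624, 134225920, 65536, 131072, 17180917760, 562949953421312, 33554944, 67109888, 256, 4]
    [512, 1024, 8192, 16384, 1048576, 268435456, 536870912, 1073741824, 2147483648, 8589934592, 34359738368, 68719476736, 137438953984, 274877907968, 2286984185774080, 1099511635968, 2199023255552, 4398046511104, 17592187092992, 317209104613376, 70506183131136, 141012366262272, 2533274790395904, 2251799813685248] = true := by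
  decide +kernel

end Cfsg.Agent.Lib.RankOne.InvolTwo
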