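import Cfsg.Agent.Lib.RankOne.InvolEngine

/-!
The meaning of the collection procedures: collection up to a root is exact modulo the subgroup of
the later roots, in which coordinates up to that root are unique.
-/

set_option autoImplicit false
set_option linter.unusedSectionVars false

namespace Cfsg.Agent.Lib.RankOne.InvolTwo

open Cfsg.Lie Cfsg.Agent.Lib.Chev Cfsg.Agent.Lib.Chev.Tw

variable {D : ChevalleyDatum} {T : Tables} {K : Type*} [Field K] (G : Good D T)

section
include G

/-- A root element by the position of the root among the positive ones. -/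
def Xr (i : ℕ) (t : K) : GL D.Idx K := if i < npos D then G.X K (npos D + i) t else 1

theorem Xr_of_lt {i : ℕ} (h : i < npos D) (t : K) : Xr G i t = G.X K (npos D + i) t := if_pos h

theorem Xr_zero (i : ℕ) : Xr G i (0 : K) = 1 := by
  unfold Xr; split
  · exact G.X_zero _
  · rfl

theorem Xr_add (i : ℕ) (t u : K) : Xr G i t * Xr G i u = Xr G i (t + u) := by
  unfold Xr; split
  · exact G.X_add _ _ _
  · exact one_mul _

theorem add_npos_lt {i : ℕ} (h : i < npos D) : npos D + i < D.nroots := by
  have := G.even_n; omega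

theorem Xr_mem_pos (i : ℕ) (t : K) : Xr G i t ∈ D.posUnipotent K := by
  unfold Xr; split
  · exact G.X_mem_posUnipotent (add_npos_lt G (by assumption)) (by omega) t
  · exact one_mem _

theorem Xr_mem_group (i : ℕ) (t : K) : Xr G i t ∈ D.group K := by
  unfold Xr; split
  · exact G.X_mem_group (add_npos_lt G (by assumption)) t
  · exact one_mem _

theorem Xr_inv (h2 : (2 : K) = 0) (i : ℕ) (t : K) : (Xr G i t)⁻¹ = Xr G i t := by
  refine inv_eq_of_mul_eq_one_right ?_
  rw [Xr_add, show t + t = 0 by linear_combination t * h2, Xr_zero]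

/-- The subgroup of the roots after `g`. -/
def M (g : ℕ) : Subgroup (GL D.Idx K) := G.tailU K (npos D + g + 1)

theorem Xr_mem_M {g i : ℕ} (h : g < i) (t : K) : Xr G i t ∈ M (K := K) G g := by
  unfold Xr; split
  · exact G.X_mem_tail (add_npos_lt G (by assumption)) (by omega) (by omega) t
  · exact one_mem _

theorem M_conj_X {g k : ℕ} (hk : k < D.nroots) (hp : npos D ≤ k) (t : K) {x : GL D.Idx K}
    (hx : x ∈ M G g) : (G.X K k t)⁻¹ * x * G.X K k t ∈ M G g := by
  by_cases hgk : npos D + g + 1 ≤ k
  · exact mul_mem (mul_mem (inv_mem (G.X_mem_tail hk hp hgk t)) hx) (G.X_mem_tail hk hp hgk t)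
  induction hx using Subgroup.closure_induction with
  | mem y hy =>
    obtain ⟨q, u, hq, hpq, hgq, rfl⟩ := hy
    have hne : q ≠ ng D k := by have := G.even_n; unfold ng; omega
    rw [mul_assoc, G.commAt k q hk hq (by omega) hne t u, mul_assoc (G.X K k t),
      inv_mul_cancel_left]
    refine mul_mem (G.X_mem_tail hq hpq hgq u) (G.wordG_mem ?_)
    intro p hp'
    simp only [Good.cw, List.mem_map] at hp'
    obtain ⟨⟨j, C, a, b⟩, hc, rfl⟩ := hp'
    obtain ⟨hj, h1, h2⟩ := G.terms_gt hk hq hp hpq hc
    exact G.X_mem_tail hj (by omega) (by omega) _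
  | one => simp
  | mul y z _ _ hy hz =>
    have := mul_mem hy hz
    convert this using 1
    group
  | inv y _ hy =>
    have := inv_mem hy
    convert this using 1
    group

theorem M_conj {g : ℕ} {c : GL D.Idx K} (hc : c ∈ D.posUnipotent K) {x : GL D.Idx K}
    (hx : x ∈ M G g) : c⁻¹ * x * c ∈ M G g := by
  have h : D.posUnipotent K ≤ Subgroup.normalizer ((M (K := K) G g : Subgroup (GL D.Idx K)) : Set (GL D.Idx K)) := by
    refine G.posUnipotent_le_of fun r hr hp t => Subgroup.mem_normalizer_iff.2 fun y => ⟨fun hy => ?_,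
      fun hy => ?_⟩
    · have := M_conj_X G hr hp (-t) hy
      rwa [← G.X_inv, inv_inv] at this
    · have := M_conj_X G hr hp t hy
      convert this using 1
      group
  have := (Subgroup.mem_normalizer_iff.1 (h (inv_mem hc)) x).1 hx
  rwa [inv_inv] at this

/-- Equality modulo the roots after `g`. -/
def Eqv (g : ℕ) (a b : GL D.Idx K) : Prop := a⁻¹ * b ∈ M G g

theorem Eqv.rfl' {g : ℕ} {a b : GL D.Idx K} (h : a = b) : Eqv G g a b := by
  subst h; simp [Eqv]

theorem Eqv.trans' {g : ℕ} {a b c : GL D.Idx K} (h : Eqv G g a b) (h' : Eqv G g b c) :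
    Eqv G g a c := by
  have := mul_mem h h'
  rwa [show a⁻¹ * b * (b⁻¹ * c) = a⁻¹ * c by group] at this

theorem Eqv.mul_r {g : ℕ} {a b : GL D.Idx K} (h : Eqv G g a b) {c : GL D.Idx K}
    (hc : c ∈ D.posUnipotent K) : Eqv G g (a * c) (b * c) := by
  unfold Eqv
  rw [show (a * c)⁻¹ * (b * c) = c⁻¹ * (a⁻¹ * b) * c by group]
  exact M_conj G hc h

theorem Eqv.of_mul_mem {g : ℕ} {a c : GL D.Idx K} (hc : c ∈ M G g) : Eqv G g a (a * c) := by
  unfold Eqv; rwa [inv_mul_cancel_left]

/-- The product of the first `k` positive root elements with given coefficients. -/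
def Ok (k : ℕ) (f : ℕ → K) : GL D.Idx K := ((List.range k).map fun i => Xr G i (f i)).prod

theorem Ok_succ (k : ℕ) (f : ℕ → K) : Ok G (k + 1) f = Ok G k f * Xr G k (f k) := by
  simp [Ok, List.range_succ]

theorem Ok_congr {k : ℕ} {f f' : ℕ → K} (h : ∀ i < k, f i = f' i) : Ok G k f = Ok G k f' := by
  unfold Ok
  exact congrArg List.prod (List.map_congr_left fun i hi => by rw [h i (List.mem_range.1 hi)])

theorem Ok_zero_fun (k : ℕ) : Ok G k (fun _ => (0 : K)) = 1 := by
  refine List.prod_eq_one fun z hz => ?_
  obtain ⟨i, -, rfl⟩ := List.mem_map.1 hz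
  exact Xr_zero G i

theorem Ok_eq_oprod (f : ℕ → K) :
    Ok G (npos D) f = G.oprod K (npos D) (npos D) fun r => f (r - npos D) := by
  rw [Ok, Good.oprod, Good.wordG, List.range'_eq_map_range, List.map_map, List.map_map]
  refine congrArg List.prod (List.map_congr_left fun i hi => ?_)
  simp [Xr_of_lt G (List.mem_range.1 hi)]

theorem exists_Ok {u : GL D.Idx K} (hu : u ∈ D.posUnipotent K) : ∃ f, u = Ok G (npos D) f := by
  have he := G.even_n
  rw [← G.tail_npos] at hu
  obtain ⟨t, rfl⟩ := G.exists_oprod (npos D) (npos D) le_rfl (by omega) u hu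
  refine ⟨fun i => t (npos D + i), ?_⟩
  rw [Ok_eq_oprod]
  exact G.oprod_congr fun r h1 _ => by rw [show npos D + (r - npos D) = r by omega]

theorem Ok_mem_group (k : ℕ) (f : ℕ → K) : Ok G k f ∈ D.group K :=
  list_prod_mem fun z hz => by
    obtain ⟨i, -, rfl⟩ := List.mem_map.1 hz
    exact Xr_mem_group G i _

theorem oprod_eqv : ∀ (m k h : ℕ), npos D ≤ k → k + m = D.nroots → ∀ t t' : ℕ → K,
    (G.oprod K k m t)⁻¹ * G.oprod K k m t' ∈ G.tailU K h →
      ∀ r, k ≤ r → r < k + m → r < h → t r = t' r := by
  intro m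
  induction m with
  | zero => intro k h _ _ t t' _ r h1 h2; omega
  | succ m ih =>
    intro k h hk hkm t t' hm r h1 h2 h3
    rw [G.oprod_succ, G.oprod_succ] at hm
    set A := G.oprod K (k + 1) m t
    set A' := G.oprod K (k + 1) m t'
    have hA : A ∈ G.tailU K (k + 1) := G.oprod_mem (by omega) (by omega) t
    have hA' : A' ∈ G.tailU K (k + 1) := G.oprod_mem (by omega) (by omega) t'
    have hmono : G.tailU K h ≤ G.tailU K (k + 1) := by
      refine (Subgroup.closure_le _).2 ?_
      rintro g ⟨q, u, hq, hp, hhq, rfl⟩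
      exact G.X_mem_tail hq hp (by omega) u
    have e : G.X K k (t' k - t k) =
        A * ((G.X K k (t k) * A)⁻¹ * (G.X K k (t' k) * A')) * A'⁻¹ := by
      rw [sub_eq_neg_add, ← G.X_add, ← G.X_inv]; group
    have h0 : t k = t' k := (sub_eq_zero.1 (G.X_tail_eq_zero (by omega) hk
      (e ▸ mul_mem (mul_mem hA (hmono hm)) (inv_mem hA')))).symm
    rcases Nat.eq_or_lt_of_le h1 with rfl | hlt
    · exact h0
    · refine ih (k + 1) h (by omega) (by omega) t t' ?_ r hlt (by omega) h3
      rwa [h0, mul_inv_rev, mul_assoc, inv_mul_cancel_left] at hm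

theorem Ok_inj {g : ℕ} {f f' : ℕ → K} (h : Eqv G g (Ok G (npos D) f) (Ok G (npos D) f')) {i : ℕ}
    (hi : i < npos D) (hg : i ≤ g) : f i = f' i := by
  have he := G.even_n
  rw [Ok_eq_oprod, Ok_eq_oprod] at h
  have := oprod_eqv G (npos D) (npos D) (npos D + g + 1) le_rfl (by omega) _ _ h (npos D + i)
    (by omega) (by omega) (by omega)
  simpa using this

/-! ### Words -/

/-- The element of a letter. -/
def lev (v : ℕ → K) (a : ℕ × Poly) : GL D.Idx K := Xr G a.1 (pev v a.2)

/-- The value of a word. -/
def wev (v : ℕ → K) (w : Wd) : GL D.Idx K := (w.map (lev G v)).prod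

theorem wev_append (v : ℕ → K) (w w' : Wd) : wev G v (w ++ w') = wev G v w * wev G v w' := by
  simp [wev]

theorem wev_cons_rev (v : ℕ → K) (a : ℕ × Poly) (w : Wd) :
    wev G v (a :: w).reverse = wev G v w.reverse * lev G v a := by simp [wev]

theorem lev_nil (v : ℕ → K) (r : ℕ) : lev G v (r, []) = 1 := by simp [lev, pev_nil, Xr_zero]

theorem wev_mem_pos (v : ℕ → K) (w : Wd) : wev G v w ∈ D.posUnipotent K :=
  list_prod_mem fun z hz => by
    obtain ⟨a, -, rfl⟩ := List.mem_map.1 hz
    exact Xr_mem_pos G _ _

variable (h2 : (2 : K) = 0) {tb : BT} (htb : chkTab D T tb = true)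
include h2 htb

theorem swap {r s : ℕ} (hr : r < npos D) (hs : s < npos D) (hne : r ≠ s) (t u : K) :
    Xr G s u * Xr G r t = Xr G r t * Xr G s u *
      ((tm tb r s).map fun c => Xr G c.1 (t ^ c.2.1 * u ^ c.2.2)).prod := by
  have he := G.even_n
  rw [Xr_of_lt G hr, Xr_of_lt G hs, G.commAt (npos D + r) (npos D + s) (add_npos_lt G hr)
    (add_npos_lt G hs) (by omega) (by unfold ng; omega) t u]
  congr 1
  have h := allLt_eq_true (allLt_eq_true htb r hr) s hs
  simp only [Bool.or_eq_true, beq_iff_eq, hne, false_or] at h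
  rw [← h, Good.wordG, Good.cw, List.map_map, List.map_map]
  have hp : ((2 : ℕ) : K) = 0 := by exact_mod_cast h2
  rw [Good'.prod_map_filter (fun c : ℕ × ℤ × ℕ × ℕ => !(c.2.1 % 2 == 0)) _ _ (by
    intro c _ hc
    have hc' : c.2.1 % 2 = 0 := by simpa using hc
    simp only [Function.comp_apply]
    rw [← Good.cast_emod K hp c.2.1, Nat.cast_ofNat, hc', Int.cast_zero, zero_mul, zero_mul,
      G.X_zero])]
  refine congrArg List.prod (List.map_congr_left fun c hc => ?_)
  obtain ⟨hc0, hc1⟩ := List.mem_filter.1 hc
  obtain ⟨k, C, a, b⟩ := c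
  obtain ⟨hk, hk1, -⟩ := G.terms_gt (add_npos_lt G hr) (add_npos_lt G hs) (by omega) (by omega) hc0
  have hC : C % 2 = 1 := by
    simp only [Bool.not_eq_true', beq_eq_false_iff_ne, ne_eq] at hc1
    omega
  simp only [Function.comp_apply]
  rw [Xr_of_lt G (show k - npos D < npos D by omega), show npos D + (k - npos D) = k by omega,
    ← Good.cast_emod K hp C, Nat.cast_ofNat, hC, Int.cast_one, one_mul,
    show (-t : K) = t by linear_combination -t * h2]

theorem foldl_push (v : ℕ → K) (g : ℕ) (f : Wd → ℕ × Poly → Wd)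
    (hf : ∀ w a, Eqv G g (wev G v (f w a).reverse) (wev G v w.reverse * lev G v a)) :
    ∀ (l w : Wd), Eqv G g (wev G v (l.foldl f w).reverse) (wev G v w.reverse * wev G v l)
  | [], w => Eqv.rfl' G (by simp [wev])
  | a :: l, w => by
    rw [List.foldl_cons]
    refine (foldl_push v g f hf l (f w a)).trans' G ?_
    refine ((hf w a).mul_r G (wev_mem_pos G v l)).trans' G (Eqv.rfl' G ?_)
    simp [wev, mul_assoc]

theorem push_spec (v : ℕ → K) (g : ℕ) : ∀ (fuel : ℕ) (w : Wd) (a : ℕ × Poly),
    Eqv G g (wev G v (push (npos D) tb g fuel w a).reverse) (wev G v w.reverse * lev G v a) := by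
  have cons : ∀ (w : Wd) (a : ℕ × Poly),
      Eqv G g (wev G v (a :: w).reverse) (wev G v w.reverse * lev G v a) :=
    fun w a => Eqv.rfl' G (wev_cons_rev G v a w)
  have drop : ∀ (w : Wd) (a : ℕ × Poly), g < a.1 ∨ a.2 = [] →
      Eqv G g (wev G v w.reverse) (wev G v w.reverse * lev G v a) := by
    intro w a h
    refine Eqv.of_mul_mem G ?_
    rcases h with h | h
    · exact Xr_mem_M G h _
    · obtain ⟨r, x⟩ := a
      simp only at h
      subst h
      rw [lev_nil]; exact one_mem _
  intro fuel
  induction fuel with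
  | zero => intro w a; exact cons w a
  | succ fuel ih =>
    intro w a
    match w, a with
    | [], a =>
      simp only [push]
      split_ifs with h
      · simp only [Bool.or_eq_true, decide_eq_true_eq, beq_iff_eq] at h
        exact drop [] a h
      · exact cons _ _
    | (s, y) :: w, (r, x) =>
      simp only [push]
      split_ifs with hd hsr hz hk
      · simp only [Bool.or_eq_true, decide_eq_true_eq, beq_iff_eq] at hd
        exact drop _ _ hd
      · rw [beq_iff_eq] at hz
        subst hsr
        refine Eqv.rfl' G ?_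
        rw [wev_cons_rev, mul_assoc, lev, lev, Xr_add, ← pev_padd v h2, hz]
        simp [pev_nil, Xr_zero]
      · subst hsr
        refine Eqv.rfl' G ?_
        rw [wev_cons_rev, wev_cons_rev, mul_assoc, lev, lev, lev, Xr_add, pev_padd v h2]
      · exact cons _ _
      · simp only [Bool.or_eq_true, decide_eq_true_eq, not_or, not_le, not_lt] at hk
        obtain ⟨⟨h1, hr⟩, hs⟩ := hk
        refine (foldl_push G h2 htb v g _ ih _ _).trans' G ?_
        refine ((ih _ (s, y)).mul_r G (wev_mem_pos G v _)).trans' G ?_
        refine (((ih w (r, x)).mul_r G (Xr_mem_pos G s _)).mul_r G (wev_mem_pos G v _)).trans' G ?_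
        refine Eqv.rfl' G ?_
        rw [wev_cons_rev, mul_assoc, mul_assoc, mul_assoc]
        congr 1
        simp only [lev]
        rw [swap G h2 htb hr hs (fun e => hsr e.symm)]
        simp only [mul_assoc]
        congr 2
        simp [wev, List.map_map, lev, Function.comp_def, pev_pmul v h2, pev_ppow v h2]

theorem collect_spec (v : ℕ → K) (g : ℕ) (w : Wd) :
    Eqv G g (wev G v (collect (npos D) tb g w).reverse) (wev G v w) :=
  (foldl_push G h2 htb v g _ (push_spec G h2 htb v g 200) w []).trans' G
    (Eqv.rfl' G (by simp [wev]))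

omit h2 htb

theorem wev_desc (v : ℕ → K) : ∀ (k : ℕ) (w : Wd), descB (w.map Prod.fst) k = true →
    wev G v w.reverse = Ok G k fun i => pev v (look w i) := by
  intro k
  induction k with
  | zero =>
    intro w hw
    cases w with
    | nil => rfl
    | cons a w => simp [descB] at hw
  | succ k ih =>
    intro w hw
    rw [Ok_succ]
    cases w with
    | nil => rw [← ih [] rfl]; simp [look, pev_nil, Xr_zero, wev]
    | cons a w =>
      obtain ⟨s, y⟩ := a
      simp only [List.map_cons, descB, Bool.and_eq_true, decide_eq_true_eq] at hw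
      rcases Nat.lt_succ_iff_lt_or_eq.1 hw.1 with hlt | rfl
      · rw [ih ((s, y) :: w) (by simp [descB, hlt, hw.2])]
        have hnot : ∀ (l : Wd) (b : ℕ), descB (l.map Prod.fst) b = true → b ≤ k → look l k = [] := by
          intro l
          induction l with
          | nil => intros; rfl
          | cons c l ihl =>
            intro b hb hbk
            simp only [List.map_cons, descB, Bool.and_eq_true, decide_eq_true_eq] at hb
            obtain ⟨q, z⟩ := c
            simp only at hb
            rw [look, if_neg (by omega)]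
            exact ihl q hb.2 (by omega)
        rw [look, if_neg (by omega), hnot w s hw.2 (by omega)]
        simp [pev_nil, Xr_zero]
      · rw [wev_cons_rev, ih w hw.2, Ok_congr G (f' := fun i => pev v (look w i))
          (f := fun i => pev v (look ((s, y) :: w) i))]
        · simp [look, lev]
        · intro i hi
          rw [look, if_neg (by omega)]

/-- An element is a product over a reversed list of roots with some coefficients. -/
def RW : List ℕ → GL D.Idx K → Prop
  | [], x => x = 1
  | s :: w, x => ∃ y t, RW w y ∧ x = y * Xr G s t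

include h2 htb

theorem apush_spec : ∀ (fuel : ℕ) (w : List ℕ) (r : ℕ) (y : GL D.Idx K) (t : K), RW G w y →
    RW G (apush (npos D) tb fuel w r) (y * Xr G r t) := by
  intro fuel
  induction fuel with
  | zero => intro w r y t h; exact ⟨y, t, h, rfl⟩
  | succ fuel ih =>
    intro w r y t h
    cases w with
    | nil => exact ⟨y, t, h, rfl⟩
    | cons s w =>
      simp only [apush]
      split_ifs with hsr hk
      · obtain ⟨z, u, hz, rfl⟩ := h
        subst hsr
        exact ⟨z, u + t, hz, by rw [mul_assoc, Xr_add]⟩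
      · exact ⟨y, t, h, rfl⟩
      · obtain ⟨z, u, hz, rfl⟩ := h
        simp only [Bool.or_eq_true, decide_eq_true_eq, not_or, not_le, not_lt] at hk
        obtain ⟨⟨h1, hr⟩, hs⟩ := hk
        rw [mul_assoc, swap G h2 htb hr hs (fun e => hsr e.symm), ← mul_assoc, ← mul_assoc]
        have key : ∀ (l : List (ℕ × ℕ × ℕ)) (w' : List ℕ) (y' : GL D.Idx K), RW G w' y' →
            RW G ((l.map fun c => c.1).foldl (apush (npos D) tb fuel) w')
              (y' * (l.map fun c => Xr G c.1 (t ^ c.2.1 * u ^ c.2.2)).prod) := by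
          intro l
          induction l with
          | nil => intro w' y' h'; simpa using h'
          | cons c l ihl =>
            intro w' y' h'
            rw [List.map_cons, List.map_cons, List.foldl_cons, List.prod_cons, ← mul_assoc]
            exact ihl _ _ (ih _ _ _ _ h')
        exact key _ _ _ (ih _ _ _ _ (ih _ _ _ _ hz))

theorem acollect_spec (v : ℕ → K) (W : Wd) :
    RW G (acollect (npos D) tb (W.map Prod.fst)) (wev G v W) := by
  have key : ∀ (l : Wd) (w : List ℕ) (y : GL D.Idx K), RW G w y →
      RW G ((l.map Prod.fst).foldl (apush (npos D) tb 200) w) (y * wev G v l) := by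
    intro l
    induction l with
    | nil => intro w y h; simpa [wev] using h
    | cons a l ih =>
      intro w y h
      rw [List.map_cons, List.foldl_cons,
        show y * wev G v (a :: l) = y * lev G v a * wev G v l by simp [wev, mul_assoc]]
      exact ih _ _ (apush_spec G h2 htb 200 w a.1 y _ h)
  simpa [acollect] using key W [] 1 rfl

omit h2 htb

theorem RW_desc : ∀ (k : ℕ) (w : List ℕ) (x : GL D.Idx K), descB w k = true → RW G w x →
    ∃ d : ℕ → K, x = Ok G k d ∧ ∀ i, i ∉ w → d i = 0 := by
  intro k
  induction k with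
  | zero =>
    intro w x hw hx
    cases w with
    | nil => exact ⟨fun _ => 0, by rw [Ok_zero_fun]; exact hx, fun _ _ => rfl⟩
    | cons a w => simp [descB] at hw
  | succ k ih =>
    intro w x hw hx
    cases w with
    | nil => exact ⟨fun _ => 0, by rw [Ok_zero_fun]; exact hx, fun _ _ => rfl⟩
    | cons s w =>
      simp only [descB, Bool.and_eq_true, decide_eq_true_eq] at hw
      rcases Nat.lt_succ_iff_lt_or_eq.1 hw.1 with hlt | rfl
      · obtain ⟨d, hd, h0⟩ := ih (s :: w) x (by simp [descB, hlt, hw.2]) hx
        have hnot : ∀ (l : List ℕ) (b : ℕ), descB l b = true → b ≤ k → k ∉ l := by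
          intro l
          induction l with
          | nil => intros; simp
          | cons c l ihl =>
            intro b hb hbk
            simp only [descB, Bool.and_eq_true, decide_eq_true_eq] at hb
            have := ihl c hb.2 (by omega)
            simp only [List.mem_cons, not_or]
            exact ⟨by omega, this⟩
        refine ⟨d, ?_, h0⟩
        rw [Ok_succ, h0 k (hnot (s :: w) (k) (by simp [descB, hlt, hw.2]) le_rfl), Xr_zero, mul_one,
          hd]
      · obtain ⟨y, t, hy, rfl⟩ := hx
        obtain ⟨d, hd, h0⟩ := ih w y hw.2 hy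
        refine ⟨Function.update d s t, ?_, fun i hi => ?_⟩
        · rw [Ok_succ, Function.update_self, hd,
            Ok_congr G (f' := Function.update d s t) fun i hi => by
              rw [Function.update_of_ne (by omega)]]
        · simp only [List.mem_cons, not_or] at hi
          rw [Function.update_of_ne hi.1]
          exact h0 i hi.2

end

end Cfsg.Agent.Lib.RankOne.InvolTwo
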