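import Cfsg.Prelude.Def_LieRecognition
import Mathlib.GroupTheory.OrderOfElement
import Mathlib.GroupTheory.Perm.Cycle.Type
import Mathlib.Algebra.Group.Subgroup.Pointwise

/-!
Elementary facts about involutions and elements of odd order.
-/

set_option autoImplicit false

namespace Cfsg.Agent.Lib.RankOne

open Cfsg

variable {G : Type*} [Group G]

theorem odd_orderOf_of_mem [Finite G] {H : Subgroup G} (h : Odd (Nat.card H)) {x : G}
    (hx : x ∈ H) : Odd (orderOf x) :=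
  h.of_dvd_nat (H.orderOf_dvd_natCard hx)

theorem inv_eq_self_of_sq {u : G} (hu : u * u = 1) : u⁻¹ = u :=
  inv_eq_of_mul_eq_one_right hu

theorem eq_one_of_sq_of_odd {x : G} (h : Odd (orderOf x)) (hx : x * x = 1) : x = 1 := by
  have h2 : orderOf x ∣ 2 := orderOf_dvd_of_pow_eq_one (by rw [sq, hx])
  rcases (Nat.dvd_prime Nat.prime_two).mp h2 with h1 | h1
  · exact orderOf_eq_one_iff.mp h1
  · rw [h1] at h; exact absurd h (by decide)

theorem pow_half_mul_self {x : G} (h : Odd (orderOf x)) :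
    x ^ ((orderOf x + 1) / 2) * x ^ ((orderOf x + 1) / 2) = x := by
  obtain ⟨k, hk⟩ := h
  rw [← pow_add, show (orderOf x + 1) / 2 + (orderOf x + 1) / 2 = orderOf x + 1 by omega,
    pow_succ, pow_orderOf_eq_one, one_mul]

theorem eq_of_sq_eq_sq_of_odd {x y : G} (hx : Odd (orderOf x)) (hy : Odd (orderOf y))
    (h : x * x = y * y) : x = y := by
  obtain ⟨k, hk⟩ := hx.mul hy
  have hxx : (x * x) ^ (k + 1) = x := by
    rw [← sq, ← pow_mul, show 2 * (k + 1) = orderOf x * orderOf y + 1 by omega, pow_succ, pow_mul,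
      pow_orderOf_eq_one, one_pow, one_mul]
  have hyy : (y * y) ^ (k + 1) = y := by
    rw [← sq, ← pow_mul, show 2 * (k + 1) = orderOf y * orderOf x + 1 by rw [Nat.mul_comm (orderOf y)]; omega,
      pow_succ, pow_mul, pow_orderOf_eq_one, one_pow, one_mul]
  rw [← hxx, ← hyy, h]

/-- Two involutions with product of odd order are conjugate in the group they generate. -/
theorem exists_conj_eq_of_odd {u v : G} (hu : u * u = 1) (hv : v * v = 1)
    (h : Odd (orderOf (u * v))) : ∃ g ∈ Subgroup.zpowers (u * v), g * u * g⁻¹ = v := by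
  obtain ⟨k, hk⟩ := h
  have hu' := inv_eq_self_of_sq hu
  have hinv : u * (u * v) * u⁻¹ = (u * v)⁻¹ := by
    rw [mul_inv_rev, inv_eq_self_of_sq hv, hu', ← mul_assoc u u v, hu, one_mul]
  have hk1 : u * (u * v) ^ k * u⁻¹ = ((u * v) ^ k)⁻¹ := by
    rw [← conj_pow, hinv, inv_pow]
  refine ⟨(u * v) ^ k, pow_mem (Subgroup.mem_zpowers _) k, ?_⟩
  have h1 : (u * v) ^ k * u = u * ((u * v) ^ k)⁻¹ := by
    rw [← hk1, hu', ← mul_assoc, ← mul_assoc, hu, one_mul]
  rw [h1, mul_assoc, ← mul_inv_rev, ← pow_add]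
  have h2 : (u * v) ^ (k + k) * (u * v) = 1 := by
    rw [← pow_succ, show k + k + 1 = orderOf (u * v) by omega, pow_orderOf_eq_one]
  rw [inv_eq_of_mul_eq_one_right h2, ← mul_assoc, hu, one_mul]

/-- If `d` is centralised by `s` and inverted by `u`, with `s * u` of odd order, then `d * d = 1`. -/
theorem sq_eq_one_of_centralize_invert {s u d : G} (h : Odd (orderOf (s * u)))
    (hsd : s * d = d * s) (hud : u * d * u⁻¹ = d⁻¹) : d * d = 1 := by
  obtain ⟨k, hk⟩ := h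
  have h1 : s * u * d * (s * u)⁻¹ = d⁻¹ := by
    have hs' : s * d⁻¹ * s⁻¹ = d⁻¹ :=
      mul_inv_eq_iff_eq_mul.mpr (Commute.inv_right (hsd : Commute s d)).eq
    calc s * u * d * (s * u)⁻¹ = s * (u * d * u⁻¹) * s⁻¹ := by group
      _ = d⁻¹ := by rw [hud, hs']
  generalize s * u = r at h1 hk
  have h2 : Commute (r ^ 2) d := by
    have : r ^ 2 * d * (r ^ 2)⁻¹ = d := by
      calc r ^ 2 * d * (r ^ 2)⁻¹
          = r * (r * d * r⁻¹) * r⁻¹ := by rw [sq]; group
        _ = r * d⁻¹ * r⁻¹ := by rw [h1]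
        _ = (r * d * r⁻¹)⁻¹ := conj_inv.symm
        _ = d := by rw [h1, inv_inv]
    exact mul_inv_eq_iff_eq_mul.mp this
  have h3 : Commute (r ^ (2 * k)) d := by rw [pow_mul]; exact h2.pow_left k
  have h4 : d⁻¹ = d := by
    calc d⁻¹ = r * d * r⁻¹ := h1.symm
      _ = r * (r ^ (2 * k) * d * (r ^ (2 * k))⁻¹) * r⁻¹ := by
          rw [h3.eq, mul_inv_cancel_right]
      _ = r ^ (2 * k + 1) * d * (r ^ (2 * k + 1))⁻¹ := by rw [pow_succ']; group
      _ = d := by rw [← hk, pow_orderOf_eq_one, one_mul, inv_one, mul_one]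
  calc d * d = d * d⁻¹ := by rw [h4]
    _ = 1 := mul_inv_cancel d

theorem mem_invertedBy_iff {D : Subgroup G} {t x : G} :
    x ∈ invertedBy D t ↔ x ∈ D ∧ t * x * t⁻¹ = x⁻¹ := Iff.rfl

theorem pow_mem_invertedBy {D : Subgroup G} {t x : G} (hx : x ∈ invertedBy D t) (n : ℕ) :
    x ^ n ∈ invertedBy D t :=
  ⟨pow_mem hx.1 n, by rw [← conj_pow, hx.2, inv_pow]⟩

theorem inv_mem_invertedBy {D : Subgroup G} {t x : G} (hx : x ∈ invertedBy D t) :
    x⁻¹ ∈ invertedBy D t :=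
  ⟨inv_mem hx.1, by rw [inv_inv, ← conj_inv, hx.2, inv_inv]⟩

theorem one_mem_invertedBy (D : Subgroup G) (t : G) : (1 : G) ∈ invertedBy D t :=
  ⟨one_mem _, by group⟩

/-- Every element of an odd order subgroup inverted by `t` is the square of another. -/
theorem exists_sqrt_invertedBy [Finite G] {D : Subgroup G} {t x : G} (hD : Odd (Nat.card D))
    (hx : x ∈ invertedBy D t) : ∃ j ∈ invertedBy D t, j * j = x :=
  ⟨_, pow_mem_invertedBy hx _, pow_half_mul_self (odd_orderOf_of_mem hD hx.1)⟩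

theorem conj_mem_invertedBy {D : Subgroup G} {t x y : G} (hx : x ∈ invertedBy D t) (hy : y ∈ D)
    (hty : t * y = y * t) : y * x * y⁻¹ ∈ invertedBy D t := by
  refine ⟨mul_mem (mul_mem hy hx.1) (inv_mem hy), ?_⟩
  have h1 : t * y * t⁻¹ = y := by rw [hty]; group
  calc t * (y * x * y⁻¹) * t⁻¹ = (t * y * t⁻¹) * (t * x * t⁻¹) * (t * y * t⁻¹)⁻¹ := by group
    _ = (y * x * y⁻¹)⁻¹ := by rw [h1, hx.2]; group

/-- The factorisation `X = C_X(t) · I_X(t)`. -/
theorem existsUnique_factor [Finite G] {X : Subgroup G} {t : G} (ht : t * t = 1)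
    (hodd : Odd (Nat.card X)) (hnorm : ∀ x ∈ X, t * x * t⁻¹ ∈ X) {x : G} (hx : x ∈ X) :
    ∃! p : G × G, p.1 ∈ X ⊓ Subgroup.centralizer {t} ∧ p.2 ∈ invertedBy X t ∧ x = p.1 * p.2 := by
  have hti := inv_eq_self_of_sq ht
  have htt : ∀ z : G, t * (t * z * t⁻¹) * t⁻¹ = z := fun z => by
    rw [show t * (t * z * t⁻¹) * t⁻¹ = (t * t) * z * (t * t)⁻¹ by group, ht]; group
  have hw : (t * x * t⁻¹)⁻¹ * x ∈ invertedBy X t := by
    refine ⟨mul_mem (inv_mem (hnorm x hx)) hx, ?_⟩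
    calc t * ((t * x * t⁻¹)⁻¹ * x) * t⁻¹ = (t * (t * x * t⁻¹) * t⁻¹)⁻¹ * (t * x * t⁻¹) := by
          simp only [mul_inv_rev, inv_inv, mul_assoc, inv_mul_cancel_left, mul_inv_cancel_left]
      _ = ((t * x * t⁻¹)⁻¹ * x)⁻¹ := by rw [htt]; group
  obtain ⟨z, hz, hzz⟩ := exists_sqrt_invertedBy hodd hw
  refine ⟨(x * z⁻¹, z), ⟨?_, hz, by group⟩, ?_⟩
  · refine ⟨Subgroup.mul_mem X hx (X.inv_mem hz.1), Subgroup.mem_centralizer_singleton_iff.mpr ?_⟩
    have h1 : t * (x * z⁻¹) * t⁻¹ = x * z⁻¹ := by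
      calc t * (x * z⁻¹) * t⁻¹ = (t * x * t⁻¹) * (t * z * t⁻¹)⁻¹ := by group
        _ = (t * x * t⁻¹) * z := by rw [hz.2, inv_inv]
        _ = (t * x * t⁻¹) * (z * z) * z⁻¹ := by group
        _ = x * z⁻¹ := by rw [hzz]; group
    exact (mul_inv_eq_iff_eq_mul.mp h1).symm
  · rintro ⟨y', z'⟩ ⟨hy', hz', he⟩
    simp only at hy' hz' he ⊢
    have hty : t * y' * t⁻¹ = y' := by
      rw [← Subgroup.mem_centralizer_singleton_iff.mp hy'.2, mul_inv_cancel_right]
    have h2 : z' * z' = z * z := by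
      rw [hzz, he]
      calc z' * z' = (y' * z'⁻¹)⁻¹ * (y' * z') := by group
        _ = ((t * y' * t⁻¹) * (t * z' * t⁻¹))⁻¹ * (y' * z') := by rw [hty, hz'.2]
        _ = (t * (y' * z') * t⁻¹)⁻¹ * (y' * z') := by group
    have hzeq : z' = z := eq_of_sq_eq_sq_of_odd (odd_orderOf_of_mem hodd hz'.1)
      (odd_orderOf_of_mem hodd hz.1) h2
    subst hzeq
    rw [he, mul_inv_cancel_right]

end Cfsg.Agent.Lib.RankOne
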