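import Mathlib

/-!
A lower bound for linearly invariant sets of quadratic forms with nonzero polar form in even
characteristic: the orbit of the rank two anisotropic forms is the smallest one.
-/

set_option autoImplicit false
set_option maxHeartbeats 1000000

namespace Cfsg.Agent.Lib.RankOne.QuadOrbit

open QuadraticMap

variable {F : Type*} [Field F] [CharP F 2] {m : ℕ}

set_option quotPrecheck false
local notation "Vec" => (Fin (m + 2) → F)
local notation "QF" => QuadraticForm F (Fin (m + 2) → F)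
local notation "e[" i "]" => (Pi.single i (1 : F) : Fin (m + 2) → F)

theorem polar_self' (Q : QF) (x : Vec) : polarBilin Q x x = 0 := by
  rw [polarBilin_apply_apply, polar_self, two_nsmul, CharTwo.add_self_eq_zero]

theorem polar_symm' (Q : QF) (x y : Vec) : polarBilin Q x y = polarBilin Q y x := by
  rw [polarBilin_apply_apply, polarBilin_apply_apply, polar_comm]

theorem map_add' (Q : QF) (x y : Vec) : Q (x + y) = Q x + Q y + polarBilin Q x y := by
  rw [polarBilin_apply_apply]; exact QuadraticMap.map_add Q x y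

theorem map_smul' (Q : QF) (c : F) (x : Vec) : Q (c • x) = c * c * Q x := by
  rw [QuadraticMap.map_smul, smul_eq_mul]

theorem polar_comp (Q : QF) (A : Vec →ₗ[F] Vec) (x y : Vec) :
    polarBilin (Q.comp A) x y = polarBilin Q (A x) (A y) := by
  simp [QuadraticMap.polar, map_add]

/-- A transvection. -/
def trans (Q : QF) (v : Vec) (t : F) : Vec ≃ₗ[F] Vec :=
  LinearEquiv.ofInvolutive (LinearMap.id + (t • polarBilin Q v).smulRight v) fun x => by
    simp only [LinearMap.add_apply, LinearMap.id_apply, LinearMap.smulRight_apply, LinearMap.smul_apply,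
      map_add, map_smul, smul_eq_mul, polar_self', mul_zero, zero_smul, add_zero]
    rw [add_assoc, ← add_smul, CharTwo.add_self_eq_zero, zero_smul, add_zero]

theorem trans_apply (Q : QF) (v : Vec) (t : F) (x : Vec) :
    (trans Q v t : Vec →ₗ[F] Vec) x = x + (t * polarBilin Q v x) • v := rfl

theorem comp_trans (Q : QF) (v : Vec) (t : F) (x : Vec) :
    Q.comp (trans Q v t : Vec →ₗ[F] Vec) x = Q x + (t * t * Q v + t) * (polarBilin Q v x * polarBilin Q v x) := by
  rw [QuadraticMap.comp_apply, trans_apply, map_add', map_smul', map_smul, smul_eq_mul, polar_symm' Q x v]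
  ring

theorem polar_trans (Q : QF) (v : Vec) (t : F) :
    polarBilin (Q.comp (trans Q v t : Vec →ₗ[F] Vec)) = polarBilin Q := by
  refine LinearMap.ext₂ fun x y => ?_
  rw [polar_comp, trans_apply, trans_apply]
  simp only [map_add, map_smul, LinearMap.add_apply, LinearMap.smul_apply, smul_eq_mul, polar_self',
    polar_symm' Q x v]
  have h := CharTwo.add_self_eq_zero (t * (polarBilin Q v x * polarBilin Q v y))
  linear_combination h

/-- Diagonal matrices. -/
def diag (d : Fin (m + 2) → F) (hd : ∀ k, d k ≠ 0) : Vec ≃ₗ[F] Vec where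
  toFun x := fun k => d k * x k
  invFun x := fun k => (d k)⁻¹ * x k
  left_inv x := funext fun k => inv_mul_cancel_left₀ (hd k) _
  right_inv x := funext fun k => mul_inv_cancel_left₀ (hd k) _
  map_add' x y := funext fun k => mul_add _ _ _
  map_smul' c x := funext fun k => by simp [mul_left_comm]

theorem diag_single (d : Fin (m + 2) → F) (hd : ∀ k, d k ≠ 0) (k : Fin (m + 2)) :
    (diag d hd : Vec →ₗ[F] Vec) e[k] = d k • e[k] := by
  funext l
  show d l * e[k] l = d k * e[k] l
  rcases eq_or_ne l k with rfl | h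
  · rfl
  · simp [h]

/-- Shearing the first two coordinates. -/
def shear (f : Fin m → F × F) : Vec ≃ₗ[F] Vec :=
  LinearEquiv.ofInvolutive
    (LinearMap.id + ((∑ i, (f i).1 • (LinearMap.proj i.succ.succ : Vec →ₗ[F] F)).smulRight e[0]
      + (∑ i, (f i).2 • (LinearMap.proj i.succ.succ : Vec →ₗ[F] F)).smulRight e[1])) fun x => by
    funext k
    have h : ∀ i : Fin m, i.succ.succ ≠ (1 : Fin (m + 2)) ∧ i.succ.succ ≠ (0 : Fin (m + 2)) := fun i =>
      ⟨fun e => by simpa using congrArg Fin.val e, Fin.succ_ne_zero _⟩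
    simp only [LinearMap.add_apply, LinearMap.id_apply, LinearMap.smulRight_apply, LinearMap.sum_apply,
      LinearMap.smul_apply, LinearMap.proj_apply, Pi.add_apply, Pi.smul_apply, smul_eq_mul,
      Pi.single_eq_of_ne (h _).1, Pi.single_eq_of_ne (h _).2, mul_zero, add_zero]
    rw [add_assoc, CharTwo.add_self_eq_zero, add_zero]

theorem shear_apply (f : Fin m → F × F) (x : Vec) :
    (shear f : Vec →ₗ[F] Vec) x = x + ((∑ i, (f i).1 * x i.succ.succ) • e[0] + (∑ i, (f i).2 * x i.succ.succ) • e[1]) := by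
  simp [shear, LinearEquiv.ofInvolutive, LinearMap.sum_apply]

theorem shear_low (f : Fin m → F × F) :
    (shear f : Vec →ₗ[F] Vec) e[0] = e[0] ∧ (shear f : Vec →ₗ[F] Vec) e[1] = e[1] := by
  constructor <;>
  · rw [shear_apply]
    simp [Pi.single_apply, Fin.ext_iff]

theorem shear_high (f : Fin m → F × F) (i : Fin m) :
    (shear f : Vec →ₗ[F] Vec) e[i.succ.succ] = e[i.succ.succ] + ((f i).1 • e[0] + (f i).2 • e[1]) := by
  rw [shear_apply]
  simp [Pi.single_apply]

theorem decomp (x : Vec) : x = (x 0 • e[0] + x 1 • e[1]) + ∑ i : Fin m, x i.succ.succ • e[i.succ.succ] := by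
  conv_lhs => rw [pi_eq_sum_univ' x, Fin.sum_univ_succ, Fin.sum_univ_succ]
  exact (add_assoc _ _ _).symm

theorem exists_pair {u v : Vec} (h : LinearIndependent F ![u, v]) :
    ∃ A : Vec ≃ₗ[F] Vec, A e[0] = u ∧ A e[1] = v := by
  classical
  let b := Module.Basis.sumExtend h
  have := FiniteDimensional.fintypeBasisIndex b
  have : Fintype (Module.Basis.sumExtendIndex h) := Fintype.ofInjective (Sum.inr : _ → Fin 2 ⊕ _) Sum.inr_injective
  have hc : Fintype.card (Module.Basis.sumExtendIndex h) = m := by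
    have := Module.finrank_eq_card_basis b
    rw [Module.finrank_fin_fun, ← Nat.card_eq_fintype_card, Nat.card_sum, Nat.card_eq_fintype_card,
      Nat.card_eq_fintype_card, Fintype.card_fin] at this
    omega
  let σ : Fin 2 ⊕ Module.Basis.sumExtendIndex h ≃ Fin (m + 2) :=
    (Equiv.sumCongr (Equiv.refl _) (Fintype.equivFinOfCardEq hc)).trans
      (finSumFinEquiv.trans (finCongr (add_comm 2 m)))
  have h0 : σ (Sum.inl 0) = 0 := Fin.ext rfl
  have h1 : σ (Sum.inl 1) = 1 := Fin.ext (by simp [σ])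
  refine ⟨(b.reindex σ).equivFun.symm, ?_, ?_⟩ <;>
    rw [Module.Basis.equivFun_symm_apply]
  · simp [Pi.single_apply, ← h0, b, Module.Basis.sumExtend, Equiv.symm_symm, Equiv.Set.sumDiffSubset, Equiv.trans_apply,
      Equiv.sumCongr_apply, Equiv.ofInjective_apply]
    rfl
  · simp [Pi.single_apply, ← h1, b, Module.Basis.sumExtend, Equiv.symm_symm, Equiv.Set.sumDiffSubset, Equiv.trans_apply,
      Equiv.sumCongr_apply, Equiv.ofInjective_apply]
    rfl

section finite

variable [Fintype F]

theorem exists_sqrt (a : F) : ∃ s : F, s * s = a := by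
  obtain ⟨s, hs⟩ := FiniteField.isSquare_of_char_two (ringChar.eq F 2) a
  exact ⟨s, hs.symm⟩

theorem card_artin_schreier [DecidableEq F] :
    Fintype.card F ≤ 2 * (Finset.univ.image fun x : F => x * x + x).card := by
  rw [← Finset.card_univ]
  refine Finset.card_le_mul_card_image _ 2 fun b hb => ?_
  obtain ⟨x, -, rfl⟩ := Finset.mem_image.1 hb
  refine (Finset.card_le_card (t := {x, x + 1}) fun y hy => ?_).trans Finset.card_le_two
  rw [Finset.mem_filter] at hy
  have h : (y - x) * (y + x + 1) = 0 := by linear_combination hy.2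
  rcases mul_eq_zero.1 h with h | h
  · simp [sub_eq_zero.1 h]
  · have e : y = x + 1 := by
      linear_combination h - CharTwo.add_self_eq_zero (x + 1)
    simp [e]

noncomputable instance : Fintype QF :=
  @Fintype.ofFinite _ (Finite.of_injective (fun Q : QF => (Q : Vec → F)) DFunLike.coe_injective)

open Classical in
/-- The forms with a given polar form and a given value at a vector orthogonal to `e₀`, `e₁`. -/
theorem fibre (S : Finset QF) (hS : ∀ Q ∈ S, ∀ A : Vec ≃ₗ[F] Vec, Q.comp (A : Vec →ₗ[F] Vec) ∈ S)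
    {Q₀ : QF} (hQ₀ : Q₀ ∈ S) (h01 : polarBilin Q₀ e[0] e[1] = 1)
    (hperp : ∀ i : Fin m, polarBilin Q₀ e[0] e[i.succ.succ] = 0 ∧ polarBilin Q₀ e[1] e[i.succ.succ] = 0)
    {w : Vec} (hw : w 0 = 0 ∧ w 1 = 0) :
    (Fintype.card F - 1) * (Finset.univ.image fun x : F => x * x + x).card ≤
        (S.filter fun Q => polarBilin Q = polarBilin Q₀ ∧ Q w = Q₀ w).card ∧
      ∃ Q ∈ S, polarBilin Q = polarBilin Q₀ ∧ Q w = Q₀ w ∧ Q e[0] = 1 := by
  set q := Fintype.card F
  set Bf := polarBilin Q₀ with hBf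
  have hw01 : Bf e[0] w = 0 ∧ Bf e[1] w = 0 := by
    have hw' : w = ∑ i : Fin m, w i.succ.succ • e[i.succ.succ] := by
      conv_lhs => rw [decomp w, hw.1, hw.2, zero_smul, zero_smul, add_zero, zero_add]
    constructor <;>
    · rw [hw', map_sum, Finset.sum_eq_zero]
      intro i _
      rw [map_smul]
      simp [hperp i]
  set R := S.filter fun Q => polarBilin Q = Bf ∧ Q w = Q₀ w with hR
  have hmem : ∀ {Q : QF}, Q ∈ R ↔ Q ∈ S ∧ polarBilin Q = Bf ∧ Q w = Q₀ w := fun {Q} => by
    rw [hR, Finset.mem_filter]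
  have htr : ∀ {Q : QF}, Q ∈ R → ∀ v, (v = e[0] ∨ v = e[1]) → ∀ t, Q.comp (trans Q v t : Vec →ₗ[F] Vec) ∈ R := by
    intro Q hQ v hv t
    obtain ⟨hQS, hQB, hQw⟩ := hmem.1 hQ
    refine hmem.2 ⟨hS Q hQS _, by rw [polar_trans, hQB], ?_⟩
    rw [comp_trans, hQB, hQw]
    rcases hv with rfl | rfl <;> simp [hw01.1, hw01.2]
  have h10 : Bf e[1] e[0] = 1 := by rw [hBf, polar_symm']; exact h01
  -- some form in the set does not vanish at `e₀`
  obtain ⟨Q₁, hQ₁, hQ₁0⟩ : ∃ Q ∈ R, Q e[0] ≠ 0 := by
    have h0 : Q₀ ∈ R := hmem.2 ⟨hQ₀, rfl, rfl⟩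
    by_contra hall
    push Not at hall
    set Q' := Q₀.comp (trans Q₀ e[0] (Q₀ e[1]) : Vec →ₗ[F] Vec) with hQ'
    have hQ'R : Q' ∈ R := htr h0 _ (Or.inl rfl) _
    have hQ'1 : Q' e[1] = 0 := by
      rw [hQ', comp_trans, hall Q₀ h0, ← hBf, h01, mul_zero, zero_add, one_mul, mul_one]
      exact CharTwo.add_self_eq_zero _
    have := hall _ (htr hQ'R _ (Or.inr rfl) 1)
    rw [comp_trans, (hmem.1 hQ'R).2.1, hall Q' hQ'R, hQ'1, h10] at this
    simp at this
  have hval : ∀ a : F, a ≠ 0 → ∃ Q ∈ R, Q e[0] = a := by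
    intro a ha
    obtain ⟨l, hl⟩ := exists_sqrt (a / Q₁ e[0])
    have hl0 : l ≠ 0 := fun e => by rw [e, zero_mul] at hl; exact div_ne_zero ha hQ₁0 hl.symm
    let d : Fin (m + 2) → F := fun k => if k = 0 then l else if k = 1 then l⁻¹ else 1
    have hd : ∀ k, d k ≠ 0 := fun k => by
      simp only [d]; split_ifs <;> simp [hl0]
    have hd2 : ∀ i : Fin m, d i.succ.succ = 1 := fun i => by
      have : i.succ.succ ≠ (1 : Fin (m + 2)) := fun e => by simpa using congrArg Fin.val e
      simp only [d]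
      rw [if_neg (Fin.succ_ne_zero _), if_neg this]
    have hd0 : d 0 = l := by simp [d]
    have hd1 : d 1 = l⁻¹ := by simp [d]
    obtain ⟨hQS, hQB, hQw⟩ := hmem.1 hQ₁
    refine ⟨Q₁.comp (diag d hd : Vec →ₗ[F] Vec), hmem.2 ⟨hS _ hQS _, ?_, ?_⟩, ?_⟩
    · refine LinearMap.ext_basis (Pi.basisFun F _) (Pi.basisFun F _) fun k k' => ?_
      rw [Pi.basisFun_apply, Pi.basisFun_apply, polar_comp, diag_single, diag_single, hQB]
      simp only [map_smul, LinearMap.smul_apply, smul_eq_mul]
      rw [← mul_assoc]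
      have hz : ∀ i : Fin m, Bf e[i.succ.succ] e[0] = 0 ∧ Bf e[i.succ.succ] e[1] = 0 := fun i => by
        rw [hBf, polar_symm', polar_symm' _ _ e[1]]; exact hperp i
      have h00 : Bf e[0] e[0] = 0 ∧ Bf e[1] e[1] = 0 := ⟨polar_self' _ _, polar_self' _ _⟩
      induction k using Fin.cases with
      | zero =>
        induction k' using Fin.cases with
        | zero => rw [h00.1]; simp
        | succ k' =>
          induction k' using Fin.cases with
          | zero => rw [show (Fin.succ 0 : Fin (m + 2)) = 1 from rfl, hd0, hd1, inv_mul_cancel₀ hl0, one_mul]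
          | succ i => rw [(hperp i).1]; simp
      | succ k =>
        induction k using Fin.cases with
        | zero =>
          rw [show (Fin.succ 0 : Fin (m + 2)) = 1 from rfl]
          induction k' using Fin.cases with
          | zero => rw [hd0, hd1, mul_inv_cancel₀ hl0, one_mul]
          | succ k' =>
            induction k' using Fin.cases with
            | zero => rw [show (Fin.succ 0 : Fin (m + 2)) = 1 from rfl, h00.2]; simp
            | succ i => rw [(hperp i).2]; simp
        | succ j =>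
          induction k' using Fin.cases with
          | zero => rw [(hz j).1]; simp
          | succ k' =>
            induction k' using Fin.cases with
            | zero => rw [show (Fin.succ 0 : Fin (m + 2)) = 1 from rfl, (hz j).2]; simp
            | succ i => rw [hd2, hd2, one_mul, one_mul]
    · rw [QuadraticMap.comp_apply, show (diag d hd : Vec →ₗ[F] Vec) w = w from ?_, hQw]
      funext k
      show d k * w k = w k
      simp only [d]
      split_ifs with h1 h2
      · rw [h1, hw.1]; simp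
      · rw [h2, hw.2]; simp
      · rw [one_mul]
    · rw [QuadraticMap.comp_apply, diag_single, map_smul', hd0, hl, div_mul_cancel₀ a hQ₁0]
  refine ⟨?_, ?_⟩
  · set P := Finset.univ.image fun x : F => x * x + x with hP
    have hsum : ∑ a ∈ Finset.univ.erase (0 : F), (R.filter fun Q => Q e[0] = a).card ≤ R.card := by
      rw [← Finset.card_biUnion]
      · exact Finset.card_le_card (Finset.biUnion_subset.2 fun c _ => Finset.filter_subset _ _)
      · intro a _ b _ hab
        exact Finset.disjoint_left.2 fun H h1 h2 =>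
          hab ((Finset.mem_filter.1 h1).2.symm.trans (Finset.mem_filter.1 h2).2)
    refine le_trans ?_ hsum
    rw [show q - 1 = (Finset.univ.erase (0 : F)).card by
      rw [Finset.card_erase_of_mem (Finset.mem_univ (0 : F)), Finset.card_univ], ← smul_eq_mul]
    refine Finset.card_nsmul_le_sum _ _ _ fun a ha => ?_
    have ha0 := (Finset.mem_erase.1 ha).1
    obtain ⟨Q, hQ, hQa⟩ := hval a ha0
    refine (Finset.card_le_card (t := (R.filter fun Q' => Q' e[0] = a).image fun Q' => a * (Q' e[1] + Q e[1]))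
      fun p hp => ?_).trans Finset.card_image_le
    obtain ⟨x, -, rfl⟩ := Finset.mem_image.1 hp
    refine Finset.mem_image.2 ⟨Q.comp (trans Q e[0] (x / a) : Vec →ₗ[F] Vec),
      Finset.mem_filter.2 ⟨htr hQ _ (Or.inl rfl) _, ?_⟩, ?_⟩
    · rw [comp_trans, polar_self', hQa]; ring
    · rw [comp_trans, (hmem.1 hQ).2.1, h01, hQa]
      have h2 := CharTwo.add_self_eq_zero (a * Q e[1])
      field_simp
      linear_combination h2
  · obtain ⟨Q, hQ, hQ1⟩ := hval 1 one_ne_zero
    obtain ⟨h1, h2, h3⟩ := hmem.1 hQ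
    exact ⟨Q, h1, h2, h3, hQ1⟩

open Classical in
/-- The bound. -/
theorem bound (S : Finset QF) (hS : ∀ Q ∈ S, ∀ A : Vec ≃ₗ[F] Vec, Q.comp (A : Vec →ₗ[F] Vec) ∈ S)
    {Q₁ : QF} (hQ₁ : Q₁ ∈ S) (hpol : polarBilin Q₁ ≠ 0) :
    (Fintype.card F ^ (m + 2) - 1) * (Fintype.card F ^ (m + 2) - Fintype.card F) ≤
      2 * (Fintype.card F + 1) * S.card := by
  set q := Fintype.card F with hqdef
  have hq2 : 2 ≤ q := Fintype.one_lt_card
  -- normalisation
  obtain ⟨Q₀, hQ₀, h01, hperp⟩ : ∃ Q ∈ S, polarBilin Q e[0] e[1] = 1 ∧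
      ∀ i : Fin m, polarBilin Q e[0] e[i.succ.succ] = 0 ∧ polarBilin Q e[1] e[i.succ.succ] = 0 := by
    obtain ⟨u, v, huv⟩ : ∃ u v, polarBilin Q₁ u v = 1 := by
      obtain ⟨u, hu⟩ : ∃ u, polarBilin Q₁ u ≠ 0 := by
        by_contra h; push Not at h; exact hpol (LinearMap.ext h)
      obtain ⟨v, hv⟩ : ∃ v, polarBilin Q₁ u v ≠ 0 := by
        by_contra h; push Not at h; exact hu (LinearMap.ext h)
      exact ⟨u, (polarBilin Q₁ u v)⁻¹ • v, by rw [map_smul, smul_eq_mul, inv_mul_cancel₀ hv]⟩
    have hind : LinearIndependent F ![u, v] := by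
      rw [LinearIndependent.pair_iff]
      intro s t hst
      have h1 := congrArg (polarBilin Q₁ u) hst
      simp only [map_add, map_smul, smul_eq_mul, polar_self', huv, map_zero, mul_zero, zero_add, mul_one] at h1
      have h2 := congrArg (polarBilin Q₁ v) hst
      simp only [map_add, map_smul, smul_eq_mul, polar_self', polar_symm' Q₁ v u, huv, map_zero, mul_zero,
        add_zero, mul_one] at h2
      exact ⟨h2, h1⟩
    obtain ⟨A, hA0, hA1⟩ := exists_pair hind
    set Q := Q₁.comp (A : Vec →ₗ[F] Vec) with hQdef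
    have hQB : polarBilin Q e[0] e[1] = 1 := by
      rw [hQdef, polar_comp]
      simpa [hA0, hA1] using huv
    have hQB' : polarBilin Q e[1] e[0] = 1 := by rw [polar_symm']; exact hQB
    have hQS : Q ∈ S := hS _ hQ₁ A
    clear_value Q
    set f : Fin m → F × F := fun i => (polarBilin Q e[1] e[i.succ.succ], polarBilin Q e[0] e[i.succ.succ])
    refine ⟨Q.comp (shear f : Vec →ₗ[F] Vec), hS _ hQS _, ?_, fun i => ?_⟩
    · rw [polar_comp, (shear_low f).1, (shear_low f).2, hQB]
    · rw [polar_comp, polar_comp, (shear_low f).1, (shear_low f).2, shear_high]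
      simp only [map_add, map_smul, smul_eq_mul, polar_self', hQB, hQB', f, mul_zero, mul_one, add_zero, zero_add]
      exact ⟨CharTwo.add_self_eq_zero _, CharTwo.add_self_eq_zero _⟩
  set P := (Finset.univ.image fun x : F => x * x + x).card with hPdef
  have hP : q ≤ 2 * P := card_artin_schreier
  -- work inside a single orbit
  set O : Finset QF := Finset.univ.filter fun Q => ∃ A : Vec ≃ₗ[F] Vec, Q₀.comp (A : Vec →ₗ[F] Vec) = Q with hOdef
  have hOS : O ⊆ S := fun Q hQ => by
    obtain ⟨-, A, rfl⟩ := Finset.mem_filter.1 hQ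
    exact hS _ hQ₀ A
  have hO : ∀ Q ∈ O, ∀ A : Vec ≃ₗ[F] Vec, Q.comp (A : Vec →ₗ[F] Vec) ∈ O := by
    intro Q hQ A
    obtain ⟨-, A', rfl⟩ := Finset.mem_filter.1 hQ
    exact Finset.mem_filter.2 ⟨Finset.mem_univ _, A.trans A', by ext x; rfl⟩
  have hQ₀O : Q₀ ∈ O := Finset.mem_filter.2 ⟨Finset.mem_univ _, LinearEquiv.refl F Vec, by ext x; rfl⟩
  refine le_trans ?_ (Nat.mul_le_mul_left _ (Finset.card_le_card hOS))
  -- shears
  set R := O.filter fun Q => polarBilin Q = polarBilin Q₀ with hRdef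
  set N₀ := (O.filter fun Q => polarBilin Q e[0] e[1] = 1).card with hN₀def
  have hshear : q ^ (2 * m) * R.card ≤ N₀ := by
    have hc : (Finset.univ ×ˢ R : Finset ((Fin m → F × F) × QF)).card = q ^ (2 * m) * R.card := by
      rw [Finset.card_product, Finset.card_univ, Fintype.card_fun, Fintype.card_prod, Fintype.card_fin,
        ← _root_.sq, ← pow_mul]
    rw [← hc]
    have hpol' : ∀ {Q : QF}, Q ∈ R → ∀ f i,
        polarBilin (Q.comp (shear f : Vec →ₗ[F] Vec)) e[0] e[Fin.succ (Fin.succ i)] = (f i).2 ∧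
        polarBilin (Q.comp (shear f : Vec →ₗ[F] Vec)) e[1] e[Fin.succ (Fin.succ i)] = (f i).1 := by
      intro Q hQ f i
      rw [polar_comp, polar_comp, (shear_low f).1, (shear_low f).2, shear_high, (Finset.mem_filter.1 hQ).2]
      simp [map_add, map_smul, (hperp i).1, (hperp i).2, h01, polar_self', polar_symm' Q₀ e[1] e[0],
        -polarBilin_apply_apply]
    refine Finset.card_le_card_of_injOn (fun p => p.2.comp (shear p.1 : Vec →ₗ[F] Vec)) (fun p hp => ?_) ?_
    · obtain ⟨-, hp2⟩ := Finset.mem_product.1 (Finset.mem_coe.1 hp)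
      refine Finset.mem_coe.2 (Finset.mem_filter.2 ⟨hO _ (Finset.mem_filter.1 hp2).1 _, ?_⟩)
      rw [polar_comp, (shear_low p.1).1, (shear_low p.1).2, (Finset.mem_filter.1 hp2).2, h01]
    · intro p hp p' hp' e
      obtain ⟨-, hp2⟩ := Finset.mem_product.1 (Finset.mem_coe.1 hp)
      obtain ⟨-, hp2'⟩ := Finset.mem_product.1 (Finset.mem_coe.1 hp')
      have hf : p.1 = p'.1 := funext fun i => by
        have h1 := hpol' hp2 p.1 i
        have h2 := hpol' hp2' p'.1 i
        simp only at e
        rw [e] at h1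
        exact Prod.ext (h1.2.symm.trans h2.2) (h1.1.symm.trans h2.1)
      refine Prod.ext hf ?_
      ext x
      obtain ⟨y, rfl⟩ := (shear p.1).surjective x
      have := congrArg (fun Q : QF => Q y) e
      simp only [QuadraticMap.comp_apply, ← hf] at this
      exact this
  -- double counting
  set pairs : Finset (Vec × Vec) := Finset.univ.filter fun p => LinearIndependent F ![p.1, p.2] with hpairs
  have hpcard : (q ^ (m + 2) - 1) * (q ^ (m + 2) - q) ≤ pairs.card := by
    have hc : ∑ u ∈ Finset.univ.erase (0 : Vec), (pairs.filter fun p => p.1 = u).card ≤ pairs.card := by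
      rw [← Finset.card_biUnion]
      · exact Finset.card_le_card (Finset.biUnion_subset.2 fun c _ => Finset.filter_subset _ _)
      · intro a _ b _ hab
        exact Finset.disjoint_left.2 fun H h1 h2 =>
          hab ((Finset.mem_filter.1 h1).2.symm.trans (Finset.mem_filter.1 h2).2)
    refine le_trans ?_ hc
    have hn : q ^ (m + 2) = (Finset.univ : Finset Vec).card := by
      rw [Finset.card_univ, Fintype.card_fun, Fintype.card_fin]
    rw [hn, ← Finset.card_erase_of_mem (Finset.mem_univ (0 : Vec)), ← smul_eq_mul]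
    refine Finset.card_nsmul_le_sum _ _ _ fun u hu => ?_
    have hu0 := (Finset.mem_erase.1 hu).1
    refine le_trans ?_ (Finset.card_le_card_of_injOn (fun v => (u, v))
      (s := Finset.univ \ (Finset.univ.image fun c : F => c • u)) (fun v hv => ?_)
      (fun a _ b _ h => (Prod.ext_iff.1 h).2))
    · rw [Finset.card_sdiff_of_subset (Finset.subset_univ _)]
      have : (Finset.univ.image fun c : F => c • u).card ≤ q := Finset.card_image_le.trans_eq Finset.card_univ
      omega
    · refine Finset.mem_coe.2 (Finset.mem_filter.2 ⟨Finset.mem_filter.2 ⟨Finset.mem_univ _, ?_⟩, rfl⟩)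
      refine (LinearIndependent.pair_iff' hu0).2 fun c hc' => ?_
      exact (Finset.mem_sdiff.1 hv).2 (Finset.mem_image.2 ⟨c, Finset.mem_univ _, hc'⟩)
  have hbelow : ∀ p ∈ pairs, N₀ ≤ (O.filter fun Q => polarBilin Q p.1 p.2 = 1).card := by
    intro p hp
    obtain ⟨A, hA0, hA1⟩ := exists_pair (Finset.mem_filter.1 hp).2
    refine Finset.card_le_card_of_injOn (fun Q => Q.comp (A.symm : Vec →ₗ[F] Vec)) (fun Q hQ => ?_) ?_
    · obtain ⟨h1, h2⟩ := Finset.mem_filter.1 (Finset.mem_coe.1 hQ)
      refine Finset.mem_coe.2 (Finset.mem_filter.2 ⟨hO _ h1 _, ?_⟩)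
      rw [polar_comp, ← hA0, ← hA1]
      simpa using h2
    · intro Q _ Q' _ e
      ext x
      have := congrArg (fun Q : QF => Q (A x)) e
      simpa using this
  have hper : ∀ Q ∈ O, (Finset.univ.filter fun p : Vec × Vec => polarBilin Q p.1 p.2 = 1).card * q ≤
      (Finset.univ.filter fun u : Vec => polarBilin Q u ≠ 0).card * q ^ (m + 2) := by
    intro Q _
    have hn : q ^ (m + 2) = (Finset.univ : Finset Vec).card := by
      rw [Finset.card_univ, Fintype.card_fun, Fintype.card_fin]
    rw [hn, hqdef, ← Finset.card_univ (α := F), ← Finset.card_product, ← Finset.card_product]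
    have hsec : ∀ u : Vec, polarBilin Q u ≠ 0 → ∃ w, polarBilin Q u w = 1 := fun u hu => by
      obtain ⟨v, hv⟩ : ∃ v, polarBilin Q u v ≠ 0 := by
        by_contra h; push Not at h; exact hu (LinearMap.ext h)
      exact ⟨(polarBilin Q u v)⁻¹ • v, by rw [map_smul, smul_eq_mul, inv_mul_cancel₀ hv]⟩
    choose! w hw using hsec
    refine Finset.card_le_card_of_injOn (fun x => (x.1.1, x.1.2 + x.2 • w x.1.1)) (fun x hx => ?_) ?_
    · have h1 := (Finset.mem_filter.1 (Finset.mem_product.1 (Finset.mem_coe.1 hx)).1).2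
      refine Finset.mem_coe.2 (Finset.mem_product.2 ⟨Finset.mem_filter.2 ⟨Finset.mem_univ _, fun e => ?_⟩,
        Finset.mem_univ _⟩)
      rw [e] at h1
      simp at h1
    · rintro ⟨⟨u, v⟩, c⟩ hx ⟨⟨u', v'⟩, c'⟩ hx' e
      have h1 : polarBilin Q u v = 1 := (Finset.mem_filter.1 (Finset.mem_product.1 (Finset.mem_coe.1 hx)).1).2
      have h2 : polarBilin Q u' v' = 1 := (Finset.mem_filter.1 (Finset.mem_product.1 (Finset.mem_coe.1 hx')).1).2
      simp only [Prod.mk.injEq] at e
      obtain ⟨rfl, e⟩ := e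
      have hu : polarBilin Q u ≠ 0 := fun h => by rw [h] at h1; simp at h1
      have := congrArg (polarBilin Q u) e
      simp only [map_add, map_smul, h1, h2, hw u hu, smul_eq_mul, mul_one] at this
      obtain rfl := add_left_cancel this
      rw [add_right_cancel e]
  have hdc : (q ^ (m + 2) - 1) * (q ^ (m + 2) - q) * N₀ * q ≤
      (∑ Q ∈ O, (Finset.univ.filter fun u : Vec => polarBilin Q u ≠ 0).card) * q ^ (m + 2) := by
    calc (q ^ (m + 2) - 1) * (q ^ (m + 2) - q) * N₀ * q ≤ pairs.card * N₀ * q := by gcongr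
      _ ≤ (∑ p ∈ pairs, (O.filter fun Q => polarBilin Q p.1 p.2 = 1).card) * q := by
          gcongr
          rw [← smul_eq_mul]
          exact Finset.card_nsmul_le_sum _ _ _ hbelow
      _ = (∑ Q ∈ O, (pairs.filter fun p => polarBilin Q p.1 p.2 = 1).card) * q := by
          congr 1
          exact Finset.sum_card_bipartiteAbove_eq_sum_card_bipartiteBelow (s := pairs) (t := O)
            (fun (p : Vec × Vec) Q => polarBilin Q p.1 p.2 = 1)
      _ ≤ ∑ Q ∈ O, (Finset.univ.filter fun p : Vec × Vec => polarBilin Q p.1 p.2 = 1).card * q := by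
          rw [Finset.sum_mul]
          refine Finset.sum_le_sum fun Q _ => Nat.mul_le_mul_right _ ?_
          exact Finset.card_le_card (Finset.filter_subset_filter _ (Finset.subset_univ _))
      _ ≤ ∑ Q ∈ O, (Finset.univ.filter fun u : Vec => polarBilin Q u ≠ 0).card * q ^ (m + 2) :=
          Finset.sum_le_sum hper
      _ = _ := (Finset.sum_mul _ _ _).symm
  set X := (q ^ (m + 2) - 1) * (q ^ (m + 2) - q) with hX
  have hpos : 0 < q ^ (2 * m + 2) := pow_pos (by omega) _
  by_cases hW : ∀ x y : Vec, x 0 = 0 → x 1 = 0 → y 0 = 0 → y 1 = 0 → polarBilin Q₀ x y = 0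
  · -- polar form of rank two
    have hRc : (q - 1) * P ≤ R.card :=
      ((fibre O hO hQ₀O h01 hperp (w := 0) ⟨rfl, rfl⟩).1).trans
        (Finset.card_le_card fun Q hQ => Finset.mem_filter.2
          ⟨(Finset.mem_filter.1 hQ).1, (Finset.mem_filter.1 hQ).2.1⟩)
    have hnr : ∀ Q ∈ O, (Finset.univ.filter fun u : Vec => polarBilin Q u ≠ 0).card + q ^ m ≤ q ^ (m + 2) := by
      intro Q hQ
      obtain ⟨-, A, rfl⟩ := Finset.mem_filter.1 hQ
      have hn : q ^ (m + 2) = (Finset.univ : Finset Vec).card := by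
        rw [Finset.card_univ, Fintype.card_fun, Fintype.card_fin]
      rw [hn, ← Finset.card_filter_add_card_filter_not (s := Finset.univ)
        (fun u : Vec => polarBilin (Q₀.comp (A : Vec →ₗ[F] Vec)) u ≠ 0)]
      refine Nat.add_le_add_left ?_ _
      rw [show q ^ m = (Finset.univ : Finset (Fin m → F)).card by
        rw [Finset.card_univ, Fintype.card_fun, Fintype.card_fin]]
      refine Finset.card_le_card_of_injOn (fun y => A.symm (Fin.cons 0 (Fin.cons 0 y))) (fun y _ => ?_) ?_
      · refine Finset.mem_coe.2 (Finset.mem_filter.2 ⟨Finset.mem_univ _, ?_⟩)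
        rw [not_not]
        refine LinearMap.ext fun x => ?_
        rw [polar_comp, LinearMap.zero_apply]
        show polarBilin Q₀ (A (A.symm _)) (A x) = 0
        rw [LinearEquiv.apply_symm_apply]
        set z : Vec := A x with hz
        have hy0 : (Fin.cons 0 (Fin.cons 0 y) : Vec) = ∑ i : Fin m, y i • e[i.succ.succ] := by
          refine (decomp _).trans ?_
          simp only [show (1 : Fin (m + 2)) = Fin.succ 0 from rfl, Fin.cons_zero, Fin.cons_succ, zero_smul, zero_add,
            add_zero]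
        rw [decomp z, map_add, map_add, map_smul, map_smul]
        have hb : ∀ k : Fin (m + 2), (k = 0 ∨ k = 1) → polarBilin Q₀ (Fin.cons 0 (Fin.cons 0 y)) e[k] = 0 := by
          intro k hk
          rw [polar_symm', hy0, map_sum, Finset.sum_eq_zero]
          intro i _
          rw [map_smul]
          rcases hk with rfl | rfl <;> simp [hperp i, -polarBilin_apply_apply]
        rw [hb 0 (Or.inl rfl), hb 1 (Or.inr rfl), map_sum, Finset.sum_eq_zero]
        · simp
        intro i _
        rw [map_smul, hW _ _ rfl rfl (Pi.single_eq_of_ne (Fin.succ_ne_zero _).symm _)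
          (Pi.single_eq_of_ne (fun e => by simpa using congrArg Fin.val e) _), smul_zero]
      · intro y _ y' _ e
        have := A.symm.injective e
        exact Fin.cons_right_injective _ (Fin.cons_right_injective _ this)
    have h1 : (∑ Q ∈ O, (Finset.univ.filter fun u : Vec => polarBilin Q u ≠ 0).card) ≤
        O.card * (q ^ (m + 2) - q ^ m) := by
      refine le_trans (Finset.sum_le_card_nsmul _ _ _ fun Q hQ => ?_) (le_of_eq (smul_eq_mul _ _))
      have := hnr Q hQ
      omega
    have h2 : X * (q ^ (2 * m) * ((q - 1) * P)) * q ≤ O.card * (q ^ (m + 2) - q ^ m) * q ^ (m + 2) :=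
      le_trans (Nat.mul_le_mul_right _ (Nat.mul_le_mul_left _ (le_trans (Nat.mul_le_mul_left _ hRc) hshear)))
        (hdc.trans (Nat.mul_le_mul_right _ h1))
    have h3 : q ^ (m + 2) - q ^ m = q ^ m * ((q - 1) * (q + 1)) := by
      rw [pow_add, mul_comm (q - 1) (q + 1), ← Nat.sq_sub_sq, one_pow, Nat.mul_sub, mul_one]
    rw [h3] at h2
    refine Nat.le_of_mul_le_mul_left ?_ (Nat.mul_pos hpos (Nat.sub_pos_of_lt hq2))
    calc q ^ (2 * m + 2) * (q - 1) * X = X * (q ^ (2 * m) * ((q - 1) * q)) * q := by ring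
      _ ≤ X * (q ^ (2 * m) * ((q - 1) * (2 * P))) * q := by gcongr
      _ = 2 * (X * (q ^ (2 * m) * ((q - 1) * P)) * q) := by ring
      _ ≤ 2 * (O.card * (q ^ m * ((q - 1) * (q + 1))) * q ^ (m + 2)) := Nat.mul_le_mul_left _ h2
      _ = q ^ (2 * m + 2) * (q - 1) * (2 * (q + 1) * O.card) := by ring
  · -- larger rank
    push Not at hW
    obtain ⟨w₁, w₂, a0, a1, b0, b1, hne⟩ := hW
    obtain ⟨w, hw0, hw1, hww⟩ : ∃ w : Vec, w 0 = 0 ∧ w 1 = 0 ∧ polarBilin Q₀ w₁ w = 1 :=
      ⟨(polarBilin Q₀ w₁ w₂)⁻¹ • w₂, by simp [b0], by simp [b1],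
        by rw [map_smul, smul_eq_mul, inv_mul_cancel₀ hne]⟩
    have he : ∀ {x : Vec}, x 0 = 0 → x 1 = 0 → polarBilin Q₀ e[0] x = 0 := fun {x} hx0 hx1 => by
      have hx : x = ∑ i : Fin m, x i.succ.succ • e[i.succ.succ] := by
        conv_lhs => rw [decomp x, hx0, hx1, zero_smul, zero_smul, add_zero, zero_add]
      rw [hx, map_sum, Finset.sum_eq_zero]
      intro i _
      rw [map_smul, (hperp i).1, smul_zero]
    obtain ⟨hF1, Q, hQO, hQB, hQw, hQ1⟩ := fibre O hO hQ₀O h01 hperp (w := w) ⟨hw0, hw1⟩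
    obtain ⟨v, hv, hvw⟩ : ∃ v, Q v + 1 ≠ 0 ∧ polarBilin Q₀ v w = 1 := by
      by_cases hc : Q w₁ = 1
      · refine ⟨e[0] + w₁, ?_, ?_⟩
        · rw [map_add', hQ1, hc, hQB, he a0 a1, CharTwo.add_self_eq_zero, zero_add, zero_add]
          exact one_ne_zero
        · rw [map_add, LinearMap.add_apply, he hw0 hw1, hww, zero_add]
      · exact ⟨w₁, fun h => hc (CharTwo.add_eq_zero.1 h), hww⟩
    set Q' := Q.comp (trans Q v 1 : Vec →ₗ[F] Vec) with hQ'
    have hQ'O : Q' ∈ O := hO Q hQO _
    have hQ'B : polarBilin Q' = polarBilin Q₀ := by rw [hQ', polar_trans, hQB]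
    have hQ'w : Q' w ≠ Q₀ w := by
      rw [hQ', comp_trans, hQB, hvw, hQw]
      simpa using hv
    have hF2 := (fibre O hO hQ'O (by rw [hQ'B]; exact h01) (by rw [hQ'B]; exact hperp) (w := w) ⟨hw0, hw1⟩).1
    rw [hQ'B] at hF2
    have hRc : 2 * ((q - 1) * P) ≤ R.card := by
      rw [two_mul]
      refine le_trans (Nat.add_le_add hF1 hF2) ?_
      rw [← Finset.card_union_of_disjoint]
      · refine Finset.card_le_card (Finset.union_subset ?_ ?_) <;>
          exact fun H hH => Finset.mem_filter.2 ⟨(Finset.mem_filter.1 hH).1, (Finset.mem_filter.1 hH).2.1⟩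
      · exact Finset.disjoint_left.2 fun H h1 h2 =>
          hQ'w ((Finset.mem_filter.1 h2).2.2.symm.trans (Finset.mem_filter.1 h1).2.2)
    have h1 : (∑ Q ∈ O, (Finset.univ.filter fun u : Vec => polarBilin Q u ≠ 0).card) ≤
        O.card * q ^ (m + 2) := by
      refine le_trans (Finset.sum_le_card_nsmul _ _ _ fun Q _ => ?_) (le_of_eq (smul_eq_mul _ _))
      refine (Finset.card_filter_le _ _).trans_eq ?_
      rw [Finset.card_univ, Fintype.card_fun, Fintype.card_fin]
    have h2 : X * (q ^ (2 * m) * (2 * ((q - 1) * P))) * q ≤ O.card * q ^ (m + 2) * q ^ (m + 2) :=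
      le_trans (Nat.mul_le_mul_right _ (Nat.mul_le_mul_left _ (le_trans (Nat.mul_le_mul_left _ hRc) hshear)))
        (hdc.trans (Nat.mul_le_mul_right _ h1))
    have h3 : X * (q - 1) ≤ O.card * q ^ 2 := by
      refine Nat.le_of_mul_le_mul_left ?_ hpos
      calc q ^ (2 * m + 2) * (X * (q - 1)) = X * (q ^ (2 * m) * ((q - 1) * q)) * q := by ring
        _ ≤ X * (q ^ (2 * m) * ((q - 1) * (2 * P))) * q := by gcongr
        _ = X * (q ^ (2 * m) * (2 * ((q - 1) * P))) * q := by ring
        _ ≤ O.card * q ^ (m + 2) * q ^ (m + 2) := h2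
        _ = q ^ (2 * m + 2) * (O.card * q ^ 2) := by ring
    obtain ⟨r, hr⟩ : ∃ r, q = r + 2 := ⟨q - 2, by omega⟩
    have h4 : q ^ 2 ≤ 2 * (q + 1) * (q - 1) := by
      rw [hr, show r + 2 - 1 = r + 1 from by omega]
      nlinarith
    refine Nat.le_of_mul_le_mul_left ?_ (pow_pos (show 0 < q by omega) 2)
    calc q ^ 2 * X ≤ 2 * (q + 1) * (q - 1) * X := Nat.mul_le_mul_right _ h4
      _ = 2 * (q + 1) * (X * (q - 1)) := by ring
      _ ≤ 2 * (q + 1) * (O.card * q ^ 2) := Nat.mul_le_mul_left _ h3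
      _ = q ^ 2 * (2 * (q + 1) * O.card) := by ring

end finite

end Cfsg.Agent.Lib.RankOne.QuadOrbit
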