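import Mathlib.Tactic
import Mathlib.GroupTheory.Sylow
import Mathlib.GroupTheory.SpecificGroups.Cyclic

/-!
Arithmetic of the orders of the small Ree groups, and abstract lemmas on subgroups with trivial intersections.
-/

set_option autoImplicit false

namespace Cfsg.Agent.Lib.RankOne.Ree

/-- The factor `q² - q + 1`. -/
def Qn (m : ℕ) : ℕ := 3 ^ (2 * m + 1) * (3 ^ (2 * m + 1) - 1) + 1

theorem q_facts {m : ℕ} (hm : 1 ≤ m) : 27 ≤ 3 ^ (2 * m + 1) ∧ 3 ^ (2 * m + 1) % 8 = 3 ∧ 3 ^ (2 * m + 1) % 3 = 0 := by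
  refine ⟨?_, ?_, ?_⟩
  · calc (27 : ℕ) = 3 ^ 3 := by norm_num
      _ ≤ _ := Nat.pow_le_pow_right (by norm_num) (by omega)
  · rw [pow_succ, pow_mul, Nat.mul_mod, Nat.pow_mod]; norm_num
  · rw [pow_succ]; omega

theorem cube_eq (m : ℕ) :
    (3 ^ (2 * m + 1)) ^ 3 + 1 = (3 ^ (2 * m + 1) + 1) * Qn m := by
  have h1 : 1 ≤ 3 ^ (2 * m + 1) := Nat.one_le_pow _ _ (by norm_num)
  unfold Qn
  generalize 3 ^ (2 * m + 1) = q at h1 ⊢
  zify [h1]; ring

theorem sq_add_one (m : ℕ) : Qn m + 3 * 3 ^ (2 * m + 1) = (3 ^ (2 * m + 1) + 1) ^ 2 := by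
  have h1 : 1 ≤ 3 ^ (2 * m + 1) := Nat.one_le_pow _ _ (by norm_num)
  unfold Qn
  generalize 3 ^ (2 * m + 1) = q at h1 ⊢
  zify [h1]; ring

theorem prime_dvd_Qn {m p : ℕ} (hp : p.Prime) (h : p ∣ Qn m) :
    3 < p ∧ ¬ p ∣ 3 ^ (2 * m + 1) ∧ ¬ p ∣ 3 ^ (2 * m + 1) - 1 ∧ ¬ p ∣ 3 ^ (2 * m + 1) + 1 := by
  have h2 := hp.two_le
  have h1 : ¬ p ∣ 3 ^ (2 * m + 1) := fun hd => hp.one_lt.ne' (Nat.dvd_one.1
    ((Nat.dvd_add_right (dvd_mul_of_dvd_left hd _)).1 h))
  have hp2 : p ≠ 2 := by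
    rintro rfl
    have hev : 2 ∣ 3 ^ (2 * m + 1) - 1 := by
      have : 3 ^ (2 * m + 1) % 2 = 1 := by rw [Nat.pow_mod]; norm_num
      omega
    exact absurd ((Nat.dvd_add_right (dvd_mul_of_dvd_right hev _)).1 h) (by norm_num)
  have hp3 : p ≠ 3 := fun e => h1 (e ▸ dvd_pow_self p (Nat.succ_ne_zero (2 * m)))
  refine ⟨by omega, h1, fun hd => hp.one_lt.ne' (Nat.dvd_one.1
    ((Nat.dvd_add_right (dvd_mul_of_dvd_right hd _)).1 h)), fun hd => ?_⟩
  have h3 : p ∣ 3 * 3 ^ (2 * m + 1) :=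
    (Nat.dvd_add_right h).1 (by rw [sq_add_one]; exact dvd_pow hd two_ne_zero)
  rcases hp.dvd_mul.1 h3 with h3 | h3
  · exact hp3 ((Nat.prime_dvd_prime_iff_eq hp Nat.prime_three).1 h3)
  · exact h1 h3

theorem prime_dvd_plus {m p : ℕ} (hp : p.Prime) (hp2 : p ≠ 2) (h : p ∣ 3 ^ (2 * m + 1) + 1) :
    3 < p ∧ ¬ p ∣ 3 ^ (2 * m + 1) ∧ ¬ p ∣ 3 ^ (2 * m + 1) - 1 ∧ ¬ p ∣ Qn m := by
  have h2 := hp.two_le
  have h1 : ¬ p ∣ 3 ^ (2 * m + 1) := fun hd => hp.one_lt.ne' (Nat.dvd_one.1 ((Nat.dvd_add_right hd).1 h))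
  have hp3 : p ≠ 3 := fun e => h1 (e ▸ dvd_pow_self p (Nat.succ_ne_zero (2 * m)))
  refine ⟨by omega, h1, fun hd => hp2 ?_, fun hd => (prime_dvd_Qn hp hd).2.2.2 h⟩
  have : p ∣ 2 := by
    have := Nat.dvd_sub h hd
    have h0 : 1 ≤ 3 ^ (2 * m + 1) := Nat.one_le_pow _ _ (by norm_num)
    rwa [show 3 ^ (2 * m + 1) + 1 - (3 ^ (2 * m + 1) - 1) = 2 by omega] at this
  exact (Nat.prime_dvd_prime_iff_eq hp Nat.prime_two).1 this

theorem prime_dvd_minus {m p : ℕ} (hp : p.Prime) (hp2 : p ≠ 2) (h : p ∣ 3 ^ (2 * m + 1) - 1) :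
    3 < p ∧ ¬ p ∣ 3 ^ (2 * m + 1) ∧ ¬ p ∣ 3 ^ (2 * m + 1) + 1 ∧ ¬ p ∣ Qn m := by
  have h2 := hp.two_le
  have h0 : 1 ≤ 3 ^ (2 * m + 1) := Nat.one_le_pow _ _ (by norm_num)
  have h1 : ¬ p ∣ 3 ^ (2 * m + 1) := fun hd => hp.one_lt.ne' (Nat.dvd_one.1 (by
    have := Nat.dvd_sub hd h
    rwa [show 3 ^ (2 * m + 1) - (3 ^ (2 * m + 1) - 1) = 1 by omega] at this))
  have hp3 : p ≠ 3 := fun e => h1 (e ▸ dvd_pow_self p (Nat.succ_ne_zero (2 * m)))
  exact ⟨by omega, h1, fun hd => (prime_dvd_plus hp hp2 hd).2.2.1 h, fun hd => (prime_dvd_Qn hp hd).2.2.1 h⟩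

variable {G : Type*} [Group G] [Finite G]

/-- A subgroup of index prime to `p` meets every class of `p`-elements. -/
theorem exists_conj_mem {p : ℕ} [Fact p.Prime] {T : Subgroup G} (hT : ¬ p ∣ T.index) {x : G} {k : ℕ}
    (hx : x ^ p ^ k = 1) : ∃ g, g * x * g⁻¹ ∈ T := by
  obtain ⟨S⟩ : Nonempty (Sylow p ↥T) := inferInstance
  have hS : IsPGroup p ↥((S : Subgroup ↥T).map T.subtype) := S.2.map _
  have hidx : ¬ p ∣ ((S : Subgroup ↥T).map T.subtype).index := by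
    rw [Subgroup.index_map_subtype]
    intro hd
    rcases (Fact.out : p.Prime).dvd_mul.1 hd with hd | hd
    · exact S.not_dvd_index hd
    · exact hT hd
  let P : Sylow p G := hS.toSylow hidx
  have hz : IsPGroup p ↥(Subgroup.zpowers x) := by
    obtain ⟨j, -, hj⟩ := (Nat.dvd_prime_pow (Fact.out : p.Prime)).1 (orderOf_dvd_of_pow_eq_one hx)
    exact IsPGroup.of_card (n := j) (by rw [Nat.card_zpowers, hj])
  obtain ⟨R, hR⟩ := hz.exists_le_sylow
  obtain ⟨g, hg⟩ := MulAction.exists_smul_eq G R P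
  refine ⟨g, ?_⟩
  have : g * x * g⁻¹ ∈ (P : Subgroup G) := hg ▸ ⟨x, hR (Subgroup.mem_zpowers x), rfl⟩
  exact Subgroup.map_subtype_le _ this

/-- Subgroups of cyclic groups are given by their orders. -/
theorem mem_of_pow_card {A A₀ : Subgroup G} [IsCyclic ↥A] (h : A₀ ≤ A) {z : G} (hz : z ∈ A)
    (hp : z ^ Nat.card ↥A₀ = 1) : z ∈ A₀ := by
  classical
  have := Fintype.ofFinite ↥A
  let S := (Finset.univ : Finset ↥A).filter fun a : ↥A => (a : G) ∈ A₀
  let S' := (Finset.univ : Finset ↥A).filter fun a => a ^ Nat.card ↥A₀ = 1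
  have hsub : S ⊆ S' := fun a ha => by
    simp only [S, S', Finset.mem_filter, Finset.mem_univ, true_and] at ha ⊢
    have := congrArg Subtype.val (pow_card_eq_one' (x := (⟨(a : G), ha⟩ : ↥A₀)))
    exact Subtype.ext this
  have hS : S.card = Nat.card ↥A₀ := by
    rw [← Fintype.card_subtype, ← Nat.card_eq_fintype_card]
    exact Nat.card_congr ⟨fun a => ⟨a.1, a.2⟩, fun a => ⟨⟨a.1, h a.2⟩, a.2⟩, fun _ => rfl, fun _ => rfl⟩
  have he := Finset.eq_of_subset_of_card_le hsub (by rw [hS]; exact IsCyclic.card_pow_eq_one_le Nat.card_pos)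
  have : (⟨z, hz⟩ : ↥A) ∈ S := by
    rw [he]; simp only [S', Finset.mem_filter, Finset.mem_univ, true_and]; exact Subtype.ext hp
  simpa [S] using this

omit [Finite G] in
theorem mem_normalizer_of_centralizer {T : Subgroup G} {s g : G} (h1 : Subgroup.centralizer {s} = T)
    (h2 : Subgroup.centralizer {g * s * g⁻¹} = T) : g ∈ Subgroup.normalizer (T : Set G) := by
  rw [Subgroup.mem_normalizer_iff]
  intro z
  conv_lhs => rw [← h1]
  conv_rhs => rw [← h2]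
  rw [Subgroup.mem_centralizer_singleton_iff, Subgroup.mem_centralizer_singleton_iff]
  constructor <;> intro h
  · calc g * z * g⁻¹ * (g * s * g⁻¹) = g * (z * s) * g⁻¹ := by group
      _ = g * (s * z) * g⁻¹ := by rw [h]
      _ = _ := by group
  · calc z * s = g⁻¹ * ((g * z * g⁻¹) * (g * s * g⁻¹)) * g := by group
      _ = g⁻¹ * ((g * s * g⁻¹) * (g * z * g⁻¹)) * g := by rw [h]
      _ = _ := by group

/-- Normalisers of subgroups of a cyclic part of a TI subgroup. -/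
theorem normalizer_eq_of_TI {T A A₀ : Subgroup G} [IsCyclic ↥A] (hAT : A ≤ T)
    (hchar : ∀ z ∈ T, z ^ Nat.card ↥A = 1 → z ∈ A)
    (hC : ∀ y ∈ A, y ≠ 1 → Subgroup.centralizer {y} = T) (h0 : A₀ ≤ A) (hne : A₀ ≠ ⊥) :
    Subgroup.normalizer (A₀ : Set G) = Subgroup.normalizer (T : Set G) := by
  obtain ⟨y, hy, hy1⟩ := (Subgroup.bot_or_exists_ne_one A₀).resolve_left hne
  have fwd : ∀ g ∈ Subgroup.normalizer (T : Set G), ∀ z ∈ A₀, g * z * g⁻¹ ∈ A₀ := by
    intro g hg z hz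
    have hT : g * z * g⁻¹ ∈ T := (Subgroup.mem_normalizer_iff.1 hg z).1 (hAT (h0 hz))
    have hp : (g * z * g⁻¹) ^ Nat.card ↥A₀ = 1 := by
      rw [conj_pow, show z ^ Nat.card ↥A₀ = 1 from congrArg Subtype.val (pow_card_eq_one' (x := (⟨z, hz⟩ : ↥A₀)))]
      group
    refine mem_of_pow_card h0 (hchar _ hT ?_) hp
    obtain ⟨c, hc⟩ := Subgroup.card_dvd_of_le h0
    rw [hc, pow_mul, hp, one_pow]
  refine le_antisymm (fun g hg => ?_) fun g hg => ?_
  · exact mem_normalizer_of_centralizer (hC y (h0 hy) hy1)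
      (hC _ (h0 ((Subgroup.mem_normalizer_iff.1 hg y).1 hy)) fun e => hy1 (conj_eq_one_iff.1 e))
  · rw [Subgroup.mem_normalizer_iff]
    intro z
    refine ⟨fwd g hg z, fun h => ?_⟩
    have := fwd g⁻¹ (inv_mem hg) _ h
    rwa [inv_inv, show g⁻¹ * (g * z * g⁻¹) * g = z by group] at this

omit [Finite G] in
/-- Normal subgroups of a subgroup are normalised by it. -/
theorem le_normalizer_map {C : Subgroup G} {O : Subgroup ↥C} (hO : O.Normal) {E : Subgroup G} (hE : E ≤ C) :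
    E ≤ Subgroup.normalizer ((O.map C.subtype : Subgroup G) : Set G) := by
  intro b hb
  rw [Subgroup.mem_normalizer_iff]
  intro z
  constructor
  · rintro ⟨o, ho, rfl⟩
    exact ⟨⟨b, hE hb⟩ * o * ⟨b, hE hb⟩⁻¹, hO.conj_mem o ho _, rfl⟩
  · rintro ⟨o, ho, e⟩
    refine ⟨⟨b, hE hb⟩⁻¹ * o * ⟨b, hE hb⟩, ?_, ?_⟩
    · simpa using hO.conj_mem o ho (⟨b, hE hb⟩⁻¹ : ↥C)
    · show b⁻¹ * (o : G) * b = z
      rw [show (o : G) = b * z * b⁻¹ from e]; group

/-- A four group as a Sylow subgroup is central in its normaliser unless three divides an element order. -/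
theorem normalizer_le_centralizer_four {C : Type*} [Group C] [Finite C] [Fact (Nat.Prime 2)] (S : Sylow 2 C)
    (hS : Nat.card ↥(S : Subgroup C) = 4) (hab : ∀ s ∈ (S : Subgroup C), ∀ t ∈ (S : Subgroup C), s * t = t * s)
    (h3 : ∀ n : C, ¬ 3 ∣ orderOf n) :
    Subgroup.normalizer ((S : Subgroup C) : Set C) ≤ Subgroup.centralizer ((S : Subgroup C) : Set C) := by
  intro n hn
  rw [Subgroup.mem_centralizer_iff]
  intro s hs
  -- the odd part of `n` acts trivially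
  obtain ⟨j, k, hk, hnk⟩ := Nat.exists_eq_two_pow_mul_odd (orderOf_pos n).ne'
  have hk3 : ¬ 3 ∣ k := fun h => h3 n (by rw [hnk]; exact h.mul_left _)
  have hn2 : n ^ k ∈ (S : Subgroup C) := by
    set Nz := Subgroup.normalizer ((S : Subgroup C) : Set C)
    have hz : IsPGroup 2 ↥(Subgroup.zpowers (n ^ k)) := by
      refine IsPGroup.of_card (n := j) ?_
      rw [Nat.card_zpowers, orderOf_pow_of_dvd (fun e => by simp [e] at hk) (hnk ▸ dvd_mul_left k _), hnk,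
        Nat.mul_div_cancel _ hk.pos]
    have hle : Subgroup.zpowers (n ^ k) ≤ Nz := by rw [Subgroup.zpowers_le]; exact Subgroup.pow_mem _ hn k
    have := (hz.to_sup_of_normal_right' S.2 hle)
    have he := S.3 this le_sup_right
    exact he ▸ Subgroup.mem_sup_left (Subgroup.mem_zpowers _)
  -- conjugation by `n` as a permutation
  let f : Equiv.Perm ↥(S : Subgroup C) :=
    ⟨fun t => ⟨n * t * n⁻¹, (Subgroup.mem_normalizer_iff.1 hn t).1 t.2⟩,
     fun t => ⟨n⁻¹ * t * n, (Subgroup.mem_normalizer_iff'.1 hn _).2 (by group; exact t.2)⟩,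
     fun t => Subtype.ext (by simp [mul_assoc]), fun t => Subtype.ext (by simp [mul_assoc])⟩
  have hfpow : ∀ i : ℕ, ∀ t, (((f ^ i) t : ↥(S : Subgroup C)) : C) = n ^ i * t * (n ^ i)⁻¹ := by
    intro i
    induction i with
    | zero => simp
    | succ i ih =>
      intro t
      rw [pow_succ', Equiv.Perm.mul_apply]
      show n * ((f ^ i) t : C) * n⁻¹ = _
      rw [ih, pow_succ', mul_inv_rev]; group
  have hf1 : f ^ k = 1 := by
    refine Equiv.ext fun t => Subtype.ext ?_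
    rw [hfpow, hab _ hn2 _ t.2, mul_inv_cancel_right]; rfl
  have hfx : f ⟨1, one_mem _⟩ = ⟨1, one_mem _⟩ := Subtype.ext (by simp [f])
  have hf6 : f ^ 6 = 1 := by
    classical
    have : Fintype ↥(S : Subgroup C) := Fintype.ofFinite _
    let f' : Equiv.Perm {t : ↥(S : Subgroup C) // t ≠ ⟨1, one_mem _⟩} := f.subtypePerm fun t => by
      simp only [ne_eq]
      exact not_congr ⟨fun h => f.injective (h.trans hfx.symm), fun h => h ▸ hfx⟩
    have hcard : Fintype.card {t : ↥(S : Subgroup C) // t ≠ ⟨1, one_mem _⟩} = 3 := by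
      rw [Fintype.card_subtype_compl, Fintype.card_subtype_eq, ← Nat.card_eq_fintype_card]
      rw [hS]
    have h6 : f' ^ 6 = 1 := by
      have := pow_card_eq_one (x := f')
      rwa [Fintype.card_perm, hcard] at this
    refine Equiv.ext fun t => ?_
    by_cases ht : t = ⟨1, one_mem _⟩
    · subst ht; exact Equiv.Perm.pow_apply_eq_self_of_apply_eq_self hfx 6
    · have := congrArg Subtype.val (Equiv.ext_iff.1 h6 ⟨t, ht⟩)
      rw [Equiv.Perm.subtypePerm_pow, Equiv.Perm.subtypePerm_apply] at this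
      exact this
  have hf : f = 1 := by
    have hco : Nat.gcd k 6 = 1 := by
      refine Nat.Coprime.mul_right (k := k) (m := 2) (n := 3) ?_ ?_
      · exact Nat.Coprime.symm ((Nat.prime_two.coprime_iff_not_dvd).2 (by
          rw [Nat.odd_iff] at hk; omega))
      · exact Nat.Coprime.symm ((Nat.prime_three.coprime_iff_not_dvd).2 hk3)
    have : f ^ Nat.gcd k 6 = 1 := pow_gcd_eq_one.2 ⟨hf1, hf6⟩
    rwa [hco, pow_one] at this
  have := congrArg Subtype.val (Equiv.ext_iff.1 hf ⟨s, hs⟩)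
  change n * s * n⁻¹ = s at this
  exact (mul_inv_eq_iff_eq_mul.1 this).symm

end Cfsg.Agent.Lib.RankOne.Ree
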