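import Cfsg.Agent.Lib.Chev.Tw.G2

/-!
The small Ree group: exact multiplication in the unipotent group, the torus, the action on cosets of the
Borel subgroup.
-/

set_option autoImplicit false
set_option maxRecDepth 100000

namespace Cfsg.Agent.Lib.RankOne.Ree

open Cfsg.Lie Cfsg.Agent.Lib.Chev Cfsg.Agent.Lib.Chev.Tw Cfsg.Agent.Lib.Chev.Tw.G2

theorem terms78 : tabG2.terms 7 8 = [(9, -2, 1, 1), (10, -3, 2, 1), (11, 3, 1, 2)] := by decide +kernel
theorem terms79 : tabG2.terms 7 9 = [(10, 3, 1, 1)] := by decide +kernel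
theorem terms610 : tabG2.terms 6 10 = [(11, 1, 1, 1)] := by decide +kernel
theorem terms_nil : tabG2.terms 7 10 = [] ∧ tabG2.terms 7 11 = [] ∧ tabG2.terms 6 8 = [] ∧
    tabG2.terms 6 9 = [] ∧ tabG2.terms 6 11 = [] := by decide +kernel

variable {K : Type*} [Field K] [Fintype K] {m : ℕ} (A : Par K m)
include A

theorem swap_of_nil {r s : ℕ} (hr : r < 12) (hs : s < 12) (hne : s ≠ r) (hne' : s ≠ ng chevG2 r)
    (h : tabG2.terms r s = []) (t u : K) :
    (sys A).G.X K s u * (sys A).G.X K r t = (sys A).G.X K r t * (sys A).G.X K s u := by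
  rw [(sys A).G.commAt r s hr hs hne hne' t u, Good.cw, h]
  simp [Good.wordG]

/-- moving the root `7` through the layer -/
theorem push7 (x : K) (g : ℕ → K) : Z4 A g * (sys A).G.X K 7 x =
    (sys A).G.X K 7 x * Z4 A fun r => g r + if r = 9 then -(x * g 8) else 0 := by
  set G := (sys A).G with hG
  have h89 : ∀ u, G.X K 8 u * G.X K 7 x = G.X K 7 x * G.X K 8 u * G.X K 9 (-(x * u)) := by
    intro u
    rw [G.commAt 7 8 (by decide) (by decide) (by decide) (by decide) x u, Good.cw, terms78]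
    simp only [Good.wordG, List.map_cons, List.map_nil, List.prod_cons, List.prod_nil]
    have h3 := A.h3
    have e : ((-2 : ℤ) : K) * (-x) ^ 1 * u ^ 1 = -(x * u) := by push_cast; linear_combination (x * u) * h3
    have e10 : ((-3 : ℤ) : K) * (-x) ^ 2 * u ^ 1 = 0 := by push_cast; linear_combination (-(x ^ 2 * u)) * h3
    have e11 : ((3 : ℤ) : K) * (-x) ^ 1 * u ^ 2 = 0 := by push_cast; linear_combination (-(x * u ^ 2)) * h3
    rw [e, e10, e11, G.X_zero, G.X_zero, mul_one, mul_one, mul_one]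
  have h9 : ∀ u, G.X K 9 u * G.X K 7 x = G.X K 7 x * G.X K 9 u := by
    intro u
    rw [G.commAt 7 9 (by decide) (by decide) (by decide) (by decide) x u, Good.cw, terms79]
    simp only [Good.wordG, List.map_cons, List.map_nil, List.prod_cons, List.prod_nil]
    have e : ((3 : ℤ) : K) * (-x) ^ 1 * u ^ 1 = 0 := by push_cast; linear_combination (-(x * u)) * A.h3
    rw [e, G.X_zero, mul_one, mul_one]
  have h10 := fun u => swap_of_nil A (r := 7) (s := 10) (by decide) (by decide) (by decide) (by decide) terms_nil.1 x u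
  have h11 := fun u => swap_of_nil A (r := 7) (s := 11) (by decide) (by decide) (by decide) (by decide) terms_nil.2.1 x u
  have hw : ∀ f : ℕ → K, Z4 A f = G.X K 8 (f 8) * G.X K 9 (f 9) * G.X K 10 (f 10) * G.X K 11 (f 11) := by
    intro f; simp [Z4, Good'.P, Good.wordG, hG, mul_assoc]
  rw [hw, hw]
  simp only [show (8 : ℕ) ≠ 9 by decide, show (10 : ℕ) ≠ 9 by decide, show (11 : ℕ) ≠ 9 by decide,
    if_false, if_true, add_zero]
  rw [add_comm (g 9), ← G.X_add]
  calc G.X K 8 (g 8) * G.X K 9 (g 9) * G.X K 10 (g 10) * G.X K 11 (g 11) * G.X K 7 x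
      = G.X K 8 (g 8) * G.X K 9 (g 9) * G.X K 10 (g 10) * (G.X K 11 (g 11) * G.X K 7 x) := by group
    _ = G.X K 8 (g 8) * G.X K 9 (g 9) * (G.X K 10 (g 10) * G.X K 7 x) * G.X K 11 (g 11) := by
        rw [h11]; group
    _ = G.X K 8 (g 8) * (G.X K 9 (g 9) * G.X K 7 x) * G.X K 10 (g 10) * G.X K 11 (g 11) := by
        rw [h10]; group
    _ = (G.X K 8 (g 8) * G.X K 7 x) * G.X K 9 (g 9) * G.X K 10 (g 10) * G.X K 11 (g 11) := by
        rw [h9]; group
    _ = _ := by rw [h89]; group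

/-- moving the root `6` through the layer -/
theorem push6 (x : K) (g : ℕ → K) : Z4 A g * (sys A).G.X K 6 x =
    (sys A).G.X K 6 x * Z4 A fun r => g r + if r = 11 then -(x * g 10) else 0 := by
  set G := (sys A).G with hG
  have h10 : ∀ u, G.X K 10 u * G.X K 6 x = G.X K 6 x * G.X K 10 u * G.X K 11 (-(x * u)) := by
    intro u
    rw [G.commAt 6 10 (by decide) (by decide) (by decide) (by decide) x u, Good.cw, terms610]
    simp only [Good.wordG, List.map_cons, List.map_nil, List.prod_cons, List.prod_nil]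
    have e : ((1 : ℤ) : K) * (-x) ^ 1 * u ^ 1 = -(x * u) := by push_cast; ring
    rw [e, mul_one]
  have h8 := fun u => swap_of_nil A (r := 6) (s := 8) (by decide) (by decide) (by decide) (by decide) terms_nil.2.2.1 x u
  have h9 := fun u => swap_of_nil A (r := 6) (s := 9) (by decide) (by decide) (by decide) (by decide) terms_nil.2.2.2.1 x u
  have h11 := fun u => swap_of_nil A (r := 6) (s := 11) (by decide) (by decide) (by decide) (by decide) terms_nil.2.2.2.2 x u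
  have hw : ∀ f : ℕ → K, Z4 A f = G.X K 8 (f 8) * G.X K 9 (f 9) * G.X K 10 (f 10) * G.X K 11 (f 11) := by
    intro f; simp [Z4, Good'.P, Good.wordG, hG, mul_assoc]
  rw [hw, hw]
  simp only [show (8 : ℕ) ≠ 11 by decide, show (9 : ℕ) ≠ 11 by decide, show (10 : ℕ) ≠ 11 by decide,
    if_false, if_true, add_zero]
  rw [add_comm (g 11), ← G.X_add]
  calc G.X K 8 (g 8) * G.X K 9 (g 9) * G.X K 10 (g 10) * G.X K 11 (g 11) * G.X K 6 x
      = G.X K 8 (g 8) * G.X K 9 (g 9) * G.X K 10 (g 10) * (G.X K 11 (g 11) * G.X K 6 x) := by group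
    _ = G.X K 8 (g 8) * G.X K 9 (g 9) * (G.X K 10 (g 10) * G.X K 6 x) * G.X K 11 (g 11) := by
        rw [h11]; group
    _ = G.X K 8 (g 8) * (G.X K 9 (g 9) * G.X K 6 x) * G.X K 10 (g 10) * G.X K 11 (-(x * g 10)) *
        G.X K 11 (g 11) := by rw [h10]; group
    _ = (G.X K 8 (g 8) * G.X K 6 x) * G.X K 9 (g 9) * G.X K 10 (g 10) * G.X K 11 (-(x * g 10)) *
        G.X K 11 (g 11) := by rw [h9]; group
    _ = _ := by rw [h8]; group

/-- exact multiplication -/
theorem E_mul' (a b a' b' : K) (g g' : ℕ → K) :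
    E A a b g * E A a' b' g' = E A (a + a') (b + b') (lay
      (g 8 + g' 8 + a' * b) (g 9 + g' 9 + a' ^ 2 * b - a' * g 8) (g 10 + g' 10 - a' ^ 3 * b)
      (g 11 + g' 11 - a' ^ 3 * b ^ 2 - b' * (g 10 - a' ^ 3 * b))) := by
  set G := (sys A).G with hG
  have e1 := push7 A a' g
  set g1 : ℕ → K := fun r => g r + if r = 9 then -(a' * g 8) else 0 with hg1
  set L := lay (a' * b) (a' ^ 2 * b) (-(a' ^ 3 * b)) (-(a' ^ 3 * b ^ 2)) with hL
  have e2 := push6 A b' (fun r => L r + g1 r)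
  rw [← Z4_mul A] at e2
  rw [E, E, E, ← G.X_add 7 a a', ← G.X_add 6 b b']
  calc G.X K 7 a * G.X K 6 b * Z4 A g * (G.X K 7 a' * G.X K 6 b' * Z4 A g')
      = G.X K 7 a * G.X K 6 b * (Z4 A g * G.X K 7 a') * G.X K 6 b' * Z4 A g' := by group
    _ = G.X K 7 a * (G.X K 6 b * G.X K 7 a') * Z4 A g1 * G.X K 6 b' * Z4 A g' := by rw [e1]; group
    _ = G.X K 7 a * G.X K 7 a' * G.X K 6 b * (Z4 A L * Z4 A g1 * G.X K 6 b') * Z4 A g' := by
        rw [swap76 A a' b, ← hL]; group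
    _ = G.X K 7 a * G.X K 7 a' * G.X K 6 b * G.X K 6 b' *
        (Z4 A (fun r => L r + g1 r + if r = 11 then -(b' * (L 10 + g1 10)) else 0) * Z4 A g') := by
        rw [e2]; group
    _ = _ := by
        rw [Z4_mul A]
        simp only [mul_assoc]
        congr 4
        refine Good'.P_congr G fun r hr => ?_
        simp only [List.mem_cons, List.not_mem_nil, or_false] at hr
        rcases hr with rfl | rfl | rfl | rfl <;> simp [hL, hg1, lay] <;> ring

theorem E_zero : E A 0 0 (fun _ => 0) = 1 := by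
  rw [E, Z4, Good'.P_zero, (sys A).G.X_zero, (sys A).G.X_zero, one_mul, one_mul]

theorem W_zero : W A 0 0 0 = 1 := by
  rw [← E_zero A, W, E, E, map_zero]
  congr 1
  refine Good'.P_congr (sys A).G fun r hr => ?_
  simp only [List.mem_cons, List.not_mem_nil, or_false] at hr
  rcases hr with rfl | rfl | rfl | rfl <;> simp [coef3, lay]

theorem W_inj {x u v x' u' v' : K} (h : W A x u v = W A x' u' v') : x = x' ∧ u = u' ∧ v = v' := by
  obtain ⟨-, h2, h3⟩ := E_inj A h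
  exact ⟨h2, by simpa [coef3, lay] using h3 10 (by simp), by simpa [coef3, lay] using h3 11 (by simp)⟩

theorem W_eq_one {x u v : K} (h : W A x u v = 1) : x = 0 ∧ u = 0 ∧ v = 0 :=
  W_inj A (h.trans (W_zero A).symm)

/-- A cube vanishes only in the layer. -/
theorem W_cube {x u v : K} : W A x u v ^ 3 = 1 ↔ x = 0 := by
  set g := coef3 A x u v
  have h2 : W A x u v ^ 3 = E A (A.phi x) x g * E A (A.phi x) x g * E A (A.phi x) x g := by
    rw [pow_succ, pow_two]; rfl
  rw [h2, E_mul' A, E_mul' A]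
  have h3 := A.h3
  constructor
  · intro h
    rw [← E_zero A] at h
    obtain ⟨-, -, hl⟩ := E_inj A h
    have h9 := hl 9 (by simp)
    simp only [lay, if_true, show (9 : ℕ) ≠ 8 by decide, if_false] at h9
    have e : A.phi x ^ 2 * x = 0 := by
      linear_combination -h9 + (g 9 + (A.phi x) ^ 2 * x - (A.phi x) * g 8) * h3
    rcases mul_eq_zero.mp e with e | e
    · exact (map_eq_zero_iff _ A.phi.injective).mp (eq_zero_of_pow_eq_zero e)
    · exact e
  · rintro rfl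
    rw [← E_zero A, map_zero, E, E]
    congr 1
    · rw [add_zero, add_zero]
    · refine Good'.P_congr (sys A).G fun r hr => ?_
      simp only [List.mem_cons, List.not_mem_nil, or_false] at hr
      rcases hr with rfl | rfl | rfl | rfl <;> simp [lay]
      · linear_combination g 8 * h3
      · linear_combination g 9 * h3
      · linear_combination g 10 * h3
      · linear_combination g 11 * h3

/-- The torus. -/
def torT : Kˣ →* GL chevG2.Idx K :=
  MonoidHom.mk' (fun t => (sys A).G.torHom K (par A t)) fun s t => by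
    rw [← map_mul]
    congr 1
    funext j
    obtain ⟨j, hj⟩ := j
    have h4 : chevG2.rank = 2 := rfl
    match j, hj with
    | 0, _ => exact map_mul (phu A) s t
    | 1, _ => rfl
    | n + 2, h => omega

theorem torT_injective : Function.Injective (torT A) := fun _ _ e => by
  simpa [par] using congrFun (torHom_inj A e) (1 : Fin 2)

theorem torT_range : (torT A).range = chevG2.diagonalSubgroup K ⊓ G1 K m := by
  ext h
  rw [MonoidHom.mem_range, diag_eq A]
  exact ⟨fun ⟨t, e⟩ => ⟨t, e.symm⟩, fun ⟨t, e⟩ => ⟨t, e.symm⟩⟩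

theorem torT_mem (t : Kˣ) : torT A t ∈ chevG2.diagonalSubgroup K ⊓ G1 K m :=
  (torT_range A).le ⟨t, rfl⟩

theorem conj_torT (t : Kˣ) (x u v : K) :
    torT A t * W A x u v * (torT A t)⁻¹ = W A ((A.phi t ^ 3)⁻¹ * (t : K) ^ 2 * x)
      (A.phi t ^ 3 * (t : K)⁻¹ * u) ((t : K) * v) := by
  obtain ⟨p6, -, -, p10, p11⟩ := tor_par A t
  set χ := tor chevG2 tabG2 (extOne chevG2 (par A t)) with hχdef
  have hχ : IsChar chevG2 tabG2 χ := (sys A).G.isChar_tor fun i _ => extOne_ne_zero _ i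
  have e : ∀ a b f, E A a b f =
      (sys A).G.wordG [(7, a), (6, b), (8, f 8), (9, f 9), (10, f 10), (11, f 11)] := by
    intro a b f
    simp [E, Z4, Good'.P, Good.wordG, mul_assoc]
  have hc : torT A t * W A x u v * (torT A t)⁻¹ =
      E A (χ 7 * A.phi x) (χ 6 * x) (fun r => χ r * coef3 A x u v r) := by
    show (sys A).G.torHom K (par A t) * W A x u v * ((sys A).G.torHom K (par A t))⁻¹ = _
    rw [W, e, e, (sys A).diag_conj_wordG ((sys A).G.torHom_val _) hχ (by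
      intro p hp
      simp only [List.mem_cons, List.not_mem_nil, or_false] at hp
      rcases hp with rfl | rfl | rfl | rfl | rfl | rfl <;> (dsimp only; decide))]
    rfl
  have hf := (gens A).le_Fx (mul_mem (mul_mem (torT_mem A t).2 (W_mem A x u v)) (Subgroup.inv_mem _ (torT_mem A t).2))
  rw [hc] at hf ⊢
  rw [fix_E A hf.2, p6]
  congr 1
  · simp only [coef3, lay, show (10 : ℕ) ≠ 8 by decide, show (10 : ℕ) ≠ 9 by decide, if_false, if_true]
    rw [p10]
  · simp only [coef3, lay, show (11 : ℕ) ≠ 8 by decide, show (11 : ℕ) ≠ 9 by decide,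
      show (11 : ℕ) ≠ 10 by decide, if_false]
    rw [p11]

/-- fixed points of a torus element -/
theorem eq_zero_of_fixed {t : Kˣ} {x u v : K}
    (h : torT A t * W A x u v * (torT A t)⁻¹ = W A x u v) (ht : t * t ≠ 1) : x = 0 ∧ u = 0 ∧ v = 0 := by
  rw [conj_torT A] at h
  obtain ⟨hx, hu, hv⟩ := W_inj A h
  have ht0 : (t : K) ≠ 0 := t.ne_zero
  have hp0 : A.phi t ≠ 0 := (map_ne_zero_iff _ A.phi.injective).2 ht0
  have ht2 : (t : K) * t ≠ 1 := fun e => ht (Units.ext (by simpa using e))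
  refine ⟨?_, ?_, ?_⟩
  · by_contra hx0
    have e : A.phi t ^ 3 = (t : K) ^ 2 := by
      have := mul_right_cancel₀ hx0 (hx.trans (one_mul x).symm)
      field_simp at this
      exact this.symm
    have e2 : (t : K) = A.phi t ^ 2 := by
      have := congrArg A.phi e
      rwa [map_pow, map_pow, phi_cube A] at this
    have e3 : (t : K) ^ 3 = (t : K) ^ 4 := by
      calc (t : K) ^ 3 = (A.phi t ^ 2) ^ 3 := by rw [← e2]
        _ = (A.phi t ^ 3) ^ 2 := by ring
        _ = _ := by rw [e]; ring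
    have e4 : (t : K) = 1 := mul_left_cancel₀ (pow_ne_zero 3 ht0) (by linear_combination -e3)
    exact ht2 (by rw [e4, mul_one])
  · by_contra hu0
    have e : A.phi t ^ 3 = (t : K) := by
      have := mul_right_cancel₀ hu0 (hu.trans (one_mul u).symm)
      field_simp at this
      exact this
    have e2 : (t : K) = A.phi t := by
      have := congrArg A.phi e
      rwa [map_pow, phi_cube A] at this
    rw [← e2] at e
    exact ht2 (mul_left_cancel₀ ht0 (by linear_combination e))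
  · by_contra hv0
    have := mul_right_cancel₀ hv0 (hv.trans (one_mul v).symm)
    exact ht2 (by rw [this, mul_one])

theorem conj_neg_one (x u v : K) :
    torT A (-1) * W A x u v * (torT A (-1))⁻¹ = W A (-x) u (-v) := by
  rw [conj_torT A]
  have : A.phi ((-1 : Kˣ) : K) = -1 := by rw [Units.val_neg, Units.val_one, map_neg, map_one]
  rw [this, Units.val_neg, Units.val_one]
  congr 1 <;> norm_num

/-! ### The coset geometry -/

set_option quotPrecheck false

local notation "U₁" => chevG2.posUnipotent K ⊓ G1 K m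
local notation "B₁" => chevG2.borelSubgroup K ⊓ G1 K m
local notation "nn" => (sys A).G.nl K (twG2.blk 0)

theorem conj_U_neg {g : GL chevG2.Idx K} (hg : g ∈ U₁) : nn * g * nn⁻¹ ∈ chevG2.negUnipotent K := by
  obtain ⟨x, u, v, rfl⟩ := (pos_iff A g).1 hg
  exact ((flip0 A).2 ⟨x, u, v, rfl⟩).2.2

theorem n_diag : nn * nn ∈ chevG2.diagonalSubgroup K ⊓ G1 K m ∧
    ∀ w ∈ chevG2.monomialSubgroup K ⊓ G1 K m, w ∈ chevG2.diagonalSubgroup K ⊓ G1 K m ∨
      nn⁻¹ * w ∈ chevG2.diagonalSubgroup K ⊓ G1 K m := by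
  obtain ⟨φ, -, hker⟩ := weyl A
  have hnm : nn ∈ chevG2.monomialSubgroup K ⊓ (gens A).G1 :=
    ⟨(gens A).n_mono 0 (by decide), n_mem A⟩
  set N : ↥(chevG2.monomialSubgroup K ⊓ (gens A).G1) := ⟨nn, hnm⟩
  have hmem : ∀ z : ↥(chevG2.monomialSubgroup K ⊓ (gens A).G1), φ z = 1 →
      (z : GL chevG2.Idx K) ∈ chevG2.diagonalSubgroup K ⊓ G1 K m := by
    intro z hz
    have : z ∈ (gens A).H1 := hker ▸ MonoidHom.mem_ker.2 hz
    exact this
  have hN : φ N ≠ 1 := by
    intro h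
    have hd := (hmem N h).1
    have hW : W A 1 0 0 ∈ U₁ := (pos_iff A _).2 ⟨1, 0, 0, rfl⟩
    have h1 := conj_U_neg A hW
    have h2 : nn * W A 1 0 0 * nn⁻¹ ∈ chevG2.posUnipotent K :=
      (Subgroup.mem_normalizer_iff.1 ((sys A).G.diag_normalizes_pos hd) _).1 hW.1
    have h3 := (sys A).pos_neg_trivial h2 h1
    exact one_ne_zero (W_eq_one A (conj_eq_one_iff.1 h3)).1
  have htwo : ∀ a : Multiplicative (ZMod 2), a ≠ 1 → a = φ N := by
    have : ∀ a b : Multiplicative (ZMod 2), a ≠ 1 → b ≠ 1 → a = b := by decide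
    exact fun a ha => this a _ ha hN
  refine ⟨hmem (N * N) (by rw [map_mul]; generalize φ N = a; revert a; decide), fun w hw => ?_⟩
  by_cases h : φ ⟨w, hw⟩ = 1
  · exact Or.inl (hmem _ h)
  · exact Or.inr (hmem (N⁻¹ * ⟨w, hw⟩) (by rw [map_mul, map_inv, ← htwo _ h, inv_mul_cancel]))

theorem conj_n_diag {d : GL chevG2.Idx K} (hd : d ∈ chevG2.diagonalSubgroup K ⊓ G1 K m) :
    nn * d * nn⁻¹ ∈ chevG2.diagonalSubgroup K ⊓ G1 K m ∧ nn⁻¹ * d * nn ∈ chevG2.diagonalSubgroup K ⊓ G1 K m := by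
  have hn : nn ∈ chevG2.monomialSubgroup K := (gens A).n_mono 0 (by decide)
  have hN := (sys A).G.diagonal_normal (F := K)
  refine ⟨⟨?_, mul_mem (mul_mem (n_mem A) hd.2) (Subgroup.inv_mem _ (n_mem A))⟩, ⟨?_, mul_mem (mul_mem (Subgroup.inv_mem _ (n_mem A)) hd.2) (n_mem A)⟩⟩
  · exact hN.conj_mem ⟨d, Good.diagonal_le_monomial hd.1⟩ hd.1 ⟨nn, hn⟩
  · have := hN.conj_mem ⟨d, Good.diagonal_le_monomial hd.1⟩ hd.1 ⟨nn⁻¹, Subgroup.inv_mem _ hn⟩
    simpa [Subgroup.mem_subgroupOf, inv_inv] using this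

theorem mem_B_iff {g : GL chevG2.Idx K} :
    g ∈ B₁ ↔ ∃ u ∈ U₁, ∃ d ∈ chevG2.diagonalSubgroup K ⊓ G1 K m, g = u * d := by
  constructor
  · rintro ⟨hb, hg⟩
    obtain ⟨u, d, h1, h2, h3, h4, rfl⟩ := (gens A).borel_decomp hb hg
    exact ⟨u, ⟨h1, h2⟩, d, ⟨h3, h4⟩, rfl⟩
  · rintro ⟨u, hu, d, hd, rfl⟩
    exact ⟨(sys A).G.mem_borel.2 ⟨u, hu.1, d, hd.1, rfl⟩, mul_mem hu.2 hd.2⟩

theorem U_le_B : U₁ ≤ B₁ := fun u hu => (mem_B_iff A).2 ⟨u, hu, 1, one_mem _, (mul_one u).symm⟩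

theorem H_le_B : chevG2.diagonalSubgroup K ⊓ G1 K m ≤ B₁ :=
  fun d hd => (mem_B_iff A).2 ⟨1, one_mem _, d, hd, (one_mul d).symm⟩

theorem conj_B_U {b u : GL chevG2.Idx K} (hb : b ∈ B₁) (hu : u ∈ U₁) : b * u * b⁻¹ ∈ U₁ := by
  obtain ⟨v, hv, d, hd, rfl⟩ := (mem_B_iff A).1 hb
  have h1 : d * u * d⁻¹ ∈ U₁ :=
    ⟨(Subgroup.mem_normalizer_iff.1 ((sys A).G.diag_normalizes_pos hd.1) _).1 hu.1,
      mul_mem (mul_mem hd.2 hu.2) (Subgroup.inv_mem _ hd.2)⟩
  rw [show v * d * u * (v * d)⁻¹ = v * (d * u * d⁻¹) * v⁻¹ by group]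
  exact mul_mem (mul_mem hv h1) (Subgroup.inv_mem _ hv)

/-- `U` meets its opposite trivially -/
theorem eq_one_of_conj_mem {u : GL chevG2.Idx K} (hu : u ∈ U₁) (h : nn⁻¹ * u * nn ∈ B₁) : u = 1 := by
  set d := nn * nn
  have hd := (n_diag A).1
  have h1 : nn⁻¹ * u * nn = d⁻¹ * (nn * u * nn⁻¹) * d := by simp only [d]; group
  have h2 : nn⁻¹ * u * nn ∈ chevG2.negUnipotent K := by
    rw [h1]
    have := (Subgroup.mem_normalizer_iff.1 ((sys A).G.diag_normalizes_neg (Subgroup.inv_mem _ hd.1)) _).1 (conj_U_neg A hu)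
    simpa [d] using this
  have h3 : nn⁻¹ * u * nn = 1 := Subgroup.mem_bot.1 ((sys A).G.borel_inf_neg (F := K) ▸ ⟨h.1, h2⟩)
  calc u = nn * (nn⁻¹ * u * nn) * nn⁻¹ := by group
    _ = 1 := by rw [h3]; group

theorem bruhat {g : GL chevG2.Idx K} (hg : g ∈ G1 K m) :
    g ∈ B₁ ∨ ∃ u ∈ U₁, ∃ b ∈ B₁, g = u * nn * b := by
  obtain ⟨u₁, w, u₂, h1, g1, hw, gw, h2, g2, rfl⟩ := (gens A).normal_form (g := g) hg
  rcases (n_diag A).2 w ⟨hw, gw⟩ with h | h
  · exact Or.inl (mul_mem (mul_mem (U_le_B A ⟨h1, g1⟩) (H_le_B A h)) (U_le_B A ⟨h2.1, g2⟩))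
  · refine Or.inr ⟨u₁, ⟨h1, g1⟩, nn⁻¹ * w * u₂, mul_mem (H_le_B A h) (U_le_B A ⟨h2.1, g2⟩), by group⟩

theorem n_notMem : nn ∉ B₁ := fun h => by
  have hW : W A 1 0 0 ∈ U₁ := (pos_iff A _).2 ⟨1, 0, 0, rfl⟩
  refine one_ne_zero (W_eq_one A (eq_one_of_conj_mem A hW ?_)).1
  exact mul_mem (mul_mem (Subgroup.inv_mem _ h) (U_le_B A hW)) h

/-- the stabiliser of two points -/
theorem B_inf_conj {b : GL chevG2.Idx K} (hb : b ∈ B₁) (h : nn⁻¹ * b * nn ∈ B₁) :
    b ∈ chevG2.diagonalSubgroup K ⊓ G1 K m := by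
  obtain ⟨u, hu, d, hd, rfl⟩ := (mem_B_iff A).1 hb
  have h1 := mul_mem h (Subgroup.inv_mem _ (H_le_B A (conj_n_diag A hd).2))
  rw [show nn⁻¹ * (u * d) * nn * (nn⁻¹ * d * nn)⁻¹ = nn⁻¹ * u * nn by group] at h1
  rw [eq_one_of_conj_mem A hu h1, one_mul]
  exact hd

theorem card_U : Nat.card ↥U₁ = (3 ^ (2 * m + 1)) ^ 3 := by
  have := (gens A).card_pos (q := 3 ^ (2 * m + 1)) (e := fun k => [3].getD k 0) (flips A)
  simpa [gens] using this

end Cfsg.Agent.Lib.RankOne.Ree
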