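import Cfsg.Agent.Lib.RankOne.ReeCentralizer

/-!
Centralisers of unipotent and toral elements of the small Ree group, and a conjugate counting lemma.
-/

set_option autoImplicit false
set_option maxRecDepth 100000

namespace Cfsg.Agent.Lib.RankOne.Ree

open Cfsg.Lie Cfsg.Agent.Lib.Chev Cfsg.Agent.Lib.Chev.Tw Cfsg.Agent.Lib.Chev.Tw.G2

/-- The elements conjugate into a trivial intersection set. -/
theorem card_conjugates {G : Type*} [Group G] [Finite G] (S : Set G) (N : Subgroup G)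
    (hN : ∀ n ∈ N, ∀ s ∈ S, n * s * n⁻¹ ∈ S) (hTI : ∀ g, ∀ s ∈ S, g * s * g⁻¹ ∈ S → g ∈ N) :
    {x : G | ∃ g, ∃ s ∈ S, g * s * g⁻¹ = x}.ncard = N.index * S.ncard := by
  rw [← Nat.card_coe_set_eq, ← Nat.card_coe_set_eq S, Subgroup.index, ← Nat.card_prod]
  refine (Nat.card_eq_of_bijective
    (fun c : (G ⧸ N) × ↥S => (⟨c.1.out * c.2.1 * c.1.out⁻¹, c.1.out, c.2.1, c.2.2, rfl⟩ :
      ↥{x : G | ∃ g, ∃ s ∈ S, g * s * g⁻¹ = x})) ⟨?_, ?_⟩).symm
  · rintro ⟨c, s, hs⟩ ⟨c', s', hs'⟩ h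
    have e : c.out * s * c.out⁻¹ = c'.out * s' * c'.out⁻¹ := congrArg Subtype.val h
    have e' : (c'.out⁻¹ * c.out) * s * (c'.out⁻¹ * c.out)⁻¹ = s' := by
      calc _ = c'.out⁻¹ * (c.out * s * c.out⁻¹) * c'.out := by group
        _ = s' := by rw [e]; group
    have hm : c'.out⁻¹ * c.out ∈ N := hTI _ s hs (by rw [e']; exact hs')
    have hc : c' = c := by
      rw [← c'.out_eq', ← c.out_eq', QuotientGroup.eq]; exact hm
    subst hc
    obtain rfl : s = s' := mul_left_cancel (mul_right_cancel e)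
    rfl
  · rintro ⟨x, g, s, hs, rfl⟩
    have hm : ((g : G ⧸ N)).out⁻¹ * g ∈ N := by
      rw [← QuotientGroup.eq, QuotientGroup.out_eq']
    refine ⟨((g : G ⧸ N), ⟨_, hN _ hm s hs⟩), Subtype.ext ?_⟩
    show (g : G ⧸ N).out * (((g : G ⧸ N)).out⁻¹ * g * s * (((g : G ⧸ N)).out⁻¹ * g)⁻¹) * (g : G ⧸ N).out⁻¹ = _
    group

variable {K : Type*} [Field K] [Fintype K] {m : ℕ} (A : Par K m)
include A

set_option quotPrecheck false
local notation "U₁" => chevG2.posUnipotent K ⊓ G1 K m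
local notation "B₁" => chevG2.borelSubgroup K ⊓ G1 K m
local notation "H₁" => chevG2.diagonalSubgroup K ⊓ G1 K m
local notation "nn" => (sys A).G.nl K (twG2.blk 0)

/-- Conjugation into the unipotent group forces membership in the Borel subgroup. -/
theorem mem_B_of_conj_U {g u : GL chevG2.Idx K} (hg : g ∈ G1 K m) (hu : u ∈ U₁) (hu1 : u ≠ 1)
    (h : g * u * g⁻¹ ∈ U₁) : g ∈ B₁ := by
  by_contra hgB
  obtain ⟨w, hw, β, hβ, rfl⟩ := (bruhat A hg).resolve_left hgB
  have hy := conj_B_U A hβ hu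
  have e : nn * (β * u * β⁻¹) * nn⁻¹ = w⁻¹ * (w * nn * β * u * (w * nn * β)⁻¹) * w := by group
  have h1 : nn * (β * u * β⁻¹) * nn⁻¹ ∈ U₁ := by
    rw [e]; exact Subgroup.mul_mem _ (Subgroup.mul_mem _ (Subgroup.inv_mem _ hw) h) hw
  exact hu1 (conj_eq_one_iff.1 (conj_eq_one_iff.1 ((sys A).pos_neg_trivial h1.1 (conj_U_neg A hy))))

theorem sq_cases {t : Kˣ} (h : t * t = 1) : t = 1 ∨ t = -1 := by
  rcases mul_self_eq_one_iff.1 (show (t : K) * t = 1 by simpa using congrArg Units.val h) with e | e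
  · exact Or.inl (Units.ext e)
  · exact Or.inr (Units.ext (by simpa using e))

theorem fixed_eq_one {t : Kˣ} (ht : t * t ≠ 1) {u : GL chevG2.Idx K} (hu : u ∈ U₁)
    (h : torT A t * u * (torT A t)⁻¹ = u) : u = 1 := by
  obtain ⟨x, y, z, rfl⟩ := (pos_iff A u).1 hu
  obtain ⟨rfl, rfl, rfl⟩ := eq_zero_of_fixed A h ht
  exact W_zero A

/-- Elements of `U t` are conjugate to `t` when `t` acts without fixed points. -/
theorem exists_conj_torT {t : Kˣ} (ht : t * t ≠ 1) {v : GL chevG2.Idx K} (hv : v ∈ U₁) :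
    ∃ w ∈ U₁, w * torT A t * w⁻¹ = v * torT A t := by
  set d := torT A t
  have hd : d ∈ B₁ := H_le_B A (torT_mem A t)
  let f : ↥(U₁) → ↥(U₁) := fun w => ⟨(w : GL chevG2.Idx K) * (d * (w : GL chevG2.Idx K)⁻¹ * d⁻¹),
    Subgroup.mul_mem _ w.2 (conj_B_U A hd (Subgroup.inv_mem _ w.2))⟩
  have hf : Function.Injective f := by
    intro w w' h
    have e : (w : GL chevG2.Idx K) * (d * (w : GL chevG2.Idx K)⁻¹ * d⁻¹) =
        (w' : GL chevG2.Idx K) * (d * (w' : GL chevG2.Idx K)⁻¹ * d⁻¹) := congrArg Subtype.val h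
    have e' : d * ((w : GL chevG2.Idx K)⁻¹ * w') * d⁻¹ = (w : GL chevG2.Idx K)⁻¹ * w' := by
      calc d * ((w : GL chevG2.Idx K)⁻¹ * w') * d⁻¹
          = (w : GL chevG2.Idx K)⁻¹ * ((w : GL chevG2.Idx K) * (d * (w : GL chevG2.Idx K)⁻¹ * d⁻¹)) *
            (d * w' * d⁻¹) := by group
        _ = _ := by rw [e]; group
    exact Subtype.ext (inv_mul_eq_one.1 (fixed_eq_one A ht (Subgroup.mul_mem _ (Subgroup.inv_mem _ w.2) w'.2) e'))
  obtain ⟨w, hw⟩ := Finite.surjective_of_injective hf ⟨v, hv⟩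
  refine ⟨w, w.2, ?_⟩
  rw [← show (w : GL chevG2.Idx K) * (d * (w : GL chevG2.Idx K)⁻¹ * d⁻¹) = v from congrArg Subtype.val hw]
  group

theorem U_pow_nine {u : GL chevG2.Idx K} (hu : u ∈ U₁) : u ^ 9 = 1 := by
  obtain ⟨x, y, z, rfl⟩ := (pos_iff A u).1 hu
  obtain ⟨x', y', z', h'⟩ := (pos_iff A _).1 (Subgroup.pow_mem _ hu 3)
  have e : E A (A.phi x) x (coef3 A x y z) * E A (A.phi x) x (coef3 A x y z) * E A (A.phi x) x (coef3 A x y z) =
      E A (A.phi x') x' (coef3 A x' y' z') := by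
    rw [pow_succ, pow_two] at h'; exact h'
  rw [E_mul' A, E_mul' A] at e
  obtain ⟨-, e2, -⟩ := E_inj A e
  have hx' : x' = 0 := by linear_combination x * A.h3 - e2
  rw [show (9 : ℕ) = 3 * 3 from rfl, pow_mul, h', W_cube A]
  exact hx'

theorem pow_eighteen {v : GL chevG2.Idx K} (hv : v ∈ U₁) {t : Kˣ} (ht : t * t = 1) :
    (v * torT A t) ^ 18 = 1 := by
  have h2 : (v * torT A t) ^ 2 = v * (torT A t * v * (torT A t)⁻¹) := by
    rw [pow_two]
    calc v * torT A t * (v * torT A t) = v * (torT A t * v * (torT A t)⁻¹) * (torT A t * torT A t) := by group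
      _ = _ := by rw [← map_mul, ht, map_one, mul_one]
  rw [show (18 : ℕ) = 2 * 9 from rfl, pow_mul, h2]
  exact U_pow_nine A (Subgroup.mul_mem _ hv (conj_B_U A (H_le_B A (torT_mem A t)) hv))

/-- Centralisers of unipotent elements. -/
theorem centralizer_U {g u : GL chevG2.Idx K} (hg : g ∈ G1 K m) (hu : u ∈ U₁) (hu1 : u ≠ 1)
    (h : g * u = u * g) : g ∈ B₁ ∧ g ^ 18 = 1 := by
  have hgB : g ∈ B₁ := mem_B_of_conj_U A hg hu hu1 (by rw [h, mul_inv_cancel_right]; exact hu)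
  refine ⟨hgB, ?_⟩
  obtain ⟨v, hv, d, hd, rfl⟩ := (mem_B_iff A).1 hgB
  obtain ⟨t, rfl⟩ := (torT_range A).ge hd
  by_cases ht : t * t = 1
  · exact pow_eighteen A hv ht
  · exfalso
    obtain ⟨w, hw, e⟩ := exists_conj_torT A ht hv
    have h1 : w⁻¹ * u * w ∈ U₁ := Subgroup.mul_mem _ (Subgroup.mul_mem _ (Subgroup.inv_mem _ hw) hu) hw
    have h2 : torT A t * (w⁻¹ * u * w) * (torT A t)⁻¹ = w⁻¹ * u * w := by
      calc _ = w⁻¹ * ((w * torT A t * w⁻¹) * u * (w * torT A t * w⁻¹)⁻¹) * w := by group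
        _ = _ := by rw [e, h, mul_inv_cancel_right]
    have h3 := fixed_eq_one A ht h1 h2
    exact hu1 (by
      calc u = w * (w⁻¹ * u * w) * w⁻¹ := by group
        _ = 1 := by rw [h3]; group)

/-- `n` inverts the torus. -/
theorem n_torT (t : Kˣ) : nn * torT A t * nn⁻¹ = torT A t⁻¹ := by
  have key : ∀ u : Kˣ, nn * torT A (fK A u) * nn⁻¹ = torT A (fK A u)⁻¹ := by
    intro u
    rw [← psi_sd A, ← psi_sn A, ← map_inv, ← map_mul, ← map_mul, ← map_inv (fK A), ← psi_sd A]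
    congr 1
    refine Subtype.ext ?_
    simp only [Matrix.SpecialLinearGroup.coe_mul, sn_val, sn_inv_val, sd_val u.ne_zero,
      sd_val (u⁻¹ : Kˣ).ne_zero, sd_val (inv_ne_zero u.ne_zero), Units.val_inv_eq_inv_val]
    simp [Matrix.mul_fin_two]
  obtain ⟨u, rfl | rfl⟩ := exists_sign_fK A t
  · exact key u
  · have h1 : (-1 : Kˣ)⁻¹ = -1 := inv_eq_of_mul_eq_one_right (Units.ext (by simp))
    rw [map_mul, mul_inv, h1, map_mul]
    calc nn * (torT A (-1) * torT A (fK A u)) * nn⁻¹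
        = nn * torT A (-1) * nn⁻¹ * (nn * torT A (fK A u) * nn⁻¹) := by group
      _ = _ := by rw [key u, ← neg_comm_n A, mul_inv_cancel_right]

/-- Conjugation inside the torus. -/
theorem torus_TI {t : Kˣ} (ht : t * t ≠ 1) {g : GL chevG2.Idx K} (hg : g ∈ G1 K m)
    (h : g * torT A t * g⁻¹ ∈ H₁) : g ∈ H₁ ∨ nn⁻¹ * g ∈ H₁ := by
  obtain ⟨t', ht'⟩ := (torT_range A).ge h
  have ht'2 : t' * t' ≠ 1 := by
    intro e
    apply ht
    apply torT_injective A
    have e' : g * (torT A t * torT A t) * g⁻¹ = 1 := by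
      calc _ = (g * torT A t * g⁻¹) * (g * torT A t * g⁻¹) := by group
        _ = 1 := by rw [← ht', ← map_mul, e, map_one]
    rw [map_mul, conj_eq_one_iff.1 e', map_one]
  have key : ∀ {s : Kˣ}, s * s ≠ 1 → ∀ {v e : GL chevG2.Idx K}, v ∈ U₁ →
      e ∈ H₁ → v * torT A s * v⁻¹ = e → v = 1 := by
    intro s hs v e hv he hh
    have h1 : (v * (torT A s * v⁻¹ * (torT A s)⁻¹)) * torT A s = 1 * e := by rw [one_mul, ← hh]; group
    have h2 := (pos_diag_eq A (Subgroup.mul_mem _ hv (conj_B_U A (H_le_B A (torT_mem A s)) (Subgroup.inv_mem _ hv))).1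
      (one_mem _) (torT_mem A s).1 he.1 h1).1
    refine fixed_eq_one A hs hv ?_
    rw [mul_eq_one_iff_eq_inv] at h2
    calc torT A s * v * (torT A s)⁻¹ = (torT A s * v⁻¹ * (torT A s)⁻¹)⁻¹ := by group
      _ = _ := by rw [← h2]
  rcases bruhat A hg with hb | ⟨u, hu, b, hb, rfl⟩
  · obtain ⟨v, hv, d, hd, rfl⟩ := (mem_B_iff A).1 hb
    obtain ⟨s, rfl⟩ := (torT_range A).ge hd
    have h1 : v * torT A t * v⁻¹ = torT A t' := by
      rw [ht']
      calc v * torT A t * v⁻¹ = v * (torT A s * torT A t * (torT A s)⁻¹) * v⁻¹ := by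
            rw [← map_mul, mul_comm s t, map_mul]; group
        _ = _ := by group
    rw [key ht hv (torT_mem A t') h1, one_mul]
    exact Or.inl hd
  · obtain ⟨v, hv, d, hd, rfl⟩ := (mem_B_iff A).1 hb
    obtain ⟨s, rfl⟩ := (torT_range A).ge hd
    have hcomm : torT A s * torT A t * (torT A s)⁻¹ = torT A t := by
      rw [← map_mul, mul_comm s t, map_mul]; group
    have e : nn⁻¹ * (u⁻¹ * torT A t' * u) * nn = v * torT A t * v⁻¹ := by
      rw [ht']
      calc _ = v * (torT A s * torT A t * (torT A s)⁻¹) * v⁻¹ := by group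
        _ = _ := by rw [hcomm]
    have hb1 : u⁻¹ * torT A t' * u ∈ B₁ := Subgroup.mul_mem _
      (Subgroup.mul_mem _ (Subgroup.inv_mem _ (U_le_B A hu)) (H_le_B A (torT_mem A t'))) (U_le_B A hu)
    have hH := B_inf_conj A hb1 (by
      rw [e]
      exact Subgroup.mul_mem _ (Subgroup.mul_mem _ (U_le_B A hv) (H_le_B A (torT_mem A t)))
        (Subgroup.inv_mem _ (U_le_B A hv)))
    have hu1 : u = 1 := inv_eq_one.1 (key ht'2 (Subgroup.inv_mem _ hu) hH (by group))
    subst hu1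
    have hv1 : v = 1 := key ht hv (conj_n_diag A hH).2 e.symm
    subst hv1
    refine Or.inr ?_
    rw [show nn⁻¹ * (1 * nn * (1 * torT A s)) = torT A s by group]
    exact hd

/-- The unipotent elements fixed by the standard involution. -/
theorem fixed_neg_iff {u : GL chevG2.Idx K} (hu : u ∈ U₁) :
    torT A (-1) * u * (torT A (-1))⁻¹ = u ↔ ∃ y, u = W A 0 y 0 := by
  obtain ⟨x, y, z, rfl⟩ := (pos_iff A u).1 hu
  rw [conj_neg_one A]
  constructor
  · intro h
    obtain ⟨hx, -, hz⟩ := W_inj A h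
    have h2 : (2 : K) ≠ 0 := fun e => one_ne_zero (by linear_combination A.h3 - e)
    obtain rfl : x = 0 := (mul_eq_zero.1 (show (2 : K) * x = 0 by linear_combination -hx)).resolve_left h2
    obtain rfl : z = 0 := (mul_eq_zero.1 (show (2 : K) * z = 0 by linear_combination -hz)).resolve_left h2
    exact ⟨y, rfl⟩
  · rintro ⟨y', e⟩
    obtain ⟨rfl, -, rfl⟩ := W_inj A e
    rw [neg_zero]

/-- The elements `v a` inverted to involutions. -/
theorem card_involutions_Ua :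
    {v : GL chevG2.Idx K | v ∈ U₁ ∧ (v * torT A (-1)) ^ 2 = 1}.ncard = Fintype.card K ^ 2 := by
  classical
  set a := torT A (-1) with ha
  have ha2 : a * a = 1 := torT_neg_sq A
  have hai : a⁻¹ = a := inv_eq_of_mul_eq_one_right ha2
  let C : Subgroup ↥(U₁) := (Subgroup.centralizer {a}).subgroupOf (U₁)
  let f : ↥(U₁) → GL chevG2.Idx K := fun w => (w : GL chevG2.Idx K) * (a * (w : GL chevG2.Idx K)⁻¹ * a⁻¹)
  have hrange : Set.range f = {v : GL chevG2.Idx K | v ∈ U₁ ∧ (v * a) ^ 2 = 1} := by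
    ext v
    constructor
    · rintro ⟨w, rfl⟩
      refine ⟨Subgroup.mul_mem _ w.2 (conj_B_U A (H_le_B A (torT_mem A _)) (Subgroup.inv_mem _ w.2)), ?_⟩
      rw [pow_two]
      calc f w * a * (f w * a) = (w : GL chevG2.Idx K) * (a * a) * (w : GL chevG2.Idx K)⁻¹ := by
            simp only [f]; group
        _ = 1 := by rw [ha2]; group
    · rintro ⟨hv, h2⟩
      refine ⟨⟨v ^ 5, Subgroup.pow_mem _ hv 5⟩, ?_⟩
      have hav : a * v * a⁻¹ = v⁻¹ := by
        refine (inv_eq_of_mul_eq_one_right ?_).symm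
        rw [hai]
        calc v * (a * v * a) = (v * a) ^ 2 := by rw [pow_two]; group
          _ = 1 := h2
      show v ^ 5 * (a * (v ^ 5)⁻¹ * a⁻¹) = v
      rw [show a * (v ^ 5)⁻¹ * a⁻¹ = ((a * v * a⁻¹) ^ 5)⁻¹ by rw [conj_pow]; group, hav, inv_pow, inv_inv,
        ← pow_add, show 5 + 5 = 9 + 1 from rfl, pow_succ, U_pow_nine A hv, one_mul]
  have hcardC : Nat.card ↥C = Fintype.card K := by
    rw [← Nat.card_eq_fintype_card]
    refine (Nat.card_eq_of_bijective
      (fun y : K => (⟨⟨W A 0 y 0, W_pos A _ _ _, W_mem A _ _ _⟩, ?_⟩ : ↥C)) ⟨?_, ?_⟩).symm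
    · show W A 0 y 0 ∈ Subgroup.centralizer {a}
      exact Subgroup.mem_centralizer_singleton_iff.2 ((mem_CA A).1 (W0_mem_CA A y)).2.symm
    · intro y y' h
      exact (W_inj A (congrArg (fun z : ↥C => ((z : ↥(U₁)) : GL chevG2.Idx K)) h)).2.1
    · rintro ⟨⟨w, hw⟩, hc⟩
      have hc' : torT A (-1) * w = w * torT A (-1) := (Subgroup.mem_centralizer_singleton_iff.1 hc).symm
      obtain ⟨y, rfl⟩ := (fixed_neg_iff A hw).1 (by rw [hc', mul_inv_cancel_right])
      exact ⟨y, rfl⟩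
  have key : ∀ w w' : ↥(U₁), f w = f w' ↔ w⁻¹ * w' ∈ C := by
    intro w w'
    show _ ↔ (w : GL chevG2.Idx K)⁻¹ * w' ∈ Subgroup.centralizer {a}
    rw [Subgroup.mem_centralizer_singleton_iff]
    constructor
    · intro h
      calc (w : GL chevG2.Idx K)⁻¹ * w' * a = (w : GL chevG2.Idx K)⁻¹ * (f w' * a) * w' := by simp only [f]; group
        _ = _ := by rw [← h]; simp only [f]; group
    · intro h
      calc f w = (w : GL chevG2.Idx K) * (a * ((w : GL chevG2.Idx K)⁻¹ * w')) * (w' : GL chevG2.Idx K)⁻¹ * a⁻¹ := by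
            simp only [f]; group
        _ = f w' := by rw [← h]; simp only [f]; group
  rw [← hrange, ← Nat.card_coe_set_eq]
  have hq : Nat.card (Set.range f) = C.index := by
    rw [Subgroup.index]
    refine (Nat.card_eq_of_bijective (Quotient.lift (fun w => (⟨f w, w, rfl⟩ : ↥(Set.range f)))
      fun w w' h => Subtype.ext ((key w w').2 (QuotientGroup.leftRel_apply.1 h))) ⟨?_, ?_⟩).symm
    · intro c c'
      induction c using Quotient.inductionOn' with | _ w =>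
      induction c' using Quotient.inductionOn' with | _ w' =>
      intro h
      exact QuotientGroup.eq.2 ((key w w').1 (congrArg Subtype.val h))
    · rintro ⟨_, w, rfl⟩
      exact ⟨QuotientGroup.mk w, rfl⟩
  have h := C.card_mul_index
  rw [hcardC, ← hq, card_U A, ← A.hK] at h
  refine Nat.eq_of_mul_eq_mul_left (Fintype.card_pos (α := K)) ?_
  rw [h, ← pow_succ']

end Cfsg.Agent.Lib.RankOne.Ree
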