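import Cfsg.Agent.Lib.RankOne.ReeSinger

/-!
Counting the elements of the small Ree group: the two classes of Singer type tori.
-/

set_option autoImplicit false
set_option maxRecDepth 100000

namespace Cfsg.Agent.Lib.RankOne.Ree

open Cfsg.Lie Cfsg.Agent.Lib.Chev Cfsg.Agent.Lib.Chev.Tw Cfsg.Agent.Lib.Chev.Tw.G2
open Cfsg.Agent.Lib.RankOne.Ree.SylowTwo (inv0 orderOf_inv0 involution_conj)

theorem dvd_two_of {n : ℕ} (h18 : n ∣ 18) (h3 : ¬ 3 ∣ n) : n ∣ 2 :=
  (Nat.Coprime.pow_right 2 ((Nat.prime_three.coprime_iff_not_dvd).2 h3).symm).dvd_of_dvd_mul_right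
    (by rwa [show (2 : ℕ) * 3 ^ 2 = 18 from rfl])

theorem qn_coprime (m : ℕ) :
    Nat.Coprime (Qn m) (3 ^ (2 * m + 1) - 1) ∧ Nat.Coprime (Qn m) (3 ^ (2 * m + 1) + 1) ∧
      Nat.Coprime (Qn m) 18 ∧ Nat.Coprime (Qn m) 2 := by
  refine ⟨Nat.coprime_of_dvd fun p hp h h' => (prime_dvd_Qn hp h).2.2.1 h',
    Nat.coprime_of_dvd fun p hp h h' => (prime_dvd_Qn hp h).2.2.2 h', ?_, ?_⟩
  · refine Nat.coprime_of_dvd fun p hp h h' => ?_
    have h3 := (prime_dvd_Qn hp h).1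
    have := Nat.le_of_dvd (by norm_num) h'
    interval_cases p <;> first | omega | (revert hp; norm_num)
  · refine Nat.coprime_of_dvd fun p hp h h' => ?_
    have h3 := (prime_dvd_Qn hp h).1
    have := Nat.le_of_dvd (by norm_num) h'
    omega

variable {K : Type*} [Field K] [Fintype K] {m : ℕ} (A : Par K m)
include A

set_option quotPrecheck false
local notation "qq" => 3 ^ (2 * m + 1)
local notation "GG" => ↥(twistedG2 K (3 ^ m))
local notation "U₁" => chevG2.posUnipotent K ⊓ G1 K m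
local notation "B₁" => chevG2.borelSubgroup K ⊓ G1 K m

theorem card_involutions (hm : 1 ≤ m) : {x : GG | orderOf x = 2}.ncard = qq ^ 2 * Qn m := by
  set N := Subgroup.centralizer {inv0 A}
  have hset : {x : GG | orderOf x = 2} = {x : GG | ∃ g, ∃ s ∈ ({inv0 A} : Set GG), g * s * g⁻¹ = x} := by
    ext x
    constructor
    · intro hx
      obtain ⟨g, hg⟩ := involution_conj A hm hx
      exact ⟨g, _, rfl, hg⟩
    · rintro ⟨g, s, rfl, rfl⟩
      show orderOf (MulAut.conj g (inv0 A)) = 2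
      rw [MulEquiv.orderOf_eq, orderOf_inv0 A]
  rw [hset, card_conjugates _ N (fun n hn s hs => by
    rw [Set.mem_singleton_iff] at hs ⊢
    rw [hs, Subgroup.mem_centralizer_singleton_iff.1 hn, mul_inv_cancel_right]) (fun g s hs h => by
    rw [Set.mem_singleton_iff] at hs h
    rw [hs] at h
    exact Subgroup.mem_centralizer_singleton_iff.2 (mul_inv_eq_iff_eq_mul.1 h)), Set.ncard_singleton, mul_one]
  have h := N.card_mul_index
  rw [card_centralizer_inv0 A, card_G A] at h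
  refine Nat.eq_of_mul_eq_mul_left (n := qq * ((qq - 1) * (qq + 1))) ?_ (by rw [h]; ring)
  have := (q_facts hm).1
  exact Nat.mul_pos (by omega) (Nat.mul_pos (by omega) (by omega))

theorem card_B : Nat.card ↥(B₁) = qq ^ 3 * (qq - 1) := by
  have e : Nat.card (↥(U₁) × Kˣ) = qq ^ 3 * (qq - 1) := by
    rw [Nat.card_prod, card_U A, Nat.card_units, Nat.card_eq_fintype_card, A.hK]
  rw [← e]
  refine (Nat.card_eq_of_bijective (fun p : ↥(U₁) × Kˣ =>
    (⟨p.1 * torT A p.2, Subgroup.mul_mem _ (U_le_B A p.1.2) (H_le_B A (torT_mem A p.2))⟩ : ↥(B₁))) ⟨?_, ?_⟩).symm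
  · rintro ⟨u, t⟩ ⟨u', t'⟩ h
    obtain ⟨h1, h2⟩ := pos_diag_eq A u.2.1 u'.2.1 (torT_mem A t).1 (torT_mem A t').1 (congrArg Subtype.val h)
    exact Prod.ext (Subtype.ext h1) (torT_injective A h2)
  · rintro ⟨b, hb⟩
    obtain ⟨v, hv, d, hd, rfl⟩ := (mem_B_iff A).1 hb
    obtain ⟨t, rfl⟩ := (torT_range A).ge hd
    exact ⟨(⟨v, hv⟩, t), rfl⟩

theorem pow_B {v : GL chevG2.Idx K} (hv : v ∈ U₁) (t : Kˣ) (n : ℕ) :
    ∃ v' ∈ U₁, (v * torT A t) ^ n = v' * torT A (t ^ n) := by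
  induction n with
  | zero => exact ⟨1, one_mem _, by simp⟩
  | succ n ih =>
    obtain ⟨v', hv', e⟩ := ih
    refine ⟨v' * (torT A (t ^ n) * v * (torT A (t ^ n))⁻¹),
      Subgroup.mul_mem _ hv' (conj_B_U A (H_le_B A (torT_mem A _)) hv), ?_⟩
    rw [pow_succ, e, pow_succ t, map_mul]
    group

theorem card_three (hm : 1 ≤ m) : {x : GG | 3 ∣ orderOf x}.ncard = (qq ^ 3 + 1) * (2 * qq ^ 3 - qq ^ 2 - 1) := by
  classical
  obtain ⟨hq, hq8, hq3⟩ := q_facts hm
  set BG : Subgroup GG := (B₁).subgroupOf (twistedG2 K (3 ^ m)) with hBG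
  set S : Set GG := {x | x ∈ BG ∧ 3 ∣ orderOf x}
  have hconj : ∀ (g x : GG), orderOf (g * x * g⁻¹) = orderOf x := fun g x => (MulAut.conj g).orderOf_eq x
  have hset : {x : GG | 3 ∣ orderOf x} = {x : GG | ∃ g, ∃ s ∈ S, g * s * g⁻¹ = x} := by
    ext x
    constructor
    · intro hx
      obtain ⟨g, hg, -⟩ := mem_U_or A hm hx
      exact ⟨g⁻¹, g * x * g⁻¹, ⟨hg, by rw [hconj]; exact hx⟩, by group⟩
    · rintro ⟨g, s, hs, rfl⟩
      show 3 ∣ orderOf (g * s * g⁻¹)
      rw [hconj]; exact hs.2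
  have hTI : ∀ g, ∀ s ∈ S, g * s * g⁻¹ ∈ S → g ∈ BG := by
    intro g s hs h
    obtain ⟨k, hk⟩ := hs.2
    have hk0 : k ≠ 0 := fun e => by rw [e, mul_zero] at hk; exact (orderOf_pos s).ne' hk
    have hy : orderOf (s ^ k) = 3 := by
      rw [orderOf_pow_of_dvd hk0 (hk ▸ dvd_mul_left k 3), hk, Nat.mul_div_cancel _ (Nat.pos_of_ne_zero hk0)]
    have inU : ∀ z : GG, z ∈ BG → z ^ 3 = 1 → (z : GL chevG2.Idx K) ∈ U₁ := by
      intro z hz hz3
      obtain ⟨v, hv, d, hd, e⟩ := (mem_B_iff A).1 hz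
      obtain ⟨t, rfl⟩ := (torT_range A).ge hd
      replace e : (z : GL chevG2.Idx K) = v * torT A t := e
      obtain ⟨v', hv', e3⟩ := pow_B A hv t 3
      rw [← e] at e3
      have e4 : v' * torT A (t ^ 3) = 1 * torT A 1 := by
        rw [← e3, map_one, mul_one]; exact congrArg Subtype.val hz3
      have ht := torT_injective A (pos_diag_eq A hv'.1 (one_mem _) (torT_mem A _).1 (torT_mem A _).1 e4).2
      have htd := orderOf_dvd_of_pow_eq_one ht
      have ht2 : orderOf t ∣ qq - 1 := by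
        rw [← A.hK, ← Fintype.card_units]; exact orderOf_dvd_card
      have ht1 : orderOf t = 1 := by
        rcases (Nat.dvd_prime Nat.prime_three).1 htd with h | h
        · exact h
        · rw [h] at ht2; omega
      rw [orderOf_eq_one_iff.1 ht1, map_one, mul_one] at e
      rw [e]; exact hv
    have hk3 : (s ^ k) ^ 3 = 1 := by
      have := pow_orderOf_eq_one (s ^ k); rwa [hy] at this
    refine ((mem_B_of_conj_U A g.2 (u := ((s ^ k : GG) : GL chevG2.Idx K)) ?_ ?_ ?_) : _)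
    · exact inU _ (Subgroup.pow_mem _ hs.1 k) hk3
    · intro e
      have : s ^ k = 1 := Subtype.ext e
      rw [this, orderOf_one] at hy; omega
    · have : g * s ^ k * g⁻¹ = (g * s * g⁻¹) ^ k := conj_pow.symm
      have h2 := inU _ (Subgroup.pow_mem _ h.1 k) (by
        rw [← this, conj_pow, hk3]; group)
      rw [← this] at h2
      exact h2
  rw [hset, card_conjugates S BG (fun n hn s hs => ⟨Subgroup.mul_mem _ (Subgroup.mul_mem _ hn hs.1) (Subgroup.inv_mem _ hn),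
    by rw [hconj]; exact hs.2⟩) hTI]
  have hidx : BG.index = qq ^ 3 + 1 := by
    have h := BG.card_mul_index
    rw [hBG, Nat.card_congr (Subgroup.subgroupOfEquivOfLe (H := B₁) (K := twistedG2 K (3 ^ m)) inf_le_right).toEquiv,
      card_B A, card_group A] at h
    exact Nat.eq_of_mul_eq_mul_left (Nat.mul_pos (by positivity) (by omega)) h
  rw [hidx]
  congr 1
  -- the elements of the Borel subgroup
  set a := torT A (-1) with ha
  set I : Set (GL chevG2.Idx K) := {v | v ∈ U₁ ∧ (v * a) ^ 2 = 1}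
  have himg : Subtype.val '' S = ((U₁ : Subgroup (GL chevG2.Idx K)) : Set (GL chevG2.Idx K)) \ {1} ∪
      (fun v => v * a) '' (((U₁ : Subgroup (GL chevG2.Idx K)) : Set (GL chevG2.Idx K)) \ I) := by
    ext g
    constructor
    · rintro ⟨x, ⟨hxB, hx3⟩, rfl⟩
      obtain ⟨v, hv, d, hd, e⟩ := (mem_B_iff A).1 hxB
      obtain ⟨t, rfl⟩ := (torT_range A).ge hd
      replace e : (x : GL chevG2.Idx K) = v * torT A t := e
      obtain ⟨g', -, h18⟩ := mem_U_or A hm hx3
      obtain ⟨v', hv', e18⟩ := pow_B A hv t 18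
      rw [← e] at e18
      have e4 : v' * torT A (t ^ 18) = 1 * torT A 1 := by
        rw [← e18, map_one, mul_one]; exact congrArg Subtype.val h18
      have ht := torT_injective A (pos_diag_eq A hv'.1 (one_mem _) (torT_mem A _).1 (torT_mem A _).1 e4).2
      have ht2 : orderOf t ∣ qq - 1 := by
        rw [← A.hK, ← Fintype.card_units]; exact orderOf_dvd_card
      have htt : t * t = 1 := by
        rw [← pow_two]
        exact orderOf_dvd_iff_pow_eq_one.1 (dvd_two_of (orderOf_dvd_of_pow_eq_one ht) fun h3 => by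
          have := h3.trans ht2; omega)
      rcases sq_cases A htt with rfl | rfl
      · left
        rw [map_one, mul_one] at e
        refine ⟨by rw [e]; exact hv, fun h1 => ?_⟩
        have : x = 1 := Subtype.ext h1
        rw [this, orderOf_one] at hx3; omega
      · right
        refine ⟨v, ⟨hv, fun hI => ?_⟩, e.symm⟩
        have hd2 : orderOf x ∣ 2 := orderOf_dvd_of_pow_eq_one (Subtype.ext (by
          rw [SubmonoidClass.coe_pow, e]; exact hI.2))
        have := Nat.le_of_dvd (by norm_num) (hx3.trans hd2)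
        omega
    · have hGmem : ∀ v ∈ U₁, v * a ∈ twistedG2 K (3 ^ m) := fun v hv => Subgroup.mul_mem _ hv.2 (torT_mem A _).2
      rintro (⟨hu, hu1⟩ | ⟨v, ⟨hv, hvI⟩, rfl⟩)
      · refine ⟨⟨g, hu.2⟩, ⟨U_le_B A hu, ?_⟩, rfl⟩
        by_contra h3
        have h9 := orderOf_dvd_of_pow_eq_one (x := (⟨g, hu.2⟩ : GG)) (n := 9) (Subtype.ext (U_pow_nine A hu))
        have h1 : orderOf (⟨g, hu.2⟩ : GG) = 1 := by
          obtain ⟨j, hj, e⟩ := (Nat.dvd_prime_pow Nat.prime_three).1 (show orderOf (⟨g, hu.2⟩ : GG) ∣ 3 ^ 2 from h9)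
          rcases Nat.eq_zero_or_pos j with rfl | hj0
          · simpa using e
          · exact absurd (e ▸ dvd_pow_self 3 hj0.ne') h3
        exact hu1 (congrArg Subtype.val (orderOf_eq_one_iff.1 h1))
      · refine ⟨⟨v * a, hGmem v hv⟩, ⟨Subgroup.mul_mem (B₁) (U_le_B A hv) (H_le_B A (torT_mem A _)), ?_⟩, rfl⟩
        by_contra h3
        have h18 := orderOf_dvd_of_pow_eq_one (x := (⟨v * a, hGmem v hv⟩ : GG)) (n := 18)
          (Subtype.ext (pow_eighteen A hv (Units.ext (by simp))))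
        exact hvI ⟨hv, congrArg Subtype.val (orderOf_dvd_iff_pow_eq_one.1 (dvd_two_of h18 h3))⟩
  rw [← Set.ncard_image_of_injective S Subtype.val_injective, himg, Set.ncard_union_eq ?_ (Set.toFinite _) (Set.toFinite _),
    Set.ncard_sdiff_singleton_of_mem (one_mem _), Set.ncard_image_of_injective _ (mul_left_injective a),
    Set.ncard_sdiff (fun v hv => hv.1) (Set.toFinite _), ← Nat.card_coe_set_eq]
  · show Nat.card ↥(U₁) - 1 + (Nat.card ↥(U₁) - I.ncard) = _
    rw [card_U A, card_involutions_Ua A, A.hK]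
    have h1 : qq ^ 2 ≤ qq ^ 3 := Nat.pow_le_pow_right (by omega) (by norm_num)
    have h2 : 1 ≤ qq ^ 2 := Nat.one_le_pow _ _ (by omega)
    omega
  · rw [Set.disjoint_left]
    rintro g ⟨hu, -⟩ ⟨v, ⟨hv, -⟩, rfl⟩
    have e : v * a = v * a * torT A 1 := by rw [map_one, mul_one]
    have := (pos_diag_eq A hv.1 hu.1 (torT_mem A (-1)).1 (torT_mem A 1).1 e).2
    exact neg_one_ne_one A (by simpa using congrArg Units.val (torT_injective A this))

/-- The conjugates of the nontrivial elements of a TI torus. -/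
theorem card_torus_conj (T : Subgroup GG) (hC : ∀ s ∈ T, s * s ≠ 1 → Subgroup.centralizer {s} = T) :
    {x : GG | ∃ g, ∃ s ∈ {s : GG | s ∈ T ∧ s * s ≠ 1}, g * s * g⁻¹ = x}.ncard * Nat.card ↥(Subgroup.normalizer (T : Set GG)) =
      Nat.card GG * {s : GG | s ∈ T ∧ s * s ≠ 1}.ncard := by
  have hN : ∀ n ∈ Subgroup.normalizer (T : Set GG), ∀ s ∈ {s : GG | s ∈ T ∧ s * s ≠ 1},
      n * s * n⁻¹ ∈ {s : GG | s ∈ T ∧ s * s ≠ 1} := by
    rintro n hn s ⟨h1, h2⟩
    exact ⟨(Subgroup.mem_normalizer_iff.1 hn s).1 h1, fun e => h2 (conj_eq_one_iff.1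
      (show n * (s * s) * n⁻¹ = 1 by rw [← e]; group))⟩
  rw [card_conjugates _ (Subgroup.normalizer (T : Set GG)) hN
    (fun g s hs h => mem_normalizer_of_centralizer (hC s hs.1 hs.2) (hC _ h.1 h.2)),
    mul_right_comm, mul_comm _ (Nat.card _), Subgroup.card_mul_index]

theorem ncard_sq_ne {T E : Subgroup GG} (hE : ∀ x, x ∈ E ↔ x ∈ T ∧ x * x = 1) :
    {s : GG | s ∈ T ∧ s * s ≠ 1}.ncard + Nat.card ↥E = Nat.card ↥T := by
  have h : {s : GG | s ∈ T ∧ s * s ≠ 1} = (T : Set GG) \ (E : Set GG) := by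
    ext x; simp only [Set.mem_setOf_eq, Set.mem_sdiff, SetLike.mem_coe, hE]; tauto
  rw [h, show Nat.card ↥E = (E : Set GG).ncard from Nat.card_coe_set_eq _,
    show Nat.card ↥T = (T : Set GG).ncard from Nat.card_coe_set_eq _]
  exact Set.ncard_sdiff_add_ncard_of_subset (fun x hx => ((hE x).1 hx).1) (Set.toFinite _)

theorem set_H (hm : 1 ≤ m) : {x : GG | x ^ (qq - 1) = 1 ∧ x * x ≠ 1} =
    {x : GG | ∃ g, ∃ s ∈ {s : GG | s ∈ TH A ∧ s * s ≠ 1}, g * s * g⁻¹ = x} := by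
  obtain ⟨hq, hq8, hq3⟩ := q_facts hm
  ext x
  constructor
  · rintro ⟨hx, hx2⟩
    have hd := orderOf_dvd_of_pow_eq_one hx
    have hno : ¬ orderOf x ∣ 2 := fun h => hx2 (by rw [← pow_two]; exact orderOf_dvd_iff_pow_eq_one.1 h)
    rcases element_cases A hm x with h | ⟨g, hg, -⟩ | ⟨g, hg, -⟩ | h
    · exact absurd (dvd_two_of (orderOf_dvd_of_pow_eq_one h) fun h3 => by have := h3.trans hd; omega) hno
    · exact ⟨g⁻¹, g * x * g⁻¹, ⟨hg, fun e => hx2 (conj_eq_one_iff.1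
        (show g * (x * x) * g⁻¹ = 1 by rw [← e]; group))⟩, by group⟩
    · have h2 : orderOf x ∣ qq + 1 := by
        rw [← card_T2 A, ← (MulAut.conj g).orderOf_eq x]
        show orderOf (g * x * g⁻¹) ∣ _
        rw [← Subgroup.orderOf_mk _ hg]; exact orderOf_dvd_natCard _
      have := Nat.dvd_sub h2 hd
      rw [show qq + 1 - (qq - 1) = 2 by omega] at this
      exact absurd this hno
    · have := Nat.dvd_gcd (orderOf_dvd_of_pow_eq_one h) hd
      rw [(qn_coprime m).1.gcd_eq_one] at this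
      exact absurd (this.trans (one_dvd 2)) hno
  · rintro ⟨g, s, ⟨hs, hs2⟩, rfl⟩
    refine ⟨?_, fun e => hs2 (conj_eq_one_iff.1 (show g * (s * s) * g⁻¹ = 1 by rw [← e]; group))⟩
    have : s ^ (qq - 1) = 1 := by
      rw [← card_TH A]; exact congrArg Subtype.val (pow_card_eq_one' (x := (⟨s, hs⟩ : ↥(TH A))))
    rw [conj_pow, this]; group

theorem set_T2 (hm : 1 ≤ m) : {x : GG | x ^ (qq + 1) = 1 ∧ x * x ≠ 1} =
    {x : GG | ∃ g, ∃ s ∈ {s : GG | s ∈ T2 A ∧ s * s ≠ 1}, g * s * g⁻¹ = x} := by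
  obtain ⟨hq, hq8, hq3⟩ := q_facts hm
  ext x
  constructor
  · rintro ⟨hx, hx2⟩
    have hd := orderOf_dvd_of_pow_eq_one hx
    have hno : ¬ orderOf x ∣ 2 := fun h => hx2 (by rw [← pow_two]; exact orderOf_dvd_iff_pow_eq_one.1 h)
    rcases element_cases A hm x with h | ⟨g, hg, -⟩ | ⟨g, hg, -⟩ | h
    · exact absurd (dvd_two_of (orderOf_dvd_of_pow_eq_one h) fun h3 => by have := h3.trans hd; omega) hno
    · have h2 : orderOf x ∣ qq - 1 := by
        rw [← card_TH A, ← (MulAut.conj g).orderOf_eq x]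
        show orderOf (g * x * g⁻¹) ∣ _
        rw [← Subgroup.orderOf_mk _ hg]; exact orderOf_dvd_natCard _
      have := Nat.dvd_sub hd h2
      rw [show qq + 1 - (qq - 1) = 2 by omega] at this
      exact absurd this hno
    · exact ⟨g⁻¹, g * x * g⁻¹, ⟨hg, fun e => hx2 (conj_eq_one_iff.1
        (show g * (x * x) * g⁻¹ = 1 by rw [← e]; group))⟩, by group⟩
    · have := Nat.dvd_gcd (orderOf_dvd_of_pow_eq_one h) hd
      rw [(qn_coprime m).2.1.gcd_eq_one] at this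
      exact absurd (this.trans (one_dvd 2)) hno
  · rintro ⟨g, s, ⟨hs, hs2⟩, rfl⟩
    refine ⟨?_, fun e => hs2 (conj_eq_one_iff.1 (show g * (s * s) * g⁻¹ = 1 by rw [← e]; group))⟩
    have : s ^ (qq + 1) = 1 := by
      rw [← card_T2 A]; exact congrArg Subtype.val (pow_card_eq_one' (x := (⟨s, hs⟩ : ↥(T2 A))))
    rw [conj_pow, this]; group

theorem card_H_conj (hm : 1 ≤ m) :
    {x : GG | x ^ (qq - 1) = 1 ∧ x * x ≠ 1}.ncard * (2 * (qq - 1)) = Nat.card GG * (qq - 3) := by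
  have hC : ∀ s ∈ TH A, s * s ≠ 1 → Subgroup.centralizer {s} = TH A := by
    rintro _ ⟨t, rfl⟩ h
    exact centralizer_torG A fun e => h (by rw [← map_mul, e, map_one])
  have hE : ∀ x, x ∈ Subgroup.zpowers (inv0 A) ↔ x ∈ TH A ∧ x * x = 1 := by
    intro x
    constructor
    · intro hx
      obtain ⟨j, rfl⟩ := Subgroup.mem_zpowers_iff.1 hx
      refine ⟨Subgroup.zpow_mem _ ((mem_TH_iff A).2 (torT_mem A (-1))) j, ?_⟩
      have h := pow_orderOf_eq_one (inv0 A)
      rw [orderOf_inv0 A, pow_two] at h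
      rw [← (Commute.refl _).mul_zpow, h, one_zpow]
    · rintro ⟨⟨t, rfl⟩, h⟩
      rw [← map_mul, ← map_one (torG A)] at h
      rcases sq_cases A (torG_inj A h) with rfl | rfl
      · rw [map_one]; exact one_mem _
      · exact Subgroup.mem_zpowers _
  have h := card_torus_conj A (TH A) hC
  have h2 := ncard_sq_ne A hE
  rw [Nat.card_zpowers, orderOf_inv0 A, card_TH A] at h2
  rw [← set_H A hm, card_normalizer_TH A hm] at h
  rw [h]
  congr 1
  omega

theorem card_T2_conj (hm : 1 ≤ m) :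
    {x : GG | x ^ (qq + 1) = 1 ∧ x * x ≠ 1}.ncard * (6 * (qq + 1)) = Nat.card GG * (qq - 3) := by
  have h := card_torus_conj A (T2 A) fun s hs hs2 => centralizer_T2 A hm hs hs2
  have h2 := ncard_sq_ne A (T := T2 A) (E := E2 A) fun x =>
    ⟨fun hx => ⟨E2_le A hx, sq_E2 A hx⟩, fun hx => mem_E2 A hx.1 hx.2⟩
  rw [card_E2 A, card_T2 A] at h2
  rw [← set_T2 A hm, card_normalizer_T2 A hm] at h
  rw [h]
  congr 1
  omega

theorem class_equation (hm : 1 ≤ m) :
    1 + {x : GG | orderOf x = 2}.ncard + {x : GG | 3 ∣ orderOf x}.ncard +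
      {x : GG | x ^ (qq - 1) = 1 ∧ x * x ≠ 1}.ncard + {x : GG | x ^ (qq + 1) = 1 ∧ x * x ≠ 1}.ncard +
      {x : GG | x ^ Qn m = 1 ∧ x ≠ 1}.ncard = Nat.card GG := by
  classical
  have := Fintype.ofFinite GG
  obtain ⟨hq, hq8, hq3⟩ := q_facts hm
  obtain ⟨c1, c2, c3, c4⟩ := qn_coprime m
  simp only [Set.ncard_eq_toFinset_card', Set.toFinset_setOf, Nat.card_eq_fintype_card]
  rw [show (1 : ℕ) = (Finset.univ.filter fun x : GG => x = 1).card by rw [Finset.filter_eq']; simp]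
  simp only [Finset.card_filter, ← Finset.sum_add_distrib]
  rw [Fintype.card_eq_sum_ones]
  refine Finset.sum_congr rfl fun x _ => ?_
  -- the six kinds exclude one another
  have o2 : orderOf x = 2 → x * x = 1 ∧ x ≠ 1 := fun h =>
    ⟨by rw [← pow_two, ← h, pow_orderOf_eq_one], fun e => by rw [e, orderOf_one] at h; omega⟩
  have sqd : x * x = 1 → orderOf x ∣ 2 := fun h => orderOf_dvd_of_pow_eq_one (by rw [pow_two, h])
  have dH : x ^ (qq - 1) = 1 → ¬ 3 ∣ orderOf x := fun h h3 => by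
    have := h3.trans (orderOf_dvd_of_pow_eq_one h); omega
  have dT : x ^ (qq + 1) = 1 → ¬ 3 ∣ orderOf x := fun h h3 => by
    have := h3.trans (orderOf_dvd_of_pow_eq_one h); omega
  have dQ : x ^ Qn m = 1 → ¬ 3 ∣ orderOf x := fun h h3 => by
    have := Nat.dvd_gcd (h3.trans (orderOf_dvd_of_pow_eq_one h)) (show 3 ∣ 18 by norm_num)
    rw [c3.gcd_eq_one] at this; omega
  have dsQ : x ^ Qn m = 1 → x * x = 1 → x = 1 := fun h h' => by
    have := Nat.dvd_gcd (orderOf_dvd_of_pow_eq_one h) (sqd h')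
    rw [c4.gcd_eq_one, Nat.dvd_one, orderOf_eq_one_iff] at this; exact this
  have dHQ : x ^ (qq - 1) = 1 → x ^ Qn m = 1 → x = 1 := fun h h' => by
    have := Nat.dvd_gcd (orderOf_dvd_of_pow_eq_one h') (orderOf_dvd_of_pow_eq_one h)
    rw [c1.gcd_eq_one, Nat.dvd_one, orderOf_eq_one_iff] at this; exact this
  have dTQ : x ^ (qq + 1) = 1 → x ^ Qn m = 1 → x = 1 := fun h h' => by
    have := Nat.dvd_gcd (orderOf_dvd_of_pow_eq_one h') (orderOf_dvd_of_pow_eq_one h)
    rw [c2.gcd_eq_one, Nat.dvd_one, orderOf_eq_one_iff] at this; exact this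
  have dHT : x ^ (qq - 1) = 1 → x ^ (qq + 1) = 1 → x * x = 1 := fun h h' => by
    have := Nat.dvd_sub (orderOf_dvd_of_pow_eq_one h') (orderOf_dvd_of_pow_eq_one h)
    rw [show qq + 1 - (qq - 1) = 2 by omega] at this
    rw [← pow_two]; exact orderOf_dvd_iff_pow_eq_one.1 this
  by_cases h1 : x = 1
  · subst h1; simp
  by_cases h3 : 3 ∣ orderOf x
  · have a1 : ¬ orderOf x = 2 := fun e => by omega
    have a2 : ¬ x ^ (qq - 1) = 1 := fun e => dH e h3
    have a3 : ¬ x ^ (qq + 1) = 1 := fun e => dT e h3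
    have a4 : ¬ x ^ Qn m = 1 := fun e => dQ e h3
    simp [h1, h3, a1, a2, a3, a4]
  by_cases hs : x * x = 1
  · have a1 : orderOf x = 2 := orderOf_eq_two A hs h1
    have a4 : ¬ x ^ Qn m = 1 := fun e => h1 (dsQ e hs)
    simp [h1, h3, a1, a4, hs]
  have a1 : ¬ orderOf x = 2 := fun e => hs (o2 e).1
  rcases element_cases A hm x with h | ⟨g, hg, -⟩ | ⟨g, hg, -⟩ | h
  · exact absurd (by rw [← pow_two]; exact orderOf_dvd_iff_pow_eq_one.1 (dvd_two_of (orderOf_dvd_of_pow_eq_one h) h3)) hs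
  · have e : x ^ (qq - 1) = 1 := by
      have := congrArg Subtype.val (pow_card_eq_one' (x := (⟨_, hg⟩ : ↥(TH A))))
      rw [SubmonoidClass.coe_pow, card_TH A, Subgroup.coe_one] at this
      rw [conj_pow, conj_eq_one_iff] at this; exact this
    have a3 : ¬ x ^ (qq + 1) = 1 := fun f => hs (dHT e f)
    have a4 : ¬ x ^ Qn m = 1 := fun f => h1 (dHQ e f)
    simp [h1, h3, hs, a1, a3, a4, e]
  · have e : x ^ (qq + 1) = 1 := by
      have := congrArg Subtype.val (pow_card_eq_one' (x := (⟨_, hg⟩ : ↥(T2 A))))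
      rw [SubmonoidClass.coe_pow, card_T2 A, Subgroup.coe_one] at this
      rw [conj_pow, conj_eq_one_iff] at this; exact this
    have a2 : ¬ x ^ (qq - 1) = 1 := fun f => hs (dHT f e)
    have a4 : ¬ x ^ Qn m = 1 := fun f => h1 (dTQ e f)
    simp [h1, h3, hs, a1, a2, a4, e]
  · have a2 : ¬ x ^ (qq - 1) = 1 := fun f => h1 (dHQ f h)
    have a3 : ¬ x ^ (qq + 1) = 1 := fun f => h1 (dTQ f h)
    simp [h1, h3, a1, a2, a3, h]

theorem card_X (hm : 1 ≤ m) : (6 : ℤ) * Qn m * {x : GG | x ^ Qn m = 1 ∧ x ≠ 1}.ncard =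
    (Nat.card GG : ℤ) * (2 * Qn m - 2 * (qq + 1 : ℕ)) := by
  obtain ⟨hq, hq8, hq3⟩ := q_facts hm
  have h := class_equation A hm
  have hH := card_H_conj A hm
  have hT := card_T2_conj A hm
  rw [card_involutions A hm, card_three A hm] at h
  rw [card_G A] at h hH hT ⊢
  have hQ : (Qn m : ℤ) = (qq : ℕ) * ((qq : ℕ) - 1) + 1 := by
    unfold Qn; push_cast [Nat.one_le_pow (2 * m + 1) 3 (by norm_num)]; ring
  generalize {x : GG | x ^ Qn m = 1 ∧ x ≠ 1}.ncard = X at h ⊢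
  generalize {x : GG | x ^ (qq - 1) = 1 ∧ x * x ≠ 1}.ncard = nH at h hH
  generalize {x : GG | x ^ (qq + 1) = 1 ∧ x * x ≠ 1}.ncard = nT at h hT
  generalize qq = q at h hH hT hQ hq ⊢
  generalize Qn m = Q at h hH hT hQ ⊢
  have hs : q ^ 2 + 1 ≤ 2 * q ^ 3 := by nlinarith
  zify [show 1 ≤ q by omega, show 3 ≤ q by omega] at h hH hT ⊢
  rw [Nat.cast_sub (by omega), Nat.cast_sub (by nlinarith)] at h
  push_cast at h hH hT ⊢
  have hH' : (nH : ℤ) * 2 = (q : ℤ) ^ 3 * ((q + 1) * Q) * (q - 3) :=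
    mul_right_cancel₀ (show (q : ℤ) - 1 ≠ 0 by omega) (by linear_combination hH)
  have hT' : (nT : ℤ) * 6 = (q : ℤ) ^ 3 * ((q - 1) * Q) * (q - 3) :=
    mul_right_cancel₀ (show (q : ℤ) + 1 ≠ 0 by omega) (by linear_combination hT)
  rw [hQ] at h hH' hT' ⊢
  linear_combination (6 * ((q : ℤ) * (q - 1) + 1)) * h - 3 * ((q : ℤ) * (q - 1) + 1) * hH' - ((q : ℤ) * (q - 1) + 1) * hT'

end Cfsg.Agent.Lib.RankOne.Ree
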