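import Cfsg.Agent.Lib.RankOne.ReeTorus2
import Cfsg.Agent.Lib.RankOne.ReeGen
import Cfsg.Agent.Lib.RankOne.EigenChar

/-!
The smallest degree of a nontrivial representation of the small Ree group.
-/

set_option autoImplicit false
set_option maxRecDepth 100000
set_option maxHeartbeats 1000000

namespace Cfsg.Agent.Lib.RankOne.Ree

open Cfsg.Lie Cfsg.Agent.Lib.Chev Cfsg.Agent.Lib.Chev.Tw Cfsg.Agent.Lib.Chev.Tw.G2
open Cfsg.Agent.Lib.RankOne.EigenChar

variable {K : Type*} [Field K] [Fintype K] {m : ℕ} (A : Par K m)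
include A

set_option quotPrecheck false
local notation "qq" => 3 ^ (2 * m + 1)
local notation "GG" => ↥(twistedG2 K (3 ^ m))

/-- The elements of the derived subgroup of the Sylow 3-subgroup. -/
def eU (a : K × K) : GG := ⟨W A 0 a.1 a.2, W_mem A 0 a.1 a.2⟩

/-- The elements outside the derived subgroup. -/
def eX (x : K) : GG := ⟨W A x 0 0, W_mem A x 0 0⟩

theorem eU_add (a b : K × K) : eU A (a + b) = eU A a * eU A b := by
  refine Subtype.ext ?_
  show W A 0 (a.1 + b.1) (a.2 + b.2) = W A 0 a.1 a.2 * W A 0 b.1 b.2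
  rw [W_mul A]
  simp

theorem eU_zero : eU A 0 = 1 := by
  have h := eU_add A 0 0
  rw [add_zero] at h
  exact mul_eq_left.1 h.symm

/-- The action of an element of the form `W x 0 0`. -/
def shiftAut (x : K) : K × K ≃+ K × K where
  toFun a := (a.1, a.2 + x * a.1)
  invFun a := (a.1, a.2 - x * a.1)
  left_inv a := by simp
  right_inv a := by simp
  map_add' a b := by
    refine Prod.ext rfl ?_
    show (a.2 + b.2) + x * (a.1 + b.1) = (a.2 + x * a.1) + (b.2 + x * b.1)
    ring

theorem eX_conj (x : K) (a : K × K) : eX A x * eU A a = eU A (shiftAut x a) * eX A x := by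
  refine Subtype.ext ?_
  show W A x 0 0 * W A 0 a.1 a.2 = W A 0 a.1 (a.2 + x * a.1) * W A x 0 0
  rw [W_mul A, W_mul A]
  simp

/-- The action of the torus. -/
def torAut (t : Kˣ) : K × K ≃+ K × K where
  toFun a := (A.phi t ^ 3 * (t : K)⁻¹ * a.1, (t : K) * a.2)
  invFun a := ((A.phi t ^ 3 * (t : K)⁻¹)⁻¹ * a.1, (t : K)⁻¹ * a.2)
  left_inv a := by
    have h : A.phi t ^ 3 * (t : K)⁻¹ ≠ 0 :=
      mul_ne_zero (pow_ne_zero _ ((map_ne_zero A.phi).2 t.ne_zero)) (inv_ne_zero t.ne_zero)
    exact Prod.ext (inv_mul_cancel_left₀ h _) (inv_mul_cancel_left₀ t.ne_zero _)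
  right_inv a := by
    have h : A.phi t ^ 3 * (t : K)⁻¹ ≠ 0 :=
      mul_ne_zero (pow_ne_zero _ ((map_ne_zero A.phi).2 t.ne_zero)) (inv_ne_zero t.ne_zero)
    exact Prod.ext (mul_inv_cancel_left₀ h _) (mul_inv_cancel_left₀ t.ne_zero _)
  map_add' a b := Prod.ext (mul_add _ _ _) (mul_add _ _ _)

theorem torG_conj (t : Kˣ) (a : K × K) : torG A t * eU A a = eU A (torAut A t a) * torG A t := by
  refine Subtype.ext ?_
  show torT A t * W A 0 a.1 a.2 = W A 0 (A.phi t ^ 3 * (t : K)⁻¹ * a.1) ((t : K) * a.2) * torT A t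
  rw [← mul_inv_eq_iff_eq_mul, conj_torT A, mul_zero]

theorem trivial_rep {V : Type*} [AddCommGroup V] [Module ℂ V] [FiniteDimensional ℂ V]
    (ρ : Representation ℂ GG V) (hirr : ρ.IsIrreducible) (hk : 2 ≤ Module.finrank ℂ V) : ∃ g, ρ g ≠ 1 := by
  by_contra htriv
  push Not at htriv
  obtain ⟨v, hv⟩ : ∃ v : V, v ≠ 0 := by
    by_contra h
    push Not at h
    have : Subsingleton V := ⟨fun a b => by rw [h a, h b]⟩
    rw [Module.finrank_zero_of_subsingleton] at hk
    omega
  let S : Subrepresentation ρ :=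
    { toSubmodule := Submodule.span ℂ {v}
      apply_mem_toSubmodule := fun g w hw => by rw [htriv g]; exact hw }
  have : IsSimpleOrder (Subrepresentation ρ) := hirr
  rcases eq_bot_or_eq_top S with h | h
  · have h' : S.toSubmodule = ⊥ := by rw [h]; rfl
    exact hv ((Submodule.mem_bot ℂ).1 (h' ▸ Submodule.mem_span_singleton_self v))
  · have h' : S.toSubmodule = ⊤ := by rw [h]; rfl
    have := finrank_span_singleton (K := ℂ) hv
    rw [show Submodule.span ℂ {v} = ⊤ from h', finrank_top] at this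
    omega

/-- Every character of `K` is a translate of a given nontrivial one. -/
theorem exists_mulShift {φ : AddChar K ℂ} (hφ : φ ≠ 1) (ψ : AddChar K ℂ) : ∃ t : K, φ.mulShift t = ψ := by
  have hinj := AddChar.to_mulShift_inj_of_isPrimitive (AddChar.IsPrimitive.of_ne_one hφ)
  exact ((Fintype.bijective_iff_injective_and_card _).2 ⟨hinj, (AddChar.card_eq (α := K)).symm⟩).2 ψ

theorem min_degree (hm : 1 ≤ m) {V : Type*} [AddCommGroup V] [Module ℂ V] [FiniteDimensional ℂ V]
    (ρ : Representation ℂ GG V) (hirr : ρ.IsIrreducible) (hk : 2 ≤ Module.finrank ℂ V) :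
    qq ^ 2 - qq + 1 ≤ Module.finrank ℂ V := by
  classical
  obtain ⟨hq, hq8, hq3⟩ := q_facts hm
  have hcard : Fintype.card K = qq := A.hK
  -- injectivity
  obtain ⟨g₀, hg₀⟩ := trivial_rep A ρ hirr hk
  have hsimple : IsSimpleGroup GG :=
    ((gens A).simple twG2_dist twG2_irr (by decide) (cover A) (perfect A hm)).1
  have hker : MonoidHom.ker ρ = ⊥ :=
    ((MonoidHom.normal_ker ρ).eq_bot_or_eq_top).resolve_right fun h =>
      hg₀ (MonoidHom.mem_ker.1 (h ▸ Subgroup.mem_top g₀))
  have hinj : ∀ g, ρ g = 1 → g = 1 := fun g h => by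
    have : g ∈ MonoidHom.ker ρ := MonoidHom.mem_ker.2 h
    rwa [hker, Subgroup.mem_bot] at this
  set R : K × K → Module.End ℂ V := fun a => ρ (eU A a) with hRdef
  have hR : ∀ a b, R (a + b) = R a * R b := fun a b => by rw [hRdef]; simp only; rw [eU_add A, map_mul]
  have hR0 : R 0 = 1 := by rw [hRdef]; simp only; rw [eU_zero A, map_one]
  -- a character that is nontrivial on the centre
  obtain ⟨χ₀, hχ₀, hne₀⟩ : ∃ χ : AddChar (K × K) ℂ, proj R χ ≠ 0 ∧ ∃ b : K, χ ((0 : K), b) ≠ 1 := by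
    by_contra h
    push Not at h
    have hZ : R ((0 : K), (1 : K)) = 1 := by
      calc R ((0 : K), (1 : K)) = R ((0 : K), (1 : K)) * ∑ χ, proj R χ := by rw [sum_proj hR0, mul_one]
        _ = ∑ χ, proj R χ := by
          rw [Finset.mul_sum]
          refine Finset.sum_congr rfl fun χ _ => ?_
          rw [apply_mul_proj hR]
          by_cases hχ : proj R χ = 0
          · rw [hχ, smul_zero]
          · rw [h χ hχ 1, one_smul]
        _ = 1 := sum_proj hR0
    have hW : W A 0 0 1 = 1 := congrArg Subtype.val (hinj _ hZ)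
    exact one_ne_zero (W_eq_one A hW).2.2
  -- all such characters occur
  have hmove : ∀ (g : GG) (σ : K × K ≃+ K × K), (∀ a, g * eU A a = eU A (σ a) * g) → ∀ χ : AddChar (K × K) ℂ,
      proj R χ ≠ 0 → proj R (χ.compAddMonoidHom σ.toAddMonoidHom) ≠ 0 := by
    intro g σ hg χ hχ h
    have e := apply_proj_comp (R := R) (g := ρ g) (σ := σ)
      (fun a => by rw [hRdef]; simp only; rw [← map_mul, hg, map_mul]) χ
    rw [h, mul_zero] at e
    apply hχ
    calc proj R χ = proj R χ * (ρ g * ρ g⁻¹) := by rw [← map_mul, mul_inv_cancel, map_one, mul_one]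
      _ = proj R χ * ρ g * ρ g⁻¹ := by rw [mul_assoc]
      _ = 0 := by rw [← e, zero_mul]
  let mk : AddChar K ℂ × AddChar K ℂ → AddChar (K × K) ℂ := fun p =>
    p.1.compAddMonoidHom (AddMonoidHom.fst K K) * p.2.compAddMonoidHom (AddMonoidHom.snd K K)
  have hmk : ∀ p a, mk p a = p.1 a.1 * p.2 a.2 := fun p a => rfl
  have hsplit : ∀ (χ : AddChar (K × K) ℂ) (u v : K), χ (u, v) = χ (u, 0) * χ (0, v) := fun χ u v => by
    rw [← AddChar.map_add_eq_mul]; simp
  have hall : ∀ p : AddChar K ℂ × AddChar K ℂ, p.2 ≠ 1 → proj R (mk p) ≠ 0 := by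
    rintro ⟨ψ, φ⟩ (hφ : φ ≠ 1)
    obtain ⟨b, hb⟩ := hne₀
    set φ₀ := χ₀.compAddMonoidHom (AddMonoidHom.inr K K)
    have hφ₀ : φ₀ ≠ 1 := fun e => hb (by
      have := DFunLike.congr_fun e b
      exact this)
    obtain ⟨t, ht⟩ := exists_mulShift A hφ₀ φ
    have ht0 : t ≠ 0 := fun e => hφ (by rw [← ht, e, AddChar.mulShift_zero])
    set χ₁ := χ₀.compAddMonoidHom (torAut A (Units.mk0 t ht0)).toAddMonoidHom
    have h1 : proj R χ₁ ≠ 0 := hmove (torG A (Units.mk0 t ht0)) _ (torG_conj A _) χ₀ hχ₀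
    have h1φ : ∀ v, χ₁ (0, v) = φ v := fun v => by
      rw [← ht, AddChar.mulShift_apply]
      show χ₀ (_, t * v) = χ₀ (0, t * v)
      rw [mul_zero]
    set ψ₁ := χ₁.compAddMonoidHom (AddMonoidHom.inl K K)
    obtain ⟨x, hx⟩ := exists_mulShift A hφ (ψ * ψ₁⁻¹)
    have key : mk (ψ, φ) = χ₁.compAddMonoidHom (shiftAut x).toAddMonoidHom := by
      refine DFunLike.ext _ _ fun a => ?_
      obtain ⟨u, v⟩ := a
      show ψ u * φ v = χ₁ (u, v + x * u)
      have hxu : φ (x * u) = ψ u * (ψ₁ u)⁻¹ := by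
        have := DFunLike.congr_fun hx u
        rw [AddChar.mulShift_apply, AddChar.mul_apply, AddChar.inv_apply, AddChar.map_neg_eq_inv] at this
        exact this
      rw [hsplit, h1φ, AddChar.map_add_eq_mul, hxu]
      show ψ u * φ v = ψ₁ u * (φ v * (ψ u * (ψ₁ u)⁻¹))
      have hne : ψ₁ u ≠ 0 := fun e => by
        have h := AddChar.map_add_eq_mul ψ₁ u (-u)
        rw [add_neg_cancel, AddChar.map_zero_eq_one, e, zero_mul] at h
        exact one_ne_zero h
      field_simp
    rw [key]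
    exact hmove (eX A x) _ (eX_conj A x) χ₁ h1
  have hmkinj : Function.Injective mk := by
    rintro ⟨a, b⟩ ⟨c, d⟩ h
    refine Prod.ext (DFunLike.ext _ _ fun u => ?_) (DFunLike.ext _ _ fun v => ?_)
    · have := DFunLike.congr_fun h (u, 0)
      simpa [hmk] using this
    · have := DFunLike.congr_fun h (0, v)
      simpa [hmk] using this
  set S : Finset (AddChar (K × K) ℂ) :=
    ((Finset.univ : Finset (AddChar K ℂ)) ×ˢ ((Finset.univ : Finset (AddChar K ℂ)).erase 1)).image mk
  have hScard : S.card = qq ^ 2 - qq := by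
    rw [Finset.card_image_of_injective _ hmkinj, Finset.card_product, Finset.card_univ,
      Finset.card_erase_of_mem (Finset.mem_univ _), Finset.card_univ, AddChar.card_eq, hcard, Nat.mul_sub,
      mul_one, pow_two]
  have hSne : ∀ χ ∈ S, proj R χ ≠ 0 := by
    intro χ hχ
    obtain ⟨p, hp, rfl⟩ := Finset.mem_image.1 hχ
    exact hall p (Finset.mem_erase.1 (Finset.mem_product.1 hp).2).1
  by_contra hlt
  have hle : qq ^ 2 - qq ≤ Module.finrank ℂ V := hScard ▸ card_le_finrank hR S hSne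
  have hk' : Module.finrank ℂ V = qq ^ 2 - qq := by omega
  have honly : ∀ χ, proj R χ ≠ 0 → χ ∈ S := by
    intro χ hχ
    by_contra hS
    have := card_le_finrank hR (insert χ S) fun ψ hψ => by
      rcases Finset.mem_insert.1 hψ with rfl | hψ
      · exact hχ
      · exact hSne ψ hψ
    rw [Finset.card_insert_of_notMem hS, hScard, hk'] at this
    omega
  -- all involutions have trace zero
  have hinv0 : SylowTwo.inv0 A = torG A (-1) := rfl
  have htr0 : LinearMap.trace ℂ V (ρ (SylowTwo.inv0 A)) = 0 := by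
    refine trace_eq_zero hR hR0 (σ := torAut A (-1)) (fun a => ?_) fun χ hχ e => ?_
    · rw [hinv0, hRdef]; simp only; rw [← map_mul, torG_conj A, map_mul]
    obtain ⟨⟨a, b⟩, hp, rfl⟩ := Finset.mem_image.1 (honly χ hχ)
    apply (Finset.mem_erase.1 (Finset.mem_product.1 hp).2).1
    refine DFunLike.ext _ _ fun v => ?_
    have h : mk (a, b) (torAut A (-1) (0, v / 2)) = mk (a, b) (0, v / 2) := DFunLike.congr_fun e _
    have h' : b (-(v / 2)) = b (v / 2) := by
      have hh : torAut A (-1) ((0 : K), v / 2) = ((0 : K), -(v / 2)) := by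
        refine Prod.ext (mul_zero _) ?_
        show ((-1 : Kˣ) : K) * (v / 2) = _
        simp
      rw [hh, hmk, hmk] at h
      simpa using h
    show b v = 1
    have h2 : (2 : K) ≠ 0 := two_ne A
    calc b v = b (v / 2 + v / 2) := by rw [← two_mul, mul_div_cancel₀ _ h2]
      _ = b (-(v / 2)) * b (v / 2) := by rw [AddChar.map_add_eq_mul, h']
      _ = 1 := by rw [← AddChar.map_add_eq_mul, neg_add_cancel, AddChar.map_zero_eq_one]
  have htr : ∀ b : GG, orderOf b = 2 → LinearMap.trace ℂ V (ρ b) = 0 := by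
    intro b hb
    obtain ⟨g, rfl⟩ := SylowTwo.involution_conj A hm hb
    rw [map_mul, LinearMap.trace_mul_comm, ← map_mul, ← mul_assoc, inv_mul_cancel, one_mul, htr0]
  have : Fintype ↥(E2 A) := Fintype.ofFinite _
  have h4 := card_dvd_finrank (ρ.comp (E2 A).subtype) fun x hx => htr x
    (orderOf_eq_two A (sq_E2 A x.2) fun e => hx (Subtype.ext e))
  rw [← Nat.card_eq_fintype_card, card_E2 A, hk', show qq ^ 2 - qq = (qq - 1) * qq by
    rw [Nat.sub_mul, one_mul, pow_two]] at h4
  obtain ⟨c, hc⟩ := h4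
  have e : (qq - 1) * qq % 4 = 2 := by
    rw [Nat.mul_mod, show (qq - 1) % 4 = 2 by omega, show qq % 4 = 3 by omega]
  rw [hc] at e
  omega

end Cfsg.Agent.Lib.RankOne.Ree
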