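import Cfsg.Agent.Lib.RankOne.ReeTorus2

/-!
The normaliser of the torus of order `q + 1`, and the classification of elements by their orders.
-/

set_option autoImplicit false
set_option maxRecDepth 100000

namespace Cfsg.Agent.Lib.RankOne.Ree

open Cfsg.Lie Cfsg.Agent.Lib.Chev Cfsg.Agent.Lib.Chev.Tw Cfsg.Agent.Lib.Chev.Tw.G2
open Cfsg.Agent.Lib.RankOne.Ree.SylowTwo (inv0 orderOf_inv0 involution_conj exists_kappa)
open Cfsg.Agent.S1152 (wK wK_val mk_eq four not_center)

theorem sq_of_trace_zero {K : Type*} [Field K] {g : Matrix.SpecialLinearGroup (Fin 2) K} (h : g.1 1 1 = -(g.1 0 0)) :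
    (g : Matrix (Fin 2) (Fin 2) K) * g = -1 := by
  have hd := g.det_coe
  rw [Matrix.det_fin_two, h] at hd
  ext i j
  fin_cases i <;> fin_cases j <;> simp [Matrix.mul_apply, Fin.sum_univ_two, h]
  · linear_combination -hd
  · ring
  · ring
  · linear_combination -hd

variable {K : Type*} [Field K] [Fintype K] {m : ℕ} (A : Par K m)
include A

set_option quotPrecheck false
local notation "qq" => 3 ^ (2 * m + 1)
local notation "GG" => ↥(twistedG2 K (3 ^ m))
local notation "PSL" => Matrix.ProjectiveSpecialLinearGroup (Fin 2) K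
local notation "Z2" => Multiplicative (ZMod 2)
local notation "snP" => ((sn : Matrix.SpecialLinearGroup (Fin 2) K) : Matrix.ProjectiveSpecialLinearGroup (Fin 2) K)
local notation "wP" => ((wK A : Matrix.SpecialLinearGroup (Fin 2) K) : Matrix.ProjectiveSpecialLinearGroup (Fin 2) K)

theorem sn_comm_wK : snP * wP = wP * snP := mk_eq A (four A).2.2

theorem wP_notMem : wP ∉ RotP A := by
  rintro ⟨M, hM, e⟩
  have hc := QuotientGroup.eq.1 e
  rw [(center_eq A).1] at hc
  have h1 : M⁻¹ * wK A ∈ Rot K := by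
    obtain ⟨j, hj⟩ := Subgroup.mem_zpowers_iff.1 hc
    rw [← hj]
    refine Subgroup.zpow_mem _ (Subgroup.mem_centralizer_singleton_iff.2 ?_) j
    exact (Subgroup.mem_center_iff.1 ((center_eq A).1.ge (Subgroup.mem_zpowers _)) sn).symm
  have hw : wK A ∈ Rot K := by have := mul_mem hM h1; rwa [mul_inv_cancel_left] at this
  have := (mem_Rot.1 hw).1
  simp [wK_val] at this
  exact neg_one_ne_one A this.symm

/-- The centraliser of `sn` in `PSL₂`. -/
theorem mem_centralizer_snP {g : PSL} :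
    g ∈ Subgroup.centralizer {snP} ↔ g ∈ RotP A ∨ wP⁻¹ * g ∈ RotP A := by
  rw [Subgroup.mem_centralizer_singleton_iff]
  refine ⟨fun h => centralizer_sn A (four A).2.2 h.symm, ?_⟩
  have hc : ∀ r ∈ RotP A, Commute r snP := by
    rintro _ ⟨M, hM, rfl⟩
    exact congrArg (fun z : Matrix.SpecialLinearGroup (Fin 2) K => (z : PSL)) (Subgroup.mem_centralizer_singleton_iff.1 hM)
  rintro (h | h)
  · exact hc _ h
  · have h2 : Commute (wP * (wP⁻¹ * g)) snP := Commute.mul_left (sn_comm_wK A).symm (hc _ h)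
    rwa [mul_inv_cancel_left] at h2

theorem sq_of_not_rot {g : PSL} (h : snP * g = g * snP) (hg : g ∉ RotP A) : g * g = 1 := by
  obtain ⟨M, rfl⟩ := QuotientGroup.mk_surjective g
  rcases scalar_of_smul A h with hc | hc
  · exact absurd ⟨M, Subgroup.mem_centralizer_singleton_iff.2 hc.symm, rfl⟩ hg
  · have e := sd_val (F := K) (neg_ne_zero.2 one_ne_zero)
    have k := congrArg (fun z : Matrix.SpecialLinearGroup (Fin 2) K => (z : Matrix (Fin 2) (Fin 2) K)) hc
    simp only [Matrix.SpecialLinearGroup.coe_mul, sn_val, e] at k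
    have a01 := congrFun (congrFun k 0) 1
    simp [Matrix.mul_apply, Fin.sum_univ_two, inv_neg] at a01
    rw [← QuotientGroup.mk_mul, QuotientGroup.eq_one_iff, Matrix.SpecialLinearGroup.mem_center_iff]
    refine ⟨-1, by simp, ?_⟩
    rw [Matrix.SpecialLinearGroup.coe_mul, sq_of_trace_zero (g := M) (by linear_combination a01)]
    ext i j
    fin_cases i <;> fin_cases j <;> simp

theorem card_centralizer_snP : Nat.card ↥(Subgroup.centralizer {snP}) = qq + 1 := by
  set C := Subgroup.centralizer {snP}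
  have hle : RotP A ≤ C := fun g hg => (mem_centralizer_snP A).2 (Or.inl hg)
  have hw : wP ∈ C := Subgroup.mem_centralizer_singleton_iff.2 (sn_comm_wK A).symm
  have h2 : ((RotP A).subgroupOf C).index = 2 := by
    refine Subgroup.index_eq_two_iff'.2 ⟨⟨_, inv_mem hw⟩, fun b => ?_⟩
    simp only [Subgroup.mem_subgroupOf, Subgroup.coe_mul]
    rcases (mem_centralizer_snP A).1 b.2 with hb | hb
    · refine Or.inr ⟨hb, fun h => wP_notMem A ?_⟩
      have := Subgroup.mul_mem _ h (Subgroup.inv_mem _ hb)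
      rw [mul_inv_cancel_right] at this
      exact inv_mem_iff.1 this
    · refine Or.inl ⟨hb, fun h => wP_notMem A ?_⟩
      have := Subgroup.mul_mem _ hb (Subgroup.inv_mem _ h)
      rw [mul_inv_cancel_right] at this
      exact inv_mem_iff.1 this
  have h := ((RotP A).subgroupOf C).card_mul_index
  rw [h2, Nat.card_congr (Subgroup.subgroupOfEquivOfLe hle).toEquiv] at h
  have hR := card_RotP A
  rw [A.hK] at hR
  rw [← h, ← hR, mul_comm]

theorem centralizer_E2 : Subgroup.centralizer (E2 A : Set GG) =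
    ((⊤ : Subgroup Z2).prod (Subgroup.centralizer {snP})).map (thetaG A) := by
  have hmem : ∀ e, ∀ r ∈ Subgroup.zpowers snP, thetaG A (e, r) ∈ E2 A :=
    fun e r hr => ⟨(e, r), ⟨trivial, hr⟩, rfl⟩
  ext x
  rw [Subgroup.mem_centralizer_iff]
  constructor
  · intro h
    have h0 := h _ (hmem (Multiplicative.ofAdd 1) 1 (one_mem _))
    rw [thetaG_inv0 A] at h0
    obtain ⟨⟨e, g⟩, rfl⟩ := exists_of_comm A h0.symm
    have h1 := h _ (hmem 1 _ (Subgroup.mem_zpowers _))
    rw [← map_mul, ← map_mul] at h1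
    exact ⟨(e, g), ⟨trivial, Subgroup.mem_centralizer_singleton_iff.2 (congrArg Prod.snd (thetaG_inj A h1)).symm⟩, rfl⟩
  · rintro ⟨⟨e, g⟩, ⟨-, hg⟩, rfl⟩ _ ⟨⟨f, r⟩, ⟨-, hr⟩, rfl⟩
    rw [← map_mul, ← map_mul]
    refine congrArg _ (Prod.ext (mul_comm _ _) ?_)
    obtain ⟨j, rfl⟩ := Subgroup.mem_zpowers_iff.1 hr
    exact ((show Commute g snP from Subgroup.mem_centralizer_singleton_iff.1 hg).zpow_right j).eq.symm

theorem card_centralizer_E2 : Nat.card ↥(Subgroup.centralizer (E2 A : Set GG)) = 2 * (qq + 1) := by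
  rw [centralizer_E2 A, Subgroup.card_map_of_injective (thetaG_inj A), Nat.card_congr (Subgroup.prodEquiv _ _).toEquiv,
    Nat.card_prod, Subgroup.card_top, show Nat.card Z2 = 2 from by simp, card_centralizer_snP A]

theorem exists_torus_element (hm : 1 ≤ m) : ∃ x ∈ T2 A, x * x ≠ 1 := by
  by_contra h
  push Not at h
  have hle : T2 A ≤ E2 A := fun x hx => mem_E2 A hx (h x hx)
  have := Subgroup.card_le_of_le hle
  rw [card_T2 A, card_E2 A] at this
  have := (q_facts hm).1
  omega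

theorem normalizer_T2_eq (hm : 1 ≤ m) :
    Subgroup.normalizer (T2 A : Set GG) = Subgroup.normalizer (E2 A : Set GG) := by
  refine le_antisymm (fun g hg => ?_) fun g hg => ?_
  · have key : ∀ h ∈ Subgroup.normalizer (T2 A : Set GG), ∀ z ∈ E2 A, h * z * h⁻¹ ∈ E2 A := by
      intro h hh z hz
      refine mem_E2 A ((Subgroup.mem_normalizer_iff.1 hh z).1 (E2_le A hz)) ?_
      calc h * z * h⁻¹ * (h * z * h⁻¹) = h * (z * z) * h⁻¹ := by group
        _ = 1 := by rw [sq_E2 A hz]; group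
    rw [Subgroup.mem_normalizer_iff]
    intro z
    refine ⟨key g hg z, fun h => ?_⟩
    have := key g⁻¹ (inv_mem hg) _ h
    rwa [inv_inv, show g⁻¹ * (g * z * g⁻¹) * g = z by group] at this
  · obtain ⟨x, hxT, hx2⟩ := exists_torus_element A hm
    have hx : g * x * g⁻¹ ∈ Subgroup.centralizer (E2 A : Set GG) := by
      rw [Subgroup.mem_centralizer_iff]
      intro z hz
      have hz' : g⁻¹ * z * g ∈ E2 A := (Subgroup.mem_normalizer_iff.1 hg _).2 (by group; exact hz)
      calc z * (g * x * g⁻¹) = g * ((g⁻¹ * z * g) * x) * g⁻¹ := by group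
        _ = g * (x * (g⁻¹ * z * g)) * g⁻¹ := by rw [comm_T2 A hxT (E2_le A hz')]
        _ = _ := by group
    have hsq : g * x * g⁻¹ * (g * x * g⁻¹) ≠ 1 := fun e => hx2 (conj_eq_one_iff.1 (show g * (x * x) * g⁻¹ = 1 by rw [← e]; group))
    rw [centralizer_E2 A] at hx
    obtain ⟨⟨e, s⟩, ⟨-, hs⟩, he⟩ := hx
    have hs' : s ∈ RotP A := by
      by_contra hs'
      refine hsq ?_
      rw [← he, ← map_mul, ← map_one (thetaG A)]
      exact congrArg _ (Prod.ext ((by decide : ∀ a : Z2, a * a = 1) e)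
        (sq_of_not_rot A (Subgroup.mem_centralizer_singleton_iff.1 hs).symm hs'))
    exact mem_normalizer_of_centralizer (centralizer_T2 A hm hxT hx2)
      (centralizer_T2 A hm (he ▸ (mem_T2 A).2 ⟨e, s, hs', rfl⟩) hsq)

theorem eight_not_dvd (hm : 1 ≤ m) : ¬ 16 ∣ Nat.card GG := by
  rw [card_G A]
  intro h
  obtain ⟨hq, hq8, -⟩ := q_facts hm
  have hQ : Qn m % 2 = 1 := by
    unfold Qn
    have : (qq - 1) % 2 = 0 := by omega
    rw [Nat.add_mod, Nat.mul_mod, this]; simp
  generalize qq = q at h hq hq8 ⊢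
  generalize Qn m = Q at h hQ
  have h3 : q ^ 3 % 2 = 1 := by rw [Nat.pow_mod, show q % 2 = 1 by omega]
  obtain ⟨a, ha, ha2⟩ : ∃ a, q - 1 = 2 * a ∧ a % 2 = 1 := ⟨(q - 1) / 2, by omega, by omega⟩
  obtain ⟨b, hb, hb2⟩ : ∃ b, q + 1 = 4 * b ∧ b % 2 = 1 := ⟨(q + 1) / 4, by omega, by omega⟩
  rw [ha, hb, show q ^ 3 * (2 * a * (4 * b * Q)) = 8 * (q ^ 3 * a * b * Q) by ring] at h
  obtain ⟨c, hc⟩ := h
  have hodd : (q ^ 3 * a * b * Q) % 2 = 1 := by simp [Nat.mul_mod, h3, ha2, hb2, hQ]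
  omega

/-- An element of order three normalising but not centralising the four group. -/
theorem exists_three (hm : 1 ≤ m) : ∃ r : GG, r ^ 3 = 1 ∧ r ∈ Subgroup.normalizer (E2 A : Set GG) ∧
    r ∉ Subgroup.centralizer (E2 A : Set GG) := by
  set R : PSL := ((su 1 : Matrix.SpecialLinearGroup (Fin 2) K) : PSL)
  have e1 : R * snP * R⁻¹ = wP := by
    rw [mul_inv_eq_iff_eq_mul, ← QuotientGroup.mk_mul, ← QuotientGroup.mk_mul]
    refine Cfsg.Agent.Lib.RankOne.Ree.SylowTwo.mk_eq_of_smul A (p := (-1 : K)) ?_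
    rw [Matrix.SpecialLinearGroup.coe_mul, Matrix.SpecialLinearGroup.coe_mul, sn_val, wK_val]
    simp [su, Matrix.mul_fin_two]
    linear_combination A.h3
  have e2 : R * wP * R⁻¹ = snP * wP := by
    rw [mul_inv_eq_iff_eq_mul, ← QuotientGroup.mk_mul, ← QuotientGroup.mk_mul, ← QuotientGroup.mk_mul]
    refine Cfsg.Agent.Lib.RankOne.Ree.SylowTwo.mk_eq_of_smul A (p := (-1 : K)) ?_
    rw [Matrix.SpecialLinearGroup.coe_mul, Matrix.SpecialLinearGroup.coe_mul,
      Matrix.SpecialLinearGroup.coe_mul, sn_val, wK_val]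
    simp [su, Matrix.mul_fin_two]
    constructor <;> first | linear_combination A.h3 | linear_combination -A.h3
  set V : Subgroup GG := Subgroup.closure {thetaG A (1, snP), thetaG A (1, wP)}
  have hgen : thetaG A (1, R) ∈ Subgroup.normalizer (V : Set GG) ∧
      thetaG A (1, R) ∉ Subgroup.centralizer (V : Set GG) := by
    have f1 : thetaG A (1, R) * thetaG A (1, snP) * (thetaG A (1, R))⁻¹ = thetaG A (1, wP) := by
      rw [← map_inv, ← map_mul, ← map_mul]
      exact congrArg _ (Prod.ext (by simp) e1)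
    have f2 : thetaG A (1, R) * thetaG A (1, wP) * (thetaG A (1, R))⁻¹ = thetaG A (1, snP) * thetaG A (1, wP) := by
      rw [← map_inv, ← map_mul, ← map_mul, ← map_mul]
      exact congrArg _ (Prod.ext (by simp) e2)
    constructor
    · have hle : V.map (MulAut.conj (thetaG A (1, R))).toMonoidHom ≤ V := by
        rw [MonoidHom.map_closure, Subgroup.closure_le]
        rintro _ ⟨z, rfl | rfl, rfl⟩
        · show thetaG A (1, R) * _ * _ ∈ V
          rw [f1]; exact Subgroup.subset_closure (Or.inr rfl)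
        · show thetaG A (1, R) * _ * _ ∈ V
          rw [f2]; exact Subgroup.mul_mem _ (Subgroup.subset_closure (Or.inl rfl)) (Subgroup.subset_closure (Or.inr rfl))
      have heq := Subgroup.eq_of_le_of_card_ge hle (Subgroup.card_map_of_injective (MulAut.conj _).injective).ge
      rw [Subgroup.mem_normalizer_iff]
      intro z
      refine ⟨fun h => hle ⟨z, h, rfl⟩, fun h => ?_⟩
      obtain ⟨w, hw, hw'⟩ := heq.ge h
      rwa [← (MulAut.conj (thetaG A (1, R))).injective hw']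
    · intro h
      have := Subgroup.mem_centralizer_iff.1 h _ (Subgroup.subset_closure (Or.inl rfl))
      have f3 : thetaG A (1, wP) = thetaG A (1, snP) := by
        rw [← f1, ← this, mul_inv_cancel_right]
      have h4 : wP = snP := congrArg Prod.snd (thetaG_inj A f3)
      exact wP_notMem A (h4 ▸ sn_mem_RotP A)
  obtain ⟨g, hg⟩ := involution_conj A hm (b := thetaG A (1, snP)) (by
    rw [orderOf_injective (thetaG A) (thetaG_inj A), Prod.orderOf_mk, orderOf_one, sn_order A]; rfl)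
  obtain ⟨⟨e, y⟩, hy⟩ := exists_of_comm A (x := g⁻¹ * thetaG A (1, wP) * g) (by
    have hc : thetaG A (1, wP) * thetaG A (1, snP) = thetaG A (1, snP) * thetaG A (1, wP) := by
      rw [← map_mul, ← map_mul]; exact congrArg _ (Prod.ext rfl (sn_comm_wK A).symm)
    calc g⁻¹ * thetaG A (1, wP) * g * inv0 A = g⁻¹ * (thetaG A (1, wP) * (g * inv0 A * g⁻¹)) * g := by group
      _ = g⁻¹ * (g * inv0 A * g⁻¹ * thetaG A (1, wP)) * g := by rw [hg, hc]
      _ = _ := by group)
  have hy2 : y * y = 1 := by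
    have : g⁻¹ * thetaG A (1, wP) * g * (g⁻¹ * thetaG A (1, wP) * g) = thetaG A 1 := by
      calc _ = g⁻¹ * (thetaG A (1, wP) * thetaG A (1, wP)) * g := by group
        _ = g⁻¹ * thetaG A 1 * g := by
          rw [← map_mul]; congr 3; exact Prod.ext (by simp) (mk_eq A (four A).2.1)
        _ = _ := by rw [map_one]; group
    rw [hy, ← map_mul] at this
    exact congrArg Prod.snd (thetaG_inj A this)
  have hy1 : y ≠ 1 := by
    rintro rfl
    have hne : thetaG A (1, wP) ≠ thetaG A (1, snP) := fun h => by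
      have h4 : wP = snP := congrArg Prod.snd (thetaG_inj A h)
      exact wP_notMem A (h4 ▸ sn_mem_RotP A)
    rcases z2_cases e with rfl | rfl
    · have : thetaG A (1, wP) = 1 := by
        calc thetaG A (1, wP) = g * (g⁻¹ * thetaG A (1, wP) * g) * g⁻¹ := by group
          _ = g * thetaG A 1 * g⁻¹ := by rw [hy]; rfl
          _ = 1 := by rw [map_one]; group
      exact not_center A (g := wK A) (by simp [wK_val])
        (congrArg Prod.snd (thetaG_inj A (this.trans (map_one _).symm)))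
    · refine hne ?_
      rw [← hg, ← thetaG_inv0 A, ← hy]; group
  obtain ⟨k, hk⟩ := exists_conj_sn A hy2 hy1
  set h := thetaG A (1, k) * g⁻¹
  have h1 : h * thetaG A (1, snP) * h⁻¹ = thetaG A (Multiplicative.ofAdd 1, 1) := by
    rw [← hg, thetaG_inv0 A]
    calc thetaG A (1, k) * g⁻¹ * (g * inv0 A * g⁻¹) * (thetaG A (1, k) * g⁻¹)⁻¹
        = thetaG A (1, k) * inv0 A * (thetaG A (1, k))⁻¹ := by group
      _ = inv0 A := by rw [thetaG_comm A, mul_inv_cancel_right]
  have h2 : h * thetaG A (1, wP) * h⁻¹ = thetaG A (e, snP) := by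
    calc thetaG A (1, k) * g⁻¹ * thetaG A (1, wP) * (thetaG A (1, k) * g⁻¹)⁻¹
        = thetaG A (1, k) * (g⁻¹ * thetaG A (1, wP) * g) * (thetaG A (1, k))⁻¹ := by group
      _ = _ := by
        rw [hy, ← map_inv, ← map_mul, ← map_mul]
        exact congrArg _ (Prod.ext (by simp) hk)
  have hV : V.map (MulAut.conj h).toMonoidHom = E2 A := by
    refine le_antisymm ?_ ?_
    · rw [MonoidHom.map_closure, Subgroup.closure_le]
      rintro _ ⟨z, rfl | rfl, rfl⟩
      · show h * _ * h⁻¹ ∈ E2 A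
        rw [h1]; exact ⟨(_, 1), ⟨trivial, one_mem _⟩, rfl⟩
      · show h * _ * h⁻¹ ∈ E2 A
        rw [h2]; exact ⟨(_, _), ⟨trivial, Subgroup.mem_zpowers _⟩, rfl⟩
    · have m1 : thetaG A (Multiplicative.ofAdd 1, 1) ∈ V.map (MulAut.conj h).toMonoidHom :=
        ⟨_, Subgroup.subset_closure (Or.inl rfl), h1⟩
      have m2 : thetaG A (e, snP) ∈ V.map (MulAut.conj h).toMonoidHom :=
        ⟨_, Subgroup.subset_closure (Or.inr rfl), h2⟩
      rintro _ ⟨⟨f, r⟩, ⟨-, hr⟩, rfl⟩
      obtain ⟨j, rfl⟩ := Subgroup.mem_zpowers_iff.1 hr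
      have hsplit : ((f, snP ^ j) : Z2 × PSL) = (f * (e ^ j)⁻¹, 1) * (e, snP) ^ j := by
        refine Prod.ext ?_ ?_ <;> simp
      rw [hsplit, (thetaG A).map_mul, (thetaG A).map_zpow]
      refine Subgroup.mul_mem _ ?_ (Subgroup.zpow_mem _ m2 j)
      rcases z2_cases (f * (e ^ j)⁻¹) with hf | hf <;> rw [hf]
      · rw [show ((1, 1) : Z2 × PSL) = 1 from rfl, map_one]; exact one_mem _
      · exact m1
  refine ⟨h * thetaG A (1, R) * h⁻¹, ?_, ?_, ?_⟩
  · have e3 : (su 1 : Matrix.SpecialLinearGroup (Fin 2) K) ^ 3 = 1 := by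
      rw [pow_succ, pow_two, su_add, su_add, show (1 : K) + 1 + 1 = 0 by linear_combination A.h3]
      refine Subtype.ext ?_
      simp [su, Matrix.one_fin_two]
    rw [conj_pow, ← map_pow, Prod.pow_mk, one_pow, show R ^ 3 = 1 by
      simp only [R]; rw [← QuotientGroup.mk_pow, e3]; rfl]
    rw [show ((1, 1) : Z2 × PSL) = 1 from rfl, map_one]; group
  · rw [← hV, Subgroup.mem_normalizer_iff]
    intro z
    constructor
    · rintro ⟨v, hv, rfl⟩
      exact ⟨thetaG A (1, R) * v * (thetaG A (1, R))⁻¹, (Subgroup.mem_normalizer_iff.1 hgen.1 v).1 hv, by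
        simp [mul_assoc]⟩
    · rintro ⟨v, hv, hv'⟩
      refine ⟨(thetaG A (1, R))⁻¹ * v * thetaG A (1, R), (Subgroup.mem_normalizer_iff.1 hgen.1 _).2 (by group; exact hv), ?_⟩
      have hv'' : h * v * h⁻¹ = h * thetaG A (1, R) * h⁻¹ * z * (h * thetaG A (1, R) * h⁻¹)⁻¹ := hv'
      show h * ((thetaG A (1, R))⁻¹ * v * thetaG A (1, R)) * h⁻¹ = z
      calc _ = (h * thetaG A (1, R) * h⁻¹)⁻¹ * (h * v * h⁻¹) * (h * thetaG A (1, R) * h⁻¹) := by group
        _ = z := by rw [hv'']; group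
  · intro hc
    refine hgen.2 (Subgroup.mem_centralizer_iff.2 fun v hv => ?_)
    have := Subgroup.mem_centralizer_iff.1 hc (h * v * h⁻¹) (hV ▸ ⟨v, hv, rfl⟩)
    calc v * thetaG A (1, R) = h⁻¹ * (h * v * h⁻¹ * (h * thetaG A (1, R) * h⁻¹)) * h := by group
      _ = _ := by rw [this]; group

theorem card_normalizer_T2 (hm : 1 ≤ m) :
    Nat.card ↥(Subgroup.normalizer (T2 A : Set GG)) = 6 * (qq + 1) := by
  classical
  rw [normalizer_T2_eq A hm]
  set N := Subgroup.normalizer (E2 A : Set GG)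
  set C := Subgroup.centralizer (E2 A : Set GG)
  have hle : C ≤ N := fun g hg => Subgroup.mem_normalizer_iff.2 fun z => by
    constructor
    · intro hz; rw [← Subgroup.mem_centralizer_iff.1 hg z hz, mul_inv_cancel_right]; exact hz
    · intro hz
      have := Subgroup.mem_centralizer_iff.1 hg _ hz
      have : z = g * z * g⁻¹ := by
        calc z = g⁻¹ * (g * z * g⁻¹ * g) := by group
          _ = _ := by rw [this]; group
      rw [this]; exact hz
  set D := C.subgroupOf N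
  have : D.Normal := ⟨fun d hd n => by
    show (n : GG) * d * (n : GG)⁻¹ ∈ C
    rw [Subgroup.mem_centralizer_iff]
    intro z hz
    have hz' : (n : GG)⁻¹ * z * n ∈ E2 A := (Subgroup.mem_normalizer_iff.1 n.2 _).2 (by group; exact hz)
    have : (n : GG)⁻¹ * z * n * (d : GG) = (d : GG) * ((n : GG)⁻¹ * z * n) := Subgroup.mem_centralizer_iff.1 hd _ hz'
    calc z * ((n : GG) * d * (n : GG)⁻¹) = n * (((n : GG)⁻¹ * z * n) * d) * (n : GG)⁻¹ := by group
      _ = _ := by rw [this]; group⟩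
  have hcard : Nat.card ↥N = 2 * (qq + 1) * D.index := by
    rw [← card_centralizer_E2 A, ← Nat.card_congr (Subgroup.subgroupOfEquivOfLe hle).toEquiv]
    exact D.card_mul_index.symm
  have hodd : ¬ 2 ∣ D.index := by
    rintro ⟨c, hc⟩
    refine eight_not_dvd A hm (dvd_trans ?_ N.card_subgroup_dvd_card)
    obtain ⟨-, hq8, -⟩ := q_facts hm
    rw [hcard, hc]
    obtain ⟨b, hb⟩ : 4 ∣ qq + 1 := by omega
    exact ⟨b * c, by rw [hb]; ring⟩
  obtain ⟨r, hr3, hrN, hrC⟩ := exists_three A hm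
  have h3 : 3 ∣ D.index := by
    by_contra h
    have h1 : (QuotientGroup.mk (⟨r, hrN⟩ : ↥N) : ↥N ⧸ D) = 1 := by
      have e1 : (QuotientGroup.mk (⟨r, hrN⟩ : ↥N) : ↥N ⧸ D) ^ 3 = 1 := by
        rw [← QuotientGroup.mk_pow, show (⟨r, hrN⟩ : ↥N) ^ 3 = 1 from Subtype.ext hr3]; rfl
      have e2 : (QuotientGroup.mk (⟨r, hrN⟩ : ↥N) : ↥N ⧸ D) ^ D.index = 1 := by
        rw [Subgroup.index]; exact pow_card_eq_one'
      have := pow_gcd_eq_one.2 ⟨e1, e2⟩
      rwa [(Nat.prime_three.coprime_iff_not_dvd.2 h).gcd_eq_one, pow_one] at this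
    exact hrC (Subgroup.mem_subgroupOf.1 ((QuotientGroup.eq_one_iff (N := D) _).1 h1))
  have h6 : D.index ≤ 6 := by
    set a := thetaG A ((Multiplicative.ofAdd 1, 1) : Z2 × PSL)
    set b := thetaG A ((1, snP) : Z2 × PSL)
    have ha : a ∈ E2 A := ⟨(_, _), ⟨trivial, one_mem _⟩, rfl⟩
    have hb : b ∈ E2 A := ⟨(_, _), ⟨trivial, Subgroup.mem_zpowers _⟩, rfl⟩
    have ha1 : a ≠ 1 := fun e => by
      have := congrArg Prod.fst (thetaG_inj A (e.trans (map_one _).symm))
      exact (show (Multiplicative.ofAdd 1 : Z2) ≠ 1 by decide) this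
    have hb1 : b ≠ 1 := fun e => by
      have := congrArg Prod.snd (thetaG_inj A (e.trans (map_one _).symm))
      exact not_center A (g := sn) (by simp [sn_val]) this
    have hab : a ≠ b := fun e => by
      have := congrArg Prod.fst (thetaG_inj A e)
      exact (show (Multiplicative.ofAdd 1 : Z2) ≠ 1 by decide) this
    have := Fintype.ofFinite GG
    set S : Finset GG := Finset.univ.filter fun z => z ∈ E2 A ∧ z ≠ 1
    have hS : S.card = 3 := by
      have h4 : ((Finset.univ : Finset GG).filter fun z => z ∈ E2 A).card = 4 := by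
        rw [← Fintype.card_subtype, ← Nat.card_eq_fintype_card]; exact card_E2 A
      have : S = ((Finset.univ : Finset GG).filter fun z => z ∈ E2 A).erase 1 := by
        ext z; simp [S, and_comm]
      rw [this, Finset.card_erase_of_mem (by simp), h4]
    have hin : ∀ n : ↥N, ((n : GG) * a * (n : GG)⁻¹, (n : GG) * b * (n : GG)⁻¹) ∈ S.offDiag := by
      intro n
      simp only [Finset.mem_offDiag, S, Finset.mem_filter, Finset.mem_univ, true_and]
      exact ⟨⟨(Subgroup.mem_normalizer_iff.1 n.2 a).1 ha, fun e => ha1 (conj_eq_one_iff.1 e)⟩,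
        ⟨(Subgroup.mem_normalizer_iff.1 n.2 b).1 hb, fun e => hb1 (conj_eq_one_iff.1 e)⟩,
        fun e => hab (mul_left_cancel (mul_right_cancel e))⟩
    let f : ↥N ⧸ D → ↥S.offDiag := fun c => ⟨_, hin c.out⟩
    have hf : Function.Injective f := by
      intro c c' h
      rw [← c.out_eq', ← c'.out_eq', QuotientGroup.eq]
      obtain ⟨h1, h2⟩ := Prod.mk.injEq .. ▸ congrArg Subtype.val h
      show ((c.out : GG))⁻¹ * (c'.out : GG) ∈ C
      set w := ((c.out : GG))⁻¹ * (c'.out : GG) with hw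
      have k : ∀ z, (c.out : GG) * z * (c.out : GG)⁻¹ = (c'.out : GG) * z * (c'.out : GG)⁻¹ → Commute z w := by
        intro z hz
        show z * w = w * z
        calc z * w = (c.out : GG)⁻¹ * ((c.out : GG) * z * (c.out : GG)⁻¹) * c'.out := by rw [hw]; group
          _ = _ := by rw [hz, hw]; group
      rw [Subgroup.mem_centralizer_iff]
      rintro _ ⟨⟨f, r⟩, ⟨-, hr⟩, rfl⟩
      obtain ⟨j, rfl⟩ := Subgroup.mem_zpowers_iff.1 hr
      have hsplit : ((f, snP ^ j) : Z2 × PSL) = (f, 1) * (1, snP) ^ j := by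
        refine Prod.ext ?_ ?_ <;> simp
      rw [hsplit, (thetaG A).map_mul, (thetaG A).map_zpow]
      refine (Commute.mul_left ?_ ((k b h2).zpow_left j)).eq
      rcases z2_cases f with rfl | rfl
      · rw [show ((1, 1) : Z2 × PSL) = 1 from rfl, map_one]; exact Commute.one_left _
      · exact k a h1
    have hle' := Nat.card_le_card_of_injective f hf
    rw [Nat.card_eq_finsetCard, Finset.offDiag_card, hS] at hle'
    exact hle'
  rw [hcard, show D.index = 3 by omega]
  ring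

/-- Every element is of order dividing `18`, lies in one of the tori, or has order dividing `q² - q + 1`. -/
theorem element_cases (hm : 1 ≤ m) (x : GG) :
    x ^ 18 = 1 ∨ (∃ g : GG, g * x * g⁻¹ ∈ TH A ∧ x * x ≠ 1) ∨
      (∃ g : GG, g * x * g⁻¹ ∈ T2 A ∧ x * x ≠ 1) ∨ x ^ Qn m = 1 := by
  set n := orderOf x with hn
  by_cases h3 : 3 ∣ n
  · obtain ⟨g, -, h⟩ := mem_U_or A hm h3
    exact Or.inl h
  have hpow : ∀ p : ℕ, p.Prime → p ∣ n → ∃ k, orderOf (x ^ k) = p := by
    intro p hp hd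
    obtain ⟨k, hk⟩ := hd
    have hk0 : k ≠ 0 := fun e => by rw [e, mul_zero] at hk; exact (orderOf_pos x).ne' hk
    exact ⟨k, by rw [orderOf_pow_of_dvd hk0 (by rw [← hn, hk]; exact dvd_mul_left k p), ← hn, hk,
      Nat.mul_div_cancel _ (Nat.pos_of_ne_zero hk0)]⟩
  have hsq : ∀ p : ℕ, p.Prime → p ≠ 2 → p ∣ n → x * x ≠ 1 := fun p hp hp2 hd e => by
    have : n ∣ 2 := orderOf_dvd_of_pow_eq_one (by rw [pow_two, e])
    exact hp2 ((Nat.prime_dvd_prime_iff_eq hp Nat.prime_two).1 (hd.trans this))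
  by_cases hH : ∃ p, p.Prime ∧ p ≠ 2 ∧ p ∣ n ∧ p ∣ qq - 1
  · obtain ⟨p, hp, hp2, hd, hdq⟩ := hH
    have : Fact p.Prime := ⟨hp⟩
    obtain ⟨-, h1, h2, h4⟩ := prime_dvd_minus hp hp2 hdq
    obtain ⟨k, hk⟩ := hpow p hp hd
    obtain ⟨g, hg⟩ := exists_conj_mem (T := TH A) (p := p) (x := x ^ k) (k := 1) (by
      rw [index_TH A]
      intro d
      rcases hp.dvd_mul.1 d with d | d
      · exact h1 (hp.dvd_of_dvd_pow d)
      · exact (hp.dvd_mul.1 d).elim h2 h4) (by rw [pow_one, ← hk, pow_orderOf_eq_one])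
    refine Or.inr (Or.inl ⟨g, ?_, hsq p hp hp2 hd⟩)
    obtain ⟨t, ht⟩ := hg
    have ht2 : t * t ≠ 1 := by
      intro e
      have e1 : g * (x ^ k) ^ 2 * g⁻¹ = 1 := by rw [← conj_pow, ← ht, ← map_pow, pow_two, e, map_one]
      have := orderOf_dvd_of_pow_eq_one (conj_eq_one_iff.1 e1)
      rw [hk] at this
      exact hp2 ((Nat.prime_dvd_prime_iff_eq hp Nat.prime_two).1 this)
    rw [← centralizer_torG A ht2, Subgroup.mem_centralizer_singleton_iff, ht, ← conj_pow]
    exact ((Commute.refl _).pow_right k).eq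
  by_cases h2' : ∃ p, p.Prime ∧ p ≠ 2 ∧ p ∣ n ∧ p ∣ qq + 1
  · obtain ⟨p, hp, hp2, hd, hdq⟩ := h2'
    have : Fact p.Prime := ⟨hp⟩
    obtain ⟨-, h1, h2, h4⟩ := prime_dvd_plus hp hp2 hdq
    obtain ⟨k, hk⟩ := hpow p hp hd
    obtain ⟨g, hg⟩ := exists_conj_mem (T := T2 A) (p := p) (x := x ^ k) (k := 1) (by
      rw [index_T2 A]
      intro d
      rcases hp.dvd_mul.1 d with d | d
      · exact h1 (hp.dvd_of_dvd_pow d)
      · exact (hp.dvd_mul.1 d).elim h2 h4) (by rw [pow_one, ← hk, pow_orderOf_eq_one])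
    refine Or.inr (Or.inr (Or.inl ⟨g, ?_, hsq p hp hp2 hd⟩))
    have hord : orderOf (g * x ^ k * g⁻¹) = p := by
      rw [show g * x ^ k * g⁻¹ = MulAut.conj g (x ^ k) from rfl, MulEquiv.orderOf_eq, hk]
    rw [← centralizer_T2_prime A hm hp hp2 hdq hord hg, Subgroup.mem_centralizer_singleton_iff, ← conj_pow]
    exact ((Commute.refl _).pow_right k).eq
  have hcardG : n ∣ qq ^ 3 * ((qq - 1) * ((qq + 1) * Qn m)) := by
    rw [← card_G A]; exact orderOf_dvd_natCard x
  have hodd : ∀ p : ℕ, p.Prime → p ≠ 2 → p ∣ n → p ∣ Qn m := by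
    intro p hp hp2 hd
    rcases hp.dvd_mul.1 (hd.trans hcardG) with d | d
    · have := (Nat.prime_dvd_prime_iff_eq hp Nat.prime_three).1
        (hp.dvd_of_dvd_pow (hp.dvd_of_dvd_pow d))
      exact absurd (this ▸ hd) h3
    rcases hp.dvd_mul.1 d with d | d
    · exact absurd ⟨p, hp, hp2, hd, d⟩ hH
    rcases hp.dvd_mul.1 d with d | d
    · exact absurd ⟨p, hp, hp2, hd, d⟩ h2'
    · exact d
  by_cases h2 : 2 ∣ n
  · by_cases hp : ∃ p, p.Prime ∧ p ≠ 2 ∧ p ∣ n
    · exfalso
      obtain ⟨p, hp, hp2, hd⟩ := hp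
      obtain ⟨j, hj⟩ := hpow 2 Nat.prime_two h2
      obtain ⟨k, hk⟩ := hpow p hp hd
      exact not_comm_involution A hm hp (hodd p hp hp2 hd) hk hj ((Commute.refl x).pow_pow k j).eq
    · push Not at hp
      left
      -- a 2-element has order at most two
      have h2pow : ∃ j, n = 2 ^ j := ⟨_, Nat.eq_prime_pow_of_unique_prime_dvd (orderOf_pos x).ne' (fun {d} hd hdn => by
        by_contra hne; exact hp d hd hne hdn)⟩
      obtain ⟨j, hj⟩ := h2pow
      have : Fact (Nat.Prime 2) := ⟨Nat.prime_two⟩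
      obtain ⟨S, hS⟩ := (IsPGroup.of_card (p := 2) (n := j) (G := Subgroup.zpowers x)
        (by rw [Nat.card_zpowers, ← hn, hj])).exists_le_sylow
      have hxx := ((Cfsg.Agent.S1152.result A.hK (inv0 A) (torT_mem A (-1)).1
        (fun e => by have := orderOf_inv0 A; rw [e, orderOf_one] at this; omega)
        (by have := pow_orderOf_eq_one (inv0 A); rwa [orderOf_inv0 A, pow_two] at this)).2 S).2 x
        (hS (Subgroup.mem_zpowers x))
      rw [show (18 : ℕ) = 2 * 9 from rfl, pow_mul, pow_two, hxx, one_pow]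
  · refine Or.inr (Or.inr (Or.inr ?_))
    have hco : n.Coprime (qq ^ 3 * ((qq - 1) * (qq + 1))) := by
      refine Nat.coprime_of_dvd fun p hp hd hd' => ?_
      have hp2 : p ≠ 2 := fun e => h2 (e ▸ hd)
      obtain ⟨-, q1, q2, q3⟩ := prime_dvd_Qn hp (hodd p hp hp2 hd)
      rcases hp.dvd_mul.1 hd' with d | d
      · exact q1 (hp.dvd_of_dvd_pow d)
      · exact (hp.dvd_mul.1 d).elim q2 q3
    obtain ⟨c, hc⟩ : n ∣ Qn m := hco.dvd_of_dvd_mul_left (by
      rw [show qq ^ 3 * ((qq - 1) * (qq + 1)) * Qn m = qq ^ 3 * ((qq - 1) * ((qq + 1) * Qn m)) by ring]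
      exact hcardG)
    rw [hc, pow_mul, pow_orderOf_eq_one, one_pow]

end Cfsg.Agent.Lib.RankOne.Ree
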