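import Cfsg.Agent.Lib.RankOne.ReeTwoTori

/-!
Cyclic Hall subgroups and element orders of the small Ree group.
-/

set_option autoImplicit false
set_option maxRecDepth 100000

namespace Cfsg.Agent.Lib.RankOne.Ree

open Cfsg.Lie Cfsg.Agent.Lib.Chev Cfsg.Agent.Lib.Chev.Tw Cfsg.Agent.Lib.Chev.Tw.G2
open Cfsg.Agent.Lib.RankOne.Ree.SylowTwo (inv0 orderOf_inv0 involution_conj)

theorem eq_one_of_odd {G : Type*} [Group G] {y : G} {k : ℕ} (hk : k % 2 = 1) (h : y ^ k = 1) (h2 : y * y = 1) :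
    y = 1 := by
  rw [← Nat.div_add_mod k 2, hk, pow_succ, pow_mul, pow_two, h2, one_pow, one_mul] at h
  exact h

theorem exists_orderOf_of_dvd {G : Type*} [Group G] [Finite G] {g : G} {d : ℕ} (h : d ∣ orderOf g) :
    ∃ x : G, orderOf x = d := by
  obtain ⟨k, hk⟩ := h
  have hk0 : k ≠ 0 := fun e => by rw [e, mul_zero] at hk; exact (orderOf_pos g).ne' hk
  exact ⟨g ^ k, by rw [orderOf_pow_of_dvd hk0 (hk ▸ dvd_mul_left k d), hk, Nat.mul_div_cancel _ (Nat.pos_of_ne_zero hk0)]⟩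

theorem cyclic_hall {G : Type*} [Group G] [Finite G] {T A : Subgroup G} [IsCyclic ↥A] {k n : ℕ} (hk : Nat.card ↥A = k)
    (hk1 : 1 < k) (hn : Nat.card ↥(Subgroup.normalizer (T : Set G)) = n) (hAT : A ≤ T)
    (hchar : ∀ z ∈ T, z ^ Nat.card ↥A = 1 → z ∈ A) (hC : ∀ y ∈ A, y ≠ 1 → Subgroup.centralizer {y} = T) :
    ∃ A : Subgroup G, IsCyclic A ∧ Nat.card A = k ∧ Nat.card (Subgroup.normalizer (A : Set G)) = n ∧
      ∀ A₀ : Subgroup G, A₀ ≤ A → A₀ ≠ ⊥ →
        Subgroup.normalizer (A₀ : Set G) = Subgroup.normalizer (A : Set G) := by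
  have hne : A ≠ ⊥ := fun e => by
    rw [e, Subgroup.card_bot] at hk; omega
  have hA := normalizer_eq_of_TI hAT hchar hC le_rfl hne
  refine ⟨A, inferInstance, hk, by rw [hA, hn], fun A₀ h0 hne0 => ?_⟩
  rw [hA, normalizer_eq_of_TI hAT hchar hC h0 hne0]

variable {K : Type*} [Field K] [Fintype K] {m : ℕ} (A : Par K m)
include A

set_option quotPrecheck false
local notation "qq" => 3 ^ (2 * m + 1)
local notation "GG" => ↥(twistedG2 K (3 ^ m))
local notation "PSL" => Matrix.ProjectiveSpecialLinearGroup (Fin 2) K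
local notation "Z2" => Multiplicative (ZMod 2)

theorem exists_order_minus : ∃ g : GG, g ∈ TH A ∧ orderOf g = qq - 1 := by
  obtain ⟨t, ht⟩ := IsCyclic.exists_ofOrder_eq_natCard (α := Kˣ)
  refine ⟨torG A t, ⟨t, rfl⟩, ?_⟩
  rw [orderOf_injective _ (torG_inj A), ht, Nat.card_units, Nat.card_eq_fintype_card, A.hK]

theorem exists_order_plus : ∃ g : GG, (∃ r ∈ RotP A, g = thetaG A (1, r)) ∧ orderOf g = (qq + 1) / 2 := by
  have := RotP_isCyclic A
  obtain ⟨r, hr⟩ := IsCyclic.exists_ofOrder_eq_natCard (α := ↥(RotP A))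
  refine ⟨thetaG A (1, (r : PSL)), ⟨r, r.2, rfl⟩, ?_⟩
  rw [orderOf_injective _ (thetaG_inj A), Prod.orderOf_mk, orderOf_one, Nat.lcm_one_left, Subgroup.orderOf_coe, hr]
  have := card_RotP A
  rw [A.hK] at this
  omega

theorem hall_minus (hm : 1 ≤ m) : ∃ B : Subgroup GG, IsCyclic B ∧ Nat.card B = (qq - 1) / 2 ∧
    Nat.card (Subgroup.normalizer (B : Set GG)) = 2 * (qq - 1) ∧
    ∀ A₀ : Subgroup GG, A₀ ≤ B → A₀ ≠ ⊥ →
      Subgroup.normalizer (A₀ : Set GG) = Subgroup.normalizer (B : Set GG) := by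
  obtain ⟨hq, hq8, hq3⟩ := q_facts hm
  obtain ⟨g, hg, hgo⟩ := exists_order_minus A
  have ho : orderOf (g ^ 2) = (qq - 1) / 2 := by
    rw [orderOf_pow_of_dvd two_ne_zero (by rw [hgo]; omega), hgo]
  have hle : Subgroup.zpowers (g ^ 2) ≤ TH A := Subgroup.zpowers_le.2 (Subgroup.pow_mem _ hg 2)
  have hcard : Nat.card ↥(Subgroup.zpowers (g ^ 2)) = (qq - 1) / 2 := by rw [Nat.card_zpowers, ho]
  have : IsCyclic ↥(TH A) := isCyclic_of_surjective _ (torG A).rangeRestrict_surjective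
  refine cyclic_hall hcard (by omega) (card_normalizer_TH A hm) hle (fun z hz hp => mem_of_pow_card hle hz hp) ?_
  intro y hy hy1
  obtain ⟨t, rfl⟩ := hle hy
  refine centralizer_torG A fun e => hy1 (eq_one_of_odd (k := (qq - 1) / 2) (by omega) ?_ (by rw [← map_mul, e, map_one]))
  rw [← hcard]
  exact congrArg Subtype.val (pow_card_eq_one' (x := (⟨_, hy⟩ : ↥(Subgroup.zpowers (g ^ 2)))))

theorem hall_plus (hm : 1 ≤ m) : ∃ B : Subgroup GG, IsCyclic B ∧ Nat.card B = (qq + 1) / 4 ∧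
    Nat.card (Subgroup.normalizer (B : Set GG)) = 6 * (qq + 1) ∧
    ∀ A₀ : Subgroup GG, A₀ ≤ B → A₀ ≠ ⊥ →
      Subgroup.normalizer (A₀ : Set GG) = Subgroup.normalizer (B : Set GG) := by
  obtain ⟨hq, hq8, hq3⟩ := q_facts hm
  obtain ⟨g, ⟨r, hr, hgr⟩, hgo⟩ := exists_order_plus A
  have ho : orderOf (g ^ 2) = (qq + 1) / 4 := by
    rw [orderOf_pow_of_dvd two_ne_zero (by rw [hgo]; omega), hgo, Nat.div_div_eq_div_mul]
  have hgT : g ∈ T2 A := (mem_T2 A).2 ⟨1, r, hr, hgr⟩
  have hle : Subgroup.zpowers (g ^ 2) ≤ T2 A := Subgroup.zpowers_le.2 (Subgroup.pow_mem _ hgT 2)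
  have hcard : Nat.card ↥(Subgroup.zpowers (g ^ 2)) = (qq + 1) / 4 := by rw [Nat.card_zpowers, ho]
  set P := (RotP A).map ((thetaG A).comp (MonoidHom.inr Z2 PSL))
  have : IsCyclic ↥P := by
    have := RotP_isCyclic A
    exact isCyclic_of_surjective _ ((MonoidHom.comp (thetaG A) (MonoidHom.inr Z2 PSL)).subgroupMap_surjective (RotP A))
  have hgP : g ∈ P := ⟨r, hr, hgr.symm⟩
  have hP : Subgroup.zpowers (g ^ 2) ≤ P := Subgroup.zpowers_le.2 (Subgroup.pow_mem _ hgP 2)
  refine cyclic_hall hcard (by omega) (card_normalizer_T2 A hm) hle (fun z hz hp => ?_) ?_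
  · refine mem_of_pow_card hP ?_ hp
    obtain ⟨e, s, hs, rfl⟩ := (mem_T2 A).1 hz
    rw [hcard, ← map_pow, ← map_one (thetaG A)] at hp
    have he : e ^ ((qq + 1) / 4) = 1 := congrArg Prod.fst (thetaG_inj A hp)
    have : e = 1 := eq_one_of_odd (by omega) he ((by decide : ∀ a : Z2, a * a = 1) e)
    exact ⟨s, hs, by rw [this]; rfl⟩
  · intro y hy hy1
    refine centralizer_T2 A hm (hle hy) fun e => hy1 (eq_one_of_odd (k := (qq + 1) / 4) (by omega) ?_ e)
    rw [← hcard]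
    exact congrArg Subtype.val (pow_card_eq_one' (x := (⟨_, hy⟩ : ↥(Subgroup.zpowers (g ^ 2)))))

theorem hall_singer (hm : 1 ≤ m) {y : GG} {k : ℕ} (hy : y ^ Qn m = 1) (hy1 : y ≠ 1)
    (hk : Nat.card ↥(Subgroup.centralizer {y}) = k)
    (hn : Nat.card ↥(Subgroup.normalizer (Subgroup.centralizer {y} : Set GG)) = 6 * k) :
    ∃ B : Subgroup GG, IsCyclic B ∧ Nat.card B = k ∧ Nat.card (Subgroup.normalizer (B : Set GG)) = 6 * k ∧
      ∀ A₀ : Subgroup GG, A₀ ≤ B → A₀ ≠ ⊥ →
        Subgroup.normalizer (A₀ : Set GG) = Subgroup.normalizer (B : Set GG) := by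
  obtain ⟨hc, -, hC, -⟩ := singer A hm hy1 hy
  obtain ⟨c, -, h5, -⟩ := orbit_data A hm hy hy1
  exact cyclic_hall hk (by omega) hn le_rfl (fun z hz _ => hz) hC

theorem orderOf_ne_eighteen (hm : 1 ≤ m) (x : GG) : orderOf x ≠ 18 := by
  intro h
  obtain ⟨g, hB, -⟩ := mem_U_or A hm (x := x) (h ▸ by norm_num)
  set z : GL chevG2.Idx K := ((g * x * g⁻¹ : GG) : GL chevG2.Idx K)
  have hz : orderOf z = 18 := by
    rw [Subgroup.orderOf_coe, show g * x * g⁻¹ = MulAut.conj g x from rfl, MulEquiv.orderOf_eq, h]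
  obtain ⟨v, hv, d, hd, e⟩ := (mem_B_iff A).1 hB
  obtain ⟨t, rfl⟩ := (torT_range A).ge hd
  have key : ∀ n, z ^ n = 1 → t ^ n = 1 := by
    intro n hn
    obtain ⟨v', hv', e'⟩ := pow_B A hv t n
    rw [← e] at e'
    have e4 : v' * torT A (t ^ n) = 1 * torT A 1 := by rw [← e', map_one, mul_one]; exact hn
    exact torT_injective A (pos_diag_eq A hv'.1 (one_mem _) (torT_mem A _).1 (torT_mem A _).1 e4).2
  have ht18 := key 18 (by rw [← hz]; exact pow_orderOf_eq_one z)
  have htt : t * t = 1 := by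
    rw [← pow_two]
    refine orderOf_dvd_iff_pow_eq_one.1 (dvd_two_of (orderOf_dvd_of_pow_eq_one ht18) fun h3 => ?_)
    have ht2 : orderOf t ∣ qq - 1 := by
      classical
      rw [← A.hK, ← Fintype.card_units]; exact orderOf_dvd_card
    obtain ⟨hq, hq8, hq3⟩ := q_facts hm
    have := h3.trans ht2
    omega
  rcases sq_cases A htt with rfl | rfl
  · rw [map_one, mul_one] at e
    have := orderOf_dvd_of_pow_eq_one (show z ^ 9 = 1 by rw [show z = v from e]; exact U_pow_nine A hv)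
    rw [hz] at this
    exact absurd this (by norm_num)
  · set a := torT A (-1) with ha
    have ha2 : a * a = 1 := torT_neg_sq A
    have hai : a⁻¹ = a := inv_eq_of_mul_eq_one_right ha2
    obtain ⟨u, hu, eu⟩ := pow_B A hv (-1) 9
    rw [← e, show (-1 : Kˣ) ^ 9 = -1 from Odd.neg_one_pow ⟨4, rfl⟩] at eu
    have hu2 : (u * a) ^ 2 = 1 := by
      rw [← eu, ← pow_mul, ← pow_orderOf_eq_one z, hz]
    have hau : a * u * a⁻¹ = u⁻¹ := by
      refine (inv_eq_of_mul_eq_one_right ?_).symm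
      rw [hai]
      calc u * (a * u * a) = (u * a) ^ 2 := by rw [pow_two]; group
        _ = 1 := hu2
    set w := u ^ 5
    have hw : w * a * w⁻¹ = u * a := by
      have h2 : a * w⁻¹ * a⁻¹ = w := by
        rw [show a * (u ^ 5)⁻¹ * a⁻¹ = ((a * u * a⁻¹) ^ 5)⁻¹ by rw [conj_pow]; group, hau, inv_pow, inv_inv]
      calc w * a * w⁻¹ = w * (a * w⁻¹ * a⁻¹) * a := by group
        _ = u * a := by rw [h2, ← pow_add, show 5 + 5 = 9 + 1 from rfl, pow_succ, U_pow_nine A hu, one_mul]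
    have hwU : w ∈ (chevG2.posUnipotent K ⊓ G1 K m) := Subgroup.pow_mem _ hu 5
    set z' := w⁻¹ * z * w
    have hzB : z' ∈ chevG2.borelSubgroup K ⊓ G1 K m :=
      Subgroup.mul_mem _ (Subgroup.mul_mem _ (Subgroup.inv_mem _ (U_le_B A hwU)) hB) (U_le_B A hwU)
    have hza : z' * a = a * z' := by
      have hc : z * (u * a) = u * a * z := by
        rw [← eu]; exact ((Commute.refl z).pow_right 9).eq
      calc z' * a = w⁻¹ * (z * (w * a * w⁻¹)) * w := by simp only [z']; group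
        _ = w⁻¹ * (w * a * w⁻¹ * z) * w := by rw [hw, hc]
        _ = _ := by simp only [z']; group
    obtain ⟨v', hv', d', hd', e'⟩ := (mem_B_iff A).1 hzB
    obtain ⟨s, rfl⟩ := (torT_range A).ge hd'
    have e5 : (a * v' * a⁻¹) * torT A s = v' * torT A s := by
      calc a * v' * a⁻¹ * torT A s = a * (v' * torT A s) * a⁻¹ * ((a * (torT A s)⁻¹ * a⁻¹) * torT A s) := by group
        _ = _ := by
          rw [show (torT A s)⁻¹ = torT A s⁻¹ from (map_inv _ _).symm, torT_neg_comm A,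
            mul_inv_cancel_right, map_inv, inv_mul_cancel, mul_one, ← e', ← hza, mul_inv_cancel_right]
    have hvv : a * v' * a⁻¹ = v' := mul_right_cancel e5
    obtain ⟨y, rfl⟩ := (fixed_neg_iff A hv').1 hvv
    have h6 : z' ^ 6 = 1 := by
      have hs18 : s ^ 18 = 1 := by
        obtain ⟨v'', hv'', e18⟩ := pow_B A hv' s 18
        rw [← e'] at e18
        have e4 : v'' * torT A (s ^ 18) = 1 * torT A 1 := by
          rw [← e18, map_one, mul_one]
          simp only [z']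
          rw [show w⁻¹ * z * w = w⁻¹ * z * (w⁻¹)⁻¹ by rw [inv_inv], conj_pow, ← hz, pow_orderOf_eq_one]
          group
        exact torT_injective A (pos_diag_eq A hv''.1 (one_mem _) (torT_mem A _).1 (torT_mem A _).1 e4).2
      have hss : s * s = 1 := by
        rw [← pow_two]
        refine orderOf_dvd_iff_pow_eq_one.1 (dvd_two_of (orderOf_dvd_of_pow_eq_one hs18) fun h3 => ?_)
        have ht2 : orderOf s ∣ qq - 1 := by
          classical
          rw [← A.hK, ← Fintype.card_units]; exact orderOf_dvd_card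
        obtain ⟨hq, hq8, hq3⟩ := q_facts hm
        have := h3.trans ht2
        omega
      have hc : Commute (W A 0 y 0) (torT A s) := by
        rcases sq_cases A hss with rfl | rfl
        · rw [map_one]; exact Commute.one_right _
        · exact ((mem_CA A).1 (W0_mem_CA A y)).2.symm
      rw [e', hc.mul_pow, show (6 : ℕ) = 3 * 2 from rfl, pow_mul, (W_cube A).2 rfl, one_pow, one_mul, mul_comm 3 2,
        pow_mul, pow_two, ← map_mul, hss, map_one, one_pow]
    have h6' : z ^ 6 = 1 := by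
      rw [show z = w * z' * w⁻¹ by simp only [z']; group, conj_pow, h6]; group
    have := orderOf_dvd_of_pow_eq_one h6'
    rw [hz] at this
    exact absurd this (by norm_num)

theorem exists_order_six (hm : 1 ≤ m) : ∃ g : GG, orderOf g = 6 := by
  have : Fact (Nat.Prime 3) := ⟨Nat.prime_three⟩
  let w : GG := ⟨W A 0 1 0, W_mem A _ _ _⟩
  have hw : orderOf w = 3 := by
    refine orderOf_eq_prime_iff.2 ⟨Subtype.ext ((W_cube A).2 rfl), fun e => ?_⟩
    exact one_ne_zero (W_eq_one A (congrArg Subtype.val e)).2.1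
  have hc : Commute (inv0 A) w := Subtype.ext ((mem_CA A).1 (W0_mem_CA A 1)).2
  exact ⟨inv0 A * w, by rw [hc.orderOf_mul_eq_mul_orderOf_of_coprime (by rw [orderOf_inv0 A, hw]; norm_num), orderOf_inv0 A, hw]⟩

theorem exists_order_nine (hm : 1 ≤ m) : ∃ g : GG, orderOf g = 9 := by
  have : Fact (Nat.Prime 3) := ⟨Nat.prime_three⟩
  refine ⟨⟨W A 1 0 0, W_mem A _ _ _⟩, ?_⟩
  have h := orderOf_eq_prime_pow (p := 3) (n := 1) (x := (⟨W A 1 0 0, W_mem A _ _ _⟩ : GG))
    (fun e => one_ne_zero ((W_cube A).1 (by simpa using congrArg Subtype.val e)))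
    (Subtype.ext (U_pow_nine A ⟨W_pos A _ _ _, W_mem A _ _ _⟩))
  simpa using h

theorem element_orders (hm : 1 ≤ m) (d : ℕ) :
    (∃ g : GG, orderOf g = d) ↔ (d ∣ 6 ∨ d ∣ 9 ∨ d ∣ qq - 1 ∨ d ∣ (qq + 1) / 2 ∨
      d ∣ qq - 3 ^ (m + 1) + 1 ∨ d ∣ qq + 3 ^ (m + 1) + 1) := by
  obtain ⟨hq, hq8, hq3⟩ := q_facts hm
  obtain ⟨y, y', hy, hy1, hy', hy1', hk, -, hk', -, hX⟩ := two_tori A hm
  constructor
  · rintro ⟨x, rfl⟩
    by_cases h1 : x = 1
    · left; rw [h1, orderOf_one]; exact one_dvd _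
    rcases element_cases A hm x with h | ⟨g, hg, -⟩ | ⟨g, hg, -⟩ | h
    · have hd := orderOf_dvd_of_pow_eq_one h
      have hne := orderOf_ne_eighteen A hm x
      have hpos := orderOf_pos x
      have hle := Nat.le_of_dvd (by norm_num) hd
      generalize orderOf x = n at hd hne hpos hle ⊢
      interval_cases n <;> first | omega | (left; norm_num; done) | (right; left; norm_num; done)
    · right; right; left
      rw [← card_TH A, ← (MulAut.conj g).orderOf_eq x]
      show orderOf (g * x * g⁻¹) ∣ _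
      rw [← Subgroup.orderOf_mk _ hg]; exact orderOf_dvd_natCard _
    · right; right; right; left
      obtain ⟨e, r, hr, her⟩ := (mem_T2 A).1 hg
      rw [← (MulAut.conj g).orderOf_eq x]
      show orderOf (g * x * g⁻¹) ∣ _
      rw [her, orderOf_injective _ (thetaG_inj A), Prod.orderOf_mk]
      have hR := card_RotP A
      rw [A.hK] at hR
      refine Nat.lcm_dvd ((orderOf_dvd_of_pow_eq_one (n := 2) (by
        rw [pow_two]; exact (by decide : ∀ a : Z2, a * a = 1) e)).trans (by omega)) ?_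
      rw [show (qq + 1) / 2 = Nat.card ↥(RotP A) by omega, ← Subgroup.orderOf_mk r hr]
      exact orderOf_dvd_natCard _
    · have key : ∀ y : GG, x ∈ conjSet A y → orderOf x ∣ Nat.card ↥(Subgroup.centralizer {y}) := by
        rintro y ⟨g, s, ⟨hs, -⟩, rfl⟩
        rw [show g * s * g⁻¹ = MulAut.conj g s from rfl, MulEquiv.orderOf_eq, ← Subgroup.orderOf_mk s hs]
        exact orderOf_dvd_natCard _
      right; right; right; right
      rcases hX.le (show x ∈ {x : GG | x ^ Qn m = 1 ∧ x ≠ 1} from ⟨h, h1⟩) with h | h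
      · exact Or.inl (hk ▸ key y h)
      · exact Or.inr (hk' ▸ key y' h)
  · have gen : ∀ y : GG, y ^ Qn m = 1 → y ≠ 1 →
        ∃ g : GG, orderOf g = Nat.card ↥(Subgroup.centralizer {y}) := by
      intro y hy hy1
      obtain ⟨hc, -, -, -⟩ := singer A hm hy1 hy
      obtain ⟨g, hg⟩ := IsCyclic.exists_ofOrder_eq_natCard (α := ↥(Subgroup.centralizer {y}))
      exact ⟨g, by rw [Subgroup.orderOf_coe, hg]⟩
    rintro (h | h | h | h | h | h)
    · obtain ⟨g, hg⟩ := exists_order_six A hm; exact exists_orderOf_of_dvd (g := g) (hg ▸ h)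
    · obtain ⟨g, hg⟩ := exists_order_nine A hm; exact exists_orderOf_of_dvd (g := g) (hg ▸ h)
    · obtain ⟨g, -, hg⟩ := exists_order_minus A; exact exists_orderOf_of_dvd (g := g) (hg ▸ h)
    · obtain ⟨g, -, hg⟩ := exists_order_plus A; exact exists_orderOf_of_dvd (g := g) (hg ▸ h)
    · obtain ⟨g, hg⟩ := gen y hy hy1; exact exists_orderOf_of_dvd (g := g) (by rw [hg, hk]; exact h)
    · obtain ⟨g, hg⟩ := gen y' hy' hy1'; exact exists_orderOf_of_dvd (g := g) (by rw [hg, hk']; exact h)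

end Cfsg.Agent.Lib.RankOne.Ree
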