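import Cfsg.Agent.Lib.RankOne.ReeGen
import Cfsg.Agent.Lib.Chev.Aut.Out
import Cfsg.Agent.Lib.Chev.Map
import Cfsg.Prelude.Def_KGroupFacts

/-!
Automorphisms of the small Ree group: the outer ones are the field automorphisms.
-/

set_option autoImplicit false
set_option maxRecDepth 100000
set_option linter.unusedSectionVars false

namespace Cfsg.Agent.Lib.RankOne.Ree.Out

open Cfsg.Lie Cfsg.Agent.Lib.Chev Cfsg.Agent.Lib.Chev.Tw Cfsg.Agent.Lib.Chev.Tw.G2
open Cfsg.Agent.Lib.RankOne.Ree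

variable {K : Type*} [Field K] [Fintype K] {m : ℕ} (A : Par K m)
include A

set_option quotPrecheck false
local notation "qq" => 3 ^ (2 * m + 1)
local notation "GG" => ↥(twistedG2 K (3 ^ m))
local notation "U₁" => chevG2.posUnipotent K ⊓ G1 K m
local notation "B₁" => chevG2.borelSubgroup K ⊓ G1 K m
local notation "H₁" => chevG2.diagonalSubgroup K ⊓ G1 K m
local notation "nn" => (sys A).G.nl K (twG2.blk 0)

/-- Unipotent elements inside the group. -/
noncomputable def wG (x u v : K) : GG := ⟨W A x u v, W_mem A x u v⟩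

/-- Torus elements inside the group. -/
noncomputable def tG : Kˣ →* GG := (torT A).codRestrict _ fun t => (torT_mem A t).2

/-- The Weyl element inside the group. -/
noncomputable def nG : GG := ⟨nn, n_mem A⟩

theorem tG_val (t : Kˣ) : ((tG A t : GG) : GL chevG2.Idx K) = torT A t := rfl

/-- The unipotent subgroup inside the group. -/
noncomputable def unipG : Subgroup GG := (U₁).subgroupOf (twistedG2 K (3 ^ m))

local notation "UG'" => unipG (K := K) (m := m)

theorem mem_unipG {g : GG} : g ∈ UG' ↔ ∃ x u v, g = wG A x u v := by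
  constructor
  · intro h
    obtain ⟨x, u, v, e⟩ := (pos_iff A (g : GL chevG2.Idx K)).1 h
    exact ⟨x, u, v, Subtype.ext e⟩
  · rintro ⟨x, u, v, rfl⟩
    exact (pos_iff A _).2 ⟨x, u, v, rfl⟩

theorem wG_inj {x u v x' u' v' : K} (h : wG A x u v = wG A x' u' v') : x = x' ∧ u = u' ∧ v = v' :=
  W_inj A (congrArg Subtype.val h)

theorem wG_zero : wG A 0 0 0 = 1 := Subtype.ext (W_zero A)

theorem wG_mul (x u v x' u' v' : K) : wG A x u v * wG A x' u' v' =
    wG A (x + x') (u + u' - A.phi x' ^ 3 * x) (v + v' - A.phi x' ^ 3 * x ^ 2 - x' * (u - A.phi x' ^ 3 * x)) :=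
  Subtype.ext (W_mul A x u v x' u' v')

theorem conj_tG (t : Kˣ) (x u v : K) : tG A t * wG A x u v * (tG A t)⁻¹ =
    wG A (((wX A t : Kˣ) : K) * x) (((wU A t : Kˣ) : K) * u) ((t : K) * v) := by
  apply Subtype.ext
  rw [wX_val A, wU_val A]
  exact conj_torT A t x u v

theorem wX_neg_one : ((wX A (-1) : Kˣ) : K) = -1 := by
  rw [wX_val A, Units.val_neg, Units.val_one, map_neg, map_one]; norm_num

theorem wU_neg_one : ((wU A (-1) : Kˣ) : K) = 1 := by
  rw [wU_val A, Units.val_neg, Units.val_one, map_neg, map_one]; norm_num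

theorem wX_bij : Function.Bijective (wX A) := by
  refine Finite.injective_iff_bijective.1 ((injective_iff_map_eq_one _).2 fun t ht => ?_)
  rcases sq_cases A (wX_ker A ht) with rfl | rfl
  · rfl
  · exfalso
    have h := wX_neg_one A
    rw [ht, Units.val_one] at h
    exact neg_one_ne_one A h.symm

/-- The weight twisting is not the identity. -/
theorem exists_phi_ne (hm : 1 ≤ m) : ∃ c : K, A.phi c ^ 3 ≠ c := by
  by_contra hall
  push Not at hall
  have h1 : ∀ z : K, A.phi z = z := fun z => (hall (A.phi z)).symm.trans (phi_cube A z)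
  obtain ⟨t, ht⟩ := exists_sq_ne_one A hm
  have h2 : (t : K) ^ 3 = (t : K) := by
    calc (t : K) ^ 3 = A.phi (t : K) ^ 3 := by rw [h1]
      _ = (t : K) := hall (t : K)
  exact ht (Units.ext (mul_left_cancel₀ t.ne_zero
    (show (t : K) * ((t * t : Kˣ) : K) = t * ((1 : Kˣ) : K) by
      rw [Units.val_mul, Units.val_one]; linear_combination h2)))

/-! ### Rigidity on the Borel subgroup -/

/-- An automorphism fixing the torus and normalising the unipotent group acts on it as a torus element. -/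
theorem unipotent_rigid (hm : 1 ≤ m) (φ : MulAut GG) (hU : ∀ g ∈ UG', φ g ∈ UG')
    (hT : ∀ t, φ (tG A t) = tG A t) :
    ∃ c : Kˣ, ∀ x u v, φ (wG A x u v) = tG A c * wG A x u v * (tG A c)⁻¹ := by
  classical
  have h3 := A.h3
  choose fX fU fV hf using fun x u v : K =>
    (mem_unipG A).1 (hU (wG A x u v) ((mem_unipG A).2 ⟨x, u, v, rfl⟩))
  -- equivariance
  have heq : ∀ (t : Kˣ) (x u v : K),
      fX (((wX A t : Kˣ) : K) * x) (((wU A t : Kˣ) : K) * u) ((t : K) * v) = ((wX A t : Kˣ) : K) * fX x u v ∧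
      fU (((wX A t : Kˣ) : K) * x) (((wU A t : Kˣ) : K) * u) ((t : K) * v) = ((wU A t : Kˣ) : K) * fU x u v ∧
      fV (((wX A t : Kˣ) : K) * x) (((wU A t : Kˣ) : K) * u) ((t : K) * v) = (t : K) * fV x u v := by
    intro t x u v
    apply wG_inj A
    rw [← hf, ← conj_tG A, map_mul, map_mul, map_inv, hT, hf, conj_tG A]
  -- the layer
  have hX0 : ∀ u v, fX 0 u v = 0 := fun u v => by
    refine (W_cube A (x := fX 0 u v) (u := fU 0 u v) (v := fV 0 u v)).1 ?_
    have h1 : wG A 0 u v ^ 3 = 1 := Subtype.ext ((W_cube A).2 rfl)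
    have h2 := congrArg φ h1
    rw [map_pow, map_one, hf] at h2
    exact congrArg Subtype.val h2
  have hlay : ∀ u v u' v', wG A 0 u v * wG A 0 u' v' = wG A 0 (u + u') (v + v') := fun u v u' v' => by
    rw [wG_mul A]; congr 1 <;> simp
  have hadd : ∀ u v u' v', fU 0 (u + u') (v + v') = fU 0 u v + fU 0 u' v' ∧
      fV 0 (u + u') (v + v') = fV 0 u v + fV 0 u' v' := fun u v u' v' => by
    have h := congrArg φ (hlay u v u' v')
    rw [map_mul, hf, hf, hf, hX0, hX0, hX0, hlay] at h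
    exact ⟨(wG_inj A h).2.1.symm, (wG_inj A h).2.2.symm⟩
  have hV0 : ∀ u, fV 0 u 0 = 0 := fun u => by
    have h := (heq (-1) 0 u 0).2.2
    rw [wX_neg_one A, wU_neg_one A, Units.val_neg, Units.val_one] at h
    simp only [mul_zero, one_mul] at h
    linear_combination (fV 0 u 0) * h3 - h
  have hU0 : ∀ v, fU 0 0 v = 0 := fun v => by
    rcases eq_or_ne v 0 with rfl | hv
    · have := (hadd 0 0 0 0).1
      rw [add_zero] at this
      linear_combination -this
    have h := (heq (-1) 0 0 v).2.1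
    rw [wX_neg_one A, wU_neg_one A, Units.val_neg, Units.val_one, mul_zero, one_mul, one_mul,
      neg_one_mul] at h
    have h' := (hadd 0 v 0 (-v)).1
    rw [add_zero, add_neg_cancel, h] at h'
    have h00 : fU 0 0 0 = 0 := by
      have := (hadd 0 0 0 0).1
      rw [add_zero] at this
      linear_combination -this
    rw [h00] at h'
    linear_combination h' + (fU 0 0 v) * h3
  set c := fV 0 0 1 with hc
  have hVv : ∀ v, fV 0 0 v = c * v := fun v => by
    rcases eq_or_ne v 0 with rfl | hv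
    · have := (hadd 0 0 0 0).2
      rw [add_zero] at this
      rw [mul_zero]; linear_combination -this
    have h := (heq (Units.mk0 v hv) 0 0 1).2.2
    rw [mul_zero, mul_zero, mul_one, Units.val_mk0] at h
    rw [h, hc]; ring
  set b := fU 0 1 0 with hb
  have hUu : ∀ u, fU 0 u 0 = b * u := fun u => by
    let S : AddSubgroup K :=
      { carrier := {s | fU 0 s 0 = b * s}
        zero_mem' := by
          show fU 0 0 0 = b * 0
          rw [hU0, mul_zero]
        add_mem' := fun {s s'} (h : fU 0 s 0 = b * s) (h' : fU 0 s' 0 = b * s') => by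
          show fU 0 (s + s') 0 = b * (s + s')
          have := (hadd s 0 s' 0).1
          rw [add_zero, h, h'] at this
          rw [this]; ring
        neg_mem' := fun {s} (h : fU 0 s 0 = b * s) => by
          show fU 0 (-s) 0 = b * (-s)
          have := (hadd s 0 (-s) 0).1
          rw [add_zero, add_neg_cancel, hU0, h] at this
          linear_combination -this }
    refine exists_mem_all A (wU A) (fun t h => wU_ker A h) S (fun t s (hs : fU 0 s 0 = b * s) => ?_)
      (x := 1) (show fU 0 1 0 = b * 1 by rw [mul_one]) one_ne_zero u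
    show fU 0 (((wU A t : Kˣ) : K) * s) 0 = b * (((wU A t : Kˣ) : K) * s)
    have h := (heq t 0 s 0).2.1
    rw [mul_zero, mul_zero, hs] at h
    rw [h]; ring
  have hlayer : ∀ u v, φ (wG A 0 u v) = wG A 0 (b * u) (c * v) := fun u v => by
    obtain ⟨e1, e2⟩ := hadd u 0 0 v
    rw [add_zero, zero_add] at e1 e2
    rw [hf, hX0, e1, e2, hU0, hV0, hUu, hVv, add_zero, zero_add]
  -- the top
  have hdec : ∀ x u v, wG A x u v = wG A x 0 0 * wG A 0 u v := fun x u v => by
    rw [wG_mul A]; congr 1 <;> simp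
  have himg : ∀ x u v, φ (wG A x u v) = wG A (fX x 0 0) (fU x 0 0 + b * u) (fV x 0 0 + c * v) := fun x u v => by
    rw [hdec x u v, map_mul, hf, hlayer, wG_mul A]; congr 1 <;> simp
  set a := fX 1 0 0 with ha
  have hXx : ∀ x, fX x 0 0 = a * x := fun x => by
    rcases eq_or_ne x 0 with rfl | hx
    · rw [hX0, mul_zero]
    obtain ⟨t, ht⟩ := (wX_bij A).2 (Units.mk0 x hx)
    have h := (heq t 1 0 0).1
    rw [ht, Units.val_mk0, mul_one, mul_zero, mul_zero] at h
    rw [h, ha]; ring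
  -- products of two top elements
  have hprod : ∀ x y, fU (x + y) 0 0 - b * (A.phi y ^ 3 * x) =
        fU x 0 0 + fU y 0 0 - A.phi a ^ 3 * a * (A.phi y ^ 3 * x) ∧
      fV (x + y) 0 0 + c * (-(A.phi y ^ 3 * x ^ 2) + y * (A.phi y ^ 3 * x)) =
        fV x 0 0 + fV y 0 0 - A.phi (a * y) ^ 3 * (a * x) ^ 2 -
          a * y * (fU x 0 0 - A.phi (a * y) ^ 3 * (a * x)) := fun x y => by
    have h := congrArg φ (wG_mul A x 0 0 y 0 0)
    rw [map_mul, himg, himg, himg, wG_mul A] at h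
    obtain ⟨-, h1, h2⟩ := wG_inj A h
    simp only [hXx, map_mul, mul_zero, add_zero, zero_add, zero_sub, sub_neg_eq_add] at h1 h2 ⊢
    exact ⟨by linear_combination -h1, by linear_combination -h2⟩
  have hba : b = A.phi a ^ 3 * a := by
    obtain ⟨z, hz⟩ := exists_phi_ne A hm
    have h1 := (hprod z 1).1
    have h2 := (hprod 1 z).1
    rw [add_comm 1 z, map_one] at *
    by_contra hne
    have : (b - A.phi a ^ 3 * a) * (A.phi z ^ 3 - z) = 0 := by linear_combination h1 - h2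
    rcases mul_eq_zero.1 this with e | e
    · exact hne (sub_eq_zero.1 e)
    · exact hz (sub_eq_zero.1 e)
  have hUx : ∀ x, fU x 0 0 = 0 := fun x => by
    have h1 := (hprod x (-x)).1
    rw [add_neg_cancel, hU0, hba] at h1
    have h2 := (heq (-1) x 0 0).2.1
    rw [wX_neg_one A, wU_neg_one A, mul_zero, mul_zero, neg_one_mul, one_mul] at h2
    rw [h2] at h1
    linear_combination h1 + (fU x 0 0) * h3
  -- the centre coefficient
  have hca : c = A.phi a ^ 3 * a ^ 2 := by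
    have h := congrArg φ (wG_mul A 0 1 0 1 0 0)
    rw [map_mul, himg, himg, himg, wG_mul A] at h
    obtain ⟨-, -, h2⟩ := wG_inj A h
    simp only [hXx, hX0, hUx, hU0, map_one, map_zero, mul_zero, add_zero, zero_add, mul_one, zero_sub,
      sub_zero, zero_mul] at h2
    have h00 : fV 0 0 0 = 0 := by rw [hVv, mul_zero]
    have e : c = a * b := by linear_combination h2 - h00
    rw [e, hba]; ring
  have hd_add : ∀ x y, fV (x + y) 0 0 = fV x 0 0 + fV y 0 0 := fun x y => by
    have h := (hprod x y).2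
    simp only [hUx, hca, map_mul] at h
    linear_combination h
  -- the last coefficient vanishes
  have hd : ∀ x, fV x 0 0 = 0 := by
    by_contra hne
    push Not at hne
    obtain ⟨x₀, hx₀⟩ := hne
    set d := fV 1 0 0 with hdd
    have hdt : ∀ t : Kˣ, fV ((wX A t : Kˣ) : K) 0 0 = (t : K) * d := fun t => by
      have h := (heq t 1 0 0).2.2
      rw [mul_one, mul_zero, mul_zero] at h
      exact h
    have hd0 : d ≠ 0 := fun hd0 => hx₀ (by
      rcases eq_or_ne x₀ 0 with rfl | hx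
      · rw [hVv, mul_zero]
      obtain ⟨t, ht⟩ := (wX_bij A).2 (Units.mk0 x₀ hx)
      have h := hdt t
      rwa [ht, Units.val_mk0, hd0, mul_zero] at h)
    -- the weight would be additive
    have key : ∀ s : Kˣ, ∀ hs : (s : K) + 1 ≠ 0,
        ((wX A (Units.mk0 _ hs) : Kˣ) : K) = ((wX A s : Kˣ) : K) + 1 := fun s hs => by
      have h0 : ((wX A s : Kˣ) : K) + 1 ≠ 0 := fun e => by
        have h1 : wX A s = wX A (-1) := Units.ext (by rw [wX_neg_one A]; linear_combination e)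
        apply hs
        rw [(wX_bij A).1 h1, Units.val_neg, Units.val_one, neg_add_cancel]
      obtain ⟨r, hr⟩ := (wX_bij A).2 (Units.mk0 _ h0)
      have e := hd_add ((wX A s : Kˣ) : K) 1
      rw [show ((wX A s : Kˣ) : K) + 1 = ((wX A r : Kˣ) : K) from by rw [hr, Units.val_mk0], hdt, hdt] at e
      have e2 : r = Units.mk0 _ hs := Units.ext (mul_right_cancel₀ hd0 (by
        rw [e, Units.val_mk0]; ring))
      rw [← e2, hr, Units.val_mk0]
    obtain ⟨z, hz⟩ := exists_phi_ne A hm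
    apply hz
    rcases eq_or_ne z 0 with rfl | hz0
    · rw [map_zero]; simp
    rcases eq_or_ne (z + 1) 0 with hz1 | hz1
    · rw [show z = -1 by linear_combination hz1, map_neg, map_one]; norm_num
    have h : ((wX A (Units.mk0 (z + 1) hz1) : Kˣ) : K) = ((wX A (Units.mk0 z hz0) : Kˣ) : K) + 1 :=
      key (Units.mk0 z hz0) hz1
    rw [wX_val A, wX_val A, Units.val_mk0, Units.val_mk0, map_add, map_one, cube_add A, one_pow] at h
    have hP : A.phi z ^ 3 ≠ 0 := pow_ne_zero 3 ((map_ne_zero_iff _ A.phi.injective).2 hz0)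
    have hP1 : A.phi z ^ 3 + 1 ≠ 0 := by
      have := pow_ne_zero 3 ((map_ne_zero_iff _ A.phi.injective).2 hz1)
      rwa [map_add, map_one, cube_add A, one_pow] at this
    generalize A.phi z ^ 3 = P at h hP hP1 ⊢
    field_simp at h
    have h' : (z - P) ^ 2 = 0 := by linear_combination -h
    exact (sub_eq_zero.1 (eq_zero_of_pow_eq_zero h')).symm
  -- conclusion
  have ha0 : a ≠ 0 := fun h => by
    have h1 := himg 1 0 0
    simp only [hXx, h, hUx, hd, zero_mul, mul_zero, add_zero, wG_zero A] at h1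
    exact one_ne_zero (wG_inj A ((φ.injective (h1.trans (map_one φ).symm)).trans (wG_zero A).symm)).1
  have hc0 : c ≠ 0 := by
    rw [hca]; exact mul_ne_zero (pow_ne_zero 3 ((map_ne_zero_iff _ A.phi.injective).2 ha0)) (pow_ne_zero 2 ha0)
  refine ⟨Units.mk0 c hc0, fun x u v => ?_⟩
  rw [himg, hXx, hUx, hd, conj_tG A, wX_val A, wU_val A, Units.val_mk0, hca, map_mul, map_pow, map_pow,
    mul_pow, ← map_pow A.phi (A.phi a) 3]
  have hpa : A.phi (A.phi a ^ 3) = a := phi_cube' A a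
  have hp0 : A.phi a ≠ 0 := (map_ne_zero_iff _ A.phi.injective).2 ha0
  rw [hpa, hba, zero_add, zero_add]
  congr 1
  · field_simp
  · field_simp

/-! ### Field automorphisms -/

/-- The entrywise map of a ring endomorphism. -/
noncomputable def fm (σ : K →+* K) : GL chevG2.Idx K →* GL chevG2.Idx K := Units.map σ.mapMatrix.toMonoidHom

theorem fm_val (σ : K →+* K) (g : GL chevG2.Idx K) :
    (((fm σ g : GL chevG2.Idx K)) : Matrix chevG2.Idx chevG2.Idx K) = (g : Matrix chevG2.Idx chevG2.Idx K).map σ := rfl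

theorem fm_X (σ : K →+* K) (r : ℕ) (t : K) : fm σ ((sys A).G.X K r t) = (sys A).G.X K r (σ t) :=
  Units.ext (x_map σ r t)

theorem fm_word (σ : K →+* K) (w : List (ℕ × K)) :
    fm σ ((sys A).G.wordG w) = (sys A).G.wordG (w.map fun p => (p.1, σ p.2)) := by
  simp only [Good.wordG, map_list_prod, List.map_map]
  congr 1
  exact List.map_congr_left fun p _ => fm_X A σ p.1 p.2

theorem fm_W (σ : K →+* K) (x u v : K) : fm σ (W A x u v) = W A (σ x) (σ u) (σ v) := by
  rw [W_word A, W_word A, fm_word A]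
  congr 1
  simp [reeWordU]

theorem fm_n (σ : K →+* K) : fm σ nn = nn := by
  rw [nl_eq A, map_list_prod, List.map_map]
  congr 1
  refine List.map_congr_left fun r _ => ?_
  simp only [Function.comp_apply, Good.Ng, map_mul, fm_X A, map_one, map_neg, inv_one]

theorem fm_diag (σ : K →+* K) {d : GL chevG2.Idx K} (hd : d ∈ chevG2.diagonalSubgroup K) :
    fm σ d ∈ chevG2.diagonalSubgroup K := by
  suffices h : chevG2.diagonalSubgroup K ≤ (chevG2.diagonalSubgroup K).comap (fm σ) from h hd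
  refine (Subgroup.closure_le _).2 ?_
  rintro g ⟨r, t, hr, ht, hg⟩
  refine Subgroup.subset_closure ⟨r, σ t, hr, (map_ne_zero σ).2 ht, ?_⟩
  have e : g = (sys A).G.wordG (chevG2.hWord r t) :=
    Units.ext (by rw [hg, Good.wordG_val]; rfl)
  rw [e, fm_word A, Good.wordG_val]
  show chevG2.wordMat K _ = chevG2.wordMat K (chevG2.hWord r (σ t))
  congr 1
  simp [ChevalleyDatum.hWord, ChevalleyDatum.nWord, map_inv₀]

theorem fm_mem (σ : K →+* K) {g : GL chevG2.Idx K} (hg : g ∈ G1 K m) : fm σ g ∈ G1 K m := by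
  suffices h : G1 K m ≤ (G1 K m).comap (fm σ) from h hg
  refine gen_cases A (fun x u v => ?_) ?_
  · show fm σ (W A x u v) ∈ G1 K m
    rw [fm_W A]; exact W_mem A _ _ _
  · show fm σ nn ∈ G1 K m
    rw [fm_n A]; exact n_mem A

/-- A field endomorphism on the group. -/
noncomputable def fG (σ : K →+* K) : GG →* GG :=
  ((fm σ).comp (twistedG2 K (3 ^ m)).subtype).codRestrict _ fun g => fm_mem A σ g.2

theorem fG_inj (σ : K →+* K) : Function.Injective (fG A σ) := fun g h e => by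
  have e' := congrArg (fun z : GG => ((z : GL chevG2.Idx K) : Matrix chevG2.Idx chevG2.Idx K)) e
  exact Subtype.ext (Units.ext (Matrix.map_injective σ.injective e'))

/-- Field automorphisms of the group. -/
noncomputable def fA : (K ≃+* K) →* MulAut GG where
  toFun σ := MulEquiv.ofBijective (fG A (σ : K →+* K)) (Finite.injective_iff_bijective.mp (fG_inj A _))
  map_one' := by
    ext g : 1
    exact Subtype.ext (Units.ext (Matrix.ext fun i j => rfl))
  map_mul' σ τ := by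
    ext g : 1
    exact Subtype.ext (Units.ext (Matrix.ext fun i j => rfl))

theorem fA_wG (σ : K ≃+* K) (x u v : K) : fA A σ (wG A x u v) = wG A (σ x) (σ u) (σ v) :=
  Subtype.ext (fm_W A _ x u v)

theorem fA_tG (σ : K ≃+* K) (t : Kˣ) : fA A σ (tG A t) = tG A (Units.map (σ : K →+* K).toMonoidHom t) := by
  have hm' : fm (σ : K →+* K) (torT A t) ∈ H₁ :=
    ⟨fm_diag A _ (torT_mem A t).1, fm_mem A _ (torT_mem A t).2⟩
  obtain ⟨s, hs⟩ := (torT_range A).ge hm'
  have e : fA A σ (tG A t) = tG A s := Subtype.ext hs.symm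
  have h := congrArg (fA A σ) (conj_tG A t 0 0 1)
  rw [map_mul, map_mul, map_inv, fA_wG, fA_wG, e, conj_tG A] at h
  have h2 := (wG_inj A h).2.2
  rw [e]
  congr 1
  exact Units.ext (by simpa using h2)

/-! ### Classification of automorphisms -/

theorem three_not_dvd (hm : 1 ≤ m) : ¬ 3 ∣ (UG').index := by
  have hc : Nat.card ↥(UG') = qq ^ 3 := by
    rw [unipG, Nat.card_congr (Subgroup.subgroupOfEquivOfLe (H := U₁) (K := twistedG2 K (3 ^ m)) inf_le_right).toEquiv]
    exact card_U A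
  have h := (UG').card_mul_index
  rw [hc, card_G A] at h
  rw [Nat.eq_of_mul_eq_mul_left (by positivity) h]
  obtain ⟨hq, -, hq3⟩ := q_facts hm
  intro hd
  unfold Qn at hd
  rcases (Nat.prime_three.dvd_mul).1 hd with h1 | h1
  · omega
  rcases (Nat.prime_three.dvd_mul).1 h1 with h1 | h1
  · omega
  · have : 3 ∣ qq * (qq - 1) := Dvd.dvd.mul_right (Nat.dvd_of_mod_eq_zero hq3) _
    omega

theorem isPGroup_UG : IsPGroup 3 ↥(UG') := by
  refine IsPGroup.of_card (n := (2 * m + 1) * 3) ?_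
  rw [unipG, Nat.card_congr (Subgroup.subgroupOfEquivOfLe (H := U₁) (K := twistedG2 K (3 ^ m)) inf_le_right).toEquiv,
    pow_mul]
  exact card_U A

/-- Every automorphism can be moved to one preserving the unipotent group. -/
theorem exists_normalised (hm : 1 ≤ m) (φ : MulAut GG) : ∃ g : GG, ∀ x ∈ UG', g * φ x * g⁻¹ ∈ UG' := by
  classical
  let P : Sylow 3 GG := (isPGroup_UG A).toSylow (three_not_dvd A hm)
  have hp2 : IsPGroup 3 ↥((UG').map φ.toMonoidHom) := (isPGroup_UG A).map _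
  let P2 : Sylow 3 GG := hp2.toSylow (by
    rw [Subgroup.index_map_of_bijective φ.bijective]
    exact three_not_dvd A hm)
  obtain ⟨g, hg⟩ := MulAction.exists_smul_eq GG P2 P
  refine ⟨g, fun x hx => ?_⟩
  have h1 : φ x ∈ (P2 : Subgroup GG) := Subgroup.mem_map_of_mem φ.toMonoidHom hx
  have h2 : g * φ x * g⁻¹ ∈ ((g • P2 : Sylow 3 GG) : Subgroup GG) :=
    Subgroup.smul_mem_pointwise_smul _ (MulAut.conj g) _ h1
  rwa [hg] at h2

theorem unitsTop (hm : 1 ≤ m) : ∃ ρ : Kˣ, (∀ t, t ∈ Subgroup.zpowers ρ) ∧ ρ * ρ ≠ 1 ∧ ρ ^ 18 ≠ 1 := by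
  obtain ⟨ρ, hρ⟩ := IsCyclic.exists_generator (α := Kˣ)
  have ho : orderOf ρ = qq - 1 := by
    rw [orderOf_eq_card_of_forall_mem_zpowers hρ, Nat.card_units, Nat.card_eq_fintype_card, A.hK]
  obtain ⟨h27, -, -⟩ := q_facts hm
  refine ⟨ρ, hρ, fun h => ?_, fun h => ?_⟩
  · have := Nat.le_of_dvd (by norm_num) (orderOf_dvd_of_pow_eq_one (x := ρ) (n := 2) (by rw [pow_two, h]))
    omega
  · have := Nat.le_of_dvd (by norm_num) (orderOf_dvd_of_pow_eq_one h)
    omega

/-- An automorphism normalising the torus and fixing the unipotent group is trivial. -/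
theorem rigid (hm : 1 ≤ m) (φ : MulAut GG) (hU : ∀ x u v, φ (wG A x u v) = wG A x u v)
    (hT : ∀ t, φ (tG A t) = tG A t) : φ = 1 := by
  obtain ⟨ρ, -, hρ2, -⟩ := unitsTop A hm
  set N : GG := φ (nG A) with hN
  have hfix : ∀ b : GG, (b : GL chevG2.Idx K) ∈ B₁ → φ b = b := by
    intro b hb
    obtain ⟨u, hu, d, hd, e⟩ := (mem_B_iff A).1 hb
    obtain ⟨x, y, z, rfl⟩ := (pos_iff A u).1 hu
    obtain ⟨t, rfl⟩ := (torT_range A).ge hd
    rw [show b = wG A x y z * tG A t from Subtype.ext e, map_mul, hU, hT]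
  have hNB : (N : GL chevG2.Idx K) ∉ B₁ := by
    intro h
    have h2 := hfix N h
    have h3 : N = nG A := φ.injective (h2.trans hN)
    rw [h3] at h
    exact n_notMem A h
  obtain ⟨u, hu, b, hb, e⟩ := (bruhat A N.2).resolve_left hNB
  obtain ⟨v, hv, d, hd, rfl⟩ := (mem_B_iff A).1 hb
  obtain ⟨s, rfl⟩ := (torT_range A).ge hd
  -- `N` inverts the torus
  have hinv : ∀ t : Kˣ, nG A * tG A t * (nG A)⁻¹ = tG A t⁻¹ := fun t => Subtype.ext (n_torT A t)
  have hN1 : (N : GL chevG2.Idx K) * torT A ρ * (N : GL chevG2.Idx K)⁻¹ = torT A ρ⁻¹ := by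
    have h := congrArg φ (hinv ρ)
    rw [map_mul, map_mul, map_inv, hT, hT, ← hN] at h
    exact congrArg Subtype.val h
  set τ := torT A ρ with hτ
  have hτB : τ ∈ B₁ := H_le_B A (torT_mem A ρ)
  set y := v * (τ * v⁻¹ * τ⁻¹) with hy
  have hyU : y ∈ U₁ := mul_mem hv (conj_B_U A hτB (inv_mem hv))
  have hcs : torT A s * τ * (torT A s)⁻¹ = τ := by
    rw [hτ, ← map_mul, ← map_inv, ← map_mul, mul_inv_cancel_comm]
  have hz : nn * y * nn⁻¹ = u⁻¹ * (τ⁻¹ * u * τ) := by
    rw [map_inv, e] at hN1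
    have h1 : u * (nn * (v * (torT A s * τ * (torT A s)⁻¹) * v⁻¹) * nn⁻¹) * u⁻¹ = τ⁻¹ := by
      rw [← hN1]; group
    rw [hcs] at h1
    have h2 : nn * τ * nn⁻¹ = τ⁻¹ := by rw [hτ, n_torT A, map_inv]
    calc nn * y * nn⁻¹ = nn * (v * τ * v⁻¹) * nn⁻¹ * (nn * τ * nn⁻¹)⁻¹ := by rw [hy]; group
      _ = u⁻¹ * (u * (nn * (v * τ * v⁻¹) * nn⁻¹) * u⁻¹) * u * (nn * τ * nn⁻¹)⁻¹ := by group
      _ = _ := by rw [h1, h2]; group
  have hzU : u⁻¹ * (τ⁻¹ * u * τ) ∈ U₁ := by
    refine mul_mem (inv_mem hu) ?_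
    have := conj_B_U A (inv_mem hτB) hu
    rwa [inv_inv] at this
  have hy1 : nn * y * nn⁻¹ = 1 := (sys A).pos_neg_trivial (hz ▸ hzU).1 (conj_U_neg A hyU)
  have hv1 : v = 1 := by
    refine fixed_eq_one A hρ2 hv ?_
    have h := conj_eq_one_iff.1 hy1
    rw [hy] at h
    calc τ * v * τ⁻¹ = (v * (τ * v⁻¹ * τ⁻¹))⁻¹ * v := by group
      _ = v := by rw [h]; group
  have hu1 : u = 1 := by
    refine fixed_eq_one A hρ2 hu ?_
    rw [hy1] at hz
    calc τ * u * τ⁻¹ = τ * u * (u⁻¹ * (τ⁻¹ * u * τ)) * τ⁻¹ := by rw [← hz]; group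
      _ = u := by group
  have hNs : N = nG A * tG A s := Subtype.ext (by
    rw [e, hu1, hv1, one_mul, one_mul]; rfl)
  -- the torus factor is trivial
  have hw : W A 0 0 1 ∈ U₁ := W_memU A 0 0 1
  have hg : nn * W A 0 0 1 * nn⁻¹ ∈ G1 K m :=
    mul_mem (mul_mem (n_mem A) hw.2) (inv_mem (n_mem A))
  have hgB : nn * W A 0 0 1 * nn⁻¹ ∉ B₁ := fun h => by
    have h3 : nn * W A 0 0 1 * nn⁻¹ = 1 :=
      Subgroup.mem_bot.1 ((sys A).G.borel_inf_neg (F := K) ▸ ⟨h.1, conj_U_neg A hw⟩)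
    exact one_ne_zero (W_eq_one A (conj_eq_one_iff.1 h3)).2.2
  obtain ⟨u₁, hu₁, b₁, hb₁, e₁⟩ := (bruhat A hg).resolve_left hgB
  obtain ⟨x1, y1, z1, rfl⟩ := (pos_iff A u₁).1 hu₁
  have hφb : φ ⟨b₁, hb₁.2⟩ = ⟨b₁, hb₁.2⟩ := hfix _ hb₁
  have key := congrArg φ (show nG A * wG A 0 0 1 * (nG A)⁻¹ = wG A x1 y1 z1 * nG A * ⟨b₁, hb₁.2⟩ from Subtype.ext e₁)
  rw [map_mul, map_mul, map_mul, map_mul, map_inv, hU, hU, hφb, ← hN, hNs] at key
  have key' : nn * torT A s * W A 0 0 1 * (nn * torT A s)⁻¹ = W A x1 y1 z1 * (nn * torT A s) * b₁ :=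
    congrArg Subtype.val key
  set σ := torT A s with hσ
  have hns : nn * σ * nn⁻¹ = σ⁻¹ := by rw [hσ, n_torT A, map_inv]
  have hσB : σ ∈ B₁ := H_le_B A (torT_mem A s)
  set u' := σ⁻¹ * W A x1 y1 z1 * σ with hu'
  have hu'U : u' ∈ U₁ := by
    have := conj_B_U A (inv_mem hσB) hu₁
    rwa [inv_inv] at this
  have k2 : u' * nn * (σ * b₁ * σ) = W A x1 y1 z1 * nn * (σ * b₁) := by
    calc u' * nn * (σ * b₁ * σ) = σ⁻¹ * W A x1 y1 z1 * σ * (nn * σ * nn⁻¹) * nn * b₁ * σ := by
          rw [hu']; group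
      _ = σ⁻¹ * (W A x1 y1 z1 * nn * b₁) * σ := by rw [hns]; group
      _ = σ⁻¹ * (nn * W A 0 0 1 * nn⁻¹) * σ := by rw [e₁]
      _ = (nn * σ * nn⁻¹) * (nn * W A 0 0 1 * nn⁻¹) * (nn * σ * nn⁻¹)⁻¹ := by rw [hns, inv_inv]
      _ = nn * σ * W A 0 0 1 * (nn * σ)⁻¹ := by group
      _ = _ := by rw [key']; group
  have hu'eq : u'⁻¹ * W A x1 y1 z1 = 1 := by
    refine eq_one_of_conj_mem A (mul_mem (inv_mem hu'U) hu₁) ?_
    have e2 : nn⁻¹ * (u'⁻¹ * W A x1 y1 z1) * nn = σ * b₁ * σ * (σ * b₁)⁻¹ := by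
      calc nn⁻¹ * (u'⁻¹ * W A x1 y1 z1) * nn
          = nn⁻¹ * u'⁻¹ * (W A x1 y1 z1 * nn * (σ * b₁)) * (σ * b₁)⁻¹ := by group
        _ = _ := by rw [← k2]; group
    rw [e2]
    exact mul_mem (mul_mem (mul_mem hσB hb₁) hσB) (inv_mem (mul_mem hσB hb₁))
  rw [inv_mul_eq_one.1 hu'eq] at k2
  have hs : σ = 1 := mul_eq_left.1 (mul_left_cancel k2)
  have hn : φ (nG A) = nG A := by
    rw [← hN, hNs]
    exact Subtype.ext (show nn * σ = nn by rw [hs, mul_one])
  -- generation
  have hall : G1 K m ≤ ((φ.toMonoidHom).eqLocus (MonoidHom.id GG)).map (twistedG2 K (3 ^ m)).subtype :=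
    gen_cases A (fun x u v => ⟨wG A x u v, hU x u v, rfl⟩) ⟨nG A, hn, rfl⟩
  refine MulEquiv.ext fun g => ?_
  obtain ⟨g', hg', e'⟩ := hall g.2
  rw [← Subtype.ext e']
  exact hg'

/-- Every automorphism is inner times a field automorphism. -/
theorem aut_classify (hm : 1 ≤ m) (φ : MulAut GG) : ∃ (g : GG) (σ : K ≃+* K), φ = MulAut.conj g * fA A σ := by
  classical
  obtain ⟨g, hg⟩ := exists_normalised A hm φ
  obtain ⟨ρ, hρ, hρ2, hρ18⟩ := unitsTop A hm
  -- the torus generator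
  set φ1 : MulAut GG := MulAut.conj g * φ with hφ1
  have hU1 : ∀ x ∈ UG', φ1 x ∈ UG' := hg
  have hw : wG A 0 0 1 ∈ UG' := (mem_unipG A).2 ⟨0, 0, 1, rfl⟩
  have hw1 : ∀ ψ : MulAut GG, ψ (wG A 0 0 1) ≠ 1 := fun ψ h =>
    one_ne_zero (wG_inj A ((ψ.injective (h.trans (map_one ψ).symm)).trans (wG_zero A).symm)).2.2
  have hB : ((φ1 (tG A ρ) : GG) : GL chevG2.Idx K) ∈ B₁ := by
    refine mem_B_of_conj_U A (φ1 (tG A ρ)).2 (hU1 _ hw) (fun h => hw1 φ1 (Subtype.ext h)) ?_
    have h := hU1 _ ((mem_unipG A).2 ⟨_, _, _, conj_tG A ρ 0 0 1⟩)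
    rw [map_mul, map_mul, map_inv] at h
    exact h
  obtain ⟨v, hv, d, hd, e⟩ := (mem_B_iff A).1 hB
  obtain ⟨r, rfl⟩ := (torT_range A).ge hd
  have hr : r * r ≠ 1 := fun hr => by
    have h := pow_eighteen A hv hr
    rw [← e, ← SubmonoidClass.coe_pow, ← map_pow, ← map_pow] at h
    have h1 : φ1 (tG A (ρ ^ 18)) = φ1 1 := by rw [map_one]; exact Subtype.ext h
    exact hρ18 (torT_injective A ((congrArg Subtype.val (φ1.injective h1)).trans (map_one (torT A)).symm))
  obtain ⟨w, hwU, ew⟩ := exists_conj_torT A hr hv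
  set wg : GG := ⟨w, hwU.2⟩
  set φ2 : MulAut GG := MulAut.conj wg⁻¹ * φ1 with hφ2
  have hφ2a : ∀ x, φ2 x = wg⁻¹ * φ1 x * wg := fun x => by
    rw [hφ2, MulAut.mul_apply, MulAut.conj_apply, inv_inv]
  have hU2 : ∀ x ∈ UG', φ2 x ∈ UG' := fun x hx => by
    rw [hφ2a]; exact mul_mem (mul_mem (inv_mem (show wg ∈ UG' from hwU)) (hU1 x hx)) hwU
  have hρ' : φ2 (tG A ρ) = tG A r := Subtype.ext (by
    rw [hφ2a]
    show w⁻¹ * ((φ1 (tG A ρ) : GG) : GL chevG2.Idx K) * w = torT A r
    rw [e, ← ew]; group)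
  have hex : ∀ t, ∃ s, φ2 (tG A t) = tG A s := fun t => by
    obtain ⟨k, rfl⟩ := hρ t
    exact ⟨r ^ k, by rw [map_zpow, map_zpow, hρ', map_zpow]⟩
  choose f hf using hex
  have hfmul : ∀ s t, f (s * t) = f s * f t := fun s t => torT_injective A (congrArg Subtype.val
    (show tG A (f (s * t)) = tG A (f s * f t) by rw [map_mul, ← hf, ← hf, ← hf, map_mul, map_mul]))
  have hf1 : f 1 = 1 := mul_eq_left.1 (by rw [← hfmul, one_mul])
  have hfinj : Function.Injective f := fun s t h => torT_injective A (congrArg Subtype.val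
    (φ2.injective (show φ2 (tG A s) = φ2 (tG A t) by rw [hf, hf, h])))
  have hneg : f (-1) = -1 := by
    have h2 : f (-1) * f (-1) = 1 := by
      rw [← hfmul, show (-1 : Kˣ) * -1 = 1 from Units.ext (by simp), hf1]
    refine (sq_cases A h2).resolve_left fun h => ?_
    exact neg_one_ne_one A (by simpa using congrArg Units.val (hfinj (h.trans hf1.symm)))
  obtain ⟨x0, u0, v0, e0⟩ := (mem_unipG A).1 (hU2 _ hw)
  have hx0 : x0 = 0 := by
    refine (W_cube A (x := x0) (u := u0) (v := v0)).1 ?_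
    have h1 : wG A 0 0 1 ^ 3 = 1 := Subtype.ext ((W_cube A).2 rfl)
    have h2 := congrArg φ2 h1
    rw [map_pow, map_one, e0] at h2
    exact congrArg Subtype.val h2
  subst hx0
  have hu0 : u0 = 0 := by
    have h := conj_tG A (-1) 0 0 1
    rw [wX_neg_one A, wU_neg_one A, Units.val_neg, Units.val_one, mul_zero, mul_zero, mul_one] at h
    have h' : wG A 0 0 (-1) * wG A 0 0 1 = 1 := by
      rw [wG_mul A, ← wG_zero A]; congr 1 <;> simp
    have h2 := congrArg φ2 h'
    rw [← h, map_mul, map_mul, map_mul, map_inv, map_one, hf, hneg, e0, conj_tG A, wX_neg_one A, wU_neg_one A,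
      Units.val_neg, Units.val_one, wG_mul A, ← wG_zero A] at h2
    have h3 := (wG_inj A h2).2.1
    simp at h3
    linear_combination u0 * A.h3 - h3
  subst hu0
  have hv0 : v0 ≠ 0 := fun h => hw1 φ2 (by rw [e0, h, wG_zero A])
  set ev : K → K := fun x => if hx : x = 0 then 0 else ((f (Units.mk0 x hx) : Kˣ) : K) with hev
  have hunit : ∀ t : Kˣ, ev (t : K) = ((f t : Kˣ) : K) := fun t => by
    simp only [hev, dif_neg t.ne_zero]
    congr 2
    exact Units.ext rfl
  have hcent : ∀ x, φ2 (wG A 0 0 x) = wG A 0 0 (ev x * v0) := fun x => by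
    rcases eq_or_ne x 0 with rfl | hx
    · simp only [hev, dif_pos]
      rw [zero_mul, wG_zero A, map_one]
    · lift x to Kˣ using IsUnit.mk0 x hx
      have h := congrArg φ2 (conj_tG A x 0 0 1)
      rw [map_mul, map_mul, map_inv, hf, e0, conj_tG A, mul_zero, mul_zero, mul_zero, mul_zero, mul_one] at h
      rw [← h, hunit]
  let σh : K →+* K :=
    { toFun := ev
      map_one' := by rw [show (1 : K) = ((1 : Kˣ) : K) from rfl, hunit, hf1]
      map_zero' := by simp [hev]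
      map_mul' := fun a b => by
        rcases eq_or_ne a 0 with rfl | ha
        · simp [hev]
        rcases eq_or_ne b 0 with rfl | hb
        · simp [hev]
        lift a to Kˣ using IsUnit.mk0 a ha
        lift b to Kˣ using IsUnit.mk0 b hb
        rw [← Units.val_mul, hunit, hunit, hunit, hfmul, Units.val_mul]
      map_add' := fun a b => by
        have h := congrArg φ2 (wG_mul A 0 0 a 0 0 b)
        simp only [map_zero, zero_pow (by norm_num : (3 : ℕ) ≠ 0), zero_mul, mul_zero, sub_zero, add_zero] at h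
        rw [map_mul, hcent, hcent, hcent, wG_mul A] at h
        have h2 := (wG_inj A h).2.2
        simp only [map_zero, zero_pow (by norm_num : (3 : ℕ) ≠ 0), zero_mul, mul_zero, sub_zero, add_zero] at h2
        exact mul_right_cancel₀ hv0 (by rw [add_mul]; linear_combination -h2) }
  let σ : K ≃+* K := RingEquiv.ofBijective σh (Finite.injective_iff_bijective.mp σh.injective)
  have hσ : ∀ t : Kˣ, Units.map (σ : K →+* K).toMonoidHom t = f t := fun t => Units.ext (hunit t)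
  set φ3 : MulAut GG := fA A σ⁻¹ * φ2 with hφ3
  have hU3 : ∀ x ∈ UG', φ3 x ∈ UG' := fun x hx => by
    obtain ⟨a, b, c, e'⟩ := (mem_unipG A).1 (hU2 x hx)
    exact (mem_unipG A).2 ⟨_, _, _, by rw [hφ3, MulAut.mul_apply, e', fA_wG]⟩
  have hT3 : ∀ t, φ3 (tG A t) = tG A t := fun t => by
    rw [hφ3, MulAut.mul_apply, hf, ← hσ, ← fA_tG, ← MulAut.mul_apply, ← map_mul, inv_mul_cancel, map_one]
    rfl
  obtain ⟨c, hc⟩ := unipotent_rigid A hm φ3 hU3 hT3
  have h4 : MulAut.conj (tG A c)⁻¹ * φ3 = 1 := by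
    refine rigid A hm _ (fun x u v => ?_) fun t => ?_
    · rw [MulAut.mul_apply, hc, MulAut.conj_apply]; group
    · rw [MulAut.mul_apply, hT3, MulAut.conj_apply, inv_inv, ← map_inv, ← map_mul, ← map_mul]
      congr 1
      rw [mul_comm c⁻¹ t, inv_mul_cancel_right]
  have h5 : φ = MulAut.conj g⁻¹ * (MulAut.conj wg * (fA A σ * MulAut.conj (tG A c))) := by
    have h6 : φ3 = MulAut.conj (tG A c) := by
      rw [map_inv, inv_mul_eq_one] at h4
      exact h4.symm
    rw [← h6, hφ3, ← mul_assoc (fA A σ), ← map_mul (fA A), mul_inv_cancel, map_one, one_mul, hφ2,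
      ← mul_assoc (MulAut.conj wg), ← map_mul, mul_inv_cancel, map_one, one_mul, hφ1, ← mul_assoc, ← map_mul,
      inv_mul_cancel, map_one, one_mul]
  have h7 : fA A σ * MulAut.conj (tG A c) = MulAut.conj (fA A σ (tG A c)) * fA A σ := by
    ext x : 1
    simp only [MulAut.mul_apply, MulAut.conj_apply, map_mul, map_inv]
  refine ⟨g⁻¹ * (wg * fA A σ (tG A c)), σ, ?_⟩
  rw [h5, h7, map_mul, map_mul]
  simp only [mul_assoc]

theorem fA_inner {σ : K ≃+* K} (h : fA A σ ∈ Cfsg.Inn GG) : σ = 1 := by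
  obtain ⟨g, hg⟩ := h
  have e : ∀ z, g * z * g⁻¹ = fA A σ z := fun z => (MulAut.conj_apply g z).symm.trans (DFunLike.congr_fun hg z)
  have hw : W A 0 0 1 ∈ U₁ := W_memU A 0 0 1
  have hgB : (g : GL chevG2.Idx K) ∈ B₁ := by
    refine mem_B_of_conj_U A g.2 hw (fun h => one_ne_zero (W_eq_one A h).2.2) ?_
    have h1 : fA A σ (wG A 0 0 1) ∈ UG' := (mem_unipG A).2 ⟨_, _, _, fA_wG A σ 0 0 1⟩
    rw [← e] at h1
    exact h1
  obtain ⟨u, hu, d, hd, eg⟩ := (mem_B_iff A).1 hgB
  obtain ⟨c, rfl⟩ := (torT_range A).ge hd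
  refine RingEquiv.ext fun x => ?_
  rcases eq_or_ne x 0 with rfl | hx
  · exact map_zero σ
  lift x to Kˣ using IsUnit.mk0 x hx
  set x' := Units.map (σ : K →+* K).toMonoidHom x
  have h1 : (g : GL chevG2.Idx K) * torT A x * (g : GL chevG2.Idx K)⁻¹ = torT A x' :=
    congrArg Subtype.val ((e (tG A x)).trans (fA_tG A σ x))
  rw [eg] at h1
  have hxB : torT A x ∈ B₁ := H_le_B A (torT_mem A x)
  have h2 : u * (torT A x * u⁻¹ * (torT A x)⁻¹) * torT A x = 1 * torT A x' := by
    rw [one_mul, ← h1]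
    calc u * (torT A x * u⁻¹ * (torT A x)⁻¹) * torT A x = u * torT A x * u⁻¹ := by group
      _ = u * (torT A c * torT A x * (torT A c)⁻¹) * u⁻¹ := by
          rw [← map_mul, ← map_inv, ← map_mul, mul_inv_cancel_comm]
      _ = _ := by group
  have h3 := (pos_diag_eq A (mul_mem hu (conj_B_U A hxB (inv_mem hu))).1 (one_mem _)
    (torT_mem A x).1 (torT_mem A x').1 h2).2
  exact (congrArg Units.val (torT_injective A h3)).symm

theorem out_card (hm : 1 ≤ m) : Nat.card (Cfsg.Out GG) = 2 * m + 1 := by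
  haveI : Fact (Nat.Prime 3) := ⟨Nat.prime_three⟩
  haveI : CharP K 3 := by
    exact charP_of_card_eq_prime_pow (f := 2 * m + 1) A.hK
  rw [← card_ringAut (F := K) A.hK]
  refine (Nat.card_congr (Equiv.ofBijective
    ((QuotientGroup.mk' (Cfsg.Inn GG)).comp (fA A)) ⟨?_, ?_⟩)).symm
  · rw [injective_iff_map_eq_one]
    intro σ h
    exact fA_inner A ((QuotientGroup.eq_one_iff _).mp h)
  · intro q
    obtain ⟨φ, rfl⟩ := QuotientGroup.mk'_surjective _ q
    obtain ⟨g, σ, rfl⟩ := aut_classify A hm φ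
    refine ⟨σ, ?_⟩
    rw [map_mul]
    show QuotientGroup.mk' _ (fA A σ) = _
    have h1 : QuotientGroup.mk' (Cfsg.Inn GG) (MulAut.conj g) = 1 :=
      (QuotientGroup.eq_one_iff _).mpr (MonoidHom.mem_range.mpr ⟨g, rfl⟩)
    rw [h1, one_mul]

end Cfsg.Agent.Lib.RankOne.Ree.Out
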