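import Cfsg.Agent.Lib.RankOne.ReeCentralizer
import Cfsg.Agent.Lib.Classical.LinearCard
import Mathlib.Algebra.QuadraticAlgebra.Basic

/-!
The non-split torus of `PSL₂(q)`, `q ≡ 3 mod 4`.
-/

set_option autoImplicit false

namespace Cfsg.Agent.Lib.RankOne.Ree

open Cfsg.Lie Cfsg.Agent.Lib.Chev Cfsg.Agent.Lib.Chev.Tw Cfsg.Agent.Lib.Chev.Tw.G2

variable {K : Type*} [Field K]

/-- The rotations: the centraliser of `sn`. -/
def Rot (K : Type*) [Field K] : Subgroup (Matrix.SpecialLinearGroup (Fin 2) K) :=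
  Subgroup.centralizer {sn}

theorem sn_comm_iff (g : Matrix.SpecialLinearGroup (Fin 2) K) :
    g * sn = sn * g ↔ g.1 1 0 = -(g.1 0 1) ∧ g.1 1 1 = g.1 0 0 := by
  constructor
  · intro h
    have e := congrArg (fun z : Matrix.SpecialLinearGroup (Fin 2) K => (z : Matrix (Fin 2) (Fin 2) K)) h
    simp only [Matrix.SpecialLinearGroup.coe_mul, sn_val] at e
    have a00 := congrFun (congrFun e 0) 0
    have a01 := congrFun (congrFun e 0) 1
    simp [Matrix.mul_apply, Fin.sum_univ_two] at a00 a01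
    exact ⟨a00.symm, a01.symm⟩
  · rintro ⟨h1, h2⟩
    refine Subtype.ext ?_
    rw [Matrix.SpecialLinearGroup.coe_mul, Matrix.SpecialLinearGroup.coe_mul, sn_val]
    ext i j
    fin_cases i <;> fin_cases j <;> simp [Matrix.mul_apply, Fin.sum_univ_two, h1, h2]

theorem mem_Rot {g : Matrix.SpecialLinearGroup (Fin 2) K} :
    g ∈ Rot K ↔ g.1 1 0 = -(g.1 0 1) ∧ g.1 1 1 = g.1 0 0 := by
  rw [Rot, Subgroup.mem_centralizer_singleton_iff, sn_comm_iff]

theorem rot_det {g : Matrix.SpecialLinearGroup (Fin 2) K} (hg : g ∈ Rot K) :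
    g.1 0 0 ^ 2 + g.1 0 1 ^ 2 = 1 := by
  obtain ⟨h1, h2⟩ := mem_Rot.1 hg
  have h := g.det_coe
  rw [Matrix.det_fin_two, h1, h2] at h
  linear_combination h

variable [Fintype K] {m : ℕ} (A : Par K m)
include A

theorem not_sq_neg_one (r : K) : r ^ 2 ≠ -1 := by
  intro e
  have hsq : IsSquare (-1 : K) := ⟨r, by rw [← e, pow_two]⟩
  rw [FiniteField.isSquare_neg_one_iff, A.hK] at hsq
  exact hsq (by rw [pow_succ, pow_mul, Nat.mul_mod, Nat.pow_mod]; norm_num)

theorem two_ne : (2 : K) ≠ 0 := fun e => one_ne_zero (by linear_combination A.h3 - e)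

theorem Rot_isCyclic : IsCyclic ↥(Rot K) := by
  have : Fact (∀ r : K, r ^ 2 ≠ (-1 : K) + 0 * r) := ⟨fun r => by simpa using not_sq_neg_one A r⟩
  let f : ↥(Rot K) →* QuadraticAlgebra K (-1) 0 :=
    { toFun := fun g => ⟨g.1.1 0 0, g.1.1 0 1⟩
      map_one' := by ext <;> simp [QuadraticAlgebra.re_one, QuadraticAlgebra.im_one]
      map_mul' := fun g h => by
        obtain ⟨h1, h2⟩ := mem_Rot.1 g.2
        obtain ⟨h1', h2'⟩ := mem_Rot.1 h.2
        ext <;> simp [Matrix.mul_apply, Fin.sum_univ_two, h1', h2'] <;> ring }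
  have : IsMulCommutative ↥(Rot K) := ⟨⟨fun g h => by
    obtain ⟨h1, h2⟩ := mem_Rot.1 g.2
    obtain ⟨h1', h2'⟩ := mem_Rot.1 h.2
    refine Subtype.ext (Subtype.ext ?_)
    ext i j
    fin_cases i <;> fin_cases j <;>
      simp [Matrix.mul_apply, Fin.sum_univ_two, h1, h2, h1', h2'] <;> ring⟩⟩
  refine isCyclic_of_subgroup_isDomain f fun g h e => ?_
  obtain ⟨h1, h2⟩ := mem_Rot.1 g.2
  obtain ⟨h1', h2'⟩ := mem_Rot.1 h.2
  have e1 : g.1.1 0 0 = h.1.1 0 0 := congrArg QuadraticAlgebra.re e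
  have e2 : g.1.1 0 1 = h.1.1 0 1 := congrArg QuadraticAlgebra.im e
  refine Subtype.ext (Subtype.ext ?_)
  ext i j
  fin_cases i <;> fin_cases j <;> simp [h1, h2, h1', h2', e1, e2]

theorem card_Rot : Nat.card ↥(Rot K) = Fintype.card K + 1 := by
  have hne : ∀ t : K, 1 + t ^ 2 ≠ 0 := fun t e => not_sq_neg_one A t (by linear_combination e)
  let P : Option K → K × K := fun o => o.elim (-1, 0) fun t => ((1 - t ^ 2) / (1 + t ^ 2), 2 * t / (1 + t ^ 2))
  have hP : ∀ o, (P o).1 ^ 2 + (P o).2 ^ 2 = 1 := by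
    rintro (_ | t)
    · simp [P]
    · have := hne t; simp only [P, Option.elim]; field_simp; ring
  let g : Option K → ↥(Rot K) := fun o => ⟨⟨!![(P o).1, (P o).2; -(P o).2, (P o).1], by
      rw [Matrix.det_fin_two_of]; linear_combination hP o⟩, mem_Rot.2 ⟨by simp, by simp⟩⟩
  rw [← Nat.card_eq_fintype_card, ← Finite.card_option]
  refine (Nat.card_eq_of_bijective g ⟨?_, ?_⟩).symm
  · intro o o' h
    have e1 : (P o).1 = (P o').1 := congrArg (fun z : ↥(Rot K) => z.1.1 0 0) h
    have e2 : (P o).2 = (P o').2 := congrArg (fun z : ↥(Rot K) => z.1.1 0 1) h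
    have aux : ∀ t : K, (1 - t ^ 2) / (1 + t ^ 2) ≠ -1 := by
      intro t e
      have := hne t
      field_simp at e
      exact two_ne A (by linear_combination e)
    rcases o with _ | t <;> rcases o' with _ | s
    · rfl
    · exact absurd e1.symm (aux s)
    · exact absurd e1 (aux t)
    · simp only [P, Option.elim] at e1 e2
      have := hne t; have := hne s
      field_simp at e1 e2
      have h2 := two_ne A
      have e3 : t ^ 2 = s ^ 2 := mul_left_cancel₀ h2 (by linear_combination -e1)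
      rw [e3] at e2
      have e4 : t * (1 + s ^ 2) = s * (1 + s ^ 2) := mul_left_cancel₀ h2 (by linear_combination e2)
      rw [mul_right_cancel₀ (hne s) e4]
  · rintro ⟨M, hM⟩
    obtain ⟨h1, h2⟩ := mem_Rot.1 hM
    have hd := rot_det hM
    have hfin : ∀ o, (P o).1 = M.1 0 0 → (P o).2 = M.1 0 1 → g o = ⟨M, hM⟩ := by
      intro o e1 e2
      refine Subtype.ext (Subtype.ext ?_)
      show !![(P o).1, (P o).2; -(P o).2, (P o).1] = M.1
      ext i j
      fin_cases i <;> fin_cases j <;> simp [e1, e2, h1, h2]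
    by_cases hp : M.1 0 0 = -1
    · refine ⟨none, hfin _ hp.symm ?_⟩
      have : M.1 0 1 ^ 2 = 0 := by rw [hp] at hd; linear_combination hd
      exact ((pow_eq_zero_iff two_ne_zero).1 this).symm
    · have hp' : 1 + M.1 0 0 ≠ 0 := fun e => hp (by linear_combination e)
      refine ⟨some (M.1 0 1 / (1 + M.1 0 0)), hfin _ ?_ ?_⟩
      · show (1 - _ ^ 2) / (1 + _ ^ 2) = _
        rw [div_eq_iff (hne _)]
        field_simp
        linear_combination -(M.1 0 0 + 1) * hd
      · show 2 * _ / (1 + _ ^ 2) = _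
        rw [div_eq_iff (hne _)]
        field_simp
        linear_combination -(M.1 0 1) * hd

theorem center_eq : Subgroup.center (Matrix.SpecialLinearGroup (Fin 2) K) =
    Subgroup.zpowers (sd (-1 : K)) ∧ orderOf (sd (-1 : K)) = 2 := by
  have hz := sd_sign_center A (c := (-1 : Kˣ)) (Units.ext (by simp))
  rw [Units.val_neg, Units.val_one] at hz
  have e := sd_val (F := K) (neg_ne_zero.2 one_ne_zero)
  refine ⟨le_antisymm ?_ (by rw [Subgroup.zpowers_le]; exact hz), orderOf_eq_prime_iff.2 ⟨?_, ?_⟩⟩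
  · intro g hg
    obtain ⟨r, hr, hr'⟩ := Matrix.SpecialLinearGroup.mem_center_iff.1 hg
    rw [Fintype.card_fin, pow_two] at hr
    rcases mul_self_eq_one_iff.1 hr with rfl | rfl
    · have : g = 1 := by
        refine Subtype.ext ?_
        rw [← hr']; ext i j; fin_cases i <;> fin_cases j <;> simp
      rw [this]; exact one_mem _
    · have : g = sd (-1 : K) := by
        refine Subtype.ext ?_
        rw [← hr', e]; ext i j; fin_cases i <;> fin_cases j <;> simp [inv_neg]
      rw [this]; exact Subgroup.mem_zpowers _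
  · rw [pow_two]
    refine Subtype.ext ?_
    rw [Matrix.SpecialLinearGroup.coe_mul, e]
    simp [Matrix.mul_fin_two, Matrix.one_fin_two, inv_neg]
  · intro h
    have := congrArg (fun z : Matrix.SpecialLinearGroup (Fin 2) K => z.1 0 0) h
    simp [e] at this
    exact neg_one_ne_one A this

theorem card_PSL2 : 2 * Nat.card (Matrix.ProjectiveSpecialLinearGroup (Fin 2) K) =
    Fintype.card K * (Fintype.card K ^ 2 - 1) := by
  have h := (Subgroup.center (Matrix.SpecialLinearGroup (Fin 2) K)).card_mul_index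
  rw [Cfsg.Agent.Lib.Classical.card_SL2, (center_eq A).1, Nat.card_zpowers, (center_eq A).2,
    ← (center_eq A).1] at h
  exact h

/-- The rotations in `PSL₂`. -/
def RotP (_ : Par K m) : Subgroup (Matrix.ProjectiveSpecialLinearGroup (Fin 2) K) :=
  (Rot K).map (QuotientGroup.mk' (Subgroup.center (Matrix.SpecialLinearGroup (Fin 2) K)))

theorem RotP_isCyclic : IsCyclic ↥(RotP A) := by
  have := Rot_isCyclic A
  exact isCyclic_of_surjective
    ((QuotientGroup.mk' (Subgroup.center (Matrix.SpecialLinearGroup (Fin 2) K))).subgroupMap (Rot K))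
    (MonoidHom.subgroupMap_surjective _ _)

theorem sn_mem_RotP : ((sn : Matrix.SpecialLinearGroup (Fin 2) K) : Matrix.ProjectiveSpecialLinearGroup (Fin 2) K) ∈ RotP A :=
  ⟨sn, Subgroup.mem_centralizer_singleton_iff.2 rfl, rfl⟩

theorem card_RotP : 2 * Nat.card ↥(RotP A) = Fintype.card K + 1 := by
  set f := (QuotientGroup.mk' (Subgroup.center (Matrix.SpecialLinearGroup (Fin 2) K))).domRestrict (Rot K)
  have hr : f.range = RotP A := MonoidHom.domRestrict_range _ _
  have hk : f.ker = (Subgroup.center (Matrix.SpecialLinearGroup (Fin 2) K)).subgroupOf (Rot K) := by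
    rw [MonoidHom.ker_domRestrict, QuotientGroup.ker_mk']
  have hle : Subgroup.center (Matrix.SpecialLinearGroup (Fin 2) K) ≤ Rot K := fun z hz =>
    Subgroup.mem_centralizer_singleton_iff.2 (Subgroup.mem_center_iff.1 hz sn).symm
  have h := f.ker.card_mul_index
  have hcz : Nat.card ↥(Subgroup.center (Matrix.SpecialLinearGroup (Fin 2) K)) = 2 :=
    (Nat.card_congr (Equiv.subtypeEquivRight fun z => by rw [(center_eq A).1])).trans
      ((Nat.card_zpowers _).trans (center_eq A).2)
  rw [Subgroup.index_ker, hr, hk, Nat.card_congr (Subgroup.subgroupOfEquivOfLe hle).toEquiv,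
    hcz, card_Rot A] at h
  exact h

theorem scalar_of_smul {g M : Matrix.SpecialLinearGroup (Fin 2) K}
    (h : (M : Matrix.ProjectiveSpecialLinearGroup (Fin 2) K) * g =
      (g : Matrix.ProjectiveSpecialLinearGroup (Fin 2) K) * M) :
    M * g = g * M ∨ M * g = g * M * sd (-1 : K) := by
  rw [← QuotientGroup.mk_mul, ← QuotientGroup.mk_mul] at h
  have hc := QuotientGroup.eq.1 h.symm
  rw [(center_eq A).1] at hc
  obtain ⟨j, hj⟩ := Subgroup.mem_zpowers_iff.1 hc
  have e : g * M * ((g * M)⁻¹ * (M * g)) = M * g := by group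
  rw [← hj] at e
  have h2 : sd (-1 : K) ^ (2 : ℤ) = 1 := by
    have := pow_orderOf_eq_one (sd (-1 : K))
    rw [(center_eq A).2] at this
    exact_mod_cast this
  rcases Int.even_or_odd j with ⟨i, rfl⟩ | ⟨i, rfl⟩
  · left; rw [← e, ← two_mul, zpow_mul, h2, one_zpow, mul_one]
  · right; rw [← e, zpow_add, zpow_mul, h2, one_zpow, one_mul, zpow_one]

/-- Centralisers in `PSL₂` of non-involutory rotations. -/
theorem centralizer_RotP {r g : Matrix.ProjectiveSpecialLinearGroup (Fin 2) K} (hr : r ∈ RotP A)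
    (hr2 : r * r ≠ 1) (h : r * g = g * r) : g ∈ RotP A := by
  obtain ⟨M, hM, rfl⟩ := hr
  obtain ⟨g, rfl⟩ := QuotientGroup.mk_surjective g
  obtain ⟨h1, h2⟩ := mem_Rot.1 hM
  have e := sd_val (F := K) (neg_ne_zero.2 one_ne_zero)
  have hne : M.1 0 1 ≠ 0 ∧ M.1 0 0 ≠ 0 := by
    have key : ∀ (z : Matrix.SpecialLinearGroup (Fin 2) K), M * M = z →
        z ∈ Subgroup.center (Matrix.SpecialLinearGroup (Fin 2) K) → False := by
      intro z hz hzc
      apply hr2
      show ((M : Matrix.SpecialLinearGroup (Fin 2) K) : Matrix.ProjectiveSpecialLinearGroup (Fin 2) K) * M = 1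
      rw [← QuotientGroup.mk_mul, QuotientGroup.eq_one_iff, hz]; exact hzc
    have hd := rot_det hM
    constructor
    · intro h0
      refine key 1 (Subtype.ext ?_) (one_mem _)
      rw [Matrix.SpecialLinearGroup.coe_mul, Matrix.SpecialLinearGroup.coe_one]
      ext i j
      rw [h0] at hd h1
      fin_cases i <;> fin_cases j <;> simp [Matrix.mul_apply, Fin.sum_univ_two, h0, h1, h2] <;>
        linear_combination hd
    · intro h0
      refine key (sd (-1 : K)) (Subtype.ext ?_) (by rw [(center_eq A).1]; exact Subgroup.mem_zpowers _)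
      rw [Matrix.SpecialLinearGroup.coe_mul, e]
      ext i j
      rw [h0] at hd h2
      fin_cases i <;> fin_cases j <;> simp [Matrix.mul_apply, Fin.sum_univ_two, h0, h1, h2, inv_neg] <;>
        linear_combination hd
  refine ⟨g, mem_Rot.2 ?_, rfl⟩
  rcases scalar_of_smul A h with hc | hc
  · have k := congrArg (fun z : Matrix.SpecialLinearGroup (Fin 2) K => (z : Matrix (Fin 2) (Fin 2) K)) hc
    simp only [Matrix.SpecialLinearGroup.coe_mul] at k
    have a00 := congrFun (congrFun k 0) 0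
    have a01 := congrFun (congrFun k 0) 1
    simp [Matrix.mul_apply, Fin.sum_univ_two, h1, h2] at a00 a01
    exact ⟨mul_left_cancel₀ hne.1 (by linear_combination a00), mul_left_cancel₀ hne.1 (by linear_combination a01)⟩
  · exfalso
    have k := congrArg (fun z : Matrix.SpecialLinearGroup (Fin 2) K => (z : Matrix (Fin 2) (Fin 2) K))
      (show g⁻¹ * M * g = M * sd (-1 : K) by
        rw [mul_assoc, hc, mul_assoc g, inv_mul_cancel_left])
    simp only [Matrix.SpecialLinearGroup.coe_mul] at k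
    have ht := congrArg Matrix.trace k
    rw [Matrix.trace_mul_cycle, ← Matrix.SpecialLinearGroup.coe_mul, mul_inv_cancel,
      Matrix.SpecialLinearGroup.coe_one, Matrix.one_mul, e] at ht
    simp [Matrix.trace_fin_two, Matrix.mul_apply, Fin.sum_univ_two, h2, inv_neg] at ht
    have h4 : (2 : K) * ((2 : K) * M.1 0 0) = 0 := by linear_combination ht
    exact hne.2 ((mul_eq_zero.1 ((mul_eq_zero.1 h4).resolve_left (two_ne A))).resolve_left (two_ne A))

/-- The centraliser of the involution `sn`. -/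
theorem centralizer_sn {g : Matrix.ProjectiveSpecialLinearGroup (Fin 2) K} {w : Matrix.SpecialLinearGroup (Fin 2) K}
    (hw : sn * w = w * sn * sd (-1 : K))
    (h : ((sn : Matrix.SpecialLinearGroup (Fin 2) K) : Matrix.ProjectiveSpecialLinearGroup (Fin 2) K) * g =
      g * (sn : Matrix.SpecialLinearGroup (Fin 2) K)) :
    g ∈ RotP A ∨ (w : Matrix.ProjectiveSpecialLinearGroup (Fin 2) K)⁻¹ * g ∈ RotP A := by
  obtain ⟨g, rfl⟩ := QuotientGroup.mk_surjective g
  rcases scalar_of_smul A h with hc | hc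
  · exact Or.inl ⟨g, Subgroup.mem_centralizer_singleton_iff.2 hc.symm, rfl⟩
  · refine Or.inr ⟨w⁻¹ * g, Subgroup.mem_centralizer_singleton_iff.2 ?_, rfl⟩
    have hz : ∀ x : Matrix.SpecialLinearGroup (Fin 2) K, sd (-1 : K) * x = x * sd (-1 : K) := by
      have := (center_eq A).1.ge (Subgroup.mem_zpowers (sd (-1 : K)))
      exact fun x => (Subgroup.mem_center_iff.1 this x).symm
    have hz2 : sd (-1 : K) * sd (-1 : K) = 1 := by
      have := pow_orderOf_eq_one (sd (-1 : K))
      rwa [(center_eq A).2, pow_two] at this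
    have e1 : sn * w⁻¹ = w⁻¹ * sn * sd (-1 : K) := by
      calc sn * w⁻¹ = w⁻¹ * (w * sn * sd (-1 : K)) * sd (-1 : K) * w⁻¹ := by
            rw [show w⁻¹ * (w * sn * sd (-1 : K)) * sd (-1 : K) * w⁻¹ = sn * (sd (-1 : K) * sd (-1 : K)) * w⁻¹ by group,
              hz2, mul_one]
        _ = w⁻¹ * (sn * w) * (sd (-1 : K) * w⁻¹) := by rw [← hw]; group
        _ = _ := by rw [hz]; group
    symm
    calc sn * (w⁻¹ * g) = w⁻¹ * sn * (sd (-1 : K) * g) := by rw [← mul_assoc, e1]; group
      _ = w⁻¹ * (sn * g) * sd (-1 : K) := by rw [hz]; group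
      _ = w⁻¹ * g * sn * (sd (-1 : K) * sd (-1 : K)) := by rw [hc]; group
      _ = _ := by rw [hz2, mul_one]

/-- All involutions of `PSL₂` are conjugate to `sn`. -/
theorem exists_conj_sn {g : Matrix.ProjectiveSpecialLinearGroup (Fin 2) K} (hg : g * g = 1) (hg1 : g ≠ 1) :
    ∃ k : Matrix.ProjectiveSpecialLinearGroup (Fin 2) K,
      k * g * k⁻¹ = ((sn : Matrix.SpecialLinearGroup (Fin 2) K) : Matrix.ProjectiveSpecialLinearGroup (Fin 2) K) := by
  obtain ⟨M, rfl⟩ := QuotientGroup.mk_surjective g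
  rw [← QuotientGroup.mk_mul, QuotientGroup.eq_one_iff] at hg
  obtain ⟨r, hr, hr'⟩ := Matrix.SpecialLinearGroup.mem_center_iff.1 hg
  rw [Fintype.card_fin, pow_two] at hr
  rw [Matrix.SpecialLinearGroup.coe_mul] at hr'
  have hd := M.det_coe
  rw [Matrix.det_fin_two] at hd
  have a00 := congrFun (congrFun hr' 0) 0
  have a01 := congrFun (congrFun hr' 0) 1
  have a10 := congrFun (congrFun hr' 1) 0
  have a11 := congrFun (congrFun hr' 1) 1
  simp [Matrix.mul_apply, Fin.sum_univ_two] at a00 a01 a10 a11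
  have htr : M.1 1 1 = -(M.1 0 0) := by
    by_contra hne
    have ht : M.1 0 0 + M.1 1 1 ≠ 0 := fun e => hne (by linear_combination e)
    have hb : M.1 0 1 = 0 := (mul_eq_zero.1 (show M.1 0 1 * (M.1 0 0 + M.1 1 1) = 0 by linear_combination -a01)).resolve_right ht
    have hc : M.1 1 0 = 0 := (mul_eq_zero.1 (show M.1 1 0 * (M.1 0 0 + M.1 1 1) = 0 by linear_combination -a10)).resolve_right ht
    have he : M.1 0 0 = M.1 1 1 := by
      have : (M.1 0 0 - M.1 1 1) * (M.1 0 0 + M.1 1 1) = 0 := by linear_combination a11 - a00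
      exact sub_eq_zero.1 ((mul_eq_zero.1 this).resolve_right ht)
    refine hg1 ((QuotientGroup.eq_one_iff M).2 (Matrix.SpecialLinearGroup.mem_center_iff.2 ⟨M.1 0 0, ?_, ?_⟩))
    · rw [Fintype.card_fin, pow_two]
      rw [hb, ← he] at hd; linear_combination hd
    · ext i j
      fin_cases i <;> fin_cases j <;> simp [hb, hc, he]
  set a := M.1 0 0 with ha
  set b := M.1 0 1 with hb
  set c := M.1 1 0 with hc
  rw [htr] at hd
  have hc0 : c ≠ 0 := fun e => not_sq_neg_one A a (by rw [e] at hd; linear_combination -hd)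
  obtain ⟨z, y, hzy⟩ := FiniteField.exists_root_sum_quadratic (R := K)
    (f := Polynomial.X ^ 2) (g := Polynomial.X ^ 2 + Polynomial.C c)
    (by simp) (Polynomial.degree_X_pow_add_C (by norm_num) _)
    (by rw [A.hK, Nat.pow_mod]; norm_num)
  simp at hzy
  set x := (z + a * y) / c
  have hx : c * x = z + a * y := by simp only [x]; field_simp
  let P : Matrix.SpecialLinearGroup (Fin 2) K := ⟨!![a * x + b * y, x; c * x - a * y, y], by
    rw [Matrix.det_fin_two_of]
    refine mul_left_cancel₀ hc0 ?_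
    linear_combination (y * (2 * a) - (c * x + z + a * y)) * hx - hzy - y ^ 2 * hd⟩
  refine ⟨(P : Matrix.ProjectiveSpecialLinearGroup (Fin 2) K)⁻¹, ?_⟩
  rw [inv_inv, mul_assoc, inv_mul_eq_iff_eq_mul, ← QuotientGroup.mk_mul, ← QuotientGroup.mk_mul]
  congr 1
  refine Subtype.ext ?_
  rw [Matrix.SpecialLinearGroup.coe_mul, Matrix.SpecialLinearGroup.coe_mul, sn_val]
  show M.1 * !![a * x + b * y, x; c * x - a * y, y] = !![a * x + b * y, x; c * x - a * y, y] * _
  ext i j
  fin_cases i <;> fin_cases j <;> simp [Matrix.mul_apply, Fin.sum_univ_two, htr, ← ha, ← hb, ← hc]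
  · linear_combination -x * hd
  · linear_combination -y * hd
  · ring

end Cfsg.Agent.Lib.RankOne.Ree
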