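import Cfsg.Agent.Lib.RankOne.ReeNormalizer
import Cfsg.Agent.Lib.RankOne.ReeSeven
import Cfsg.Agent.S1073
import Cfsg.Agent.S1156
import Mathlib.FieldTheory.IsAlgClosed.AlgebraicClosure
import Mathlib.LinearAlgebra.Eigenspace.Triangularizable
import Mathlib.GroupTheory.SpecificGroups.ZGroup

/-!
Elements of prime order dividing `q² - q + 1` in the small Ree group have seven distinct eigenvalues.
-/

set_option autoImplicit false
set_option maxRecDepth 100000

namespace Cfsg.Agent.Lib.RankOne.Ree

open Cfsg.Lie Cfsg.Agent.Lib.Chev Cfsg.Agent.Lib.Chev.Tw Cfsg.Agent.Lib.Chev.Tw.G2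
open Module

section linear

variable {F : Type*} [Field F] {V : Type*} [AddCommGroup V] [Module F V]

theorem exists_eigen [IsAlgClosed F] [FiniteDimensional F V] {f : Module.End F V} {p : ℕ} (hf : f ^ p = 1)
    (hp : (p : F) ≠ 0) (hne : f ≠ 1) : ∃ (c : F) (w : V), w ≠ 0 ∧ f w = c • w ∧ c ≠ 1 ∧ c ^ p = 1 := by
  set W := LinearMap.range (f - 1)
  have : Nontrivial W := by
    rw [Submodule.nontrivial_iff_ne_bot]
    intro h
    exact hne (sub_eq_zero.1 (LinearMap.range_eq_bot.1 h))
  have hm : ∀ x ∈ W, f x ∈ W := by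
    rintro _ ⟨v, rfl⟩
    exact ⟨f v, by simp [LinearMap.sub_apply]⟩
  obtain ⟨c, hc⟩ := Module.End.exists_eigenvalue (f.restrict hm)
  obtain ⟨⟨w, hw⟩, hwe⟩ := hc.exists_hasEigenvector
  have hw0 : w ≠ 0 := fun e => hwe.2 (Subtype.ext e)
  have he : f w = c • w := congrArg Subtype.val hwe.apply_eq_smul
  have hpow : ∀ k : ℕ, (f ^ k) w = c ^ k • w := by
    intro k
    induction k with
    | zero => simp
    | succ k ih => rw [pow_succ', Module.End.mul_apply, ih, map_smul, he, smul_smul, pow_succ]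
  refine ⟨c, w, hw0, he, ?_, ?_⟩
  · rintro rfl
    obtain ⟨v, hv⟩ := hw
    rw [LinearMap.sub_apply, Module.End.one_apply] at hv
    have hj : ∀ j : ℕ, (f ^ j) v = v + (j : F) • w := by
      intro j
      induction j with
      | zero => simp
      | succ j ih =>
        rw [pow_succ', Module.End.mul_apply, ih, map_add, map_smul, he, one_smul, Nat.cast_succ, add_smul,
          one_smul, show f v = v + w by rw [← hv]; abel]
        abel
    have := hj p
    rw [hf, Module.End.one_apply, left_eq_add] at this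
    exact hw0 ((smul_eq_zero.1 this).resolve_left hp)
  · have := hpow p
    rw [hf, Module.End.one_apply] at this
    have h2 : (c ^ p - 1) • w = 0 := by rw [sub_smul, one_smul, ← this, sub_self]
    exact sub_eq_zero.1 ((smul_eq_zero.1 h2).resolve_right hw0)

variable {ι : Type*} [Fintype ι] (b : Basis ι F V) {μ : ι → F}

theorem repr_apply_eigen {f : Module.End F V} (hb : ∀ i, f (b i) = μ i • b i) (v : V) (j : ι) :
    b.repr (f v) j = μ j * b.repr v j := by
  classical
  have h : (Finsupp.lapply j ∘ₗ b.repr.toLinearMap ∘ₗ f) = μ j • (Finsupp.lapply j ∘ₗ b.repr.toLinearMap) := by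
    refine b.ext fun i => ?_
    simp [hb, Finsupp.single_apply]
    split_ifs with h
    · rw [h]
    · rfl
  exact LinearMap.congr_fun h v

/-- An eigenvector of a diagonal map with distinct eigenvalues is a multiple of a basis vector. -/
theorem eq_smul_of_eigen {f : Module.End F V} (hb : ∀ i, f (b i) = μ i • b i) (hμ : Function.Injective μ)
    {v : V} {i : ι} (hv : f v = μ i • v) : v = b.repr v i • b i := by
  classical
  refine b.ext_elem fun j => ?_
  by_cases h : i = j
  · subst h; simp
  · have e := repr_apply_eigen b hb v j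
    rw [hv, map_smul, Finsupp.smul_apply, smul_eq_mul] at e
    have h2 : (μ i - μ j) * b.repr v j = 0 := by rw [sub_mul, e, sub_self]
    rw [(mul_eq_zero.1 h2).resolve_left (sub_ne_zero.2 fun e => h (hμ e))]
    simp [Finsupp.single_apply, h]

theorem exists_eigen_index {f : Module.End F V} (hb : ∀ i, f (b i) = μ i • b i) {v : V} {c : F}
    (hv : f v = c • v) (h0 : v ≠ 0) : ∃ i, c = μ i := by
  by_contra h
  push Not at h
  refine h0 (b.ext_elem fun j => ?_)
  have e := repr_apply_eigen b hb v j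
  rw [hv, map_smul, Finsupp.smul_apply, smul_eq_mul] at e
  have h2 : (c - μ j) * b.repr v j = 0 := by rw [sub_mul, e, sub_self]
  rw [(mul_eq_zero.1 h2).resolve_left (sub_ne_zero.2 (h j))]
  simp

/-- Maps commuting with a diagonal map with distinct eigenvalues commute with one another. -/
theorem commute_of_eigen {f g h : Module.End F V} (hb : ∀ i, f (b i) = μ i • b i) (hμ : Function.Injective μ)
    (hg : f * g = g * f) (hh : f * h = h * f) : g * h = h * g := by
  have key : ∀ {k : Module.End F V}, f * k = k * f → ∀ i, k (b i) = b.repr (k (b i)) i • b i := by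
    intro k hk i
    refine eq_smul_of_eigen b hb hμ ?_
    rw [← Module.End.mul_apply, hk, Module.End.mul_apply, hb, map_smul]
  refine b.ext fun i => ?_
  obtain ⟨s, hs⟩ : ∃ s, h (b i) = s • b i := ⟨_, key hh i⟩
  obtain ⟨t, ht⟩ : ∃ t, g (b i) = t • b i := ⟨_, key hg i⟩
  rw [Module.End.mul_apply, Module.End.mul_apply, hs, ht, map_smul, map_smul, hs, ht, smul_smul, smul_smul,
    mul_comm]

end linear

variable {K : Type*} [Field K] [Fintype K] {m : ℕ} (A : Par K m)
include A

set_option quotPrecheck false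
local notation "qq" => 3 ^ (2 * m + 1)
local notation "GG" => ↥(twistedG2 K (3 ^ m))
local notation "FF" => AlgebraicClosure K
local notation "VV" => ShT → AlgebraicClosure K

theorem charP_three : CharP K 3 := by
  obtain ⟨r, hr⟩ := CharP.exists K
  have h3 : ((3 : ℕ) : K) = 0 := by exact_mod_cast A.h3
  have hd := (CharP.cast_eq_zero_iff K r 3).1 h3
  rcases (Nat.dvd_prime Nat.prime_three).1 hd with h | h
  · exact absurd h (CharP.ringChar_ne_one (R := K) ∘ fun e => (ringChar.eq K r).trans e)
  · exact h ▸ hr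

/-- The seven dimensional representation over the algebraic closure. -/
noncomputable def R7 : GG →* Module.End FF VV where
  toFun g := Matrix.toLinAlgEquiv' ((res ((g : GL chevG2.Idx K) : Matrix chevG2.Idx chevG2.Idx K)).map (algebraMap K FF))
  map_one' := by
    rw [OneMemClass.coe_one, Units.val_one, res, Matrix.submatrix_one _ Subtype.val_injective,
      Matrix.map_one _ (map_zero _) (map_one _), map_one]
  map_mul' g h := by
    rw [Subgroup.coe_mul, Units.val_mul, res_mul (shInv_group A.h3 ((gens A).le_Fx h.2).1), Matrix.map_mul, map_mul]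

theorem R7_apply (g : GG) (v : VV) : R7 A g v =
    ((res ((g : GL chevG2.Idx K) : Matrix chevG2.Idx chevG2.Idx K)).map (algebraMap K FF)).mulVec v :=
  Matrix.toLinAlgEquiv'_apply _ _

theorem R7_inj (hm : 1 ≤ m) : Function.Injective (R7 A) := by
  rw [injective_iff_map_eq_one]
  intro g hg
  have h1 : rho7 A g = 1 := by
    have e : (res ((g : GL chevG2.Idx K) : Matrix chevG2.Idx chevG2.Idx K)).map (algebraMap K FF) = 1 :=
      Matrix.toLinAlgEquiv'.injective ((show Matrix.toLinAlgEquiv' _ = _ from hg).trans (map_one _).symm)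
    have e2 : res ((g : GL chevG2.Idx K) : Matrix chevG2.Idx chevG2.Idx K) = 1 :=
      Matrix.map_injective (algebraMap K FF).injective (e.trans (Matrix.map_one _ (map_zero _) (map_one _)).symm)
    show Matrix.toLinAlgEquiv' (res _) = 1
    rw [e2, map_one]
  have := (Cfsg.Agent.S1073.result hm A.hK).1
  rcases (MonoidHom.normal_ker (rho7 A)).eq_bot_or_eq_top with h | h
  · exact Subgroup.mem_bot.1 (h ▸ (MonoidHom.mem_ker.2 h1))
  · exact absurd (MonoidHom.mem_ker.1 (h ▸ Subgroup.mem_top _)) (rho7_ne_one A)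

theorem frob_vec (g : GG) {v : VV} {c : FF} (h : R7 A g v = c • v) :
    R7 A g (fun i => v i ^ qq) = c ^ qq • fun i => v i ^ qq := by
  have := charP_three A
  have : CharP FF 3 := charP_of_injective_algebraMap (algebraMap K FF).injective 3
  have : ExpChar FF 3 := ExpChar.prime Nat.prime_three
  set σ := iterateFrobenius FF 3 (2 * m + 1)
  have hσ : ∀ z, σ z = z ^ qq := fun z => iterateFrobenius_def 3 (2 * m + 1) z
  funext i
  rw [R7_apply A] at h ⊢
  set M := (res ((g : GL chevG2.Idx K) : Matrix chevG2.Idx chevG2.Idx K)).map (algebraMap K FF)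
  have hM : M.map σ = M := by
    ext a b
    simp only [M, Matrix.map_apply, hσ]
    rw [← map_pow, ← A.hK, FiniteField.pow_card]
  have e := RingHom.map_mulVec σ M v i
  rw [hM, h] at e
  simp only [Pi.smul_apply, smul_eq_mul, hσ, mul_pow] at e ⊢
  rw [e]
  congr 1

omit [Fintype K] A in
theorem q_mod {p : ℕ} (hp : p.Prime) (hpQ : p ∣ Qn m) :
    ∀ i j, i < 6 → j < 6 → (qq : ZMod p) ^ i = (qq : ZMod p) ^ j → i = j := by
  have : Fact p.Prime := ⟨hp⟩
  obtain ⟨h3, h1, h2, h4⟩ := prime_dvd_Qn hp hpQ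
  have hx0 : (qq : ZMod p) ≠ 0 := by
    intro e; exact h1 ((ZMod.natCast_eq_zero_iff _ p).1 (by exact_mod_cast e))
  have hxm : (qq : ZMod p) ≠ 1 := by
    intro e
    refine h2 ((ZMod.natCast_eq_zero_iff _ p).1 ?_)
    rw [Nat.cast_sub (Nat.one_le_pow _ _ (by norm_num)), Nat.cast_one, sub_eq_zero]; exact_mod_cast e
  have hxp : (qq : ZMod p) ≠ -1 := by
    intro e
    refine h4 ((ZMod.natCast_eq_zero_iff _ p).1 ?_)
    push_cast; rw [e]; ring
  have hc : (qq : ZMod p) * ((qq : ZMod p) - 1) + 1 = 0 := by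
    have := (ZMod.natCast_eq_zero_iff _ p).2 hpQ
    rw [Qn, Nat.cast_add, Nat.cast_mul, Nat.cast_sub (Nat.one_le_pow _ _ (by norm_num))] at this
    exact_mod_cast this
  have h2z : (2 : ZMod p) ≠ 0 := fun e => by
    have := Nat.le_of_dvd (by norm_num) ((ZMod.natCast_eq_zero_iff 2 p).1 (by exact_mod_cast e)); omega
  generalize (qq : ZMod p) = x at hx0 hxm hxp hc ⊢
  have key : ∀ k, 0 < k → k < 6 → x ^ k ≠ 1 := by
    intro k hk hk6 e
    interval_cases k
    · exact hxm (by simpa using e)
    · exact (sq_eq_one_iff.1 e).elim hxm hxp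
    · exact h2z (by linear_combination (x + 1) * hc - e)
    · exact hxp (by linear_combination (x ^ 2 + x) * hc - e)
    · exact hx0 (by linear_combination (x ^ 3 + x ^ 2 - 1) * hc - e)
  intro i j hi hj e
  rcases lt_trichotomy i j with h | h | h
  · refine absurd ?_ (key (j - i) (by omega) (by omega))
    rw [show j = i + (j - i) by omega, pow_add] at e
    exact (mul_eq_left₀ (pow_ne_zero _ hx0)).1 e.symm
  · exact h
  · refine absurd ?_ (key (i - j) (by omega) (by omega))
    rw [show i = j + (i - j) by omega, pow_add] at e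
    exact (mul_eq_left₀ (pow_ne_zero _ hx0)).1 e

omit [Fintype K] A in
theorem q_pow_six {p : ℕ} (hpQ : p ∣ Qn m) : (qq : ZMod p) ^ 6 = 1 := by
  have hc : (qq : ZMod p) * ((qq : ZMod p) - 1) + 1 = 0 := by
    have := (ZMod.natCast_eq_zero_iff _ p).2 hpQ
    rw [Qn, Nat.cast_add, Nat.cast_mul, Nat.cast_sub (Nat.one_le_pow _ _ (by norm_num))] at this
    exact_mod_cast this
  generalize (qq : ZMod p) = x at hc ⊢
  linear_combination (x ^ 4 + x ^ 3 - x - 1) * hc

/-- The eigenvalues: `1` and one orbit. -/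
noncomputable def mu (c : FF) : Option (Fin 6) → FF := fun o => o.elim 1 fun i => c ^ (qq ^ (i : ℕ))

theorem exists_frame (hm : 1 ≤ m) {p : ℕ} (hp : p.Prime) (hpQ : p ∣ Qn m) {x : GG} (hx : orderOf x = p) :
    ∃ (b : Basis (Option (Fin 6)) FF VV) (c : FF), orderOf c = p ∧ Function.Injective (mu (m := m) c) ∧
      ∀ o, R7 A x (b o) = mu (m := m) c o • b o := by
  have : Fact p.Prime := ⟨hp⟩
  have := charP_three A
  have : CharP FF 3 := charP_of_injective_algebraMap (algebraMap K FF).injective 3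
  obtain ⟨hp3, hpq, hp1, -⟩ := prime_dvd_Qn hp hpQ
  have hpF : (p : FF) ≠ 0 := fun e => by
    have := (Nat.prime_dvd_prime_iff_eq Nat.prime_three hp).1 ((CharP.cast_eq_zero_iff FF 3 p).1 e)
    omega
  have hxp : x ^ p = 1 := hx ▸ pow_orderOf_eq_one x
  have hx1 : x ≠ 1 := fun e => by rw [e, orderOf_one] at hx; exact hp.one_lt.ne hx
  obtain ⟨c, w, hw0, hwe, hc1, hcp⟩ := exists_eigen (f := R7 A x) (p := p) (by rw [← map_pow, hxp, map_one]) hpF
    fun e => hx1 (R7_inj A hm (e.trans (map_one _).symm))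
  have hc : orderOf c = p := orderOf_eq_prime_iff.2 ⟨hcp, hc1⟩
  -- a fixed vector over the finite field
  obtain ⟨v0, hv0, hv0e⟩ : ∃ v0 : ShT → K, v0 ≠ 0 ∧ rho7 A x v0 = v0 := by
    classical
    letI : MulAction ↥(Subgroup.zpowers x) (ShT → K) :=
      MulAction.compHom _ ((rho7 A).comp (Subgroup.zpowers x).subtype)
    have hpg : IsPGroup p ↥(Subgroup.zpowers x) := IsPGroup.of_card (n := 1) (by rw [Nat.card_zpowers, hx, pow_one])
    have hmod := hpg.card_modEq_card_fixedPoints (ShT → K)
    by_contra hno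
    push Not at hno
    have hfix : ∀ v, v ∈ MulAction.fixedPoints ↥(Subgroup.zpowers x) (ShT → K) ↔ v = 0 := by
      intro v
      refine ⟨fun hv => by_contra fun h0 => hno v h0 (hv ⟨x, Subgroup.mem_zpowers x⟩), ?_⟩
      rintro rfl g
      exact map_zero (rho7 A (g : GG))
    rw [Nat.card_congr (Equiv.subtypeEquivRight hfix), (Nat.card_unique : Nat.card {v : ShT → K // v = 0} = 1), Nat.card_fun, Nat.card_eq_fintype_card,
      Nat.card_eq_fintype_card, card_ShT, A.hK, ← ZMod.natCast_eq_natCast_iff] at hmod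
    push_cast at hmod
    have h := q_mod hp hpQ 1 0 (by norm_num) (by norm_num)
    refine absurd (h ?_) one_ne_zero
    rw [pow_succ, q_pow_six hpQ, one_mul] at hmod
    simpa using hmod
  -- the eigenvectors
  let xs : Option (Fin 6) → VV := fun o => o.elim (fun i => algebraMap K FF (v0 i)) fun i => fun j => w j ^ (qq ^ (i : ℕ))
  have hxs : ∀ o, R7 A x (xs o) = mu (m := m) c o • xs o := by
    rintro (_ | ⟨i, hi⟩)
    · funext i
      simp only [mu, Option.elim, Pi.smul_apply, one_smul, R7_apply A, xs]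
      have := RingHom.map_mulVec (algebraMap K FF) (res ((x : GL chevG2.Idx K) : Matrix chevG2.Idx chevG2.Idx K)) v0 i
      have e : (res ((x : GL chevG2.Idx K) : Matrix chevG2.Idx chevG2.Idx K)).mulVec v0 = v0 := by
        rw [← Matrix.toLinAlgEquiv'_apply]; exact hv0e
      rw [e] at this
      exact this.symm
    · show R7 A x (fun j => w j ^ (qq ^ i)) = c ^ (qq ^ i) • fun j => w j ^ (qq ^ i)
      clear hi
      induction i with
      | zero => simpa using hwe
      | succ i ih =>
        have := frob_vec A x ih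
        simp only [← pow_mul (M := AlgebraicClosure K)] at this
        rw [pow_succ]
        exact this
  have hmu : Function.Injective (mu (m := m) c) := by
    rintro (_ | i) (_ | j) h
    · rfl
    · exfalso
      have h' : c ^ (qq ^ (j : ℕ)) = 1 := h.symm
      have := orderOf_dvd_of_pow_eq_one h'
      rw [hc] at this
      exact hpq (hp.dvd_of_dvd_pow this)
    · exfalso
      have h' : c ^ (qq ^ (i : ℕ)) = 1 := h
      have := orderOf_dvd_of_pow_eq_one h'
      rw [hc] at this
      exact hpq (hp.dvd_of_dvd_pow this)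
    · have h' : c ^ (qq ^ (i : ℕ)) = c ^ (qq ^ (j : ℕ)) := h
      rw [(IsOfFinOrder.pow_eq_pow_iff_modEq (orderOf_pos_iff.1 (by rw [hc]; exact hp.pos))), hc,
        ← ZMod.natCast_eq_natCast_iff] at h'
      push_cast at h'
      rw [Fin.ext (q_mod hp hpQ i j i.2 j.2 h')]
  have hne : ∀ o, xs o ≠ 0 := by
    rintro (_ | i) h
    · exact hv0 (funext fun j => (algebraMap K FF).injective ((congrFun h j).trans (map_zero _).symm))
    · exact hw0 (funext fun j => eq_zero_of_pow_eq_zero (congrFun h j))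
  have hli : LinearIndependent FF xs :=
    Module.End.eigenvectors_linearIndependent' (R7 A x) (mu (m := m) c) hmu xs fun o =>
      ⟨Module.End.mem_eigenspace_iff.2 (hxs o), hne o⟩
  refine ⟨basisOfLinearIndependentOfCardEqFinrank hli ?_, c, hc, hmu, fun o => ?_⟩
  · rw [Module.finrank_fintype_fun_eq_card, card_ShT]; rfl
  · rw [coe_basisOfLinearIndependentOfCardEqFinrank]; exact hxs o

theorem commute_of_mem_centralizer (hm : 1 ≤ m) {p : ℕ} (hp : p.Prime) (hpQ : p ∣ Qn m) {x : GG}
    (hx : orderOf x = p) {y z : GG} (hy : y ∈ Subgroup.centralizer {x}) (hz : z ∈ Subgroup.centralizer {x}) :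
    y * z = z * y := by
  obtain ⟨b, c, -, hmu, hb⟩ := exists_frame A hm hp hpQ hx
  rw [Subgroup.mem_centralizer_singleton_iff] at hy hz
  refine R7_inj A hm ?_
  rw [map_mul, map_mul]
  exact commute_of_eigen b hb hmu (by rw [← map_mul, ← map_mul, hy]) (by rw [← map_mul, ← map_mul, hz])

/-- A conjugating element multiplies the exponent by a power of `q`. -/
theorem conj_exponent (hm : 1 ≤ m) {p : ℕ} (hp : p.Prime) (hpQ : p ∣ Qn m) {x n : GG} (hx : orderOf x = p)
    {j : ℕ} (hn : n * x * n⁻¹ = x ^ j) : ∃ i : ℕ, (j : ZMod p) = (qq : ZMod p) ^ i := by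
  obtain ⟨b, c, hc, -, hb⟩ := exists_frame A hm hp hpQ hx
  set w := R7 A n⁻¹ (b (some 0))
  have hw : R7 A x w = c ^ j • w := by
    show R7 A x (R7 A n⁻¹ (b (some 0))) = _
    rw [← Module.End.mul_apply, ← map_mul, show x * n⁻¹ = n⁻¹ * (n * x * n⁻¹) by group, hn, map_mul,
      Module.End.mul_apply, map_pow]
    have : ∀ k : ℕ, (R7 A x ^ k) (b (some 0)) = c ^ k • b (some 0) := by
      intro k
      induction k with
      | zero => simp
      | succ k ih =>
        rw [pow_succ', Module.End.mul_apply, ih, map_smul, hb, smul_smul, pow_succ]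
        simp [mu]
    rw [this, map_smul]
  have hw0 : w ≠ 0 := fun e => b.ne_zero (some 0) (by
    have := congrArg (R7 A n) e
    rwa [map_zero, ← Module.End.mul_apply, ← map_mul, mul_inv_cancel, map_one, Module.End.one_apply] at this)
  obtain ⟨_ | i, hi⟩ := exists_eigen_index b hb hw hw0
  · exfalso
    have hd := orderOf_dvd_of_pow_eq_one (show c ^ j = 1 from hi)
    rw [hc, ← hx] at hd
    rw [orderOf_dvd_iff_pow_eq_one.1 hd, conj_eq_one_iff] at hn
    rw [hn, orderOf_one] at hx
    exact hp.one_lt.ne hx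
  · refine ⟨i, ?_⟩
    have h' : c ^ j = c ^ (qq ^ (i : ℕ)) := hi
    rw [(IsOfFinOrder.pow_eq_pow_iff_modEq (orderOf_pos_iff.1 (by rw [hc]; exact hp.pos))), hc,
      ← ZMod.natCast_eq_natCast_iff] at h'
    push_cast at h'
    exact h'

theorem pow_Qn_of_mem (hm : 1 ≤ m) {p : ℕ} (hp : p.Prime) (hpQ : p ∣ Qn m) {x z : GG} (hx : orderOf x = p)
    (hz : z * x = x * z) : z ^ Qn m = 1 := by
  obtain ⟨hp3, h1, h2, h3⟩ := prime_dvd_Qn hp hpQ
  rcases element_cases A hm z with h | ⟨g, hg, hz2⟩ | ⟨g, hg, hz2⟩ | h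
  · by_cases hz1 : z = 1
    · rw [hz1, one_pow]
    exfalso
    have hd := orderOf_dvd_of_pow_eq_one h
    by_cases e3 : 3 ∣ orderOf z
    · obtain ⟨k, hk⟩ := e3
      have hk0 : k ≠ 0 := fun e => by rw [e, mul_zero] at hk; exact (orderOf_pos z).ne' hk
      have hy : orderOf (z ^ k) = 3 := by
        rw [orderOf_pow_of_dvd hk0 (hk ▸ dvd_mul_left k 3), hk, Nat.mul_div_cancel _ (Nat.pos_of_ne_zero hk0)]
      have hcm : Commute (z ^ k) x := (show Commute z x from hz).pow_left k
      have ho : orderOf (z ^ k * x) = 3 * p := by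
        rw [hcm.orderOf_mul_eq_mul_orderOf_of_coprime (by
          rw [hy, hx]; exact (Nat.coprime_primes Nat.prime_three hp).2 (by omega)), hy, hx]
      obtain ⟨g, -, h18⟩ := mem_U_or A hm (x := z ^ k * x) (ho ▸ dvd_mul_right 3 p)
      have := orderOf_dvd_of_pow_eq_one h18
      rw [ho] at this
      have h6 : p ∣ 6 := Nat.dvd_of_mul_dvd_mul_left (k := 3) (by norm_num) this
      have := Nat.le_of_dvd (by norm_num) h6
      interval_cases p <;> first | omega | (revert hp; norm_num)
    · have ho : orderOf z = 2 := by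
        have h18 := Nat.le_of_dvd (by norm_num) hd
        have hpos := orderOf_pos z
        have hne : orderOf z ≠ 1 := fun e => hz1 (orderOf_eq_one_iff.1 e)
        generalize orderOf z = d at hd e3 h18 hpos hne
        interval_cases d <;> first | rfl | omega
      exact not_comm_involution A hm hp hpQ hx ho hz.symm
  · exfalso
    obtain ⟨t, ht⟩ := hg
    have ht2 : t * t ≠ 1 := fun e => hz2 (conj_eq_one_iff.1 (show g * (z * z) * g⁻¹ = 1 by
      rw [show g * (z * z) * g⁻¹ = g * z * g⁻¹ * (g * z * g⁻¹) by group, ← ht, ← map_mul, e, map_one]))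
    have hm' : g * x * g⁻¹ ∈ TH A := by
      rw [← centralizer_torG A ht2, Subgroup.mem_centralizer_singleton_iff, ht]
      calc g * x * g⁻¹ * (g * z * g⁻¹) = g * (x * z) * g⁻¹ := by group
        _ = _ := by rw [← hz]; group
    have : p ∣ qq - 1 := by
      rw [← card_TH A, ← hx, ← MulEquiv.orderOf_eq (MulAut.conj g) x]
      show orderOf (g * x * g⁻¹) ∣ _
      rw [← Subgroup.orderOf_mk _ hm']
      exact orderOf_dvd_natCard _
    exact h2 this
  · exfalso
    have ht2 : g * z * g⁻¹ * (g * z * g⁻¹) ≠ 1 := fun e => hz2 (conj_eq_one_iff.1 (show g * (z * z) * g⁻¹ = 1 by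
      rw [← e]; group))
    have hm' : g * x * g⁻¹ ∈ T2 A := by
      rw [← centralizer_T2 A hm hg ht2, Subgroup.mem_centralizer_singleton_iff]
      calc g * x * g⁻¹ * (g * z * g⁻¹) = g * (x * z) * g⁻¹ := by group
        _ = _ := by rw [← hz]; group
    have : p ∣ qq + 1 := by
      rw [← card_T2 A, ← hx, ← MulEquiv.orderOf_eq (MulAut.conj g) x]
      show orderOf (g * x * g⁻¹) ∣ _
      rw [← Subgroup.orderOf_mk _ hm']
      exact orderOf_dvd_natCard _
    exact h3 this
  · exact h

/-- The centraliser of an element of prime order dividing `q² - q + 1`. -/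
theorem singer (hm : 1 ≤ m) {y : GG} (hy1 : y ≠ 1) (hy : y ^ Qn m = 1) :
    IsCyclic ↥(Subgroup.centralizer {y}) ∧ Nat.card ↥(Subgroup.centralizer {y}) ∣ Qn m ∧
      (∀ z ∈ Subgroup.centralizer {y}, z ≠ 1 → Subgroup.centralizer {z} = Subgroup.centralizer {y}) ∧
      ((Subgroup.centralizer {y}).subgroupOf
        (Subgroup.normalizer (Subgroup.centralizer {y} : Set GG))).index ∣ 6 := by
  have hne : orderOf y ≠ 1 := fun e => hy1 (orderOf_eq_one_iff.1 e)
  obtain ⟨p, hp, hd⟩ := Nat.exists_prime_and_dvd hne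
  have hpQ : p ∣ Qn m := hd.trans (orderOf_dvd_of_pow_eq_one hy)
  obtain ⟨k, hk⟩ := hd
  have hk0 : k ≠ 0 := fun e => by rw [e, mul_zero] at hk; exact (orderOf_pos y).ne' hk
  set x := y ^ k
  have hx : orderOf x = p := by
    rw [orderOf_pow_of_dvd hk0 (hk ▸ dvd_mul_left k p), hk, Nat.mul_div_cancel _ (Nat.pos_of_ne_zero hk0)]
  have key : ∀ {u v : GG} {l : ℕ}, l.Prime → l ∣ Qn m → orderOf v = l → u * v = v * u →
      ∀ {w : GG}, w * u = u * w → w * v = v * w → ∀ {r : GG}, r * v = v * r → r * u = u * r ∧ r * w = w * r := by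
    intro u v l hl hlQ hv huv w hwu hwv r hrv
    exact ⟨commute_of_mem_centralizer A hm hl hlQ hv (Subgroup.mem_centralizer_singleton_iff.2 hrv)
      (Subgroup.mem_centralizer_singleton_iff.2 huv), commute_of_mem_centralizer A hm hl hlQ hv
      (Subgroup.mem_centralizer_singleton_iff.2 hrv) (Subgroup.mem_centralizer_singleton_iff.2 hwv)⟩
  have hxy : y * x = x * y := ((Commute.refl y).pow_right k).eq
  have hT : Subgroup.centralizer {y} = Subgroup.centralizer {x} := by
    refine le_antisymm (fun z hz => ?_) fun z hz => ?_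
    · rw [Subgroup.mem_centralizer_singleton_iff] at hz ⊢
      exact ((show Commute z y from hz).pow_right k).eq
    · rw [Subgroup.mem_centralizer_singleton_iff] at hz ⊢
      exact commute_of_mem_centralizer A hm hp hpQ hx (Subgroup.mem_centralizer_singleton_iff.2 hz)
        (Subgroup.mem_centralizer_singleton_iff.2 hxy)
  rw [hT]
  set T := Subgroup.centralizer {x}
  have hpow : ∀ z ∈ T, z ^ Qn m = 1 := fun z hz =>
    pow_Qn_of_mem A hm hp hpQ hx (Subgroup.mem_centralizer_singleton_iff.1 hz)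
  have hcomm : ∀ a b : ↥T, a * b = b * a := fun a b =>
    Subtype.ext (commute_of_mem_centralizer A hm hp hpQ hx a.2 b.2)
  have hdvd : Nat.card ↥T ∣ Qn m := by
    have hco : (Nat.card ↥T).Coprime (qq ^ 3 * ((qq - 1) * (qq + 1))) := by
      refine Nat.coprime_of_dvd fun l hl hd hd' => ?_
      have : Fact l.Prime := ⟨hl⟩
      obtain ⟨z, hz⟩ := exists_prime_orderOf_dvd_card' l hd
      have hlQ : l ∣ Qn m := by
        rw [← hz, ← Subgroup.orderOf_coe]
        exact orderOf_dvd_of_pow_eq_one (hpow z z.2)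
      obtain ⟨-, q1, q2, q3⟩ := prime_dvd_Qn hl hlQ
      rcases hl.dvd_mul.1 hd' with d | d
      · exact q1 (hl.dvd_of_dvd_pow d)
      · exact (hl.dvd_mul.1 d).elim q2 q3
    refine hco.dvd_of_dvd_mul_left ?_
    rw [show qq ^ 3 * ((qq - 1) * (qq + 1)) * Qn m = qq ^ 3 * ((qq - 1) * ((qq + 1) * Qn m)) by ring, ← card_G A]
    exact T.card_subgroup_dvd_card
  have hcyc : IsCyclic ↥T := by
    letI : CommGroup ↥T := { (inferInstance : Group ↥T) with mul_comm := hcomm }
    have : IsZGroup ↥T := ⟨fun l hl P => by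
      have : Fact l.Prime := ⟨hl⟩
      by_cases hlT : l ∣ Nat.card ↥T
      · have hl3 : 3 < l := (prime_dvd_Qn hl (hlT.trans hdvd)).1
        obtain ⟨Q, hQ⟩ := (P.2.map T.subtype).exists_le_sylow
        have : IsCyclic ↥(Q : Subgroup GG) := Cfsg.Agent.S1156.result hm A.hK hl3 Q
        have : IsCyclic ↥((P : Subgroup ↥T).map T.subtype) :=
          isCyclic_of_injective (Subgroup.inclusion hQ) (Subgroup.inclusion_injective hQ)
        exact ((P : Subgroup ↥T).equivMapOfInjective T.subtype T.subtype_injective).isCyclic.2 this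
      · have h1 : Nat.card ↥(P : Subgroup ↥T) = 1 := by
          rw [P.card_eq_multiplicity, Nat.factorization_eq_zero_of_not_dvd hlT, pow_zero]
        have : Subsingleton ↥(P : Subgroup ↥T) := (Nat.card_eq_one_iff_unique.1 h1).1
        infer_instance⟩
    infer_instance
  refine ⟨hcyc, hdvd, fun z hz hz1 => ?_, ?_⟩
  · have hne' : orderOf z ≠ 1 := fun e => hz1 (orderOf_eq_one_iff.1 e)
    obtain ⟨l, hl, hld⟩ := Nat.exists_prime_and_dvd hne'
    have hlQ : l ∣ Qn m := hld.trans (orderOf_dvd_of_pow_eq_one (hpow z hz))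
    obtain ⟨j, hj⟩ := hld
    have hj0 : j ≠ 0 := fun e => by rw [e, mul_zero] at hj; exact (orderOf_pos z).ne' hj
    have hzj : orderOf (z ^ j) = l := by
      rw [orderOf_pow_of_dvd hj0 (hj ▸ dvd_mul_left j l), hj, Nat.mul_div_cancel _ (Nat.pos_of_ne_zero hj0)]
    refine le_antisymm (fun r hr => ?_) fun r hr => ?_
    · rw [Subgroup.mem_centralizer_singleton_iff] at hr ⊢
      have hxz : x * z = z * x := (Subgroup.mem_centralizer_singleton_iff.1 hz).symm
      exact (key hl hlQ hzj (show x * z ^ j = z ^ j * x from ((show Commute x z from hxz).pow_right j).eq) hxz.symm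
        ((Commute.refl z).pow_right j).eq ((show Commute r z from hr).pow_right j).eq).1
    · rw [Subgroup.mem_centralizer_singleton_iff]
      exact congrArg Subtype.val (hcomm ⟨r, hr⟩ ⟨z, hz⟩)
  · set N := Subgroup.normalizer (T : Set GG)
    have : Fact p.Prime := ⟨hp⟩
    have hxT : x ∈ T := Subgroup.mem_centralizer_singleton_iff.2 rfl
    have hxle : Subgroup.zpowers x ≤ T := by rw [Subgroup.zpowers_le]; exact hxT
    classical
    have hex : ∀ n : ↥N, ∃ a : ZMod p, (n : GG) * x * (n : GG)⁻¹ = x ^ a.val := by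
      intro n
      have hm1 : (n : GG) * x * (n : GG)⁻¹ ∈ Subgroup.zpowers x := by
        refine mem_of_pow_card (A := T) hxle ((Subgroup.mem_normalizer_iff.1 n.2 x).1 hxT) ?_
        rw [Nat.card_zpowers, hx, conj_pow, ← hx, pow_orderOf_eq_one]; group
      rw [mem_zpowers_iff_mem_range_orderOf, hx, Finset.mem_image] at hm1
      obtain ⟨a, ha, he⟩ := hm1
      exact ⟨(a : ZMod p), by rw [ZMod.val_natCast, Nat.mod_eq_of_lt (Finset.mem_range.1 ha), he]⟩
    choose f hf using hex
    have hval : ∀ a : ℕ, x ^ ((a : ZMod p)).val = x ^ a := fun a => by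
      rw [ZMod.val_natCast]
      conv_rhs => rw [← pow_mod_orderOf, hx]
    have huniq : ∀ a b : ZMod p, x ^ a.val = x ^ b.val → a = b := fun a b h => by
      rw [pow_eq_pow_iff_modEq, hx, ← ZMod.natCast_eq_natCast_iff, ZMod.natCast_zmod_val, ZMod.natCast_zmod_val] at h
      exact h
    let φ : ↥N →* ZMod p :=
      { toFun := f
        map_one' := huniq _ _ (by rw [← hf, ZMod.val_one, pow_one]; simp)
        map_mul' := fun n n' => huniq _ _ (by
          rw [← hf, show x ^ (f n * f n').val = x ^ ((f n).val * (f n').val) by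
            rw [← hval ((f n).val * (f n').val), Nat.cast_mul, ZMod.natCast_zmod_val, ZMod.natCast_zmod_val]]
          rw [pow_mul, ← hf n, conj_pow, ← hf n', Subgroup.coe_mul]
          group) }
    set χ := φ.toHomUnits
    have hker : χ.ker = T.subgroupOf N := by
      ext n
      rw [MonoidHom.mem_ker, Subgroup.mem_subgroupOf, Subgroup.mem_centralizer_singleton_iff, Units.ext_iff]
      show f n = 1 ↔ _
      constructor
      · intro h
        have e := hf n
        rw [h, ZMod.val_one, pow_one] at e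
        exact mul_inv_eq_iff_eq_mul.1 e
      · intro h
        refine huniq _ _ ?_
        rw [← hf, ZMod.val_one, pow_one, h, mul_inv_cancel_right]
    have hq0 : (qq : ZMod p) ≠ 0 := fun e =>
      (prime_dvd_Qn hp hpQ).2.1 ((ZMod.natCast_eq_zero_iff _ p).1 (by exact_mod_cast e))
    have hrange : χ.range ≤ Subgroup.zpowers (Units.mk0 _ hq0) := by
      rintro _ ⟨n, rfl⟩
      obtain ⟨i, hi⟩ := conj_exponent A hm hp hpQ hx (hf n)
      rw [ZMod.natCast_zmod_val] at hi
      refine Subgroup.mem_zpowers_iff.2 ⟨i, Units.ext ?_⟩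
      rw [zpow_natCast, Units.val_pow_eq_pow_val, Units.val_mk0]
      exact hi.symm
    rw [← hker, Subgroup.index_ker]
    refine (Subgroup.card_dvd_of_le hrange).trans ?_
    rw [Nat.card_zpowers]
    exact orderOf_dvd_of_pow_eq_one (Units.ext (by rw [Units.val_pow_eq_pow_val, Units.val_mk0, q_pow_six hpQ]; rfl))

end Cfsg.Agent.Lib.RankOne.Ree
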