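import Cfsg.Agent.Lib.RankOne.ReeToral

/-!
The normalisers containing the solvable subgroups of the small Ree group.
-/

set_option autoImplicit false
set_option maxRecDepth 100000
set_option maxHeartbeats 1000000

namespace Cfsg.Agent.Lib.RankOne.Ree

open Cfsg.Lie Cfsg.Agent.Lib.Chev Cfsg.Agent.Lib.Chev.Tw Cfsg.Agent.Lib.Chev.Tw.G2

section general

variable {G : Type*} [Group G] [Finite G]

/-- A nontrivial solvable group has a nontrivial normal elementary abelian subgroup. -/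
theorem exists_normal_elementary (hS : Group.IsSolvable G) [Nontrivial G] :
    ∃ (p : ℕ) (V : Subgroup G), p.Prime ∧ V.Normal ∧ V ≠ ⊥ ∧ (∀ v ∈ V, v ^ p = 1) ∧
      ∀ u ∈ V, ∀ v ∈ V, u * v = v * u := by
  classical
  have hex : ∃ n, derivedSeries G n = ⊥ := hS.solvable
  obtain ⟨k, hk⟩ : ∃ k, Nat.find hex = k + 1 := Nat.exists_eq_succ_of_ne_zero fun e => by
    have := Nat.find_spec hex
    rw [e, derivedSeries_zero] at this
    exact top_ne_bot this
  set D := derivedSeries G k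
  have hD : D ≠ ⊥ := Nat.find_min hex (by omega)
  have hcomm : ∀ u ∈ D, ∀ v ∈ D, u * v = v * u := by
    have h := Nat.find_spec hex
    rw [hk, derivedSeries_succ] at h
    intro u hu v hv
    exact Subgroup.mem_centralizer_iff.1 (Subgroup.commutator_eq_bot_iff_le_centralizer.1 h hv) u hu
  have hne : Nat.card ↥D ≠ 1 := fun e => hD (Subgroup.eq_bot_of_card_eq _ e)
  obtain ⟨p, hp, hd⟩ := Nat.exists_prime_and_dvd hne
  have : Fact p.Prime := ⟨hp⟩
  obtain ⟨d, hd⟩ := exists_prime_orderOf_dvd_card' p hd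
  let V : Subgroup G :=
    { carrier := {v | v ∈ D ∧ v ^ p = 1}
      one_mem' := ⟨one_mem _, one_pow _⟩
      mul_mem' := fun {a b} ha hb => ⟨D.mul_mem ha.1 hb.1, by
        rw [(show Commute a b from hcomm a ha.1 b hb.1).mul_pow, ha.2, hb.2, one_mul]⟩
      inv_mem' := fun {a} ha => ⟨D.inv_mem ha.1, by rw [inv_pow, ha.2, inv_one]⟩ }
  refine ⟨p, V, hp, ⟨fun v hv g => ⟨(derivedSeries_normal G k).conj_mem v hv.1 g, ?_⟩⟩, ?_, fun v hv => hv.2,
    fun u hu v hv => hcomm u hu.1 v hv.1⟩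
  · rw [conj_pow, hv.2]; group
  · intro e
    have hdV : (d : G) ∈ V := ⟨d.2, by
      have := pow_orderOf_eq_one (d : G)
      rwa [Subgroup.orderOf_coe, hd] at this⟩
    rw [e, Subgroup.mem_bot] at hdV
    rw [show d = 1 from Subtype.ext hdV, orderOf_one] at hd
    exact hp.one_lt.ne hd

omit [Finite G] in
theorem mem_normalizer_conj {V : Subgroup G} {s : G} (g : G) (hs : s ∈ Subgroup.normalizer (V : Set G)) :
    g * s * g⁻¹ ∈ Subgroup.normalizer ((V.map (MulAut.conj g).toMonoidHom : Subgroup G) : Set G) := by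
  have key : ∀ r ∈ Subgroup.normalizer (V : Set G), ∀ z ∈ V.map (MulAut.conj g).toMonoidHom,
      g * r * g⁻¹ * z * (g * r * g⁻¹)⁻¹ ∈ V.map (MulAut.conj g).toMonoidHom := by
    rintro r hr _ ⟨v, hv, rfl⟩
    refine ⟨r * v * r⁻¹, (Subgroup.mem_normalizer_iff.1 hr v).1 hv, ?_⟩
    show g * (r * v * r⁻¹) * g⁻¹ = g * r * g⁻¹ * (g * v * g⁻¹) * (g * r * g⁻¹)⁻¹
    group
  rw [Subgroup.mem_normalizer_iff]
  intro z
  refine ⟨key s hs z, fun hz => ?_⟩
  have := key s⁻¹ (inv_mem hs) _ hz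
  rwa [show g * s⁻¹ * g⁻¹ * (g * s * g⁻¹ * z * (g * s * g⁻¹)⁻¹) * (g * s⁻¹ * g⁻¹)⁻¹ = z by
    group] at this

end general

variable {K : Type*} [Field K] [Fintype K] {m : ℕ} (A : Par K m)
include A

set_option quotPrecheck false
local notation "qq" => 3 ^ (2 * m + 1)
local notation "GG" => ↥(twistedG2 K (3 ^ m))
local notation "U₁" => chevG2.posUnipotent K ⊓ G1 K m
local notation "B₁" => chevG2.borelSubgroup K ⊓ G1 K m
local notation "PSL" => Matrix.ProjectiveSpecialLinearGroup (Fin 2) K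
local notation "Z2" => Multiplicative (ZMod 2)
local notation "snP" => ((sn : Matrix.SpecialLinearGroup (Fin 2) K) : Matrix.ProjectiveSpecialLinearGroup (Fin 2) K)

/-- The subgroups whose normalisers cover the solvable subgroups. -/
def SolvTarget (_ : Par K m) (B : Subgroup GG) : Prop :=
  (∃ P : Sylow 2 GG, B = P) ∨ (∃ P : Sylow 3 GG, B = P) ∨
    (IsCyclic B ∧ (Nat.card B = (qq - 1) / 2 ∨ Nat.card B = (qq + 1) / 4 ∨
      Nat.card B = qq - 3 ^ (m + 1) + 1 ∨ Nat.card B = qq + 3 ^ (m + 1) + 1))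

/-- Lying in one of the covering normalisers. -/
def Covered (S : Subgroup GG) : Prop :=
  ∃ B : Subgroup GG, S ≤ Subgroup.normalizer (B : Set GG) ∧ SolvTarget A B

theorem SolvTarget.conj {B : Subgroup GG} (h : SolvTarget A B) (g : GG) :
    SolvTarget A (B.map (MulAut.conj g).toMonoidHom) := by
  rcases h with ⟨P, rfl⟩ | ⟨P, rfl⟩ | ⟨hc, hk⟩
  · exact Or.inl ⟨g • P, rfl⟩
  · exact Or.inr (Or.inl ⟨g • P, rfl⟩)
  · refine Or.inr (Or.inr ⟨isCyclic_of_surjective _ ((MulAut.conj g).toMonoidHom.subgroupMap_surjective B), ?_⟩)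
    rwa [Subgroup.card_map_of_injective (MulAut.conj g).injective]

theorem covered_of_conj {S B : Subgroup GG} (hB : SolvTarget A B) (g : GG)
    (h : ∀ s ∈ S, g * s * g⁻¹ ∈ Subgroup.normalizer (B : Set GG)) : Covered A S := by
  refine ⟨_, fun s hs => ?_, hB.conj A g⁻¹⟩
  have := mem_normalizer_conj g⁻¹ (h s hs)
  rwa [show g⁻¹ * (g * s * g⁻¹) * g⁻¹⁻¹ = s by group] at this

theorem eq_one_of_sq {y : GG} {a : ℕ} (hy : y ^ a = 1) (ha : a % 2 = 1) (h2 : y * y = 1) : y = 1 :=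
  eq_one_of_odd ha hy h2

/-- The cyclic part of the split torus. -/
theorem minus_part (hm : 1 ≤ m) : ∃ C : Subgroup GG, IsCyclic ↥C ∧ Nat.card ↥C = (qq - 1) / 2 ∧ C ≤ TH A ∧
    (∀ z ∈ TH A, z ^ Nat.card ↥C = 1 → z ∈ C) ∧ ∀ y ∈ C, y ≠ 1 → Subgroup.centralizer {y} = TH A := by
  obtain ⟨hq, hq8, hq3⟩ := q_facts hm
  have : IsCyclic ↥(TH A) := isCyclic_of_surjective _ (torG A).rangeRestrict_surjective
  obtain ⟨t, ht⟩ := (TH A).isCyclic_iff_exists_zpowers_eq_top.1 this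
  have ho : orderOf t = qq - 1 := by rw [← Nat.card_zpowers, ht, card_TH A]
  have hle : Subgroup.zpowers (t ^ 2) ≤ TH A := by
    rw [← ht, Subgroup.zpowers_le]; exact Subgroup.pow_mem _ (Subgroup.mem_zpowers t) 2
  have hk : Nat.card ↥(Subgroup.zpowers (t ^ 2)) = (qq - 1) / 2 := by
    rw [Nat.card_zpowers, orderOf_pow_of_dvd (by norm_num) (ho ▸ (by omega)), ho]
  refine ⟨Subgroup.zpowers (t ^ 2), inferInstance, hk, hle, fun z hz hp => mem_of_pow_card hle hz hp,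
    fun y hy hy1 => TH_cent A y (hle hy) fun h2 => hy1 (eq_one_of_sq A (a := (qq - 1) / 2) ?_ (by omega) h2)⟩
  rw [← hk]; exact pow_of_mem hy

/-- The cyclic part of the torus of order `q + 1`. -/
theorem plus_part (hm : 1 ≤ m) : ∃ C : Subgroup GG, IsCyclic ↥C ∧ Nat.card ↥C = (qq + 1) / 4 ∧ C ≤ T2 A ∧
    (∀ z ∈ T2 A, z ^ Nat.card ↥C = 1 → z ∈ C) ∧ ∀ y ∈ C, y ≠ 1 → Subgroup.centralizer {y} = T2 A := by
  obtain ⟨hq, hq8, hq3⟩ := q_facts hm
  have := P2_isCyclic A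
  obtain ⟨t, ht⟩ := (P2 A).isCyclic_iff_exists_zpowers_eq_top.1 this
  have ho : orderOf t = (qq + 1) / 2 := by rw [← Nat.card_zpowers, ht, card_P2 A]
  have hle : Subgroup.zpowers (t ^ 2) ≤ P2 A := by
    rw [← ht, Subgroup.zpowers_le]; exact Subgroup.pow_mem _ (Subgroup.mem_zpowers t) 2
  have hk : Nat.card ↥(Subgroup.zpowers (t ^ 2)) = (qq + 1) / 4 := by
    rw [Nat.card_zpowers, orderOf_pow_of_dvd (by norm_num) (ho ▸ (by omega)), ho, Nat.div_div_eq_div_mul]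
  refine ⟨Subgroup.zpowers (t ^ 2), inferInstance, hk, hle.trans (P2_le A), fun z hz hp => ?_,
    fun y hy hy1 => centralizer_T2 A hm (P2_le A (hle hy))
      fun h2 => hy1 (eq_one_of_sq A (a := (qq + 1) / 4) ?_ (by omega) h2)⟩
  · refine mem_of_pow_card hle (mem_P2_of_odd A hz ?_) hp
    rw [hk] at hp
    have hd := orderOf_dvd_of_pow_eq_one hp
    rcases Nat.mod_two_eq_zero_or_one (orderOf z) with h | h
    · have := (Nat.dvd_of_mod_eq_zero h).trans hd; omega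
    · exact h
  · rw [← hk]; exact pow_of_mem hy

/-- Elements of prime order at least five lie in the cyclic parts of the tori. -/
theorem toral_prime (hm : 1 ≤ m) {p : ℕ} (hp : p.Prime) (hp5 : 3 < p) {x : GG} (hx : orderOf x = p) :
    ∃ (g : GG) (T C : Subgroup GG), SolvTarget A C ∧ IsCyclic ↥C ∧ C ≤ T ∧
      (∀ z ∈ T, z ^ Nat.card ↥C = 1 → z ∈ C) ∧ (∀ y ∈ C, y ≠ 1 → Subgroup.centralizer {y} = T) ∧
      g * x * g⁻¹ ∈ C := by
  obtain ⟨hq, hq8, hq3⟩ := q_facts hm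
  have hxp : x ^ p = 1 := by have := pow_orderOf_eq_one x; rwa [hx] at this
  have hodd : ¬ p ∣ 2 := fun h => by have := Nat.le_of_dvd (by norm_num) h; omega
  have pdvd : ∀ {T : Subgroup GG} {g : GG}, g * x * g⁻¹ ∈ T → p ∣ Nat.card ↥T := fun {T g} h => by
    rw [← hx, ← conj_orderOf g x, ← Subgroup.orderOf_mk _ h]; exact orderOf_dvd_natCard _
  have hpow : ∀ {a : ℕ} (g : GG), p ∣ a → (g * x * g⁻¹) ^ a = 1 := fun g h => by
    obtain ⟨c, rfl⟩ := h
    rw [conj_pow, pow_mul, hxp, one_pow]; group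
  rcases element_cases A hm x with h | ⟨g, hg, -⟩ | ⟨g, hg, -⟩ | h
  · exfalso
    have := orderOf_dvd_of_pow_eq_one h
    rw [hx] at this
    rcases hp.dvd_mul.1 (show p ∣ 2 * (3 * 3) by simpa using this) with d | d
    · exact hodd d
    · rcases hp.dvd_mul.1 d with d | d <;> · have := Nat.le_of_dvd (by norm_num) d; omega
  · obtain ⟨C, hc, hk, hle, hchar, hC⟩ := minus_part A hm
    refine ⟨g, TH A, C, Or.inr (Or.inr ⟨hc, Or.inl hk⟩), hc, hle, hchar, hC, hchar _ hg (hpow g ?_)⟩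
    have h1 := pdvd hg
    rw [card_TH A, show qq - 1 = 2 * ((qq - 1) / 2) by omega] at h1
    exact hk ▸ (hp.dvd_mul.1 h1).resolve_left hodd
  · obtain ⟨C, hc, hk, hle, hchar, hC⟩ := plus_part A hm
    refine ⟨g, T2 A, C, Or.inr (Or.inr ⟨hc, Or.inr (Or.inl hk)⟩), hc, hle, hchar, hC, hchar _ hg (hpow g ?_)⟩
    have h1 := pdvd hg
    rw [card_T2 A, show qq + 1 = 2 * (2 * ((qq + 1) / 4)) by omega] at h1
    exact hk ▸ ((hp.dvd_mul.1 ((hp.dvd_mul.1 h1).resolve_left hodd)).resolve_left hodd)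
  · obtain ⟨y, y', hy, hy1, hy', hy1', hk, -, hk', -, hc, hc', hprod⟩ := singer_cases A hm
    have h1 := orderOf_dvd_of_pow_eq_one h
    rw [hx, ← hprod] at h1
    rcases hp.dvd_mul.1 h1 with d | d
    · obtain ⟨g, hg⟩ := hc x (hx ▸ d)
      obtain ⟨s1, -, s3, -⟩ := singer A hm hy1 hy
      exact ⟨g, _, _, Or.inr (Or.inr ⟨s1, Or.inr (Or.inr (Or.inl hk))⟩), s1, le_rfl, fun z hz _ => hz, s3, hg⟩
    · obtain ⟨g, hg⟩ := hc' x (hx ▸ d)
      obtain ⟨s1, -, s3, -⟩ := singer A hm hy1' hy'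
      exact ⟨g, _, _, Or.inr (Or.inr ⟨s1, Or.inr (Or.inr (Or.inr hk'))⟩), s1, le_rfl, fun z hz _ => hz, s3, hg⟩

theorem covered_three (hm : 1 ≤ m) {S V : Subgroup GG} (hne : V ≠ ⊥) (hV : IsPGroup 3 V)
    (hS : S ≤ Subgroup.normalizer (V : Set GG)) : Covered A S := by
  have : Fact (Nat.Prime 3) := ⟨Nat.prime_three⟩
  set UG : Subgroup GG := (U₁).subgroupOf (twistedG2 K (3 ^ m)) with hUG
  have hcard : Nat.card ↥UG = 3 ^ ((2 * m + 1) * 3) := by
    rw [pow_mul]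
    exact (Nat.card_congr (Subgroup.subgroupOfEquivOfLe (H := U₁) (K := twistedG2 K (3 ^ m)) inf_le_right).toEquiv).trans
      (card_U A)
  have hidx : ¬ 3 ∣ UG.index := by
    obtain ⟨hq, hq8, hq3⟩ := q_facts hm
    have h := UG.card_mul_index
    rw [hcard, card_G A, pow_mul] at h
    rw [Nat.eq_of_mul_eq_mul_left (by positivity) h]
    intro hd
    rcases Nat.prime_three.dvd_mul.1 hd with hd | hd
    · omega
    · rcases Nat.prime_three.dvd_mul.1 hd with hd | hd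
      · omega
      · exact absurd (prime_dvd_Qn Nat.prime_three hd).1 (lt_irrefl 3)
  let P : Sylow 3 GG := (IsPGroup.of_card hcard).toSylow hidx
  obtain ⟨Q, hQ⟩ := hV.exists_le_sylow
  obtain ⟨g, hg⟩ := MulAction.exists_smul_eq GG Q P
  have hin : ∀ v ∈ V, g * v * g⁻¹ ∈ UG := fun v hv => by
    have h : g * v * g⁻¹ ∈ (g • Q : Sylow 3 GG) := ⟨v, hQ hv, rfl⟩
    rw [hg] at h; exact h
  obtain ⟨v, hv, hv1⟩ := (Subgroup.bot_or_exists_ne_one V).resolve_left hne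
  refine covered_of_conj A (B := UG) (Or.inr (Or.inl ⟨P, rfl⟩)) g fun s hs => ?_
  have h1 : s * v * s⁻¹ ∈ V := (Subgroup.mem_normalizer_iff.1 (hS hs) v).1 hv
  have hB : ((g * s * g⁻¹ : GG) : GL chevG2.Idx K) ∈ B₁ := mem_B_of_conj_U A (g * s * g⁻¹).2
    (u := ((g * v * g⁻¹ : GG) : GL chevG2.Idx K)) (hin v hv)
    (fun e => hv1 (conj_eq_one_iff.1 (Subtype.ext e : g * v * g⁻¹ = 1))) (by
      have h2 : ((g * (s * v * s⁻¹) * g⁻¹ : GG) : GL chevG2.Idx K) ∈ U₁ := hin _ h1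
      rw [show g * (s * v * s⁻¹) * g⁻¹ = g * s * g⁻¹ * (g * v * g⁻¹) * (g * s * g⁻¹)⁻¹ by group] at h2
      exact h2)
  generalize g * s * g⁻¹ = b at hB
  rw [Subgroup.mem_normalizer_iff]
  refine fun z => ⟨fun hz => conj_B_U A hB hz, fun hz => ?_⟩
  have h2 : ((b⁻¹ * (b * z * b⁻¹) * b⁻¹⁻¹ : GG) : GL chevG2.Idx K) ∈ U₁ :=
    conj_B_U A (Subgroup.inv_mem _ hB) hz
  rwa [show b⁻¹ * (b * z * b⁻¹) * b⁻¹⁻¹ = z by group] at h2

theorem covered_big (hm : 1 ≤ m) {p : ℕ} (hp : p.Prime) (hp5 : 3 < p) {S V : Subgroup GG} (hne : V ≠ ⊥)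
    (he : ∀ v ∈ V, v ^ p = 1) (hc : ∀ u ∈ V, ∀ v ∈ V, u * v = v * u)
    (hS : S ≤ Subgroup.normalizer (V : Set GG)) : Covered A S := by
  have : Fact p.Prime := ⟨hp⟩
  obtain ⟨x, hx, hx1⟩ := (Subgroup.bot_or_exists_ne_one V).resolve_left hne
  obtain ⟨g, T, C, hgood, hcyc, hle, hchar, hC, hxC⟩ :=
    toral_prime A hm hp hp5 (orderOf_eq_prime (he x hx) hx1)
  have hne' : g * x * g⁻¹ ≠ 1 := fun e => hx1 (conj_eq_one_iff.1 e)
  have hpC : p ∣ Nat.card ↥C := by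
    rw [← orderOf_eq_prime (he x hx) hx1, ← conj_orderOf g x, ← Subgroup.orderOf_mk _ hxC]
    exact orderOf_dvd_natCard _
  set W := V.map (MulAut.conj g).toMonoidHom
  have hW : W ≤ C := by
    rintro _ ⟨v, hv, rfl⟩
    show g * v * g⁻¹ ∈ C
    refine hchar _ ?_ ?_
    · rw [← hC _ hxC hne', Subgroup.mem_centralizer_singleton_iff]
      calc g * v * g⁻¹ * (g * x * g⁻¹) = g * (v * x) * g⁻¹ := by group
        _ = g * (x * v) * g⁻¹ := by rw [hc v hv x hx]
        _ = _ := by group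
    · obtain ⟨c, hk⟩ := hpC
      rw [hk, conj_pow, pow_mul, he v hv, one_pow]; group
  have hW1 : W ≠ ⊥ := fun e => hne' (by
    have : g * x * g⁻¹ ∈ W := ⟨x, hx, rfl⟩
    rwa [e, Subgroup.mem_bot] at this)
  have hC1 : C ≠ ⊥ := fun e => hW1 (le_bot_iff.1 (e ▸ hW))
  refine covered_of_conj A hgood g fun s hs => ?_
  rw [normalizer_eq_of_TI hle hchar hC le_rfl hC1, ← normalizer_eq_of_TI hle hchar hC hW hW1]
  exact mem_normalizer_conj g (hS hs)

theorem covered_four (hm : 1 ≤ m) {S V : Subgroup GG} (he : ∀ v ∈ V, v ^ 2 = 1)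
    (hc : ∀ u ∈ V, ∀ v ∈ V, u * v = v * u) (h2 : 2 < Nat.card ↥V)
    (hS : S ≤ Subgroup.normalizer (V : Set GG)) : Covered A S := by
  classical
  have : Fact (Nat.Prime 2) := ⟨Nat.prime_two⟩
  obtain ⟨hq, hq8, hq3⟩ := q_facts hm
  have hV : IsPGroup 2 V := fun v => ⟨1, Subtype.ext (by simpa using he v v.2)⟩
  obtain ⟨j, hj⟩ := IsPGroup.iff_card.1 hV
  have hj3 : j ≤ 3 := by
    by_contra h
    exact eight_not_dvd A hm ((pow_dvd_pow 2 (show 4 ≤ j by omega)).trans (hj ▸ V.card_subgroup_dvd_card))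
  rcases (show j = 2 ∨ j = 3 by
    interval_cases j <;> simp_all) with rfl | rfl
  swap
  · obtain ⟨Q, hQ⟩ := hV.exists_le_sylow
    obtain ⟨i, hi⟩ := IsPGroup.iff_card.1 Q.isPGroup'
    have hi3 : i ≤ 3 := by
      by_contra h
      exact eight_not_dvd A hm ((pow_dvd_pow 2 (show 4 ≤ i by omega)).trans (hi ▸ Subgroup.card_subgroup_dvd_card _))
    have : V = (Q : Subgroup GG) := Subgroup.eq_of_le_of_card_ge hQ (by
      rw [hj, hi]; exact Nat.pow_le_pow_right (by norm_num) hi3)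
    exact ⟨V, hS, Or.inl ⟨Q, this⟩⟩
  obtain ⟨b, hb, hb1⟩ := (Subgroup.bot_or_exists_ne_one V).resolve_left fun e => by
    rw [e, Subgroup.card_bot] at h2; omega
  obtain ⟨g, hg⟩ := SylowTwo.involution_conj A hm (orderOf_eq_two A (by rw [← pow_two, he b hb]) hb1)
  obtain ⟨c, hcV, hcb⟩ := SetLike.not_le_iff_exists.1
    (show ¬ V ≤ Subgroup.zpowers b from fun h => by
      have := Subgroup.card_le_of_le h
      rw [Nat.card_zpowers, orderOf_eq_two A (by rw [← pow_two, he b hb]) hb1] at this; omega)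
  have hcomm : g⁻¹ * c * g * SylowTwo.inv0 A = SylowTwo.inv0 A * (g⁻¹ * c * g) := by
    rw [show SylowTwo.inv0 A = g⁻¹ * b * g by rw [← hg]; group]
    calc g⁻¹ * c * g * (g⁻¹ * b * g) = g⁻¹ * (c * b) * g := by group
      _ = g⁻¹ * (b * c) * g := by rw [hc c hcV b hb]
      _ = _ := by group
  obtain ⟨⟨e, r⟩, hr⟩ := exists_of_comm A hcomm
  have hrr : r * r = 1 := by
    have h : thetaG A ((e, r) * (e, r)) = thetaG A 1 := by
      rw [map_mul, map_one, ← hr]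
      calc g⁻¹ * c * g * (g⁻¹ * c * g) = g⁻¹ * (c ^ 2) * g := by rw [pow_two]; group
        _ = 1 := by rw [he c hcV]; group
    exact congrArg Prod.snd (thetaG_inj A h)
  have hr1 : r ≠ 1 := by
    rintro rfl
    apply hcb
    rcases z2_cases e with rfl | rfl
    · rw [show ((1, 1) : Z2 × PSL) = 1 from rfl, map_one] at hr
      rw [show c = 1 by calc c = g * (g⁻¹ * c * g) * g⁻¹ := by group
                          _ = 1 := by rw [hr]; group]
      exact one_mem _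
    · rw [thetaG_inv0 A] at hr
      rw [show c = b by calc c = g * (g⁻¹ * c * g) * g⁻¹ := by group
                          _ = b := by rw [hr, hg]]
      exact Subgroup.mem_zpowers _
  obtain ⟨k, hk⟩ := exists_conj_sn A hrr hr1
  set h := thetaG A (1, k) * g⁻¹ with hh
  have hbW : h * b * h⁻¹ = SylowTwo.inv0 A := by
    rw [hh, ← hg]
    calc _ = thetaG A (1, k) * SylowTwo.inv0 A * (thetaG A (1, k))⁻¹ := by group
      _ = _ := by rw [thetaG_comm A (1, k), mul_inv_cancel_right]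
  have hcW : h * c * h⁻¹ = thetaG A (e, snP) := by
    rw [hh]
    calc _ = thetaG A (1, k) * (g⁻¹ * c * g) * (thetaG A (1, k))⁻¹ := by group
      _ = thetaG A ((1, k) * (e, r) * (1, k)⁻¹) := by rw [hr, map_mul, map_mul, map_inv]
      _ = _ := congrArg _ (Prod.ext (by simp) hk)
  set W := V.map (MulAut.conj h).toMonoidHom with hWdef
  have hWE : E2 A = W := by
    have hbm : thetaG A (Multiplicative.ofAdd 1, 1) ∈ W := ⟨b, hb, by rw [thetaG_inv0 A]; exact hbW⟩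
    have hcm : thetaG A (e, snP) ∈ W := ⟨c, hcV, hcW⟩
    have hZ : ∀ f : Z2, thetaG A (f, 1) ∈ W := fun f => by
      rcases z2_cases f with rfl | rfl
      · rw [show ((1, 1) : Z2 × PSL) = 1 from rfl, map_one]; exact one_mem _
      · exact hbm
    have hs : thetaG A (1, snP) ∈ W := by
      have := W.mul_mem (W.inv_mem (hZ e)) hcm
      rwa [← map_inv, ← map_mul, show ((e, 1) : Z2 × PSL)⁻¹ * (e, snP) = (1, snP) by ext <;> simp] at this
    refine Subgroup.eq_of_le_of_card_ge ?_ ?_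
    · rintro _ ⟨⟨f, z⟩, ⟨-, hz⟩, rfl⟩
      obtain ⟨i, rfl⟩ := Subgroup.mem_zpowers_iff.1 hz
      have := W.mul_mem (hZ f) (W.zpow_mem hs i)
      rwa [← map_zpow, ← map_mul, show ((f, 1) : Z2 × PSL) * (1, snP) ^ i = (f, snP ^ i) by ext <;> simp] at this
    · rw [card_E2 A, Subgroup.card_map_of_injective (MulAut.conj h).injective, hj]; norm_num
  obtain ⟨C, hcyc, hkC, hle, hchar, hC⟩ := plus_part A hm
  have hC1 : C ≠ ⊥ := fun e => by rw [e, Subgroup.card_bot] at hkC; omega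
  refine covered_of_conj A (B := C) (Or.inr (Or.inr ⟨hcyc, Or.inr (Or.inl hkC)⟩)) h fun s hs => ?_
  rw [normalizer_eq_of_TI hle hchar hC le_rfl hC1, normalizer_T2_eq A hm, hWE]
  exact mem_normalizer_conj h (hS hs)

theorem covered_elementary (hm : 1 ≤ m) {p : ℕ} (hp : p.Prime) {S V : Subgroup GG} (hne : V ≠ ⊥)
    (he : ∀ v ∈ V, v ^ p = 1) (hc : ∀ u ∈ V, ∀ v ∈ V, u * v = v * u) (h2 : p = 2 → 2 < Nat.card ↥V)
    (hS : S ≤ Subgroup.normalizer (V : Set GG)) : Covered A S := by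
  rcases Nat.lt_or_ge 3 p with h | h
  · exact covered_big A hm hp h hne he hc hS
  rcases (show p = 2 ∨ p = 3 by have := hp.two_le; omega) with rfl | rfl
  · exact covered_four A hm he hc (h2 rfl) hS
  · exact covered_three A hm hne (fun v => ⟨1, Subtype.ext (by simpa using he v v.2)⟩) hS

/-- A solvable subgroup centralising the standard involution. -/
theorem covered_centralizing (hm : 1 ≤ m) {S : Subgroup GG} (hS : Group.IsSolvable S)
    (hle : S ≤ (thetaG A).range) : Covered A S := by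
  classical
  set π : ↥(S.comap (thetaG A)) →* PSL := (MonoidHom.snd Z2 PSL).comp (S.comap (thetaG A)).subtype
  have hsolv : Group.IsSolvable ↥(S.comap (thetaG A)) :=
    Group.isSolvable_of_isSolvable_injective (f := (thetaG A).subgroupComap S)
      (fun x y h => Subtype.ext (thetaG_inj A (congrArg Subtype.val h)))
  have hsolv' : Group.IsSolvable ↥π.range := Group.isSolvable_of_surjective π.rangeRestrict_surjective
  by_cases htriv : π.range = ⊥
  · have : Fact (Nat.Prime 2) := ⟨Nat.prime_two⟩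
    have hle2 : S ≤ Subgroup.zpowers (SylowTwo.inv0 A) := by
      intro s hs
      obtain ⟨⟨f, z⟩, rfl⟩ := hle hs
      have hz : z ∈ π.range := ⟨⟨(f, z), hs⟩, rfl⟩
      rw [htriv, Subgroup.mem_bot] at hz
      subst hz
      rcases z2_cases f with rfl | rfl
      · rw [show ((1, 1) : Z2 × PSL) = 1 from rfl, map_one]; exact one_mem _
      · rw [thetaG_inv0 A]; exact Subgroup.mem_zpowers _
    obtain ⟨Q, hQ⟩ := (IsPGroup.of_card (p := 2) (n := 1) (G := Subgroup.zpowers (SylowTwo.inv0 A))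
      (by rw [Nat.card_zpowers, SylowTwo.orderOf_inv0, pow_one])).exists_le_sylow
    exact ⟨Q, (hle2.trans hQ).trans Subgroup.le_normalizer, Or.inl ⟨Q, rfl⟩⟩
  have : Nontrivial ↥π.range := (Subgroup.nontrivial_iff_ne_bot _).2 htriv
  obtain ⟨p, W, hp, hWn, hW1, hWe, hWc⟩ := exists_normal_elementary hsolv'
  set F : Subgroup Z2 := if p = 2 then ⊤ else ⊥ with hF
  set V : Subgroup GG := (F.prod (W.map π.range.subtype)).map (thetaG A) with hV
  have hconj : ∀ s ∈ S, ∀ v ∈ V, s * v * s⁻¹ ∈ V := by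
    intro s hs v hv
    obtain ⟨⟨f, z⟩, rfl⟩ := hle hs
    obtain ⟨⟨f', w⟩, ⟨hf', w', hw', rfl⟩, rfl⟩ := hv
    refine ⟨(f, z) * (f', (w' : PSL)) * (f, z)⁻¹, ⟨?_, ⟨?_, ?_, ?_⟩⟩, by rw [map_mul, map_mul, map_inv]; rfl⟩
    · show f * f' * f⁻¹ ∈ F
      rwa [mul_comm f f', mul_inv_cancel_right]
    · exact (⟨z, ⟨(f, z), hs⟩, rfl⟩ : ↥π.range) * w' * (⟨z, ⟨(f, z), hs⟩, rfl⟩ : ↥π.range)⁻¹
    · exact hWn.conj_mem w' hw' _
    · rfl
  have hnorm : S ≤ Subgroup.normalizer (V : Set GG) := fun s hs => by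
    rw [Subgroup.mem_normalizer_iff]
    refine fun v => ⟨hconj s hs v, fun hv => ?_⟩
    have := hconj s⁻¹ (inv_mem hs) _ hv
    rwa [show s⁻¹ * (s * v * s⁻¹) * s⁻¹⁻¹ = v by group] at this
  have hmem : ∀ w ∈ W, thetaG A (1, (w : PSL)) ∈ V := fun w hw => ⟨(1, (w : PSL)), ⟨one_mem _, w, hw, rfl⟩, rfl⟩
  obtain ⟨w, hw, hw1⟩ := (Subgroup.bot_or_exists_ne_one W).resolve_left hW1
  have hw1' : thetaG A (1, (w : PSL)) ≠ 1 := fun e => hw1 (Subtype.ext (by
    rw [← map_one (thetaG A)] at e; exact congrArg Prod.snd (thetaG_inj A e)))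
  refine covered_elementary A hm hp (V := V) (fun e => hw1' ?_) ?_ ?_ ?_ hnorm
  · have := hmem w hw
    rwa [e, Subgroup.mem_bot] at this
  · rintro _ ⟨⟨f, _⟩, ⟨hf, u, hu, rfl⟩, rfl⟩
    rw [← map_pow, ← map_one (thetaG A)]
    refine congrArg _ (Prod.ext ?_ (congrArg Subtype.val (hWe u hu)))
    show f ^ p = 1
    rw [hF] at hf
    split_ifs at hf with h
    · subst h; rw [pow_two]; exact (by decide : ∀ a : Z2, a * a = 1) f
    · rw [show f = 1 from Subgroup.mem_bot.1 hf, one_pow]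
  · rintro _ ⟨⟨f, _⟩, ⟨-, u, hu, rfl⟩, rfl⟩ _ ⟨⟨f', _⟩, ⟨-, u', hu', rfl⟩, rfl⟩
    rw [← map_mul, ← map_mul]
    exact congrArg _ (Prod.ext (mul_comm _ _) (congrArg Subtype.val (hWc u hu u' hu')))
  · rintro rfl
    have hFtop : F = ⊤ := if_pos rfl
    rw [hV, Subgroup.card_map_of_injective (thetaG_inj A), Nat.card_congr (Subgroup.prodEquiv _ _).toEquiv,
      Nat.card_prod, hFtop, Subgroup.card_top, show Nat.card Z2 = 2 from by simp,
      Subgroup.card_map_of_injective π.range.subtype_injective]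
    have : 1 < Nat.card ↥W := W.one_lt_card_iff_ne_bot.2 hW1
    omega

/-- Every solvable subgroup lies in one of the normalisers. -/
theorem covered (hm : 1 ≤ m) (S : Subgroup GG) (hS : Group.IsSolvable S) : Covered A S := by
  classical
  by_cases h1 : S = ⊥
  · obtain ⟨P⟩ := Sylow.nonempty (p := 2) (G := GG)
    exact ⟨P, h1 ▸ bot_le, Or.inl ⟨P, rfl⟩⟩
  have : Nontrivial ↥S := (Subgroup.nontrivial_iff_ne_bot _).2 h1
  obtain ⟨p, W, hp, hWn, hW1, hWe, hWc⟩ := exists_normal_elementary hS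
  set V := W.map S.subtype
  have hV1 : V ≠ ⊥ := fun e => hW1 (Subgroup.map_eq_bot_iff_of_injective _ S.subtype_injective |>.1 e)
  have he : ∀ v ∈ V, v ^ p = 1 := by
    rintro _ ⟨w, hw, rfl⟩; exact congrArg Subtype.val (hWe w hw)
  have hc : ∀ u ∈ V, ∀ v ∈ V, u * v = v * u := by
    rintro _ ⟨u, hu, rfl⟩ _ ⟨v, hv, rfl⟩; exact congrArg Subtype.val (hWc u hu v hv)
  have hnorm : S ≤ Subgroup.normalizer (V : Set GG) := by
    have hconj : ∀ s ∈ S, ∀ v ∈ V, s * v * s⁻¹ ∈ V := by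
      rintro s hs _ ⟨w, hw, rfl⟩
      exact ⟨_, hWn.conj_mem w hw ⟨s, hs⟩, rfl⟩
    intro s hs
    rw [Subgroup.mem_normalizer_iff]
    refine fun v => ⟨hconj s hs v, fun hv => ?_⟩
    have := hconj s⁻¹ (inv_mem hs) _ hv
    rwa [show s⁻¹ * (s * v * s⁻¹) * s⁻¹⁻¹ = v by group] at this
  by_cases h2 : p = 2 → 2 < Nat.card ↥V
  · exact covered_elementary A hm hp hV1 he hc h2 hnorm
  rw [Classical.not_imp, not_lt] at h2
  obtain ⟨rfl, hle2⟩ := h2
  obtain ⟨b, hb, hb1⟩ := (Subgroup.bot_or_exists_ne_one V).resolve_left hV1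
  have hob := orderOf_eq_two A (by rw [← pow_two, he b hb]) hb1
  have hVb : V = Subgroup.zpowers b :=
    (Subgroup.eq_of_le_of_card_ge (Subgroup.zpowers_le.2 hb) (by rw [Nat.card_zpowers, hob]; exact hle2)).symm
  obtain ⟨g, hg⟩ := SylowTwo.involution_conj A hm hob
  have hcent : S.map (MulAut.conj g⁻¹).toMonoidHom ≤ (thetaG A).range := by
    rintro _ ⟨s, hs, rfl⟩
    have h := (Subgroup.mem_normalizer_iff.1 (hnorm hs) b).1 hb
    rw [hVb] at h
    obtain ⟨i, hi⟩ := Subgroup.mem_zpowers_iff.1 h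
    have hsb : s * b * s⁻¹ = b := by
      rw [← zpow_mod_orderOf, hob] at hi
      rcases Int.emod_two_eq_zero_or_one i with h' | h' <;> rw [show ((2 : ℕ) : ℤ) = 2 from rfl, h'] at hi
      · exact absurd (conj_eq_one_iff.1 (hi.symm.trans (zpow_zero b))) hb1
      · exact hi.symm.trans (zpow_one b)
    rw [← centralizer_inv0 A, Subgroup.mem_centralizer_singleton_iff,
      show SylowTwo.inv0 A = g⁻¹ * b * g by rw [← hg]; group]
    show g⁻¹ * s * g⁻¹⁻¹ * (g⁻¹ * b * g) = g⁻¹ * b * g * (g⁻¹ * s * g⁻¹⁻¹)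
    calc g⁻¹ * s * g⁻¹⁻¹ * (g⁻¹ * b * g) = g⁻¹ * (s * b * s⁻¹) * (s * g) := by group
      _ = _ := by rw [hsb]; group
  have hsolv : Group.IsSolvable ↥(S.map (MulAut.conj g⁻¹).toMonoidHom) :=
    Group.isSolvable_of_surjective ((MulAut.conj g⁻¹).toMonoidHom.subgroupMap_surjective S)
  obtain ⟨B, hB, hgood⟩ := covered_centralizing A hm hsolv hcent
  exact covered_of_conj A hgood g⁻¹ fun s hs => hB ⟨s, hs, rfl⟩

end Cfsg.Agent.Lib.RankOne.Ree
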