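import Cfsg.Agent.Lib.RankOne.ReeToral
import Cfsg.Agent.Lib.RankOne.ReeGen
import Cfsg.Agent.Lib.Involutions.ZassIdent
import Cfsg.Agent.Lib.Classical.SLTwo

/-!
The derived group of `²G₂(3)`.
-/

set_option autoImplicit false
set_option maxRecDepth 100000
set_option maxHeartbeats 1000000

namespace Cfsg.Agent.Lib.RankOne.Ree.Three

open Cfsg.Lie Cfsg.Agent.Lib.Chev Cfsg.Agent.Lib.Chev.Tw Cfsg.Agent.Lib.Chev.Tw.G2

variable {K : Type*} [Field K] [Fintype K] (A : Par K 0)
include A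

set_option quotPrecheck false
local notation "GG" => ↥(twistedG2 K (3 ^ 0))
local notation "U₁" => chevG2.posUnipotent K ⊓ G1 K 0
local notation "B₁" => chevG2.borelSubgroup K ⊓ G1 K 0
local notation "UG" => Subgroup.subgroupOf (chevG2.posUnipotent K ⊓ G1 K 0) (twistedG2 K (3 ^ 0))
local notation "BG" => Subgroup.subgroupOf (chevG2.borelSubgroup K ⊓ G1 K 0) (twistedG2 K (3 ^ 0))
local notation "Z2" => Multiplicative (ZMod 2)

theorem elt_cases (x : K) : x = 0 ∨ x = 1 ∨ x = -1 := by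
  by_cases hx : x = 0
  · exact Or.inl hx
  have h := FiniteField.pow_card_sub_one_eq_one x hx
  rw [A.hK] at h
  norm_num at h
  exact Or.inr h

theorem phi_eq (x : K) : A.phi x = x := by
  rcases elt_cases A x with rfl | rfl | rfl <;> simp

theorem card_K : Nat.card K = 3 := by
  rw [Nat.card_eq_fintype_card, A.hK]; norm_num

theorem card_GG : Nat.card GG = 1512 := by
  rw [card_G A]; norm_num [Qn]

theorem card_UG : Nat.card ↥UG = 27 := by
  rw [Nat.card_congr (Subgroup.subgroupOfEquivOfLe (H := U₁) (K := twistedG2 K (3 ^ 0)) inf_le_right).toEquiv]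
  exact (card_U A).trans (by norm_num)

theorem index_UG : (UG).index = 56 := by
  have h := (UG).card_mul_index
  rw [card_UG A, card_GG A] at h
  omega

theorem index_BG : (BG).index = 28 := by
  have h := (BG).card_mul_index
  rw [Nat.card_congr (Subgroup.subgroupOfEquivOfLe (H := B₁) (K := twistedG2 K (3 ^ 0)) inf_le_right).toEquiv,
    card_B A, card_GG A] at h
  norm_num at h
  omega

theorem exists_char : ∃ φ : ↥UG →* Multiplicative K,
    (∀ (z : ↥UG) (x u v : K), (z.1 : GL chevG2.Idx K) = W A x u v →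
      φ z = Multiplicative.ofAdd (u - x ^ 2)) ∧
    ∀ (g : GG) (z : ↥UG) (hz : g * z.1 * g⁻¹ ∈ UG), φ ⟨g * z.1 * g⁻¹, hz⟩ = φ z := by
  classical
  have hex : ∀ z : ↥UG, ∃ p : K × K × K,
      (z.1 : GL chevG2.Idx K) = W A p.1 p.2.1 p.2.2 := fun z => by
    obtain ⟨x, u, v, e⟩ := (pos_iff A (z.1 : GL chevG2.Idx K)).1 (Subgroup.mem_subgroupOf.1 z.2)
    exact ⟨(x, u, v), e⟩
  choose f hf using hex
  have hspec : ∀ (z : ↥UG) (x u v : K), (z.1 : GL chevG2.Idx K) = W A x u v →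
      f z = (x, u, v) := fun z x u v e => by
    obtain ⟨h1, h2, h3⟩ := W_inj A ((hf z).symm.trans e)
    exact Prod.ext h1 (Prod.ext h2 h3)
  let φ : ↥UG →* Multiplicative K := MonoidHom.mk' (fun z => Multiplicative.ofAdd ((f z).2.1 - (f z).1 ^ 2))
    (fun a b => by
      have e : ((a * b : ↥UG).1 : GL chevG2.Idx K) =
          W A (f a).1 (f a).2.1 (f a).2.2 * W A (f b).1 (f b).2.1 (f b).2.2 := by
        rw [← hf a, ← hf b]; rfl
      rw [W_mul A] at e
      rw [hspec (a * b) _ _ _ e, phi_eq A, ← ofAdd_add]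
      refine congrArg _ ?_
      show _ - ((f a).1 + (f b).1) ^ 2 = _
      have hy : (f b).1 - (f b).1 ^ 3 = 0 := by
        rcases elt_cases A (f b).1 with h | h | h <;> rw [h] <;> ring
      linear_combination (-((f a).1 * (f b).1)) * A.h3 + (f a).1 * hy)
  have hφ : ∀ (z : ↥UG) (x u v : K), (z.1 : GL chevG2.Idx K) = W A x u v →
      φ z = Multiplicative.ofAdd (u - x ^ 2) := fun z x u v e => by
    show Multiplicative.ofAdd ((f z).2.1 - (f z).1 ^ 2) = _
    rw [hspec z x u v e]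
  refine ⟨φ, hφ, fun g z hz => ?_⟩
  by_cases hz1 : z = 1
  · subst hz1
    exact congrArg φ (Subtype.ext (by simp))
  have hgB : (g : GL chevG2.Idx K) ∈ B₁ :=
    mem_B_of_conj_U A g.2 z.2 (fun e => hz1 (Subtype.ext (Subtype.ext e))) hz
  obtain ⟨v, hv, d, hd, e⟩ := (mem_B_iff A).1 hgB
  obtain ⟨t, rfl⟩ := (torT_range A).ge hd
  have hw : torT A t * (z.1 : GL chevG2.Idx K) * (torT A t)⁻¹ ∈ U₁ :=
    conj_B_U A (H_le_B A (torT_mem A t)) z.2
  have key : (⟨g * z.1 * g⁻¹, hz⟩ : ↥UG) = ⟨⟨v, hv.2⟩, hv⟩ *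
      ⟨⟨_, hw.2⟩, hw⟩ * (⟨⟨v, hv.2⟩, hv⟩ : ↥UG)⁻¹ := by
    refine Subtype.ext (Subtype.ext ?_)
    show (g : GL chevG2.Idx K) * _ * (g : GL chevG2.Idx K)⁻¹ =
      v * (torT A t * _ * (torT A t)⁻¹) * v⁻¹
    rw [e]; group
  rw [key, map_mul, map_mul, map_inv, mul_right_comm, mul_inv_cancel, one_mul]
  rw [hφ ⟨⟨_, hw.2⟩, hw⟩ _ _ _ (show torT A t * (z.1 : GL chevG2.Idx K) * (torT A t)⁻¹ = _ by
    rw [hf z]; exact conj_torT A t _ _ _), hφ z _ _ _ (hf z), phi_eq A]
  refine congrArg _ ?_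
  rcases (elt_cases A (t : K)).resolve_left t.ne_zero with ht | ht <;> rw [ht] <;> ring_nf <;> norm_num <;> ring

theorem exists_hom : ∃ τ : GG →* Multiplicative K, ∀ (z : ↥UG) (x u v : K),
    (z.1 : GL chevG2.Idx K) = W A x u v → (τ z.1 = 1 ↔ u = x ^ 2) := by
  classical
  obtain ⟨φ, hφ, hinv⟩ := exists_char A
  refine ⟨MonoidHom.transfer φ, fun z x u v e => ?_⟩
  have hkey : ∀ (n : ℕ) (g₀ : GG) (h : g₀⁻¹ * z.1 ^ n * g₀ ∈ UG),
      φ ⟨g₀⁻¹ * z.1 ^ n * g₀, h⟩ = φ z ^ n := by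
    intro n g₀ h
    rw [← map_pow]
    have h' : g₀⁻¹ * (z ^ n : ↥UG).1 * g₀⁻¹⁻¹ ∈ UG := by rw [inv_inv, SubmonoidClass.coe_pow]; exact h
    rw [← hinv g₀⁻¹ (z ^ n) h']
    exact congrArg φ (Subtype.ext (by simp [inv_inv]))
  have hval : MonoidHom.transfer φ z.1 = φ z ^ 56 := by
    have : Fintype (Quotient (MulAction.orbitRel (Subgroup.zpowers z.1) (GG ⧸ UG))) := Fintype.ofFinite _
    rw [← index_UG A, Subgroup.index_eq_sum_minimalPeriod (UG) z.1, ← Finset.prod_pow_eq_pow_sum,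
      MonoidHom.transfer_eq_prod_quotient_orbitRel_zpowers_quot]
    exact Finset.prod_congr rfl fun q _ => hkey _ _ _
  rw [hval, hφ z x u v e, ← ofAdd_nsmul, ← ofAdd_zero, Multiplicative.ofAdd.injective.eq_iff, nsmul_eq_mul]
  constructor
  · intro h; push_cast at h; linear_combination (-1 : K) * h + 19 * (u - x ^ 2) * A.h3
  · rintro rfl; rw [sub_self, mul_zero]

theorem W_mem_UG (x u v : K) : (⟨W A x u v, W_mem A x u v⟩ : GG) ∈ UG :=
  (pos_iff A _).2 ⟨x, u, v, rfl⟩

/-- The structure of the derived group. -/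
theorem derived : Nat.card ↥(commutator GG) = 504 ∧ ∃ T : Sylow 2 ↥(commutator GG),
    Nat.card ↥(T : Subgroup ↥(commutator GG)) = 8 ∧ ¬ IsCyclic ↥(T : Subgroup ↥(commutator GG)) ∧
    ¬ (T : Subgroup ↥(commutator GG)).Normal ∧
    ∀ t : ↥(commutator GG), orderOf t = 2 →
      IsMulCommutative (Subgroup.centralizer ({t} : Set ↥(commutator GG))) ∧
      ∀ c ∈ Subgroup.centralizer ({t} : Set ↥(commutator GG)), c ^ 2 = 1 := by
  classical
  have : Fact (Nat.Prime 2) := ⟨Nat.prime_two⟩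
  have : Fact (Nat.Prime 7) := ⟨by norm_num⟩
  obtain ⟨τ, hτ⟩ := exists_hom A
  set D := commutator GG
  have hDle : D ≤ τ.ker := Abelianization.commutator_subset_ker τ
  have hG := card_GG A
  set w0 : GG := ⟨W A 0 1 0, W_mem A 0 1 0⟩
  have hw0 : τ w0 ≠ 1 := fun h => by
    have h1 := (hτ ⟨w0, W_mem_UG A 0 1 0⟩ 0 1 0 rfl).1 h
    exact one_ne_zero (h1.trans (zero_pow two_ne_zero))
  have hker : Nat.card ↥τ.ker = 504 := by
    have hr : τ.range = ⊤ := by
      have : Fact (Nat.Prime (Nat.card (Multiplicative K))) := ⟨by rw [(Nat.card_congr Multiplicative.toAdd).trans (card_K A)]; exact Nat.prime_three⟩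
      exact (τ.range.eq_bot_or_eq_top_of_prime_card).resolve_left fun h => hw0 (by
        have : τ w0 ∈ τ.range := ⟨w0, rfl⟩
        rwa [h, Subgroup.mem_bot] at this)
    have h := τ.ker.card_mul_index
    rw [Subgroup.index_ker, hr, Subgroup.card_top, hG, (Nat.card_congr Multiplicative.toAdd).trans (card_K A)] at h
    omega
  have hsq : ∀ g : GG, g * g = 1 → τ g = 1 := fun g h => by
    have h1 : τ g * τ g = 1 := by rw [← map_mul, h, map_one]
    generalize τ g = a at h1 ⊢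
    have h2 : a.toAdd + a.toAdd = 0 := congrArg Multiplicative.toAdd h1
    exact Multiplicative.toAdd.injective (show a.toAdd = 0 by linear_combination a.toAdd * A.h3 - h2)
  -- the elements of three-power order
  set U0 : Subgroup GG := τ.ker ⊓ UG with hU0
  have hU0card : Nat.card ↥U0 = 9 := by
    have h : U0 = Subgroup.map (UG).subtype (τ.ker.subgroupOf UG) := by
      rw [Subgroup.subgroupOf_map_subtype]
    have h2 := (τ.ker.subgroupOf UG).card_mul_index
    have h3 : (τ.ker.subgroupOf UG).index = 3 := by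
      rw [← Subgroup.relIndex, Subgroup.relIndex]
      have hd : (τ.ker.subgroupOf UG).index ∣ 3 := by
        have h4 := Subgroup.relIndex_dvd_index_of_normal τ.ker UG
        have h5 := τ.ker.card_mul_index
        rw [hker, hG] at h5
        rwa [show τ.ker.index = 3 by omega] at h4
      refine ((Nat.dvd_prime Nat.prime_three).1 hd).resolve_left fun e => hw0 ?_
      have := Subgroup.index_eq_one.1 e
      exact (this.ge (Subgroup.mem_top (⟨w0, W_mem_UG A 0 1 0⟩ : ↥UG)) :)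
    rw [h3, card_UG A] at h2
    rw [h, Subgroup.card_map_of_injective (UG).subtype_injective]
    omega
  set th : GG := ⟨torT A (-1), (torT_mem A (-1)).2⟩
  set w1 : GG := ⟨W A 1 1 0, W_mem A 1 1 0⟩
  set c := th * w1 * th⁻¹ * w1⁻¹ with hc
  have hcD : c ∈ D := Subgroup.commutator_mem_commutator (Subgroup.mem_top th) (Subgroup.mem_top w1)
  have hcU : c ∈ UG :=
    Subgroup.mul_mem _ (show th * w1 * th⁻¹ ∈ UG from conj_B_U A (H_le_B A (torT_mem A (-1))) (W_mem_UG A 1 1 0))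
      (Subgroup.inv_mem _ (W_mem_UG A 1 1 0))
  have hcU0 : c ∈ U0 := ⟨hDle hcD, hcU⟩
  have hc3 : c ^ 3 ≠ 1 := by
    intro h
    obtain ⟨x, u, v, e⟩ := (pos_iff A _).1 hcU
    have hx : x = 0 := (W_cube A).1 (by rw [← e]; exact congrArg Subtype.val h)
    have e1 : torT A (-1) * W A 1 1 0 * (torT A (-1))⁻¹ = W A x u v * W A 1 1 0 := by
      rw [← e]
      show _ = ((th : GL chevG2.Idx K) * w1 * (th : GL chevG2.Idx K)⁻¹ * (w1 : GL chevG2.Idx K)⁻¹) * _
      rw [inv_mul_cancel_right]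
    rw [W_mul A, conj_torT A, phi_eq A] at e1
    have e3 := (W_inj A e1).1
    rw [hx] at e3
    exact neg_one_ne_one A (by push_cast at e3; norm_num at e3; linear_combination e3)
  have hco : orderOf c = 9 := by
    have hd : orderOf c ∣ 9 := by
      rw [← hU0card, ← Subgroup.orderOf_mk c hcU0]; exact orderOf_dvd_natCard _
    obtain ⟨j, hj2, hj⟩ := (Nat.dvd_prime_pow Nat.prime_three).1 (show orderOf c ∣ 3 ^ 2 from hd)
    rcases (show j = 2 ∨ j ≤ 1 by omega) with rfl | hj1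
    · exact hj
    · exact absurd (orderOf_dvd_iff_pow_eq_one.1 ((hj ▸ pow_dvd_pow 3 hj1 : orderOf c ∣ 3 ^ 1))) hc3
  have hU0D : U0 ≤ D := by
    rw [← show Subgroup.zpowers c = U0 from Subgroup.eq_of_le_of_card_ge (Subgroup.zpowers_le.2 hcU0)
      (by rw [Nat.card_zpowers, hco, hU0card])]
    exact Subgroup.zpowers_le.2 hcD
  set S3 : Set GG := {x | ∃ g, ∃ s ∈ ((U0 : Set GG) \ {1}), g * s * g⁻¹ = x}
  have hS3 : S3.ncard = 224 := by
    rw [card_conjugates ((U0 : Set GG) \ {1}) BG (fun n hn s hs => ⟨⟨?_, conj_B_U A hn hs.1.2⟩,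
      fun e => hs.2 (conj_eq_one_iff.1 e)⟩) (fun g s hs h => ?_), index_BG A,
      Set.ncard_sdiff_singleton_of_mem (one_mem U0)]
    · rw [← Nat.card_coe_set_eq, show Nat.card ↥(U0 : Set GG) = 9 from hU0card]
    · exact (MonoidHom.normal_ker τ).conj_mem s hs.1.1 n
    · exact mem_B_of_conj_U A g.2 (u := ((s : GG) : GL chevG2.Idx K)) hs.1.2
        (fun e => hs.2 (Subtype.ext e)) h.1.2
  have h27 : ∀ s ∈ U0, s ^ 9 = 1 := fun s hs => by
    rw [← hU0card]; exact pow_of_mem hs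
  -- the elements of order seven
  obtain ⟨x, hx⟩ := exists_prime_orderOf_dvd_card' (G := GG) 7 (by rw [hG]; norm_num)
  have hx1 : x ≠ 1 := fun e => by rw [e, orderOf_one] at hx; omega
  have hno3 : ∀ z : GG, z * x = x * z → ¬ 3 ∣ orderOf z := by
    intro z hz h3
    obtain ⟨k, hk⟩ := h3
    have hk0 : k ≠ 0 := fun e => by rw [e, mul_zero] at hk; exact (orderOf_pos z).ne' hk
    have hy : orderOf (z ^ k) = 3 := by
      rw [orderOf_pow_of_dvd hk0 (hk ▸ dvd_mul_left k 3), hk, Nat.mul_div_cancel _ (Nat.pos_of_ne_zero hk0)]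
    have : Fact (Nat.Prime 3) := ⟨Nat.prime_three⟩
    obtain ⟨g, hg⟩ := exists_conj_mem (T := UG) (p := 3) (by rw [index_UG A]; norm_num) (x := z ^ k) (k := 1)
      (by have := pow_orderOf_eq_one (z ^ k); rw [hy] at this; rw [pow_one]; exact this)
    have hne : g * z ^ k * g⁻¹ ≠ 1 := fun e => by
      rw [conj_eq_one_iff] at e; rw [e, orderOf_one] at hy; omega
    have hcomm : g * x * g⁻¹ * (g * z ^ k * g⁻¹) = g * z ^ k * g⁻¹ * (g * x * g⁻¹) := by
      calc g * x * g⁻¹ * (g * z ^ k * g⁻¹) = g * (x * z ^ k) * g⁻¹ := by group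
        _ = g * (z ^ k * x) * g⁻¹ := by rw [((show Commute z x from hz).pow_left k).eq]
        _ = _ := by group
    obtain ⟨-, h18⟩ := centralizer_U A (g := ((g * x * g⁻¹ : GG) : GL chevG2.Idx K))
      (u := ((g * z ^ k * g⁻¹ : GG) : GL chevG2.Idx K)) (g * x * g⁻¹).2 hg
      (fun e => hne (Subtype.ext e)) (congrArg Subtype.val hcomm)
    have h := orderOf_dvd_of_pow_eq_one (Subtype.ext h18 : (g * x * g⁻¹) ^ 18 = 1)
    rw [conj_orderOf, hx] at h
    omega
  set P := Subgroup.zpowers x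
  have hP : Nat.card ↥P = 7 := by rw [Nat.card_zpowers, hx]
  have hPidx : P.index = 216 := by
    have h := P.card_mul_index; rw [hP, hG] at h; omega
  let PS : Sylow 7 GG := (IsPGroup.of_card (n := 1) (by rw [hP, pow_one])).toSylow (by rw [hPidx]; norm_num)
  set C := Subgroup.centralizer ({x} : Set GG)
  set N := Subgroup.normalizer (P : Set GG)
  have hC3 : ¬ 3 ∣ Nat.card ↥C := fun h => by
    have : Fact (Nat.Prime 3) := ⟨Nat.prime_three⟩
    obtain ⟨z, hz⟩ := exists_prime_orderOf_dvd_card' 3 h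
    exact hno3 z (Subgroup.mem_centralizer_singleton_iff.1 z.2) (by rw [Subgroup.orderOf_coe, hz])
  have hCN : C ≤ N := by
    intro z hz
    have hz' : z * x = x * z := Subgroup.mem_centralizer_singleton_iff.1 hz
    rw [Subgroup.mem_normalizer_iff]
    intro y
    have key : ∀ j : ℤ, z * x ^ j * z⁻¹ = x ^ j := fun j => by
      rw [((show Commute z x from hz').zpow_right j).eq, mul_inv_cancel_right]
    constructor
    · rintro ⟨j, rfl⟩; exact ⟨j, (key j).symm⟩
    · rintro ⟨j, hj⟩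
      exact ⟨j, by show x ^ j = y; exact mul_left_cancel (mul_right_cancel ((key j).trans hj))⟩
  have hNC : (C.subgroupOf N).index ≤ 6 := by
    have hmem : ∀ n : ↥N, (n : GG) * x * (n : GG)⁻¹ ∈ ((P : Set GG) \ {1}) := fun n =>
      ⟨(Subgroup.mem_normalizer_iff.1 n.2 x).1 (Subgroup.mem_zpowers x), fun e => hx1 (conj_eq_one_iff.1 e)⟩
    have hS : ((P : Set GG) \ {1}).ncard = 6 := by
      rw [Set.ncard_sdiff_singleton_of_mem (one_mem P), ← Nat.card_coe_set_eq, show Nat.card ↥(P : Set GG) = 7 from hP]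
    rw [← hS, ← Nat.card_coe_set_eq, Subgroup.index]
    refine Nat.card_le_card_of_injective (fun c : ↥N ⧸ C.subgroupOf N => (⟨_, hmem c.out⟩ : ↥((P : Set GG) \ {1}))) ?_
    intro c c' h
    rw [← c.out_eq', ← c'.out_eq', QuotientGroup.eq]
    show ((c.out : GG))⁻¹ * (c'.out : GG) ∈ C
    rw [Subgroup.mem_centralizer_singleton_iff]
    have h' : (c.out : GG) * x * (c.out : GG)⁻¹ = (c'.out : GG) * x * (c'.out : GG)⁻¹ := congrArg Subtype.val h
    calc (c.out : GG)⁻¹ * c'.out * x = (c.out : GG)⁻¹ * ((c'.out : GG) * x * (c'.out : GG)⁻¹) * c'.out := by group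
      _ = _ := by rw [← h']; group
  have hCcard : Nat.card ↥C * (C.subgroupOf N).index = Nat.card ↥N := by
    rw [← (C.subgroupOf N).card_mul_index, Nat.card_congr (Subgroup.subgroupOfEquivOfLe hCN).toEquiv]
  have hn7 : N.index = 36 := by
    have hmod : N.index ≡ 1 [MOD 7] := by
      rw [show N.index = Nat.card (Sylow 7 GG) from (PS.card_eq_index_normalizer).symm]
      exact card_sylow_modEq_one 7 GG
    have hdvd : N.index ∣ 216 := hPidx ▸ Subgroup.index_dvd_of_le Subgroup.le_normalizer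
    have hN := N.card_mul_index
    rw [hG] at hN
    unfold Nat.ModEq at hmod
    have hb : N.index ∈ Nat.divisors 216 := Nat.mem_divisors.2 ⟨hdvd, by norm_num⟩
    have hC7 : Nat.card ↥C ∣ Nat.card ↥N := ⟨_, hCcard.symm⟩
    generalize N.index = i at hmod hb hN
    generalize Nat.card ↥N = n at hN hC7 hCcard
    generalize Nat.card ↥C = k at hC3 hC7 hCcard
    generalize (C.subgroupOf N).index = j at hNC hCcard
    obtain rfl | rfl | rfl : i = 1 ∨ i = 8 ∨ i = 36 := by
      have := (by decide : ∀ i ∈ Nat.divisors 216, i % 7 = 1 % 7 → i = 1 ∨ i = 8 ∨ i = 36) i hb hmod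
      exact this
    · exfalso
      interval_cases j <;> omega
    · exfalso
      interval_cases j <;> omega
    · rfl
  have hxD : x ∈ D := by
    obtain ⟨n, hn, hnC⟩ := SetLike.not_le_iff_exists.1 (show ¬ N ≤ C from fun h => by
      have hd : Nat.card ↥N ∣ Nat.card ↥C := Subgroup.card_dvd_of_le h
      have hN := N.card_mul_index
      rw [hn7, hG] at hN
      exact hC3 ((show 3 ∣ Nat.card ↥N by omega).trans hd))
    set y := n * x * n⁻¹ * x⁻¹ with hy
    have hy1 : y ≠ 1 := fun e => hnC (Subgroup.mem_centralizer_singleton_iff.2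
      (mul_inv_eq_iff_eq_mul.1 (mul_inv_eq_one.1 e)))
    have hyP : y ∈ P :=
      P.mul_mem ((Subgroup.mem_normalizer_iff.1 hn x).1 (Subgroup.mem_zpowers x)) (P.inv_mem (Subgroup.mem_zpowers x))
    have hyD : y ∈ D := Subgroup.commutator_mem_commutator (Subgroup.mem_top n) (Subgroup.mem_top x)
    have hoy : orderOf y = 7 := orderOf_eq_prime (by rw [← hP]; exact pow_of_mem hyP) hy1
    have hPy : Subgroup.zpowers y = P := Subgroup.eq_of_le_of_card_ge (Subgroup.zpowers_le.2 hyP)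
      (by rw [hP]; exact ((Nat.card_zpowers y).trans hoy).ge)
    exact (hPy ▸ Subgroup.zpowers_le.2 hyD : P ≤ D) (Subgroup.mem_zpowers x)
  set S7 : Set GG := {z | ∃ g, ∃ s ∈ ((P : Set GG) \ {1}), g * s * g⁻¹ = z}
  have hS7 : S7.ncard = 216 := by
    rw [card_conjugates ((P : Set GG) \ {1}) N (fun n hn s hs => ⟨(Subgroup.mem_normalizer_iff.1 hn s).1 hs.1,
      fun e => hs.2 (conj_eq_one_iff.1 e)⟩) (fun g s hs h => ?_), hn7,
      Set.ncard_sdiff_singleton_of_mem (one_mem P), ← Nat.card_coe_set_eq, show Nat.card ↥(P : Set GG) = 7 from hP]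
    have hso : orderOf s = 7 := orderOf_eq_prime (by rw [← hP]; exact pow_of_mem hs.1) hs.2
    have hPs : Subgroup.zpowers s = P := Subgroup.eq_of_le_of_card_ge (Subgroup.zpowers_le.2 hs.1)
      (by rw [hP]; exact ((Nat.card_zpowers s).trans hso).ge)
    have hmap : P.map (MulAut.conj g).toMonoidHom = P := by
      refine Subgroup.eq_of_le_of_card_ge ?_ (by rw [Subgroup.card_map_of_injective (MulAut.conj g).injective])
      rw [← hPs, MonoidHom.map_zpowers, Subgroup.zpowers_le, hPs]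
      exact h.1
    rw [Subgroup.mem_normalizer_iff]
    intro z
    refine ⟨fun hz => hmap.le ⟨z, hz, rfl⟩, fun hz => ?_⟩
    obtain ⟨z', hz', e⟩ := hmap.ge hz
    obtain rfl : z' = z := (MulAut.conj g).injective e
    exact hz'
  -- the derived group
  have hDn : D.Normal := inferInstance
  have hS3D : S3 ⊆ D := by
    rintro _ ⟨g, s, hs, rfl⟩; exact hDn.conj_mem s (hU0D hs.1) g
  have hS7D : S7 ⊆ D := by
    rintro _ ⟨g, s, hs, rfl⟩
    exact hDn.conj_mem s (Subgroup.zpowers_le.2 hxD hs.1) g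
  have p3 : ∀ z ∈ S3, z ^ 9 = 1 ∧ z ≠ 1 := by
    rintro _ ⟨g, s, hs, rfl⟩
    exact ⟨by rw [conj_pow, h27 s hs.1]; group, fun e => hs.2 (conj_eq_one_iff.1 e)⟩
  have p7 : ∀ z ∈ S7, z ^ 7 = 1 ∧ z ≠ 1 := by
    rintro _ ⟨g, s, hs, rfl⟩
    refine ⟨?_, fun e => hs.2 (conj_eq_one_iff.1 e)⟩
    rw [conj_pow, show s ^ 7 = 1 by rw [← hP]; exact pow_of_mem hs.1]; group
  have h37 : Disjoint S3 S7 := Set.disjoint_left.2 fun z h3 h7 => (p3 z h3).2 (by
    have := pow_gcd_eq_one.2 ⟨(p3 z h3).1, (p7 z h7).1⟩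
    simpa using this)
  have h1n : Disjoint (S3 ∪ S7) {1} := Set.disjoint_singleton_right.2 fun h =>
    h.elim (fun h => (p3 _ h).2 rfl) fun h => (p7 _ h).2 rfl
  have hcard441 : ((S3 ∪ S7) ∪ {1}).ncard = 441 := by
    rw [Set.ncard_union_eq h1n, Set.ncard_union_eq h37, hS3, hS7, Set.ncard_singleton]
  have hsub : (S3 ∪ S7) ∪ {1} ⊆ (D : Set GG) :=
    Set.union_subset (Set.union_subset hS3D hS7D) (Set.singleton_subset_iff.2 (one_mem D))
  have hD : Nat.card ↥D = 504 := by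
    have h1 := Set.ncard_le_ncard hsub
    rw [hcard441, ← Nat.card_coe_set_eq] at h1
    obtain ⟨k, hk⟩ := Subgroup.card_dvd_of_le hDle
    rw [hker] at hk
    change 441 ≤ Nat.card ↥D at h1
    rcases Nat.lt_or_ge k 2 with hk2 | hk2
    · interval_cases k <;> omega
    · exfalso; nlinarith
  have hDeq : D = τ.ker := Subgroup.eq_of_le_of_card_ge hDle (by rw [hker, hD])
  -- the Sylow 2-subgroup
  have hinv : ∀ g : GG, g * g = 1 → g ∈ D := fun g h => hDeq ▸ hsq g h
  obtain ⟨κ, hκ, -, -⟩ := SylowTwo.exists_kappa A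
  let ι : Z2 × (Z2 × Z2) →* GG := (thetaG A).comp ((MonoidHom.id _).prodMap κ)
  have hι : Function.Injective ι := (thetaG_inj A).comp (Prod.map_injective.2 ⟨fun _ _ e => e, hκ⟩)
  have h2 : ∀ a : Z2, a * a = 1 := fun a => by rcases z2_cases a with rfl | rfl <;> rfl
  have hιsq : ∀ e, ι e * ι e = 1 := fun e => by
    rw [← map_mul, show e * e = 1 from Prod.ext (h2 _) (Prod.ext (h2 _) (h2 _)), map_one]
  set i0 := SylowTwo.inv0 A
  have hi0o : orderOf i0 = 2 := SylowTwo.orderOf_inv0 A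
  have hi0sq : i0 * i0 = 1 := by have := pow_orderOf_eq_one i0; rwa [hi0o, pow_two] at this
  set T8 := ι.range
  have hT8 : Nat.card ↥T8 = 8 := by
    rw [← Nat.card_congr (MonoidHom.ofInjective hι).toEquiv]; simp
  set CG := Subgroup.centralizer ({i0} : Set GG)
  have hCG : Nat.card ↥CG = 24 := by rw [card_centralizer_inv0 A]; norm_num
  have hT8C : T8 ≤ CG ⊓ D := by
    rintro _ ⟨e, rfl⟩
    exact ⟨Subgroup.mem_centralizer_singleton_iff.2 (thetaG_comm A _), hinv _ (hιsq e)⟩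
  have hR : CG ⊓ D = T8 := by
    refine (Subgroup.eq_of_le_of_card_ge hT8C ?_).symm
    obtain ⟨a, ha⟩ := Subgroup.card_dvd_of_le (inf_le_left : CG ⊓ D ≤ CG)
    obtain ⟨b, hb⟩ := Subgroup.card_dvd_of_le hT8C
    rw [hT8] at hb
    rw [hCG, hb] at ha
    rw [hT8, hb]
    rcases (show b = 1 ∨ b = 3 by
      have : b ∣ 3 := by
        have h' : 8 * (b * a) = 8 * 3 := by rw [← mul_assoc, ← ha]
        exact ⟨a, (Nat.eq_of_mul_eq_mul_left (by norm_num) h').symm⟩
      exact (Nat.dvd_prime Nat.prime_three).1 this) with rfl | rfl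
    · exact le_rfl
    · exfalso
      have heq : CG ⊓ D = CG := Subgroup.eq_of_le_of_card_ge inf_le_left (by rw [hCG, hb])
      have hw : w0 ∈ CG ⊓ D := heq.ge (Subgroup.mem_centralizer_singleton_iff.2
        (Subtype.ext ((mem_CA A).1 (W0_mem_CA A 1)).2.symm))
      exact hw0 (hDle hw.2)
  set j0 : ↥D := ⟨i0, hinv _ hi0sq⟩
  set CD := Subgroup.centralizer ({j0} : Set ↥D)
  have hCD : CD = T8.subgroupOf D := by
    ext z
    rw [Subgroup.mem_subgroupOf, ← hR, Subgroup.mem_centralizer_singleton_iff, Subgroup.mem_inf,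
      Subgroup.mem_centralizer_singleton_iff]
    exact ⟨fun h => ⟨congrArg Subtype.val h, z.2⟩, fun h => Subtype.ext h.1⟩
  have hCDcard : Nat.card ↥CD = 8 := by
    rw [hCD, Nat.card_congr (Subgroup.subgroupOfEquivOfLe (hT8C.trans inf_le_right)).toEquiv, hT8]
  have hCDidx : CD.index = 63 := by
    have h := CD.card_mul_index; rw [hCDcard, hD] at h; omega
  have hCDsq : ∀ z ∈ CD, z ^ 2 = 1 := fun z hz => by
    rw [hCD, Subgroup.mem_subgroupOf] at hz
    obtain ⟨e, he⟩ := hz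
    exact Subtype.ext (by rw [SubmonoidClass.coe_pow, pow_two, ← he]; exact hιsq e)
  have hCDcomm : ∀ a ∈ CD, ∀ b ∈ CD, a * b = b * a := fun a ha b hb => by
    rw [hCD, Subgroup.mem_subgroupOf] at ha hb
    obtain ⟨e, he⟩ := ha
    obtain ⟨e', he'⟩ := hb
    exact Subtype.ext (by
      show (a : GG) * b = b * a
      rw [← he, ← he', ← map_mul, ← map_mul, mul_comm])
  set Cl : Set ↥D := {z | ∃ g, ∃ s ∈ ({j0} : Set ↥D), g * s * g⁻¹ = z}
  have hCl : Cl.ncard = 63 := by
    rw [card_conjugates ({j0} : Set ↥D) CD (fun n hn s hs => by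
      rw [Set.mem_singleton_iff] at hs ⊢
      rw [hs, Subgroup.mem_centralizer_singleton_iff.1 hn, mul_inv_cancel_right]) (fun g s hs h => by
      rw [Set.mem_singleton_iff] at hs h
      rw [hs] at h
      exact Subgroup.mem_centralizer_singleton_iff.2 (mul_inv_eq_iff_eq_mul.1 h)), hCDidx, Set.ncard_singleton]
  have hcover : ∀ z : ↥D, orderOf z = 2 → z ∈ Cl := by
    intro z hz
    by_contra hzC
    set I : Set GG := Subtype.val '' insert z Cl
    have hI : I.ncard = 64 := by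
      rw [Set.ncard_image_of_injective _ Subtype.val_injective, Set.ncard_insert_of_notMem hzC, hCl]
    have hI2 : ∀ y ∈ I, y ^ 2 = 1 ∧ y ≠ 1 := by
      rintro _ ⟨y, hy, rfl⟩
      have hoy : orderOf y = 2 := by
        rcases hy with rfl | ⟨g, s, rfl, rfl⟩
        · exact hz
        · rw [show g * j0 * g⁻¹ = MulAut.conj g j0 from rfl, MulEquiv.orderOf_eq, ← Subgroup.orderOf_coe]
          exact hi0o
      rw [← Subgroup.orderOf_coe] at hoy
      refine ⟨by have := pow_orderOf_eq_one (y : GG); rwa [hoy] at this, fun e => ?_⟩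
      rw [e, orderOf_one] at hoy; omega
    have hdisj : Disjoint ((S3 ∪ S7) ∪ {1}) I := Set.disjoint_left.2 fun y hy hyI => (hI2 y hyI).2 (by
      rcases hy with (h | h) | h
      · simpa using pow_gcd_eq_one.2 ⟨(p3 y h).1, (hI2 y hyI).1⟩
      · simpa using pow_gcd_eq_one.2 ⟨(p7 y h).1, (hI2 y hyI).1⟩
      · exact h)
    have := Set.ncard_le_ncard (Set.union_subset hsub (show I ⊆ (D : Set GG) by rintro _ ⟨y, -, rfl⟩; exact y.2))
    rw [Set.ncard_union_eq hdisj, hcard441, hI, ← Nat.card_coe_set_eq] at this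
    change 441 + 64 ≤ Nat.card ↥D at this
    omega
  let T : Sylow 2 ↥D := (IsPGroup.of_card (n := 3) (by rw [hCDcard]; norm_num)).toSylow (by rw [hCDidx]; norm_num)
  refine ⟨hD, T, hCDcard, fun hcyc => ?_, fun hn => ?_, fun t ht => ?_⟩
  · have : IsCyclic ↥CD := hcyc
    obtain ⟨a, ha⟩ := IsCyclic.exists_ofOrder_eq_natCard (α := ↥CD)
    rw [hCDcard] at ha
    have := orderOf_dvd_of_pow_eq_one (show a ^ 2 = 1 from Subtype.ext (hCDsq a a.2))
    rw [ha] at this
    omega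
  · have hsubT : Cl ⊆ (CD : Set ↥D) := by
      rintro _ ⟨g, s, rfl, rfl⟩
      exact hn.conj_mem j0 (Subgroup.mem_centralizer_singleton_iff.2 rfl) g
    have := Set.ncard_le_ncard hsubT
    rw [hCl, ← Nat.card_coe_set_eq] at this
    change 63 ≤ Nat.card ↥CD at this
    omega
  · obtain ⟨g, s, rfl, rfl⟩ := hcover t ht
    have hconj : ∀ c ∈ Subgroup.centralizer ({g * j0 * g⁻¹} : Set ↥D), g⁻¹ * c * g ∈ CD := by
      intro c hc
      have h : c * (g * j0 * g⁻¹) = g * j0 * g⁻¹ * c := Subgroup.mem_centralizer_singleton_iff.1 hc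
      rw [Subgroup.mem_centralizer_singleton_iff]
      calc g⁻¹ * c * g * j0 = g⁻¹ * (c * (g * j0 * g⁻¹)) * g := by group
        _ = _ := by rw [h]; group
    refine ⟨⟨⟨fun a b => Subtype.ext ?_⟩⟩, fun c hc => ?_⟩
    · show (a : ↥D) * b = b * a
      have h := hCDcomm _ (hconj a a.2) _ (hconj b b.2)
      calc (a : ↥D) * b = g * ((g⁻¹ * a * g) * (g⁻¹ * b * g)) * g⁻¹ := by group
        _ = _ := by rw [h]; group
    · have h := hCDsq _ (hconj c hc)
      rw [show (g⁻¹ * c * g) ^ 2 = g⁻¹ * c ^ 2 * g by rw [pow_two, pow_two]; group] at h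
      calc c ^ 2 = g * (g⁻¹ * c ^ 2 * g) * g⁻¹ := by group
        _ = 1 := by rw [h]; group

theorem derived_iso {L : Type*} [Field L] [Fintype L] (hL : Fintype.card L = 8) :
    Nat.card ↥(commutator GG) = 504 ∧
      Nonempty (↥(commutator GG) ≃* Matrix.ProjectiveSpecialLinearGroup (Fin 2) L) := by
  obtain ⟨hD, T, hT, hnc, hnn, hC⟩ := derived A
  obtain ⟨f, hf⟩ := (⟨T, hnc, hnn, hC⟩ : Cfsg.Agent.Lib.Involutions.ElemCentralizers ↥(commutator GG)).exists_frame
  obtain ⟨e⟩ := f.nonempty_iso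
  have hK : Fintype.card (Cfsg.Agent.Lib.Involutions.ZassFrame.K f) = Fintype.card L := by
    rw [f.card_K, hL, hf]; exact hT
  exact ⟨hD, ⟨e.trans (Cfsg.Agent.Lib.Classical.pslCongrOfCardEq hK)⟩⟩

end Cfsg.Agent.Lib.RankOne.Ree.Three
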