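import Cfsg.Agent.Lib.RankOne.ReeOrders

/-!
Conjugacy, centralisers and numbers of elements of given order in the small Ree group.
-/

set_option autoImplicit false
set_option maxRecDepth 100000

namespace Cfsg.Agent.Lib.RankOne.Ree

open Cfsg.Lie Cfsg.Agent.Lib.Chev Cfsg.Agent.Lib.Chev.Tw Cfsg.Agent.Lib.Chev.Tw.G2
open Cfsg.Agent.Lib.RankOne.Ree.SylowTwo (inv0 orderOf_inv0 involution_conj)

section general

variable {G : Type*} [Group G] [Finite G]

theorem conj_orderOf (g x : G) : orderOf (g * x * g⁻¹) = orderOf x := (MulAut.conj g).orderOf_eq x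

theorem pow_of_mem {T : Subgroup G} {s : G} (hs : s ∈ T) : s ^ Nat.card ↥T = 1 :=
  congrArg Subtype.val (pow_card_eq_one' (x := (⟨s, hs⟩ : ↥T)))

/-- Centralisers of the subgroups of a cyclic group of odd order inside a TI subgroup. -/
theorem centralizer_of_TI {T : Subgroup G} (hab : ∀ x ∈ T, ∀ y ∈ T, x * y = y * x)
    (hC : ∀ s ∈ T, s * s ≠ 1 → Subgroup.centralizer {s} = T) {H : Subgroup G} {h g : G}
    (hH : Subgroup.zpowers h = H) (hodd : orderOf h % 2 = 1) (hg : g * h * g⁻¹ ∈ T)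
    {A : Subgroup G} (hA : A ≤ H) (hne : A ≠ ⊥) :
    Subgroup.centralizer (A : Set G) = T.map (MulAut.conj g⁻¹).toMonoidHom := by
  obtain ⟨a, ha, ha1⟩ := (Subgroup.bot_or_exists_ne_one A).resolve_left hne
  have hT : ∀ z ∈ H, g * z * g⁻¹ ∈ T := by
    intro z hz
    rw [← hH] at hz
    obtain ⟨j, rfl⟩ := Subgroup.mem_zpowers_iff.1 hz
    rw [← conj_zpow]
    exact Subgroup.zpow_mem _ hg j
  have ha2 : a * a ≠ 1 := by
    intro e
    have hd : orderOf a ∣ orderOf h := by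
      obtain ⟨j, hj⟩ := Subgroup.mem_zpowers_iff.1 (hH.ge (hA ha))
      rw [← Nat.card_zpowers h, ← hj, ← Subgroup.orderOf_mk _ (Subgroup.zpow_mem_zpowers h j)]
      exact orderOf_dvd_natCard _
    exact ha1 (eq_one_of_odd hodd (orderOf_dvd_iff_pow_eq_one.1 hd) e)
  refine le_antisymm (fun z hz => ?_) ?_
  · refine ⟨g * z * g⁻¹, ?_, by simp [mul_assoc]⟩
    rw [← hC _ (hT a (hA ha)) (fun e => ha2 (conj_eq_one_iff.1 (show g * (a * a) * g⁻¹ = 1 by rw [← e]; group)))]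
    rw [SetLike.mem_coe, Subgroup.mem_centralizer_singleton_iff]
    have := Subgroup.mem_centralizer_iff.1 hz a ha
    calc g * z * g⁻¹ * (g * a * g⁻¹) = g * (z * a) * g⁻¹ := by group
      _ = _ := by rw [← this]; group
  · rintro _ ⟨z, hz, rfl⟩
    rw [Subgroup.mem_centralizer_iff]
    intro b hb
    have hbz := hab _ (hT b (hA hb)) z hz
    show b * (g⁻¹ * z * g⁻¹⁻¹) = g⁻¹ * z * g⁻¹⁻¹ * b
    calc b * (g⁻¹ * z * g⁻¹⁻¹) = g⁻¹ * (g * b * g⁻¹ * z) * g := by group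
      _ = _ := by rw [hbz]; group

/-- Conjugacy of cyclic groups lying in conjugates of one cyclic group. -/
theorem zpowers_conj {C : Subgroup G} [IsCyclic ↥C] {a b g h : G} (hg : g * a * g⁻¹ ∈ C) (hh : h * b * h⁻¹ ∈ C)
    (ho : orderOf a = orderOf b) :
    Subgroup.zpowers b = (Subgroup.zpowers a).map (MulAut.conj (h⁻¹ * g)).toMonoidHom := by
  rw [MonoidHom.map_zpowers]
  show Subgroup.zpowers b = Subgroup.zpowers (h⁻¹ * g * a * (h⁻¹ * g)⁻¹)
  refine Subgroup.eq_of_le_of_card_ge ?_ (le_of_eq ?_)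
  · rw [Subgroup.zpowers_le]
    have hm : h * b * h⁻¹ ∈ Subgroup.zpowers (g * a * g⁻¹) := by
      refine mem_of_pow_card (A := C) (Subgroup.zpowers_le.2 hg) hh ?_
      rw [Nat.card_zpowers, conj_orderOf, ho, conj_pow, pow_orderOf_eq_one]
      group
    obtain ⟨j, hj⟩ := Subgroup.mem_zpowers_iff.1 hm
    refine Subgroup.mem_zpowers_iff.2 ⟨j, ?_⟩
    rw [conj_zpow] at hj ⊢
    calc h⁻¹ * g * a ^ j * (h⁻¹ * g)⁻¹ = h⁻¹ * (g * a ^ j * g⁻¹) * h := by group
      _ = b := by rw [hj]; group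
  · rw [Nat.card_zpowers, Nat.card_zpowers, conj_orderOf, ho]

/-- The number of elements of a given order in a cyclic subgroup. -/
theorem ncard_orderOf_cyclic {C : Subgroup G} [IsCyclic ↥C] {i : ℕ} (hi : i ∣ Nat.card ↥C) :
    {s : G | s ∈ C ∧ orderOf s = i}.ncard = Nat.totient i := by
  classical
  have := Fintype.ofFinite ↥C
  rw [← IsCyclic.card_orderOf_eq_totient (α := ↥C) (d := i) (by rwa [← Nat.card_eq_fintype_card]),
    ← Fintype.card_subtype, ← Nat.card_eq_fintype_card, ← Nat.card_coe_set_eq]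
  exact Nat.card_congr ⟨fun s => ⟨⟨s.1, s.2.1⟩, by rw [← Subgroup.orderOf_coe]; exact s.2.2⟩,
    fun s => ⟨s.1.1, s.1.2, by rw [Subgroup.orderOf_coe]; exact s.2⟩, fun _ => rfl, fun _ => rfl⟩

/-- Elements of a given order whose class meets a TI subgroup. -/
theorem card_order_TI {T : Subgroup G} {i : ℕ} (hC : ∀ s ∈ T, orderOf s = i → Subgroup.centralizer {s} = T)
    (hconj : ∀ x : G, orderOf x = i → ∃ g, g * x * g⁻¹ ∈ T) :
    Nat.card {x : G // orderOf x = i} * Nat.card ↥(Subgroup.normalizer (T : Set G)) =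
      Nat.card G * {s : G | s ∈ T ∧ orderOf s = i}.ncard := by
  have hset : {x : G | orderOf x = i} = {x : G | ∃ g, ∃ s ∈ {s : G | s ∈ T ∧ orderOf s = i}, g * s * g⁻¹ = x} := by
    ext x
    constructor
    · intro hx
      obtain ⟨g, hg⟩ := hconj x hx
      exact ⟨g⁻¹, g * x * g⁻¹, ⟨hg, by rw [conj_orderOf]; exact hx⟩, by group⟩
    · rintro ⟨g, s, ⟨-, hs⟩, rfl⟩
      show orderOf (g * s * g⁻¹) = i
      rw [conj_orderOf, hs]
  have hN : ∀ n ∈ Subgroup.normalizer (T : Set G), ∀ s ∈ {s : G | s ∈ T ∧ orderOf s = i},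
      n * s * n⁻¹ ∈ {s : G | s ∈ T ∧ orderOf s = i} := by
    rintro n hn s ⟨h1, h2⟩
    exact ⟨(Subgroup.mem_normalizer_iff.1 hn s).1 h1, by rw [conj_orderOf, h2]⟩
  rw [show Nat.card {x : G // orderOf x = i} = {x : G | orderOf x = i}.ncard from Nat.card_coe_set_eq _, hset,
    card_conjugates _ (Subgroup.normalizer (T : Set G)) hN
      (fun g s hs h => mem_normalizer_of_centralizer (hC s hs.1 hs.2) (hC _ h.1 h.2)),
    mul_right_comm, mul_comm _ (Nat.card _), Subgroup.card_mul_index]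

end general

variable {K : Type*} [Field K] [Fintype K] {m : ℕ} (A : Par K m)
include A

set_option quotPrecheck false
local notation "qq" => 3 ^ (2 * m + 1)
local notation "GG" => ↥(twistedG2 K (3 ^ m))
local notation "U₁" => chevG2.posUnipotent K ⊓ G1 K m
local notation "B₁" => chevG2.borelSubgroup K ⊓ G1 K m
local notation "PSL" => Matrix.ProjectiveSpecialLinearGroup (Fin 2) K
local notation "Z2" => Multiplicative (ZMod 2)

theorem sq_ne_of_order {x : GG} (h : 2 < orderOf x) : x * x ≠ 1 := fun e => by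
  have := Nat.le_of_dvd (by norm_num) (orderOf_dvd_of_pow_eq_one (show x ^ 2 = 1 by rw [pow_two, e]))
  omega

theorem exists_conj_TH (hm : 1 ≤ m) {x : GG} (h2 : 2 < orderOf x) (hd : orderOf x ∣ qq - 1) :
    ∃ g, g * x * g⁻¹ ∈ TH A := by
  obtain ⟨g, s, hs, e⟩ := (set_H A hm).le
    (show x ∈ {x : GG | x ^ (qq - 1) = 1 ∧ x * x ≠ 1} from ⟨orderOf_dvd_iff_pow_eq_one.1 hd, sq_ne_of_order A h2⟩)
  exact ⟨g⁻¹, by rw [← e]; group; exact hs.1⟩

theorem exists_conj_T2 (hm : 1 ≤ m) {x : GG} (h2 : 2 < orderOf x) (hd : orderOf x ∣ qq + 1) :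
    ∃ g, g * x * g⁻¹ ∈ T2 A := by
  obtain ⟨g, s, hs, e⟩ := (set_T2 A hm).le
    (show x ∈ {x : GG | x ^ (qq + 1) = 1 ∧ x * x ≠ 1} from ⟨orderOf_dvd_iff_pow_eq_one.1 hd, sq_ne_of_order A h2⟩)
  exact ⟨g⁻¹, by rw [← e]; group; exact hs.1⟩

theorem TH_comm : ∀ x ∈ TH A, ∀ y ∈ TH A, x * y = y * x := by
  rintro _ ⟨s, rfl⟩ _ ⟨t, rfl⟩
  rw [← map_mul, ← map_mul, mul_comm]

theorem TH_cent : ∀ s ∈ TH A, s * s ≠ 1 → Subgroup.centralizer {s} = TH A := by
  rintro _ ⟨t, rfl⟩ h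
  exact centralizer_torG A fun e => h (by rw [← map_mul, e, map_one])

/-- The cyclic part of the torus of order `q + 1`. -/
noncomputable def P2 : Subgroup GG := (RotP A).map ((thetaG A).comp (MonoidHom.inr Z2 PSL))

theorem P2_isCyclic : IsCyclic ↥(P2 A) := by
  have := RotP_isCyclic A
  exact isCyclic_of_surjective _ ((MonoidHom.comp (thetaG A) (MonoidHom.inr Z2 PSL)).subgroupMap_surjective (RotP A))

theorem P2_le : P2 A ≤ T2 A := by
  rintro _ ⟨r, hr, rfl⟩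
  exact (mem_T2 A).2 ⟨1, r, hr, rfl⟩

theorem card_P2 : Nat.card ↥(P2 A) = (qq + 1) / 2 := by
  rw [P2, Subgroup.card_map_of_injective (fun x y h => congrArg Prod.snd (thetaG_inj A h : ((1 : Z2), x) = (1, y)))]
  have := card_RotP A
  rw [A.hK] at this
  omega

theorem mem_P2_of_odd {x : GG} (hx : x ∈ T2 A) (hodd : orderOf x % 2 = 1) : x ∈ P2 A := by
  obtain ⟨e, r, hr, rfl⟩ := (mem_T2 A).1 hx
  have he : e ^ orderOf (thetaG A (e, r)) = 1 := by
    have h := pow_orderOf_eq_one (thetaG A (e, r))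
    generalize orderOf (thetaG A (e, r)) = k at h ⊢
    rw [← map_pow, ← map_one (thetaG A)] at h
    exact congrArg Prod.fst (thetaG_inj A h)
  have : e = 1 := eq_one_of_odd hodd he ((by decide : ∀ a : Z2, a * a = 1) e)
  exact ⟨r, hr, by rw [this]; rfl⟩

theorem T2_no_four (hm : 1 ≤ m) {x : GG} (hx : x ∈ T2 A) : orderOf x ≠ 4 := by
  intro h
  obtain ⟨e, r, hr, rfl⟩ := (mem_T2 A).1 hx
  obtain ⟨hq, hq8, hq3⟩ := q_facts hm
  have hR := card_RotP A
  rw [A.hK] at hR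
  have hd : orderOf r ∣ Nat.card ↥(RotP A) := by
    rw [← Subgroup.orderOf_mk r hr]; exact orderOf_dvd_natCard _
  rw [orderOf_injective _ (thetaG_inj A), Prod.orderOf_mk] at h
  have he2 : orderOf e ∣ 2 := orderOf_dvd_of_pow_eq_one (by rw [pow_two]; exact (by decide : ∀ a : Z2, a * a = 1) e)
  have h4 : orderOf r ∣ 4 := h ▸ Nat.dvd_lcm_right _ _
  have hr2 : orderOf r ∣ 2 := by
    have := Nat.dvd_gcd h4 hd
    refine this.trans ?_
    rw [show (4 : ℕ) = 2 * 2 from rfl, show Nat.card ↥(RotP A) = 2 * ((qq + 1) / 4) by omega, Nat.gcd_mul_left]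
    refine mul_dvd_mul_left 2 (b := Nat.gcd 2 ((qq + 1) / 4)) (c := 1) ?_ |>.trans (by norm_num)
    rw [Nat.Coprime.gcd_eq_one ((Nat.prime_two.coprime_iff_not_dvd).2 (by omega))]
  have := Nat.le_of_dvd (by norm_num) (Nat.lcm_dvd he2 hr2)
  omega

theorem singer_cases (hm : 1 ≤ m) : ∃ y y' : GG, y ^ Qn m = 1 ∧ y ≠ 1 ∧ y' ^ Qn m = 1 ∧ y' ≠ 1 ∧
    Nat.card ↥(Subgroup.centralizer {y}) = qq - 3 ^ (m + 1) + 1 ∧
    Nat.card ↥(Subgroup.normalizer (Subgroup.centralizer {y} : Set GG)) = 6 * (qq - 3 ^ (m + 1) + 1) ∧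
    Nat.card ↥(Subgroup.centralizer {y'}) = qq + 3 ^ (m + 1) + 1 ∧
    Nat.card ↥(Subgroup.normalizer (Subgroup.centralizer {y'} : Set GG)) = 6 * (qq + 3 ^ (m + 1) + 1) ∧
    (∀ x : GG, orderOf x ∣ qq - 3 ^ (m + 1) + 1 → ∃ g, g * x * g⁻¹ ∈ Subgroup.centralizer {y}) ∧
    (∀ x : GG, orderOf x ∣ qq + 3 ^ (m + 1) + 1 → ∃ g, g * x * g⁻¹ ∈ Subgroup.centralizer {y'}) ∧
    (qq - 3 ^ (m + 1) + 1) * (qq + 3 ^ (m + 1) + 1) = Qn m := by
  obtain ⟨y, y', hy, hy1, hy', hy1', hk, hn, hk', hn', hX⟩ := two_tori A hm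
  have hr : 3 ^ (m + 1) ≤ qq := Nat.pow_le_pow_right (by norm_num) (by omega)
  have hprod : (qq - 3 ^ (m + 1) + 1) * (qq + 3 ^ (m + 1) + 1) = Qn m := by
    have e : (3 ^ (m + 1)) ^ 2 = 3 * qq := by ring
    have h1 : 1 ≤ qq := Nat.one_le_pow _ _ (by norm_num)
    unfold Qn
    generalize qq = q at hr e h1 ⊢
    generalize 3 ^ (m + 1) = r at hr e ⊢
    zify [hr, h1] at e ⊢
    linear_combination -e
  have hco : Nat.Coprime (qq - 3 ^ (m + 1) + 1) (qq + 3 ^ (m + 1) + 1) := by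
    refine Nat.coprime_of_dvd fun p hp h h' => ?_
    obtain ⟨hp3, hpq, -, -⟩ := prime_dvd_Qn hp (hprod ▸ dvd_mul_of_dvd_left h _)
    have h2 := Nat.dvd_sub h' h
    rw [show qq + 3 ^ (m + 1) + 1 - (qq - 3 ^ (m + 1) + 1) = 2 * 3 ^ (m + 1) by omega] at h2
    rcases hp.dvd_mul.1 h2 with d | d
    · have := Nat.le_of_dvd (by norm_num) d; omega
    · have := Nat.le_of_dvd (by norm_num) (hp.dvd_of_dvd_pow d); omega
  have key : ∀ x : GG, x ≠ 1 → x ^ Qn m = 1 →
      (∃ g, g * x * g⁻¹ ∈ Subgroup.centralizer {y}) ∧ orderOf x ∣ qq - 3 ^ (m + 1) + 1 ∨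
      (∃ g, g * x * g⁻¹ ∈ Subgroup.centralizer {y'}) ∧ orderOf x ∣ qq + 3 ^ (m + 1) + 1 := by
    intro x hx hxQ
    have hcs : ∀ y : GG, x ∈ conjSet A y → (∃ g, g * x * g⁻¹ ∈ Subgroup.centralizer {y}) ∧
        orderOf x ∣ Nat.card ↥(Subgroup.centralizer {y}) := by
      rintro y ⟨g, s, ⟨hs, -⟩, rfl⟩
      refine ⟨⟨g⁻¹, by group; exact hs⟩, ?_⟩
      rw [conj_orderOf, ← Subgroup.orderOf_mk s hs]
      exact orderOf_dvd_natCard _
    rcases hX.le (show x ∈ {x : GG | x ^ Qn m = 1 ∧ x ≠ 1} from ⟨hxQ, hx⟩) with h | h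
    · exact Or.inl (hk ▸ hcs y h)
    · exact Or.inr (hk' ▸ hcs y' h)
  refine ⟨y, y', hy, hy1, hy', hy1', hk, hn, hk', hn', fun x hx => ?_, fun x hx => ?_, hprod⟩
  · by_cases h1 : x = 1
    · exact ⟨1, by rw [h1]; simp⟩
    rcases key x h1 (orderOf_dvd_iff_pow_eq_one.1 (hprod ▸ hx.mul_right _)) with h | h
    · exact h.1
    · exact absurd (orderOf_eq_one_iff.1 (Nat.eq_one_of_dvd_coprimes hco hx h.2)) h1
  · by_cases h1 : x = 1
    · exact ⟨1, by rw [h1]; simp⟩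
    rcases key x h1 (orderOf_dvd_iff_pow_eq_one.1 (hprod ▸ hx.mul_left _)) with h | h
    · exact absurd (orderOf_eq_one_iff.1 (Nat.eq_one_of_dvd_coprimes hco h.2 hx)) h1
    · exact h.1

theorem toral_centralizers (hm : 1 ≤ m) (H : Subgroup GG) (hH : IsCyclic H) :
    (Nat.card H = (qq - 1) / 2 →
      IsCyclic ↥(Subgroup.centralizer (H : Set GG)) ∧
        Nat.card ↥(Subgroup.centralizer (H : Set GG)) = qq - 1 ∧
        ∀ B : Subgroup GG, B ≤ H → B ≠ ⊥ →
          Subgroup.centralizer (B : Set GG) = Subgroup.centralizer (H : Set GG)) ∧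
    (Nat.card H = (qq + 1) / 4 →
      IsMulCommutative ↥(Subgroup.centralizer (H : Set GG)) ∧
        Nat.card ↥(Subgroup.centralizer (H : Set GG)) = qq + 1 ∧
        (∀ x ∈ Subgroup.centralizer (H : Set GG), orderOf x ≠ 4) ∧
        ∀ B : Subgroup GG, B ≤ H → B ≠ ⊥ →
          Subgroup.centralizer (B : Set GG) = Subgroup.centralizer (H : Set GG)) := by
  obtain ⟨hq, hq8, hq3⟩ := q_facts hm
  obtain ⟨h, hh⟩ := H.isCyclic_iff_exists_zpowers_eq_top.1 hH
  have ho : orderOf h = Nat.card ↥H := by rw [← hh, Nat.card_zpowers]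
  constructor <;> intro hk <;> rw [hk] at ho
  · have hne : H ≠ ⊥ := fun e => by rw [e, Subgroup.card_bot] at hk; omega
    obtain ⟨g, hg⟩ := exists_conj_TH A hm (x := h) (by omega) (ho ▸ ⟨2, by omega⟩)
    have key := fun {B : Subgroup GG} => centralizer_of_TI (A := B) (TH_comm A) (TH_cent A) hh (by omega) hg
    rw [key le_rfl hne]
    refine ⟨?_, ?_, fun B hB hB1 => key hB hB1⟩
    · have : IsCyclic ↥(TH A) := isCyclic_of_surjective _ (torG A).rangeRestrict_surjective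
      exact isCyclic_of_surjective _ ((MulAut.conj g⁻¹).toMonoidHom.subgroupMap_surjective (TH A))
    · rw [Subgroup.card_map_of_injective (MulAut.conj g⁻¹).injective, card_TH A]
  · have hne : H ≠ ⊥ := fun e => by rw [e, Subgroup.card_bot] at hk; omega
    obtain ⟨g, hg⟩ := exists_conj_T2 A hm (x := h) (by omega) (ho ▸ ⟨4, by omega⟩)
    have key := fun {B : Subgroup GG} => centralizer_of_TI (A := B) (fun x hx y hy => comm_T2 A hx hy)
      (fun s hs hs2 => centralizer_T2 A hm hs hs2) hh (by omega) hg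
    rw [key le_rfl hne]
    refine ⟨⟨⟨?_⟩⟩, ?_, ?_, fun B hB hB1 => key hB hB1⟩
    · rintro ⟨_, x, hx, rfl⟩ ⟨_, y, hy, rfl⟩
      refine Subtype.ext ?_
      show (MulAut.conj g⁻¹) x * (MulAut.conj g⁻¹) y = (MulAut.conj g⁻¹) y * (MulAut.conj g⁻¹) x
      rw [← map_mul, ← map_mul, comm_T2 A hx hy]
    · rw [Subgroup.card_map_of_injective (MulAut.conj g⁻¹).injective, card_T2 A]
    · rintro _ ⟨x, hx, rfl⟩
      show orderOf ((MulAut.conj g⁻¹) x) ≠ 4
      rw [MulEquiv.orderOf_eq]; exact T2_no_four A hm hx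

theorem cyclic_conjugate (hm : 1 ≤ m) (d : ℕ)
    (hd : d ∣ (qq - 1) / 2 ∨ d ∣ (qq + 1) / 4 ∨ d ∣ qq - 3 ^ (m + 1) + 1 ∨ d ∣ qq + 3 ^ (m + 1) + 1)
    (H H' : Subgroup GG) (hH : IsCyclic H) (hH' : IsCyclic H') (hHd : Nat.card H = d) (hHd' : Nat.card H' = d) :
    ∃ g : GG, H' = H.map (MulAut.conj g).toMonoidHom := by
  obtain ⟨hq, hq8, hq3⟩ := q_facts hm
  obtain ⟨a, rfl⟩ := H.isCyclic_iff_exists_zpowers_eq_top.1 hH
  obtain ⟨b, rfl⟩ := H'.isCyclic_iff_exists_zpowers_eq_top.1 hH'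
  rw [Nat.card_zpowers] at hHd hHd'
  have ho : orderOf a = orderOf b := hHd.trans hHd'.symm
  rcases Nat.lt_or_ge d 3 with hd3 | hd3
  · have hd1 : d = 1 := by
      obtain ⟨y, y', -, -, -, -, -, -, -, -, -, -, hprod⟩ := singer_cases A hm
      have hpos : 0 < d := hHd ▸ orderOf_pos a
      by_contra hne
      obtain rfl : d = 2 := by omega
      rcases hd with h | h | h | h
      · omega
      · omega
      · have := Nat.dvd_gcd (hprod ▸ h.mul_right _) (dvd_refl 2)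
        rw [(qn_coprime m).2.2.2.gcd_eq_one] at this; omega
      · have := Nat.dvd_gcd (hprod ▸ h.mul_left _) (dvd_refl 2)
        rw [(qn_coprime m).2.2.2.gcd_eq_one] at this; omega
    have ha : a = 1 := orderOf_eq_one_iff.1 (hHd.trans hd1)
    have hb : b = 1 := orderOf_eq_one_iff.1 (hHd'.trans hd1)
    exact ⟨1, by rw [ha, hb, MonoidHom.map_zpowers, map_one]⟩
  rcases hd with h | h | h | h
  · have : IsCyclic ↥(TH A) := isCyclic_of_surjective _ (torG A).rangeRestrict_surjective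
    have h' : d ∣ qq - 1 := h.trans ⟨2, by omega⟩
    obtain ⟨g, hg⟩ := exists_conj_TH A hm (x := a) (by omega) (hHd.symm ▸ h')
    obtain ⟨g', hg'⟩ := exists_conj_TH A hm (x := b) (by omega) (hHd'.symm ▸ h')
    exact ⟨_, zpowers_conj hg hg' ho⟩
  · have := P2_isCyclic A
    have h' : d ∣ qq + 1 := h.trans ⟨4, by omega⟩
    have hodd : d % 2 = 1 := by
      by_contra hne
      have : 2 ∣ (qq + 1) / 4 := (Nat.dvd_of_mod_eq_zero (by omega)).trans h
      omega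
    obtain ⟨g, hg⟩ := exists_conj_T2 A hm (x := a) (by omega) (hHd.symm ▸ h')
    obtain ⟨g', hg'⟩ := exists_conj_T2 A hm (x := b) (by omega) (hHd'.symm ▸ h')
    exact ⟨_, zpowers_conj (mem_P2_of_odd A hg (by rw [conj_orderOf, hHd]; exact hodd))
      (mem_P2_of_odd A hg' (by rw [conj_orderOf, hHd']; exact hodd)) ho⟩
  all_goals obtain ⟨y, y', hy, hy1, hy', hy1', -, -, -, -, hc, hc', -⟩ := singer_cases A hm
  · have := (singer A hm hy1 hy).1
    obtain ⟨g, hg⟩ := hc a (hHd.symm ▸ h)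
    obtain ⟨g', hg'⟩ := hc b (hHd'.symm ▸ h)
    exact ⟨_, zpowers_conj hg hg' ho⟩
  · have := (singer A hm hy1' hy').1
    obtain ⟨g, hg⟩ := hc' a (hHd.symm ▸ h)
    obtain ⟨g', hg'⟩ := hc' b (hHd'.symm ▸ h)
    exact ⟨_, zpowers_conj hg hg' ho⟩

theorem mem_U_of_B {z : GG} (hz : (z : GL chevG2.Idx K) ∈ B₁) (h9 : z ^ 9 = 1) :
    (z : GL chevG2.Idx K) ∈ U₁ := by
  obtain ⟨v, hv, d, hd, e⟩ := (mem_B_iff A).1 hz
  obtain ⟨t, rfl⟩ := (torT_range A).ge hd
  obtain ⟨v', hv', e9⟩ := pow_B A hv t 9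
  rw [← e] at e9
  have e4 : v' * torT A (t ^ 9) = 1 * torT A 1 := by
    rw [← e9, map_one, mul_one]; exact congrArg Subtype.val h9
  have ht := torT_injective A (pos_diag_eq A hv'.1 (one_mem _) (torT_mem A _).1 (torT_mem A _).1 e4).2
  have ht1 : orderOf t = 1 := by
    classical
    have h2 : orderOf t ∣ qq - 1 := by
      rw [← A.hK, ← Fintype.card_units]; exact orderOf_dvd_card
    obtain ⟨j, -, hj⟩ := (Nat.dvd_prime_pow Nat.prime_three).1 (show orderOf t ∣ 3 ^ 2 from orderOf_dvd_of_pow_eq_one ht)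
    rcases Nat.eq_zero_or_pos j with rfl | hj0
    · simpa using hj
    · exfalso
      have h3 : 3 ∣ qq - 1 := (dvd_pow_self 3 hj0.ne').trans (hj ▸ h2)
      have : 3 ∣ qq := dvd_pow_self 3 (Nat.succ_ne_zero (2 * m))
      have : 1 ≤ qq := Nat.one_le_pow _ _ (by norm_num)
      omega
  rw [orderOf_eq_one_iff.1 ht1, map_one, mul_one] at e
  rw [e]; exact hv

/-- The number of elements of order three or nine. -/
theorem card_three_power (hm : 1 ≤ m) {i : ℕ} (hi : i ∣ 9) (hi1 : i ≠ 1) (n : ℕ)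
    (hn : ((fun x : GG => (x : GL chevG2.Idx K)) '' {s : GG | (s : GL chevG2.Idx K) ∈ U₁ ∧ orderOf s = i}).ncard = n) :
    Nat.card {x : GG // orderOf x = i} = (qq ^ 3 + 1) * n := by
  classical
  set BG : Subgroup GG := (B₁).subgroupOf (twistedG2 K (3 ^ m)) with hBG
  set S : Set GG := {s : GG | (s : GL chevG2.Idx K) ∈ U₁ ∧ orderOf s = i}
  have h3i : 3 ∣ i := by
    obtain ⟨j, -, hj⟩ := (Nat.dvd_prime_pow Nat.prime_three).1 (show i ∣ 3 ^ 2 from hi)
    rcases Nat.eq_zero_or_pos j with rfl | hj0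
    · exact absurd (by simpa using hj) hi1
    · exact hj ▸ dvd_pow_self 3 hj0.ne'
  have hset : {x : GG | orderOf x = i} = {x : GG | ∃ g, ∃ s ∈ S, g * s * g⁻¹ = x} := by
    ext x
    constructor
    · intro hx
      obtain ⟨g, hg, -⟩ := mem_U_or A hm (x := x) (hx ▸ h3i)
      have hx9 : x ^ 9 = 1 := orderOf_dvd_iff_pow_eq_one.1 (by rw [show orderOf x = i from hx]; exact hi)
      have h9 : (g * x * g⁻¹) ^ 9 = 1 := by
        rw [conj_pow, hx9]; group
      exact ⟨g⁻¹, g * x * g⁻¹, ⟨mem_U_of_B A hg h9, by rw [conj_orderOf]; exact hx⟩, by group⟩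
    · rintro ⟨g, s, hs, rfl⟩
      show orderOf (g * s * g⁻¹) = i
      rw [conj_orderOf]; exact hs.2
  have hN : ∀ n ∈ BG, ∀ s ∈ S, n * s * n⁻¹ ∈ S := fun n hn s hs =>
    ⟨conj_B_U A hn hs.1, by rw [conj_orderOf]; exact hs.2⟩
  have hidx : BG.index = qq ^ 3 + 1 := by
    have h := BG.card_mul_index
    rw [hBG, Nat.card_congr (Subgroup.subgroupOfEquivOfLe (H := B₁) (K := twistedG2 K (3 ^ m)) inf_le_right).toEquiv,
      card_B A, card_group A] at h
    have := (q_facts hm).1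
    exact Nat.eq_of_mul_eq_mul_left (Nat.mul_pos (by positivity) (by omega)) h
  rw [show Nat.card {x : GG // orderOf x = i} = {x : GG | orderOf x = i}.ncard from Nat.card_coe_set_eq _, hset,
    card_conjugates S BG hN (fun g s hs h => mem_B_of_conj_U A g.2 hs.1 (fun e => hi1 (by
      rw [← hs.2, show s = 1 from Subtype.ext e, orderOf_one])) h.1), hidx, ← hn,
    Set.ncard_image_of_injective S Subtype.val_injective]

theorem ncard_cube : {v : GL chevG2.Idx K | v ∈ U₁ ∧ v ^ 3 = 1}.ncard = qq ^ 2 := by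
  have h : {v : GL chevG2.Idx K | v ∈ U₁ ∧ v ^ 3 = 1} = Set.range (fun p : K × K => W A 0 p.1 p.2) := by
    ext v
    constructor
    · rintro ⟨hv, h3⟩
      obtain ⟨x, u, w, rfl⟩ := (pos_iff A v).1 hv
      obtain rfl := (W_cube A).1 h3
      exact ⟨(u, w), rfl⟩
    · rintro ⟨p, rfl⟩
      exact ⟨(pos_iff A _).2 ⟨0, p.1, p.2, rfl⟩, (W_cube A).2 rfl⟩
  rw [h, Set.ncard_range_of_injective (fun p p' e => Prod.ext (W_inj A e).2.1 (W_inj A e).2.2), Nat.card_prod,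
    Nat.card_eq_fintype_card, A.hK, pow_two]

theorem card_order_three (hm : 1 ≤ m) :
    Nat.card {x : GG // orderOf x = 3} = (qq ^ 3 + 1) * (qq ^ 2 - 1) := by
  have : Fact (Nat.Prime 3) := ⟨Nat.prime_three⟩
  refine card_three_power A hm (by norm_num) (by norm_num) _ ?_
  have h : (fun x : GG => (x : GL chevG2.Idx K)) '' {s : GG | (s : GL chevG2.Idx K) ∈ U₁ ∧ orderOf s = 3} =
      {v : GL chevG2.Idx K | v ∈ U₁ ∧ v ^ 3 = 1} \ {1} := by
    ext v
    constructor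
    · rintro ⟨s, ⟨hs, ho⟩, rfl⟩
      obtain ⟨h1, h2⟩ := orderOf_eq_prime_iff.1 ho
      exact ⟨⟨hs, congrArg Subtype.val h1⟩, fun e => h2 (Subtype.ext e)⟩
    · rintro ⟨⟨hv, h3⟩, hv1⟩
      exact ⟨⟨v, hv.2⟩, ⟨hv, orderOf_eq_prime_iff.2 ⟨Subtype.ext h3, fun e => hv1 (congrArg Subtype.val e)⟩⟩, rfl⟩
  have h1 : (1 : GL chevG2.Idx K) ∈ {v : GL chevG2.Idx K | v ∈ U₁ ∧ v ^ 3 = 1} := ⟨one_mem _, one_pow 3⟩
  rw [h, Set.ncard_sdiff_singleton_of_mem h1, ncard_cube A]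

theorem card_order_nine (hm : 1 ≤ m) :
    Nat.card {x : GG // orderOf x = 9} = (qq ^ 3 + 1) * (qq ^ 3 - qq ^ 2) := by
  have : Fact (Nat.Prime 3) := ⟨Nat.prime_three⟩
  refine card_three_power A hm (by norm_num) (by norm_num) _ ?_
  have h : (fun x : GG => (x : GL chevG2.Idx K)) '' {s : GG | (s : GL chevG2.Idx K) ∈ U₁ ∧ orderOf s = 9} =
      ((U₁ : Subgroup (GL chevG2.Idx K)) : Set (GL chevG2.Idx K)) \ {v : GL chevG2.Idx K | v ∈ U₁ ∧ v ^ 3 = 1} := by
    ext v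
    constructor
    · rintro ⟨s, ⟨hs, ho⟩, rfl⟩
      refine ⟨hs, fun h3 => ?_⟩
      have := Nat.le_of_dvd (by norm_num) (orderOf_dvd_of_pow_eq_one (Subtype.ext h3.2 : s ^ 3 = 1))
      omega
    · rintro ⟨hv, h3⟩
      refine ⟨⟨v, hv.2⟩, ⟨hv, ?_⟩, rfl⟩
      have := orderOf_eq_prime_pow (p := 3) (n := 1) (x := (⟨v, hv.2⟩ : GG))
        (fun e => h3 ⟨hv, by simpa using congrArg Subtype.val e⟩) (Subtype.ext (U_pow_nine A hv))
      simpa using this
  rw [h, Set.ncard_sdiff (fun v hv => hv.1) (Set.toFinite _), ncard_cube A, ← Nat.card_coe_set_eq]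
  show Nat.card ↥(U₁) - _ = _
  rw [card_U A]

theorem card_order_six (hm : 1 ≤ m) :
    Nat.card {x : GG // orderOf x = 6} = (qq ^ 3 + 1) * (qq ^ 3 - qq ^ 2) := by
  have h := card_three A hm
  have hset : {x : GG | 3 ∣ orderOf x} = {x : GG | orderOf x = 3} ∪ {x : GG | orderOf x = 6} ∪ {x : GG | orderOf x = 9} := by
    ext x
    simp only [Set.mem_setOf_eq, Set.mem_union]
    constructor
    · intro h3
      obtain ⟨g, -, h18⟩ := mem_U_or A hm h3
      have hd := orderOf_dvd_of_pow_eq_one h18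
      have hne := orderOf_ne_eighteen A hm x
      have hpos := orderOf_pos x
      have hle := Nat.le_of_dvd (by norm_num) hd
      generalize orderOf x = n at h3 hd hne hpos hle ⊢
      interval_cases n <;> omega
    · rintro ((h | h) | h) <;> omega
  rw [hset, Set.ncard_union_eq ?_ (Set.toFinite _) (Set.toFinite _), Set.ncard_union_eq ?_ (Set.toFinite _) (Set.toFinite _),
    ← Nat.card_coe_set_eq, ← Nat.card_coe_set_eq {x : GG | orderOf x = 6}, ← Nat.card_coe_set_eq {x : GG | orderOf x = 9}] at h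
  · have e3 := card_order_three A hm
    have e9 := card_order_nine A hm
    obtain ⟨hq, -, -⟩ := q_facts hm
    generalize qq = q at hq e3 e9 h ⊢
    have h1 : 1 ≤ q ^ 2 := Nat.one_le_pow _ _ (by omega)
    have h2 : q ^ 2 ≤ q ^ 3 := Nat.pow_le_pow_right (by omega) (by norm_num)
    change Nat.card {x : GG // orderOf x = 3} + Nat.card {x : GG // orderOf x = 6} + Nat.card {x : GG // orderOf x = 9} = _ at h
    rw [e3, e9] at h
    have e : (q ^ 3 + 1) * (2 * q ^ 3 - q ^ 2 - 1) =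
        (q ^ 3 + 1) * (q ^ 2 - 1) + (q ^ 3 + 1) * (q ^ 3 - q ^ 2) + (q ^ 3 + 1) * (q ^ 3 - q ^ 2) := by
      rw [← mul_add, ← mul_add]; congr 1; omega
    omega
  · rw [Set.disjoint_left]; intro x h1 h2; simp only [Set.mem_setOf_eq] at h1 h2; omega
  · rw [Set.disjoint_left]; intro x h1 h2; simp only [Set.mem_setOf_eq, Set.mem_union] at h1 h2; omega

theorem card_order_minus (hm : 1 ≤ m) {i : ℕ} (h2 : 2 < i) (hi : i ∣ qq - 1) :
    2 * Nat.card {x : GG // orderOf x = i} = Nat.totient i * qq ^ 3 * (qq ^ 3 + 1) := by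
  have h := card_order_TI (T := TH A) (i := i) (fun s hs ho => TH_cent A s hs (sq_ne_of_order A (by omega)))
    (fun x hx => exists_conj_TH A hm (by omega) (hx ▸ hi))
  have : IsCyclic ↥(TH A) := isCyclic_of_surjective _ (torG A).rangeRestrict_surjective
  rw [card_normalizer_TH A hm, ncard_orderOf_cyclic (by rw [card_TH A]; exact hi), card_group A] at h
  obtain ⟨hq, -, -⟩ := q_facts hm
  refine Nat.eq_of_mul_eq_mul_right (m := qq - 1) (by omega) ?_
  calc 2 * Nat.card {x : GG // orderOf x = i} * (qq - 1) = Nat.card {x : GG // orderOf x = i} * (2 * (qq - 1)) := by ring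
    _ = qq ^ 3 * (qq - 1) * (qq ^ 3 + 1) * i.totient := h
    _ = _ := by ring

theorem card_order_plus (hm : 1 ≤ m) {i : ℕ} (h1 : 1 < i) (hi : i ∣ (qq + 1) / 4) :
    6 * Nat.card {x : GG // orderOf x = i} = Nat.totient i * qq ^ 3 * (qq - 1) * Qn m ∧
      2 * Nat.card {x : GG // orderOf x = 2 * i} = Nat.totient i * qq ^ 3 * (qq - 1) * Qn m := by
  obtain ⟨hq, hq8, hq3⟩ := q_facts hm
  have hodd : i % 2 = 1 := by
    by_contra hne
    have : 2 ∣ (qq + 1) / 4 := (Nat.dvd_of_mod_eq_zero (by omega)).trans hi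
    omega
  have hi' : i ∣ qq + 1 := hi.trans ⟨4, by omega⟩
  have hiP : i ∣ (qq + 1) / 2 := hi.trans ⟨2, by omega⟩
  have hi2 : 2 * i ∣ qq + 1 := by
    rw [show qq + 1 = 2 * ((qq + 1) / 2) by omega]
    exact mul_dvd_mul_left 2 hiP
  have hcy := P2_isCyclic A
  have hn : {s : GG | s ∈ T2 A ∧ orderOf s = i}.ncard = Nat.totient i := by
    have e : {s : GG | s ∈ T2 A ∧ orderOf s = i} = {s : GG | s ∈ P2 A ∧ orderOf s = i} := by
      ext s
      exact ⟨fun hs => ⟨mem_P2_of_odd A hs.1 (hs.2.symm ▸ hodd), hs.2⟩, fun hs => ⟨P2_le A hs.1, hs.2⟩⟩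
    rw [e, ncard_orderOf_cyclic (by rw [card_P2 A]; exact hiP)]
  have hn2 : {s : GG | s ∈ T2 A ∧ orderOf s = 2 * i}.ncard = 3 * Nat.totient i := by
    have hbij : Nat.card (↥((E2 A : Set GG) \ {1}) × ↥{s : GG | s ∈ T2 A ∧ orderOf s = i}) =
        Nat.card ↥{s : GG | s ∈ T2 A ∧ orderOf s = 2 * i} := by
      have hord : ∀ b ∈ (E2 A : Set GG) \ {1}, ∀ w : GG, w ∈ T2 A → orderOf w = i → orderOf (b * w) = 2 * i := by
        rintro b ⟨hb, hb1⟩ w hw how
        have ho : orderOf b = 2 := orderOf_eq_two A (sq_E2 A hb) hb1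
        rw [(show Commute b w from comm_T2 A (E2_le A hb) hw).orderOf_mul_eq_mul_orderOf_of_coprime
          (by rw [ho, how]; exact (Nat.prime_two.coprime_iff_not_dvd).2 (by omega)), ho, how]
      refine Nat.card_eq_of_bijective (fun p => ⟨p.1.1 * p.2.1,
        Subgroup.mul_mem _ (E2_le A p.1.2.1) p.2.2.1, hord _ p.1.2 _ p.2.2.1 p.2.2.2⟩) ⟨?_, ?_⟩
      · rintro ⟨⟨b, hb⟩, ⟨w, hw, how⟩⟩ ⟨⟨b', hb'⟩, ⟨w', hw', how'⟩⟩ h
        have e : b * w = b' * w' := congrArg Subtype.val h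
        have key : ∀ b ∈ E2 A, ∀ w ∈ T2 A, orderOf w = i → (b * w) ^ i = b := by
          intro b hb w hw how
          rw [(show Commute b w from comm_T2 A (E2_le A hb) hw).mul_pow, ← how, pow_orderOf_eq_one, mul_one, how]
          rw [← Nat.div_add_mod i 2, hodd, pow_succ, pow_mul, pow_two, sq_E2 A hb, one_pow, one_mul]
        have eb : b = b' := by rw [← key b hb.1 w hw how, e, key b' hb'.1 w' hw' how']
        subst eb
        obtain rfl := mul_left_cancel e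
        rfl
      · rintro ⟨z, hz, hoz⟩
        have hzi : orderOf (z ^ i) = 2 := by
          rw [orderOf_pow_of_dvd (by omega) (hoz ▸ dvd_mul_left i 2), hoz, Nat.mul_div_cancel _ (by omega)]
        have hzw : orderOf (z ^ (i + 1)) = i := by
          rw [orderOf_pow z, hoz, show i + 1 = 2 * ((i + 1) / 2) by omega, Nat.gcd_mul_left,
            show Nat.gcd i ((i + 1) / 2) = 1 by
              refine Nat.coprime_iff_gcd_eq_one.1 (Nat.coprime_of_dvd fun p hp h h' => ?_)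
              have := (Nat.dvd_add_right h).1 (show p ∣ i + 1 from h'.trans ⟨2, by omega⟩)
              exact hp.one_lt.ne' (Nat.dvd_one.1 this),
            mul_one, Nat.mul_div_cancel_left _ (by norm_num)]
        refine ⟨(⟨z ^ i, mem_E2 A (Subgroup.pow_mem _ hz i) (by rw [← pow_two, ← hzi, pow_orderOf_eq_one]),
          fun e => by rw [show z ^ i = 1 from e, orderOf_one] at hzi; omega⟩, ⟨z ^ (i + 1), Subgroup.pow_mem _ hz _, hzw⟩), Subtype.ext ?_⟩
        show z ^ i * z ^ (i + 1) = z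
        rw [← pow_add, show i + (i + 1) = 2 * i + 1 by omega, pow_succ, ← hoz, pow_orderOf_eq_one, one_mul]
    rw [← Nat.card_coe_set_eq, ← hbij, Nat.card_prod, Nat.card_coe_set_eq, Nat.card_coe_set_eq,
      Set.ncard_sdiff_singleton_of_mem (one_mem _), hn]
    congr 1
    rw [← Nat.card_coe_set_eq]
    show Nat.card ↥(E2 A) - 1 = 3
    rw [card_E2 A]
  have h := card_order_TI (T := T2 A) (i := i) (fun s hs ho => centralizer_T2 A hm hs (sq_ne_of_order A (by omega)))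
    (fun x hx => exists_conj_T2 A hm (by omega) (hx ▸ hi'))
  have h' := card_order_TI (T := T2 A) (i := 2 * i) (fun s hs ho => centralizer_T2 A hm hs (sq_ne_of_order A (by omega)))
    (fun x hx => exists_conj_T2 A hm (by omega) (hx ▸ hi2))
  rw [card_normalizer_T2 A hm, card_G A] at h h'
  rw [hn] at h
  rw [hn2] at h'
  constructor
  · refine Nat.eq_of_mul_eq_mul_right (m := qq + 1) (by omega) ?_
    calc 6 * Nat.card {x : GG // orderOf x = i} * (qq + 1) = Nat.card {x : GG // orderOf x = i} * (6 * (qq + 1)) := by ring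
      _ = qq ^ 3 * ((qq - 1) * ((qq + 1) * Qn m)) * i.totient := h
      _ = _ := by ring
  · refine Nat.eq_of_mul_eq_mul_right (m := 3 * (qq + 1)) (by omega) ?_
    calc 2 * Nat.card {x : GG // orderOf x = 2 * i} * (3 * (qq + 1)) = Nat.card {x : GG // orderOf x = 2 * i} * (6 * (qq + 1)) := by ring
      _ = qq ^ 3 * ((qq - 1) * ((qq + 1) * Qn m)) * (3 * i.totient) := h'
      _ = _ := by ring

theorem card_order_singer (hm : 1 ≤ m) {i : ℕ} (h1 : 1 < i) {y : GG} {k k' : ℕ} (hy : y ^ Qn m = 1) (hy1 : y ≠ 1)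
    (hk : Nat.card ↥(Subgroup.centralizer {y}) = k)
    (hn : Nat.card ↥(Subgroup.normalizer (Subgroup.centralizer {y} : Set GG)) = 6 * k)
    (hc : ∀ x : GG, orderOf x ∣ k → ∃ g, g * x * g⁻¹ ∈ Subgroup.centralizer {y}) (hkk : k * k' = Qn m) (hi : i ∣ k) :
    6 * Nat.card {x : GG // orderOf x = i} = Nat.totient i * qq ^ 3 * (qq ^ 2 - 1) * k' := by
  obtain ⟨hcyc, -, hC, -⟩ := singer A hm hy1 hy
  have h := card_order_TI (T := Subgroup.centralizer {y}) (i := i)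
    (fun s hs ho => hC s hs fun e => by rw [e, orderOf_one] at ho; omega) (fun x hx => hc x (hx ▸ hi))
  rw [hn, ncard_orderOf_cyclic (hk ▸ hi), card_G A, ← hkk] at h
  have hkpos : 0 < k := hk ▸ Nat.card_pos
  rw [show qq ^ 2 - 1 = (qq + 1) * (qq - 1) by rw [← Nat.sq_sub_sq, one_pow]]
  refine Nat.eq_of_mul_eq_mul_right hkpos ?_
  calc 6 * Nat.card {x : GG // orderOf x = i} * k = Nat.card {x : GG // orderOf x = i} * (6 * k) := by ring
    _ = qq ^ 3 * ((qq - 1) * ((qq + 1) * (k * k'))) * i.totient := h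
    _ = _ := by ring

theorem element_counts (hm : 1 ≤ m) :
    Nat.card {g : GG // orderOf g = 2} = qq ^ 2 * (qq ^ 2 - qq + 1) ∧
    Nat.card {g : GG // orderOf g = 3} = (qq ^ 2 - 1) * (qq ^ 3 + 1) ∧
    Nat.card {g : GG // orderOf g = 6} = qq ^ 2 * (qq - 1) * (qq ^ 3 + 1) ∧
    Nat.card {g : GG // orderOf g = 9} = qq ^ 2 * (qq - 1) * (qq ^ 3 + 1) ∧
    (∀ i : ℕ, 2 < i → i ∣ qq - 1 →
      2 * Nat.card {g : GG // orderOf g = i} = Nat.totient i * qq ^ 3 * (qq ^ 3 + 1)) ∧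
    (∀ i : ℕ, 1 < i → i ∣ (qq + 1) / 4 →
      6 * Nat.card {g : GG // orderOf g = i} = Nat.totient i * qq ^ 3 * (qq - 1) * (qq ^ 2 - qq + 1) ∧
        2 * Nat.card {g : GG // orderOf g = 2 * i} = Nat.totient i * qq ^ 3 * (qq - 1) * (qq ^ 2 - qq + 1)) ∧
    (∀ i : ℕ, 1 < i → i ∣ qq - 3 ^ (m + 1) + 1 →
      6 * Nat.card {g : GG // orderOf g = i} = Nat.totient i * qq ^ 3 * (qq ^ 2 - 1) * (qq + 3 ^ (m + 1) + 1)) ∧
    (∀ i : ℕ, 1 < i → i ∣ qq + 3 ^ (m + 1) + 1 →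
      6 * Nat.card {g : GG // orderOf g = i} = Nat.totient i * qq ^ 3 * (qq ^ 2 - 1) * (qq - 3 ^ (m + 1) + 1)) := by
  have hQ : qq ^ 2 - qq + 1 = Qn m := by rw [Qn, Nat.mul_sub, mul_one, ← pow_two]
  have hsub : qq ^ 3 - qq ^ 2 = qq ^ 2 * (qq - 1) := by rw [Nat.mul_sub, mul_one, ← pow_succ]
  obtain ⟨y, y', hy, hy1, hy', hy1', hk, hn, hk', hn', hc, hc', hprod⟩ := singer_cases A hm
  rw [hQ]
  refine ⟨(Nat.card_coe_set_eq _).trans (card_involutions A hm), ?_, ?_, ?_,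
    fun i h2 hi => card_order_minus A hm h2 hi, fun i h1 hi => card_order_plus A hm h1 hi, ?_, ?_⟩
  · rw [card_order_three A hm, mul_comm]
  · rw [card_order_six A hm, hsub, mul_comm]
  · rw [card_order_nine A hm, hsub, mul_comm]
  · exact fun i h1 hi => card_order_singer A hm h1 hy hy1 hk hn hc hprod hi
  · exact fun i h1 hi => card_order_singer A hm h1 hy' hy1' hk' hn' hc' (by rw [mul_comm]; exact hprod) hi

end Cfsg.Agent.Lib.RankOne.Ree
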