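import Cfsg.Agent.Lib.RankOne.ReeRot
import Cfsg.Agent.Lib.RankOne.ReeBorel
import Cfsg.Agent.Lib.RankOne.ReeSylowTwo
import Cfsg.Agent.Lib.RankOne.ReeArith
import Cfsg.Agent.Lib.Coprime.Generation

/-!
The tori of orders `q - 1` and `q + 1` in the small Ree group, and the centralisers of their elements.
-/

set_option autoImplicit false
set_option maxRecDepth 100000

namespace Cfsg.Agent.Lib.RankOne.Ree

open Cfsg.Lie Cfsg.Agent.Lib.Chev Cfsg.Agent.Lib.Chev.Tw Cfsg.Agent.Lib.Chev.Tw.G2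
open Cfsg.Agent.Lib.RankOne.Ree.SylowTwo (inv0 orderOf_inv0 involution_conj)

variable {K : Type*} [Field K] [Fintype K] {m : ℕ} (A : Par K m)
include A

set_option quotPrecheck false
local notation "qq" => 3 ^ (2 * m + 1)
local notation "GG" => ↥(twistedG2 K (3 ^ m))
local notation "PSL" => Matrix.ProjectiveSpecialLinearGroup (Fin 2) K
local notation "Z2" => Multiplicative (ZMod 2)

/-- The centraliser map into the group. -/
noncomputable def thetaG : Z2 × PSL →* GG :=
  (theta A).codRestrict _ fun x => ((mem_CA A).1 ((theta_range A).le ⟨x, rfl⟩)).1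

theorem thetaG_inj : Function.Injective (thetaG A) := fun _ _ e => theta_inj A (congrArg Subtype.val e)

/-- The torus into the group. -/
noncomputable def torG : Kˣ →* GG := (torT A).codRestrict _ fun t => (torT_mem A t).2

theorem torG_inj : Function.Injective (torG A) := fun _ _ e => torT_injective A (congrArg Subtype.val e)

theorem thetaG_inv0 : thetaG A (Multiplicative.ofAdd 1, 1) = inv0 A := by
  refine Subtype.ext ?_
  show theta A (Multiplicative.ofAdd 1, ((1 : Matrix.SpecialLinearGroup (Fin 2) K) : PSL)) = torT A (-1)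
  rw [theta_apply A, z2Hom_one, map_one, mul_one]

theorem thetaG_comm (x : Z2 × PSL) : thetaG A x * inv0 A = inv0 A * thetaG A x := by
  rw [← thetaG_inv0 A, ← map_mul, ← map_mul]
  congr 1
  exact Prod.ext (mul_comm _ _) (by simp)

theorem exists_of_comm {x : GG} (h : x * inv0 A = inv0 A * x) : ∃ y, x = thetaG A y := by
  obtain ⟨y, hy⟩ := (theta_range A).ge ((mem_CA A).2 ⟨x.2, (congrArg Subtype.val h).symm⟩)
  exact ⟨y, Subtype.ext hy.symm⟩

theorem centralizer_inv0 : Subgroup.centralizer {inv0 A} = (thetaG A).range := by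
  ext x
  rw [Subgroup.mem_centralizer_singleton_iff]
  exact ⟨fun h => (exists_of_comm A h).imp fun _ e => e.symm, fun ⟨y, hy⟩ => hy ▸ thetaG_comm A y⟩

theorem card_G : Nat.card GG = qq ^ 3 * ((qq - 1) * ((qq + 1) * Qn m)) := by
  rw [card_group A, cube_eq]; ring

theorem card_centralizer_inv0 : Nat.card ↥(Subgroup.centralizer {inv0 A}) = qq * ((qq - 1) * (qq + 1)) := by
  rw [centralizer_inv0 A, ← Nat.card_congr (MonoidHom.ofInjective (thetaG_inj A)).toEquiv, Nat.card_prod,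
    show Nat.card Z2 = 2 from by simp, card_PSL2 A, A.hK]
  congr 1
  exact (show qq ^ 2 - 1 = (qq + 1) * (qq - 1) by rw [← Nat.sq_sub_sq, one_pow]).trans (mul_comm _ _)

theorem card_centralizer_involution (hm : 1 ≤ m) {b : GG} (hb : orderOf b = 2) :
    Nat.card ↥(Subgroup.centralizer {b}) = qq * ((qq - 1) * (qq + 1)) := by
  obtain ⟨g, rfl⟩ := involution_conj A hm hb
  rw [← card_centralizer_inv0 A]
  refine Nat.card_congr ⟨fun z => ⟨g⁻¹ * z * g, ?_⟩, fun z => ⟨g * z * g⁻¹, ?_⟩, fun z => ?_, fun z => ?_⟩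
  · have h := Subgroup.mem_centralizer_singleton_iff.1 z.2
    rw [Subgroup.mem_centralizer_singleton_iff]
    calc g⁻¹ * z * g * inv0 A = g⁻¹ * ((z : GG) * (g * inv0 A * g⁻¹)) * g := by group
      _ = _ := by rw [h]; group
  · have h := Subgroup.mem_centralizer_singleton_iff.1 z.2
    rw [Subgroup.mem_centralizer_singleton_iff]
    calc g * z * g⁻¹ * (g * inv0 A * g⁻¹) = g * ((z : GG) * inv0 A) * g⁻¹ := by group
      _ = _ := by rw [h]; group
  · exact Subtype.ext (by simp [mul_assoc])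
  · exact Subtype.ext (by simp [mul_assoc])

/-- An element of prime order dividing `q² - q + 1` commutes with no involution. -/
theorem not_comm_involution (hm : 1 ≤ m) {p : ℕ} (hp : p.Prime) (hpQ : p ∣ Qn m) {y b : GG}
    (hy : orderOf y = p) (hb : orderOf b = 2) : y * b ≠ b * y := by
  intro h
  have : p ∣ qq * ((qq - 1) * (qq + 1)) := by
    rw [← card_centralizer_involution A hm hb, ← hy,
      ← Subgroup.orderOf_mk y (Subgroup.mem_centralizer_singleton_iff.2 h)]
    exact orderOf_dvd_natCard _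
  obtain ⟨-, h1, h2, h3⟩ := prime_dvd_Qn hp hpQ
  rcases hp.dvd_mul.1 this with d | d
  · exact h1 d
  · exact (hp.dvd_mul.1 d).elim h2 h3

/-! ### Elements of order divisible by three -/

theorem mem_U_or (hm : 1 ≤ m) {x : GG} (h3 : 3 ∣ orderOf x) :
    ∃ g : GG, ((g * x * g⁻¹ : GG) : GL chevG2.Idx K) ∈ chevG2.borelSubgroup K ⊓ G1 K m ∧ x ^ 18 = 1 := by
  have : Fact (Nat.Prime 3) := ⟨Nat.prime_three⟩
  set U := chevG2.posUnipotent K ⊓ twistedG2 K (3 ^ m)
  have hUG : U ≤ twistedG2 K (3 ^ m) := inf_le_right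
  have hcardU : Nat.card ↥(U.subgroupOf (twistedG2 K (3 ^ m))) = qq ^ 3 :=
    (Nat.card_congr (Subgroup.subgroupOfEquivOfLe hUG).toEquiv).trans (card_U A)
  have hidx : ¬ 3 ∣ (U.subgroupOf (twistedG2 K (3 ^ m))).index := by
    have h := (U.subgroupOf (twistedG2 K (3 ^ m))).card_mul_index
    rw [hcardU, card_G A] at h
    rw [Nat.eq_of_mul_eq_mul_left (by positivity) h]
    obtain ⟨hq, -, hq3⟩ := q_facts hm
    intro hd
    rcases Nat.prime_three.dvd_mul.1 hd with hd | hd
    · omega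
    · rcases Nat.prime_three.dvd_mul.1 hd with hd | hd
      · omega
      · exact absurd (prime_dvd_Qn Nat.prime_three hd).1 (lt_irrefl 3)
  obtain ⟨k, hk⟩ := h3
  have hy : orderOf (x ^ k) = 3 := by
    rw [orderOf_pow_of_dvd (fun e => by rw [e, mul_zero] at hk; exact (orderOf_pos x).ne' hk)
      (hk ▸ dvd_mul_left k 3), hk, Nat.mul_div_cancel _ (Nat.pos_of_ne_zero fun e => by
      rw [e, mul_zero] at hk; exact (orderOf_pos x).ne' hk)]
  obtain ⟨g, hg⟩ := exists_conj_mem hidx (x := x ^ k) (k := 1) (by have := pow_orderOf_eq_one (x ^ k); rw [hy] at this; rw [pow_one]; exact this)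
  have hne : g * x ^ k * g⁻¹ ≠ 1 := fun e => by
    rw [conj_eq_one_iff] at e; rw [e, orderOf_one] at hy; omega
  obtain ⟨hB, h18⟩ := centralizer_U A (g := ((g * x * g⁻¹ : GG) : GL chevG2.Idx K))
    (u := ((g * x ^ k * g⁻¹ : GG) : GL chevG2.Idx K)) (g * x * g⁻¹).2 hg (fun e => hne (Subtype.ext e))
    (congrArg Subtype.val (show g * x * g⁻¹ * (g * x ^ k * g⁻¹) = g * x ^ k * g⁻¹ * (g * x * g⁻¹) by
      rw [← conj_pow]; exact (Commute.refl _).pow_right k))
  refine ⟨g, hB, ?_⟩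
  have h := (Subtype.ext h18 : (g * x * g⁻¹) ^ 18 = 1)
  rw [conj_pow, conj_eq_one_iff] at h
  exact h

/-! ### The torus of order `q - 1` -/

/-- The split torus. -/
noncomputable def TH : Subgroup GG := (torG A).range

theorem card_TH : Nat.card ↥(TH A) = qq - 1 := by
  rw [TH, ← Nat.card_congr (MonoidHom.ofInjective (torG_inj A)).toEquiv, Nat.card_units,
    Nat.card_eq_fintype_card, A.hK]

theorem index_TH : (TH A).index = qq ^ 3 * ((qq + 1) * Qn m) := by
  have h := (TH A).card_mul_index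
  rw [card_TH A, card_G A, mul_left_comm] at h
  have h3 : 3 ≤ qq := Nat.le_self_pow (by omega) 3
  exact Nat.eq_of_mul_eq_mul_left (by omega) h

theorem mem_TH_iff {x : GG} :
    x ∈ TH A ↔ (x : GL chevG2.Idx K) ∈ chevG2.diagonalSubgroup K ⊓ G1 K m := by
  rw [← torT_range A]
  exact ⟨fun ⟨t, e⟩ => ⟨t, congrArg Subtype.val e⟩, fun ⟨t, e⟩ => ⟨t, Subtype.ext e⟩⟩

theorem centralizer_torG {t : Kˣ} (ht : t * t ≠ 1) : Subgroup.centralizer {torG A t} = TH A := by
  ext x
  rw [Subgroup.mem_centralizer_singleton_iff]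
  refine ⟨fun h => ?_, fun ⟨s, hs⟩ => hs ▸ by rw [← map_mul, ← map_mul, mul_comm]⟩
  have e : (x : GL chevG2.Idx K) * torT A t * (x : GL chevG2.Idx K)⁻¹ = torT A t := by
    rw [show (x : GL chevG2.Idx K) * torT A t = torT A t * x from congrArg Subtype.val h, mul_inv_cancel_right]
  rcases torus_TI A ht x.2 (by rw [e]; exact torT_mem A t) with h1 | h1
  · exact (mem_TH_iff A).2 h1
  · exfalso
    obtain ⟨s, hs⟩ := (torT_range A).ge h1
    rw [show (x : GL chevG2.Idx K) = (sys A).G.nl K (twG2.blk 0) * torT A s by rw [hs]; group] at e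
    refine ht ?_
    have e1 : torT A t⁻¹ = torT A t := by
      rw [← n_torT A]
      calc _ = (sys A).G.nl K (twG2.blk 0) * (torT A s * torT A t * (torT A s)⁻¹) * ((sys A).G.nl K (twG2.blk 0))⁻¹ := by
            rw [← map_mul, mul_comm s t, map_mul]; group
        _ = (sys A).G.nl K (twG2.blk 0) * torT A s * torT A t * ((sys A).G.nl K (twG2.blk 0) * torT A s)⁻¹ := by group
        _ = _ := e
    calc t * t = t⁻¹ * t := by rw [torT_injective A e1]
      _ = 1 := inv_mul_cancel t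

/-- The standard reflection. -/
noncomputable def nG : GG := ⟨(sys A).G.nl K (twG2.blk 0), n_mem A⟩

theorem nG_conj (t : Kˣ) : nG A * torG A t * (nG A)⁻¹ = torG A t⁻¹ := Subtype.ext (n_torT A t)

theorem exists_sq_ne_one (hm : 1 ≤ m) : ∃ t : Kˣ, t * t ≠ 1 := by
  obtain ⟨t, ht⟩ := IsCyclic.exists_ofOrder_eq_natCard (α := Kˣ)
  refine ⟨t, fun e => ?_⟩
  have h2 : orderOf t ∣ 2 := orderOf_dvd_of_pow_eq_one (by rw [pow_two, e])
  have := Nat.le_of_dvd (by norm_num) h2
  rw [ht, Nat.card_units, Nat.card_eq_fintype_card, A.hK] at this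
  have := (q_facts hm).1
  omega

theorem normalizer_TH (hm : 1 ≤ m) {x : GG} :
    x ∈ Subgroup.normalizer (TH A : Set GG) ↔ x ∈ TH A ∨ (nG A)⁻¹ * x ∈ TH A := by
  constructor
  · intro hx
    obtain ⟨t, ht⟩ := exists_sq_ne_one A hm
    have h := (Subgroup.mem_normalizer_iff.1 hx (torG A t)).1 ⟨t, rfl⟩
    rcases torus_TI A ht x.2 ((mem_TH_iff A).1 h) with h1 | h1
    · exact Or.inl ((mem_TH_iff A).2 h1)
    · exact Or.inr ((mem_TH_iff A).2 h1)
  · have hn : nG A ∈ Subgroup.normalizer (TH A : Set GG) := by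
      rw [Subgroup.mem_normalizer_iff]
      intro z
      constructor
      · rintro ⟨t, rfl⟩; exact ⟨t⁻¹, (nG_conj A t).symm⟩
      · rintro ⟨t, ht⟩
        refine ⟨t⁻¹, mul_left_cancel (mul_right_cancel ((nG_conj A t⁻¹).trans ?_))⟩
        rw [inv_inv]; exact ht
    rintro (h | h)
    · exact Subgroup.le_normalizer h
    · have := Subgroup.mul_mem _ hn (Subgroup.le_normalizer h)
      rwa [mul_inv_cancel_left] at this

theorem card_normalizer_TH (hm : 1 ≤ m) :
    Nat.card ↥(Subgroup.normalizer (TH A : Set GG)) = 2 * (qq - 1) := by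
  set N := Subgroup.normalizer (TH A : Set GG) with hN
  have hle : TH A ≤ N := Subgroup.le_normalizer
  have hn : nG A ∈ N := (normalizer_TH A hm).2 (Or.inr (by rw [inv_mul_cancel]; exact one_mem _))
  have hnot : nG A ∉ TH A := fun h => n_notMem A (H_le_B A ((mem_TH_iff A).1 h))
  have h2 : ((TH A).subgroupOf N).index = 2 := by
    refine Subgroup.index_eq_two_iff.2 ⟨⟨_, inv_mem hn⟩, fun b => ?_⟩
    simp only [Subgroup.mem_subgroupOf, Subgroup.coe_mul]
    rcases (normalizer_TH A hm).1 b.2 with hb | hb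
    · refine Or.inr ⟨hb, fun h => hnot ?_⟩
      have := Subgroup.mul_mem _ (Subgroup.inv_mem _ hb) h
      rw [inv_mul_cancel_left] at this
      exact inv_mem_iff.1 this
    · by_cases hb' : (b : GG) ∈ TH A
      · exfalso
        have := Subgroup.mul_mem _ hb (Subgroup.inv_mem _ hb')
        rw [mul_inv_cancel_right] at this
        exact hnot (inv_mem_iff.1 this)
      · refine Or.inl ⟨?_, hb'⟩
        have h1 : (nG A)⁻¹ * (b : GG) ∈ TH A := hb
        obtain ⟨s, hs⟩ := h1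
        have e : (b : GG) * (nG A)⁻¹ = torG A s⁻¹ := by
          rw [← nG_conj A s, hs]; group
        rw [e]; exact ⟨_, rfl⟩
  have h := ((TH A).subgroupOf N).card_mul_index
  rw [h2, Nat.card_congr (Subgroup.subgroupOfEquivOfLe hle).toEquiv, card_TH A] at h
  rw [← h, mul_comm]

/-! ### The torus of order `q + 1` -/

/-- The torus of order `q + 1`. -/
noncomputable def T2 : Subgroup GG := ((⊤ : Subgroup Z2).prod (RotP A)).map (thetaG A)

theorem mem_T2 {x : GG} : x ∈ T2 A ↔ ∃ e, ∃ r ∈ RotP A, x = thetaG A (e, r) := by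
  constructor
  · rintro ⟨⟨e, r⟩, ⟨-, hr⟩, rfl⟩; exact ⟨e, r, hr, rfl⟩
  · rintro ⟨e, r, hr, rfl⟩; exact ⟨(e, r), ⟨trivial, hr⟩, rfl⟩

theorem card_T2 : Nat.card ↥(T2 A) = qq + 1 := by
  rw [T2, Subgroup.card_map_of_injective (thetaG_inj A), Nat.card_congr (Subgroup.prodEquiv _ _).toEquiv,
    Nat.card_prod, Subgroup.card_top, show Nat.card Z2 = 2 from by simp, card_RotP A, A.hK]

theorem comm_T2 {x y : GG} (hx : x ∈ T2 A) (hy : y ∈ T2 A) : x * y = y * x := by
  obtain ⟨e, r, hr, rfl⟩ := (mem_T2 A).1 hx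
  obtain ⟨f, s, hs, rfl⟩ := (mem_T2 A).1 hy
  have := RotP_isCyclic A
  have hc : r * s = s * r := congrArg Subtype.val ((IsCyclic.isMulCommutative).is_comm.comm (⟨r, hr⟩ : ↥(RotP A)) ⟨s, hs⟩)
  rw [← map_mul, ← map_mul]
  exact congrArg _ (Prod.ext (mul_comm _ _) hc)

theorem index_T2 : (T2 A).index = qq ^ 3 * ((qq - 1) * Qn m) := by
  have h := (T2 A).card_mul_index
  rw [card_T2 A, card_G A, mul_left_comm (qq - 1), mul_left_comm (qq ^ 3)] at h
  exact Nat.eq_of_mul_eq_mul_left (Nat.succ_pos _) h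

theorem sn_order : orderOf ((sn : Matrix.SpecialLinearGroup (Fin 2) K) : PSL) = 2 := by
  have : Fact (Nat.Prime 2) := ⟨Nat.prime_two⟩
  refine orderOf_eq_prime_iff.2 ⟨?_, Cfsg.Agent.S1152.not_center A (by simp [sn_val])⟩
  rw [pow_two]
  exact Cfsg.Agent.S1152.mk_eq A (Cfsg.Agent.S1152.four A).1

/-- The involutions of `T2`. -/
noncomputable def E2 : Subgroup GG :=
  ((⊤ : Subgroup Z2).prod (Subgroup.zpowers ((sn : Matrix.SpecialLinearGroup (Fin 2) K) : PSL))).map (thetaG A)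

theorem card_E2 : Nat.card ↥(E2 A) = 4 := by
  rw [E2, Subgroup.card_map_of_injective (thetaG_inj A), Nat.card_congr (Subgroup.prodEquiv _ _).toEquiv,
    Nat.card_prod, Subgroup.card_top, show Nat.card Z2 = 2 from by simp, Nat.card_zpowers, sn_order A]

theorem E2_le : E2 A ≤ T2 A :=
  Subgroup.map_mono (Subgroup.prod_mono le_rfl (Subgroup.zpowers_le.2 (sn_mem_RotP A)))

theorem sq_E2 {x : GG} (hx : x ∈ E2 A) : x * x = 1 := by
  obtain ⟨⟨e, r⟩, ⟨-, hr⟩, rfl⟩ := hx
  obtain ⟨j, rfl⟩ := Subgroup.mem_zpowers_iff.1 hr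
  rw [← map_mul]
  convert map_one (thetaG A)
  refine Prod.ext ((by decide : ∀ a : Z2, a * a = 1) e) ?_
  show (_ : PSL) ^ j * _ ^ j = 1
  have h := pow_orderOf_eq_one ((sn : Matrix.SpecialLinearGroup (Fin 2) K) : PSL)
  rw [sn_order A, pow_two] at h
  rw [← (Commute.refl _).mul_zpow, h, one_zpow]

theorem mem_E2 {x : GG} (hx : x ∈ T2 A) (h2 : x * x = 1) : x ∈ E2 A := by
  obtain ⟨e, r, hr, rfl⟩ := (mem_T2 A).1 hx
  rw [← map_mul, ← map_one (thetaG A)] at h2
  have hr2 : r * r = 1 := congrArg Prod.snd (thetaG_inj A h2)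
  have := RotP_isCyclic A
  have : r ∈ Subgroup.zpowers ((sn : Matrix.SpecialLinearGroup (Fin 2) K) : PSL) := by
    refine mem_of_pow_card (A := RotP A) (by rw [Subgroup.zpowers_le]; exact sn_mem_RotP A) hr ?_
    rw [Nat.card_zpowers, sn_order A, pow_two, hr2]
  exact ⟨(e, r), ⟨trivial, this⟩, rfl⟩

theorem orderOf_eq_two {x : GG} (h : x * x = 1) (h1 : x ≠ 1) : orderOf x = 2 := by
  have : Fact (Nat.Prime 2) := ⟨Nat.prime_two⟩
  exact orderOf_eq_prime_iff.2 ⟨by rw [pow_two, h], h1⟩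

theorem centralizer_conj {h x : GG} :
    Subgroup.centralizer {h * x * h⁻¹} = (Subgroup.centralizer {x}).map (MulAut.conj h).toMonoidHom := by
  ext z
  rw [Subgroup.mem_map]
  constructor
  · intro hz
    refine ⟨h⁻¹ * z * h, ?_, by simp [mul_assoc]⟩
    rw [Subgroup.mem_centralizer_singleton_iff] at hz ⊢
    calc h⁻¹ * z * h * x = h⁻¹ * (z * (h * x * h⁻¹)) * h := by group
      _ = _ := by rw [hz]; group
  · rintro ⟨y, hy, rfl⟩
    rw [Subgroup.mem_centralizer_singleton_iff] at hy ⊢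
    show h * y * h⁻¹ * (h * x * h⁻¹) = h * x * h⁻¹ * (h * y * h⁻¹)
    calc h * y * h⁻¹ * (h * x * h⁻¹) = h * (y * x) * h⁻¹ := by group
      _ = _ := by rw [hy]; group

theorem card_centralizer_inf (hm : 1 ≤ m) {p : ℕ} (hp : p.Prime) (hp2 : p ≠ 2) (hpd : p ∣ qq + 1) {x b : GG}
    (hx : orderOf x = p) (hb : orderOf b = 2) (hc : x * b = b * x) :
    Nat.card ↥(Subgroup.centralizer {x} ⊓ Subgroup.centralizer {b}) = qq + 1 := by
  have : Fact p.Prime := ⟨hp⟩
  obtain ⟨-, h1, h2, -⟩ := prime_dvd_plus hp hp2 hpd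
  obtain ⟨g, rfl⟩ := involution_conj A hm hb
  obtain ⟨⟨e, y⟩, hy⟩ := exists_of_comm A (x := g⁻¹ * x * g) (by
    calc g⁻¹ * x * g * inv0 A = g⁻¹ * (x * (g * inv0 A * g⁻¹)) * g := by group
      _ = _ := by rw [hc]; group)
  have hpow : (e, y) ^ p = 1 := by
    refine thetaG_inj A ?_
    rw [map_pow, ← hy, map_one]
    have := conj_pow (i := p) (a := g⁻¹) (b := x)
    rw [inv_inv] at this
    rw [this, ← hx, pow_orderOf_eq_one]; group
  have he : e = 1 := by
    rcases z2_cases e with rfl | rfl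
    · rfl
    · exfalso
      have h : (Multiplicative.ofAdd 1 : Z2) ^ p = 1 := congrArg Prod.fst hpow
      have h' := orderOf_dvd_of_pow_eq_one h
      have h2' : orderOf (Multiplicative.ofAdd 1 : Z2) = 2 := orderOf_eq_prime_iff.2 ⟨by decide, by decide⟩
      rw [h2'] at h'
      exact hp2 ((Nat.prime_dvd_prime_iff_eq Nat.prime_two hp).1 h').symm
  subst he
  have hidx : ¬ p ∣ (RotP A).index := by
    have h := (RotP A).card_mul_index
    have hP := card_PSL2 A
    have hR := card_RotP A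
    rw [A.hK] at hP hR
    rw [← h, ← mul_assoc, hR, show qq ^ 2 - 1 = (qq + 1) * (qq - 1) by rw [← Nat.sq_sub_sq, one_pow],
      mul_left_comm qq] at hP
    rw [Nat.eq_of_mul_eq_mul_left (by omega) hP]
    exact fun d => (hp.dvd_mul.1 d).elim h1 h2
  obtain ⟨k, hk⟩ := exists_conj_mem hidx (x := y) (k := 1) (by rw [pow_one]; exact congrArg Prod.snd hpow)
  set r := k * y * k⁻¹
  have hr2 : r * r ≠ 1 := by
    intro e2
    have e3 : y * y = 1 := by
      have : k * (y * y) * k⁻¹ = 1 := by rw [← e2]; simp only [r]; group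
      exact conj_eq_one_iff.1 this
    have e4 : x * x = 1 := by
      have : g⁻¹ * x * g * (g⁻¹ * x * g) = 1 := by
        rw [hy, ← map_mul, ← map_one (thetaG A)]
        exact congrArg _ (Prod.ext (one_mul 1) e3)
      calc x * x = g * (g⁻¹ * x * g * (g⁻¹ * x * g)) * g⁻¹ := by group
        _ = 1 := by rw [this]; group
    have := orderOf_dvd_of_pow_eq_one (show x ^ 2 = 1 by rw [pow_two, e4])
    rw [hx] at this
    exact hp2 ((Nat.prime_dvd_prime_iff_eq hp Nat.prime_two).1 this)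
  set h := g * (thetaG A (1, k))⁻¹ with hh
  have ex : x = h * thetaG A (1, r) * h⁻¹ := by
    have : thetaG A (1, r) = thetaG A (1, k) * (g⁻¹ * x * g) * (thetaG A (1, k))⁻¹ := by
      rw [hy, ← map_inv, ← map_mul, ← map_mul]
      exact congrArg _ (Prod.ext (by simp) rfl)
    rw [this, hh]; group
  have eb : g * inv0 A * g⁻¹ = h * inv0 A * h⁻¹ := by
    calc g * inv0 A * g⁻¹ = g * ((thetaG A (1, k))⁻¹ * (thetaG A (1, k) * inv0 A)) * g⁻¹ := by group
      _ = _ := by rw [thetaG_comm A, hh]; group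
  rw [ex, eb, centralizer_conj A, centralizer_conj A (x := inv0 A),
    ← Subgroup.map_inf _ _ _ (MulAut.conj h).injective, Subgroup.card_map_of_injective (MulAut.conj h).injective,
    ← card_T2 A]
  congr 2
  have key : Subgroup.centralizer {thetaG A (1, r)} ⊓ Subgroup.centralizer {inv0 A} = T2 A := by
    ext z
    rw [Subgroup.mem_inf, Subgroup.mem_centralizer_singleton_iff, Subgroup.mem_centralizer_singleton_iff, mem_T2 A]
    constructor
    · rintro ⟨hz1, hz2⟩
      obtain ⟨⟨f, s⟩, rfl⟩ := exists_of_comm A hz2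
      rw [← map_mul, ← map_mul] at hz1
      exact ⟨f, s, centralizer_RotP A hk hr2 (congrArg Prod.snd (thetaG_inj A hz1)).symm, rfl⟩
    · rintro ⟨f, s, hs, rfl⟩
      exact ⟨comm_T2 A ((mem_T2 A).2 ⟨f, s, hs, rfl⟩) ((mem_T2 A).2 ⟨1, r, hk, rfl⟩), thetaG_comm A _⟩
  rw [key]

theorem centralizer_inf_eq (hm : 1 ≤ m) {p : ℕ} (hp : p.Prime) (hp2 : p ≠ 2) (hpd : p ∣ qq + 1) {x b : GG}
    (hx : orderOf x = p) (hxT : x ∈ T2 A) (hbE : b ∈ E2 A) (hb1 : b ≠ 1) :
    Subgroup.centralizer {x} ⊓ Subgroup.centralizer {b} = T2 A := by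
  symm
  refine Subgroup.eq_of_le_of_card_ge (fun z hz => ⟨?_, ?_⟩) ?_
  · exact Subgroup.mem_centralizer_singleton_iff.2 (comm_T2 A hz hxT)
  · exact Subgroup.mem_centralizer_singleton_iff.2 (comm_T2 A hz (E2_le A hbE))
  · rw [card_T2 A, card_centralizer_inf A hm hp hp2 hpd hx (orderOf_eq_two A (sq_E2 A hbE) hb1)
      (comm_T2 A hxT (E2_le A hbE))]

set_option maxHeartbeats 1600000 in
/-- Centralisers of elements of odd prime order in the torus of order `q + 1`. -/
theorem centralizer_T2_prime (hm : 1 ≤ m) {p : ℕ} (hp : p.Prime) (hp2 : p ≠ 2) (hpd : p ∣ qq + 1) {x : GG}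
    (hx : orderOf x = p) (hxT : x ∈ T2 A) : Subgroup.centralizer {x} = T2 A := by
  have : Fact (Nat.Prime 2) := ⟨Nat.prime_two⟩
  have hp3 := (prime_dvd_plus hp hp2 hpd).1
  set C := Subgroup.centralizer {x} with hC
  have hT : T2 A ≤ C := fun z hz => Subgroup.mem_centralizer_singleton_iff.2 (comm_T2 A hz hxT)
  have hE : E2 A ≤ C := (E2_le A).trans hT
  have h3C : ∀ z ∈ C, ¬ 3 ∣ orderOf z := by
    intro z hz h3
    obtain ⟨k, hk⟩ := h3
    have hk0 : k ≠ 0 := fun e => by rw [e, mul_zero] at hk; exact (orderOf_pos z).ne' hk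
    have hy : orderOf (z ^ k) = 3 := by
      rw [orderOf_pow_of_dvd hk0 (hk ▸ dvd_mul_left k 3), hk, Nat.mul_div_cancel _ (Nat.pos_of_ne_zero hk0)]
    have hcm : Commute (z ^ k) x := (show Commute z x from Subgroup.mem_centralizer_singleton_iff.1 hz).pow_left k
    have ho : orderOf (z ^ k * x) = 3 * p := by
      rw [hcm.orderOf_mul_eq_mul_orderOf_of_coprime (by
        rw [hy, hx]; exact (Nat.coprime_primes Nat.prime_three hp).2 (by omega)), hy, hx]
    obtain ⟨g, -, h18⟩ := mem_U_or A hm (x := z ^ k * x) (ho ▸ dvd_mul_right 3 p)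
    have h := orderOf_dvd_of_pow_eq_one h18
    rw [ho] at h
    have : p ∣ 6 := Nat.dvd_of_mul_dvd_mul_left (k := 3) (by norm_num) h
    have := Nat.le_of_dvd (by norm_num) this
    interval_cases p <;> first | omega | (revert hp; norm_num)
  set P := (E2 A).subgroupOf C
  have hcP : Nat.card ↥P = 4 := (Nat.card_congr (Subgroup.subgroupOfEquivOfLe hE).toEquiv).trans (card_E2 A)
  have h8 : ¬ 8 ∣ Nat.card ↥C := by
    intro h8
    obtain ⟨S, hS⟩ := Sylow.exists_subgroup_card_pow_prime (G := ↥C) 2 (n := 3) h8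
    obtain ⟨T, hcent, -, -⟩ := Cfsg.Agent.Lib.RankOne.Ree.SylowTwo.main A hm
    have hS' : Nat.card ↥(S.map C.subtype) = 8 := by
      rw [Subgroup.card_map_of_injective C.subtype_injective, hS]; norm_num
    obtain ⟨R, hR⟩ := (IsPGroup.of_card (n := 3) (by rw [hS']; norm_num) : IsPGroup 2 ↥(S.map C.subtype)).exists_le_sylow
    have hR8 : Nat.card ↥(R : Subgroup GG) = 8 := ((Cfsg.Agent.S1152.result A.hK (inv0 A) (torT_mem A (-1)).1
      (fun e => by have := orderOf_inv0 A; rw [e, orderOf_one] at this; omega)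
      (by have := pow_orderOf_eq_one (inv0 A); rwa [orderOf_inv0 A, pow_two] at this)).2 R).1
    have heq : S.map C.subtype = R := Subgroup.eq_of_le_of_card_ge hR (by rw [hR8, hS'])
    obtain ⟨g, hg⟩ := MulAction.exists_smul_eq GG R T
    have hxg : g * x * g⁻¹ ∈ Subgroup.centralizer ((T : Subgroup GG) : Set GG) := by
      rw [Subgroup.mem_centralizer_iff, ← hg]
      rintro _ ⟨z, hz, rfl⟩
      have hzC : z ∈ C := Subgroup.map_subtype_le _ (heq.ge hz)
      have := Subgroup.mem_centralizer_singleton_iff.1 hzC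
      show g * z * g⁻¹ * (g * x * g⁻¹) = g * x * g⁻¹ * (g * z * g⁻¹)
      calc g * z * g⁻¹ * (g * x * g⁻¹) = g * (z * x) * g⁻¹ := by group
        _ = _ := by rw [this]; group
    rw [hcent] at hxg
    have hd : orderOf (g * x * g⁻¹) ∣ 8 := by
      rw [← ((Cfsg.Agent.S1152.result A.hK (inv0 A) (torT_mem A (-1)).1
        (fun e => by have := orderOf_inv0 A; rw [e, orderOf_one] at this; omega)
        (by have := pow_orderOf_eq_one (inv0 A); rwa [orderOf_inv0 A, pow_two] at this)).2 T).1,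
        ← Subgroup.orderOf_mk _ hxg]
      exact orderOf_dvd_natCard _
    rw [show g * x * g⁻¹ = (MulAut.conj g) x from rfl, MulEquiv.orderOf_eq, hx] at hd
    have hd' : p ∣ 2 ^ 3 := hd
    exact hp2 ((Nat.prime_dvd_prime_iff_eq hp Nat.prime_two).1 (hp.dvd_of_dvd_pow hd'))
  have hidx : ¬ 2 ∣ P.index := by
    intro h
    have := P.card_mul_index
    rw [hcP] at this
    exact h8 (this ▸ mul_dvd_mul_left 4 h)
  obtain ⟨S, hSP⟩ : ∃ S : Sylow 2 ↥C, (S : Subgroup ↥C) = P :=
    ⟨(IsPGroup.of_card (n := 2) (by rw [hcP]; norm_num) : IsPGroup 2 ↥P).toSylow hidx, rfl⟩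
  have hN : Subgroup.normalizer ((S : Subgroup ↥C) : Set ↥C) ≤ Subgroup.centralizer ((S : Subgroup ↥C) : Set ↥C) :=
    normalizer_le_centralizer_four S (by rw [hSP]; exact hcP)
      (fun s hs t ht => Subtype.ext (comm_T2 A (E2_le A (Subgroup.mem_subgroupOf.1 (hSP.le hs))) (E2_le A (Subgroup.mem_subgroupOf.1 (hSP.le ht)))))
      fun n h => h3C n n.2 (by rw [Subgroup.orderOf_coe]; exact h)
  have hcomp := MonoidHom.ker_transferSylow_isComplement' S hN
  set O := (MonoidHom.transferSylow S hN).ker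
  have hnormE : E2 A ≤ Subgroup.normalizer ((O.map C.subtype : Subgroup GG) : Set GG) :=
    le_normalizer_map (MonoidHom.normal_ker _) hE
  have hcopO : (Nat.card ↥(E2 A)).Coprime (Nat.card ↥(O.map C.subtype)) := by
    rw [card_E2 A, Subgroup.card_map_of_injective C.subtype_injective]
    show Nat.Coprime (2 ^ 2) _
    exact ((Nat.prime_two.coprime_iff_not_dvd).2 (MonoidHom.not_dvd_card_ker_transferSylow S hN)).pow_left 2
  have : IsMulCommutative ↥(E2 A) := ⟨⟨fun a b => Subtype.ext (comm_T2 A (E2_le A a.2) (E2_le A b.2))⟩⟩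
  have hnc : ¬ IsCyclic ↥(E2 A) := by
    intro hcyc
    obtain ⟨g, hg⟩ := IsCyclic.exists_ofOrder_eq_natCard (α := ↥(E2 A))
    rw [card_E2 A] at hg
    have : orderOf g ∣ 2 := orderOf_dvd_of_pow_eq_one (Subtype.ext (by
      rw [pow_two]; exact sq_E2 A g.2))
    rw [hg] at this
    exact absurd this (by norm_num)
  have hgen := Cfsg.Agent.Lib.Coprime.iSup_centralizer_eq hnc hnormE hcopO
  have hOle : O.map C.subtype ≤ T2 A := by
    rw [← hgen]
    refine iSup₂_le fun b hb => ?_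
    rw [← centralizer_inf_eq A hm hp hp2 hpd hx hxT hb.1 hb.2]
    exact inf_le_inf_right _ (Subgroup.map_subtype_le _)
  refine le_antisymm (fun z hz => ?_) hT
  obtain ⟨⟨u, v⟩, huv⟩ := hcomp.2 ⟨z, hz⟩
  have e : (u.1 : GG) * (v.1 : GG) = z := congrArg Subtype.val huv
  rw [← e]
  first
    | exact Subgroup.mul_mem _ (hOle ⟨_, u.2, rfl⟩) (E2_le A (Subgroup.mem_subgroupOf.1 (hSP.le v.2)))
    | exact Subgroup.mul_mem _ (E2_le A (Subgroup.mem_subgroupOf.1 (hSP.le v.2))) (hOle ⟨_, u.2, rfl⟩)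

/-- Centralisers of non-involutory elements of the torus of order `q + 1`. -/
theorem centralizer_T2 (hm : 1 ≤ m) {x : GG} (hxT : x ∈ T2 A) (hx2 : x * x ≠ 1) :
    Subgroup.centralizer {x} = T2 A := by
  refine le_antisymm ?_ fun z hz => Subgroup.mem_centralizer_singleton_iff.2 (comm_T2 A hz hxT)
  have hne : orderOf (x * x) ≠ 1 := fun e => hx2 (orderOf_eq_one_iff.1 e)
  obtain ⟨p, hp, hpd⟩ := Nat.exists_prime_and_dvd hne
  have hdx : p ∣ orderOf x := hpd.trans (by rw [← pow_two]; exact orderOf_pow_dvd 2)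
  have hp2 : p ≠ 2 := by
    rintro rfl
    obtain ⟨c, hc⟩ := hdx
    obtain ⟨-, hq8, -⟩ := q_facts hm
    -- the torus has exponent twice an odd number
    obtain ⟨e, r, hr, rfl⟩ := (mem_T2 A).1 hxT
    have hord : orderOf r ∣ Nat.card ↥(RotP A) := by
      rw [← Subgroup.orderOf_mk r hr]; exact orderOf_dvd_natCard _
    have hk : (thetaG A (e, r) * thetaG A (e, r)) ^ (Nat.card ↥(RotP A) / 2) = 1 := by
      have hR := card_RotP A
      rw [A.hK] at hR
      have hr' : r ^ Nat.card ↥(RotP A) = 1 := by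
        obtain ⟨d, hd⟩ := hord
        rw [hd, pow_mul, pow_orderOf_eq_one, one_pow]
      rw [← map_mul, ← map_pow, Prod.mk_mul_mk, Prod.pow_mk, ← pow_two r, ← pow_mul,
        show 2 * (Nat.card ↥(RotP A) / 2) = Nat.card ↥(RotP A) by omega, hr',
        (by decide : ∀ a : Z2, a * a = 1) e, one_pow]
      exact map_one _
    have := hpd.trans (orderOf_dvd_of_pow_eq_one hk)
    have hR := card_RotP A
    rw [A.hK] at hR
    omega
  have hpq : p ∣ qq + 1 := by
    rw [← card_T2 A]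
    refine hdx.trans ?_
    rw [← Subgroup.orderOf_mk x hxT]
    exact orderOf_dvd_natCard _
  obtain ⟨c, hc⟩ := hdx
  have hc0 : c ≠ 0 := fun e => by rw [e, mul_zero] at hc; exact (orderOf_pos x).ne' hc
  have hy : orderOf (x ^ c) = p := by
    rw [orderOf_pow_of_dvd hc0 (hc ▸ dvd_mul_left c p), hc, Nat.mul_div_cancel _ (Nat.pos_of_ne_zero hc0)]
  rw [← centralizer_T2_prime A hm hp hp2 hpq hy (Subgroup.pow_mem _ hxT c)]
  intro z hz
  rw [Subgroup.mem_centralizer_singleton_iff] at hz ⊢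
  exact ((show Commute z x from hz).pow_right c).eq

end Cfsg.Agent.Lib.RankOne.Ree
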