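import Cfsg.Agent.Lib.RankOne.ReeCount

/-!
There are exactly two classes of Singer type tori, of orders `q ± r + 1`.
-/

set_option autoImplicit false
set_option maxRecDepth 100000

namespace Cfsg.Agent.Lib.RankOne.Ree

open Cfsg.Lie Cfsg.Agent.Lib.Chev Cfsg.Agent.Lib.Chev.Tw Cfsg.Agent.Lib.Chev.Tw.G2

theorem arith_one {Q t c q : ℤ} (ht : 5 ≤ t) (hc : 1 ≤ c) (hq : 0 ≤ q) (hQ : 2 * (q + 1) < Q)
    (h : Q * c * (t - 1) = t * (2 * Q - 2 * (q + 1))) : Q = t * (q + 1) := by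
  rcases (show c = 1 ∨ c = 2 ∨ 3 ≤ c by omega) with rfl | rfl | hc
  · nlinarith [mul_pos (show (0 : ℤ) < t by omega) (show (0 : ℤ) < Q - 2 * (q + 1) by omega)]
  · linarith
  · nlinarith [mul_le_mul_of_nonneg_right (mul_le_mul_of_nonneg_left hc (show (0 : ℤ) ≤ Q by omega))
      (show (0 : ℤ) ≤ t - 1 by omega), mul_pos (show (0 : ℤ) < t by omega) (show (0 : ℤ) < q + 1 by omega),
      mul_le_mul_of_nonneg_left ht (show (0 : ℤ) ≤ Q by omega)]

theorem arith_two {Q t t' c c' q : ℤ} (ht : 5 ≤ t) (ht' : 5 ≤ t') (hc : 1 ≤ c) (hc' : 1 ≤ c') (hq : 0 ≤ q)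
    (hQ : 0 < Q) (h : (c * (t - 1) * t' + c' * (t' - 1) * t) * Q ≤ (2 * Q - 2 * (q + 1)) * (t * t')) :
    c = 1 ∧ c' = 1 := by
  have hpos : 0 < t * t' := mul_pos (by omega) (by omega)
  have hlt : c * (t - 1) * t' + c' * (t' - 1) * t < 2 * (t * t') := by
    refine lt_of_mul_lt_mul_right ?_ hQ.le
    nlinarith [mul_pos (show (0 : ℤ) < q + 1 by omega) hpos]
  have h1 : 0 ≤ (t - 1) * t' := mul_nonneg (by omega) (by omega)
  have h2 : 0 ≤ (t' - 1) * t := mul_nonneg (by omega) (by omega)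
  have k1 := mul_le_mul_of_nonneg_left ht (show (0 : ℤ) ≤ t' by omega)
  have k2 := mul_le_mul_of_nonneg_left ht' (show (0 : ℤ) ≤ t by omega)
  constructor
  · by_contra hne
    nlinarith [mul_le_mul_of_nonneg_right (show (2 : ℤ) ≤ c by omega) h1, mul_le_mul_of_nonneg_right hc' h2]
  · by_contra hne
    nlinarith [mul_le_mul_of_nonneg_right (show (2 : ℤ) ≤ c' by omega) h2, mul_le_mul_of_nonneg_right hc h1]

theorem arith_three {Q X g q : ℤ} (hq : 0 ≤ q) (hQ : 0 < Q) (hg : 0 < g)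
    (h : 6 * Q * X = g * (2 * Q - 2 * (q + 1))) (hX : 12 * g ≤ 30 * X) : False := by
  nlinarith [mul_le_mul_of_nonneg_left hX hQ.le, mul_pos hg hQ, mul_pos hg (show (0 : ℤ) < q + 1 by omega)]

variable {K : Type*} [Field K] [Fintype K] {m : ℕ} (A : Par K m)
include A

set_option quotPrecheck false
local notation "qq" => 3 ^ (2 * m + 1)
local notation "GG" => ↥(twistedG2 K (3 ^ m))

/-- The conjugates of a Singer type torus without the identity. -/
def conjSet (_ : Par K m) (y : GG) : Set GG :=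
  {x : GG | ∃ g, ∃ s ∈ {s : GG | s ∈ Subgroup.centralizer {y} ∧ s ≠ 1}, g * s * g⁻¹ = x}

theorem orbit_data (hm : 1 ≤ m) {y : GG} (hy : y ^ Qn m = 1) (hy1 : y ≠ 1) :
    ∃ c : ℕ, 1 ≤ c ∧ 5 ≤ Nat.card ↥(Subgroup.centralizer {y}) ∧
      Nat.card ↥(Subgroup.normalizer (Subgroup.centralizer {y} : Set GG)) * c =
        6 * Nat.card ↥(Subgroup.centralizer {y}) ∧
      (conjSet A y).ncard * (6 * Nat.card ↥(Subgroup.centralizer {y})) =
        Nat.card GG * c * (Nat.card ↥(Subgroup.centralizer {y}) - 1) ∧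
      conjSet A y ⊆ {x : GG | x ^ Qn m = 1 ∧ x ≠ 1} ∧ y ∈ conjSet A y := by
  obtain ⟨-, hd, hC, hidx⟩ := singer A hm hy1 hy
  set T := Subgroup.centralizer {y} with hT
  set N := Subgroup.normalizer (T : Set GG)
  have hyT : y ∈ T := Subgroup.mem_centralizer_singleton_iff.2 rfl
  obtain ⟨c, hc⟩ := hidx
  have hcard : Nat.card ↥N * c = 6 * Nat.card ↥T := by
    rw [← (T.subgroupOf N).card_mul_index, Nat.card_congr (Subgroup.subgroupOfEquivOfLe Subgroup.le_normalizer).toEquiv,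
      hc]
    ring
  have hpow : ∀ s ∈ T, s ^ Qn m = 1 := by
    intro s hs
    obtain ⟨d, hd⟩ := hd
    rw [hd, pow_mul, show s ^ Nat.card ↥T = 1 from congrArg Subtype.val (pow_card_eq_one' (x := (⟨s, hs⟩ : ↥T))),
      one_pow]
  have hS : {s : GG | s ∈ T ∧ s ≠ 1} = (T : Set GG) \ {1} := rfl
  have hN : ∀ n ∈ N, ∀ s ∈ {s : GG | s ∈ T ∧ s ≠ 1}, n * s * n⁻¹ ∈ {s : GG | s ∈ T ∧ s ≠ 1} := by
    rintro n hn s ⟨h1, h2⟩
    exact ⟨(Subgroup.mem_normalizer_iff.1 hn s).1 h1, fun e => h2 (conj_eq_one_iff.1 e)⟩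
  have hn : (conjSet A y).ncard * Nat.card ↥N = Nat.card GG * (Nat.card ↥T - 1) := by
    rw [conjSet, card_conjugates _ N hN
      (fun g s hs h => mem_normalizer_of_centralizer (hC s hs.1 hs.2) (hC _ h.1 h.2)),
      mul_right_comm, mul_comm _ (Nat.card _), Subgroup.card_mul_index, hS, Set.ncard_sdiff_singleton_of_mem (one_mem _),
      ← Nat.card_coe_set_eq]
    rfl
  refine ⟨c, Nat.one_le_iff_ne_zero.2 fun e => by rw [e, mul_zero] at hc; omega, ?_, hcard, ?_, ?_, ?_⟩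
  · have hy0 : orderOf y ∣ Nat.card ↥T := by rw [← Subgroup.orderOf_mk y hyT]; exact orderOf_dvd_natCard _
    obtain ⟨p, hp, hpd⟩ := Nat.exists_prime_and_dvd (fun e : orderOf y = 1 => hy1 (orderOf_eq_one_iff.1 e))
    have h3 := (prime_dvd_Qn hp (hpd.trans (orderOf_dvd_of_pow_eq_one hy))).1
    have h5 : p ≠ 4 := fun e => by rw [e] at hp; norm_num at hp
    have := Nat.le_of_dvd Nat.card_pos (hpd.trans hy0)
    omega
  · rw [← hcard, ← mul_assoc, hn]; ring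
  · rintro x ⟨g, s, ⟨hs, hs1⟩, rfl⟩
    exact ⟨by rw [conj_pow, hpow s hs]; group, fun e => hs1 (conj_eq_one_iff.1 e)⟩
  · exact ⟨1, y, ⟨hyT, hy1⟩, by group⟩

theorem conjSet_disjoint (hm : 1 ≤ m) {y y' : GG} (hy : y ^ Qn m = 1) (hy1 : y ≠ 1) (hy' : y' ^ Qn m = 1)
    (hy1' : y' ≠ 1) (h : y' ∉ conjSet A y) : Disjoint (conjSet A y) (conjSet A y') := by
  obtain ⟨-, -, hC, -⟩ := singer A hm hy1 hy
  obtain ⟨-, -, hC', -⟩ := singer A hm hy1' hy'
  rw [Set.disjoint_left]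
  rintro z ⟨g, s, ⟨hs, hs1⟩, rfl⟩ ⟨g', s', ⟨hs', hs1'⟩, e⟩
  refine h ⟨g'⁻¹ * g, (g'⁻¹ * g)⁻¹ * y' * (g'⁻¹ * g), ⟨?_, fun e1 => hy1' ?_⟩, by group⟩
  · rw [← hC s hs hs1, Subgroup.mem_centralizer_singleton_iff]
    have h2 : y' ∈ Subgroup.centralizer {s'} := by
      rw [hC' s' hs' hs1']; exact Subgroup.mem_centralizer_singleton_iff.2 rfl
    rw [Subgroup.mem_centralizer_singleton_iff] at h2
    have es : s = g⁻¹ * (g' * s' * g'⁻¹) * g := by rw [e]; group
    calc _ = (g'⁻¹ * g)⁻¹ * (y' * s') * (g'⁻¹ * g) := by rw [es]; group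
      _ = (g'⁻¹ * g)⁻¹ * (s' * y') * (g'⁻¹ * g) := by rw [h2]
      _ = _ := by rw [es]; group
  · calc y' = (g'⁻¹ * g) * ((g'⁻¹ * g)⁻¹ * y' * (g'⁻¹ * g)) * (g'⁻¹ * g)⁻¹ := by group
      _ = 1 := by rw [e1]; group

theorem coprime_of_disjoint (hm : 1 ≤ m) {y y' : GG} (hy : y ^ Qn m = 1) (hy1 : y ≠ 1) (hy' : y' ^ Qn m = 1)
    (hy1' : y' ≠ 1) (h : Disjoint (conjSet A y) (conjSet A y')) :
    (Nat.card ↥(Subgroup.centralizer {y})).Coprime (Nat.card ↥(Subgroup.centralizer {y'})) := by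
  obtain ⟨-, hd, hC, -⟩ := singer A hm hy1 hy
  refine Nat.coprime_of_dvd fun l hl hl1 hl2 => ?_
  have : Fact l.Prime := ⟨hl⟩
  have hl3 : 3 < l := (prime_dvd_Qn hl (hl1.trans hd)).1
  obtain ⟨z, hz⟩ := exists_prime_orderOf_dvd_card' l hl1
  obtain ⟨z', hz'⟩ := exists_prime_orderOf_dvd_card' l hl2
  have hz1 : (z : GG) ≠ 1 := fun e => by
    rw [← Subgroup.orderOf_coe, e, orderOf_one] at hz; omega
  have hz1' : (z' : GG) ≠ 1 := fun e => by
    rw [← Subgroup.orderOf_coe, e, orderOf_one] at hz'; omega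
  obtain ⟨P, hP⟩ := (IsPGroup.of_card (p := l) (n := 1) (G := Subgroup.zpowers (z : GG))
    (by rw [Nat.card_zpowers, Subgroup.orderOf_coe, hz, pow_one])).exists_le_sylow
  obtain ⟨g, hg⟩ := exists_conj_mem (T := (P : Subgroup GG)) (p := l) P.not_dvd_index (x := (z' : GG)) (k := 1)
    (by rw [pow_one, ← hz', ← Subgroup.orderOf_coe, pow_orderOf_eq_one])
  have := Cfsg.Agent.S1156.result hm A.hK hl3 P
  have hc : g * z' * g⁻¹ * z = z * (g * z' * g⁻¹) := congrArg Subtype.val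
    ((IsCyclic.isMulCommutative (α := ↥(P : Subgroup GG))).is_comm.comm ⟨_, hg⟩ ⟨_, hP (Subgroup.mem_zpowers _)⟩)
  have hm' : g * z' * g⁻¹ ∈ Subgroup.centralizer {y} := by
    rw [← hC z z.2 hz1]; exact Subgroup.mem_centralizer_singleton_iff.2 hc
  have m1 : (z' : GG) ∈ conjSet A y :=
    ⟨g⁻¹, g * z' * g⁻¹, ⟨hm', fun e => hz1' (conj_eq_one_iff.1 e)⟩, by group⟩
  exact Set.disjoint_left.1 h m1 ⟨1, z', ⟨z'.2, hz1'⟩, by group⟩

set_option maxHeartbeats 1000000 in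
/-- Two elements whose centralisers have the orders `q ± r + 1` and represent all of their kind. -/
theorem two_tori (hm : 1 ≤ m) : ∃ y y' : GG, y ^ Qn m = 1 ∧ y ≠ 1 ∧ y' ^ Qn m = 1 ∧ y' ≠ 1 ∧
    Nat.card ↥(Subgroup.centralizer {y}) = qq - 3 ^ (m + 1) + 1 ∧
    Nat.card ↥(Subgroup.normalizer (Subgroup.centralizer {y} : Set GG)) = 6 * (qq - 3 ^ (m + 1) + 1) ∧
    Nat.card ↥(Subgroup.centralizer {y'}) = qq + 3 ^ (m + 1) + 1 ∧
    Nat.card ↥(Subgroup.normalizer (Subgroup.centralizer {y'} : Set GG)) = 6 * (qq + 3 ^ (m + 1) + 1) ∧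
    {x : GG | x ^ Qn m = 1 ∧ x ≠ 1} = conjSet A y ∪ conjSet A y' := by
  obtain ⟨hq, hq8, hq3⟩ := q_facts hm
  have hX := card_X A hm
  set X := {x : GG | x ^ Qn m = 1 ∧ x ≠ 1} with hXdef
  have hQ : (Qn m : ℤ) = (qq : ℕ) * ((qq : ℕ) - 1) + 1 := by
    unfold Qn; push_cast [Nat.one_le_pow (2 * m + 1) 3 (by norm_num)]; ring
  have hg : (0 : ℤ) < Nat.card GG := by exact_mod_cast Nat.card_pos
  have hQbig : (2 : ℤ) * (qq + 1 : ℕ) < Qn m := by
    rw [hQ]; push_cast; nlinarith [show (27 : ℤ) ≤ ((3 : ℤ) ^ (2 * m + 1)) by exact_mod_cast hq]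
  have hXne : X.Nonempty := by
    rw [Set.nonempty_iff_ne_empty]
    intro e
    rw [e, Set.ncard_empty, Nat.cast_zero, mul_zero] at hX
    rcases mul_eq_zero.1 hX.symm with h | h <;> omega
  obtain ⟨y, hy, hy1⟩ := hXne
  obtain ⟨c, hc1, ht5, hN, hn, hsub, hmem⟩ := orbit_data A hm hy hy1
  obtain ⟨-, hd, -, -⟩ := singer A hm hy1 hy
  set t := Nat.card ↥(Subgroup.centralizer {y})
  have hnz : ((conjSet A y).ncard : ℤ) * (6 * t) = Nat.card GG * c * ((t : ℤ) - 1) := by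
    have := congrArg (fun n : ℕ => (n : ℤ)) hn
    push_cast [show 1 ≤ t by omega] at this
    exact this
  have hne : ¬ X ⊆ conjSet A y := by
    intro hle
    have heq : conjSet A y = X := subset_antisymm hsub hle
    rw [heq] at hnz
    have h2 : (Qn m : ℤ) * c * ((t : ℤ) - 1) = t * (2 * Qn m - 2 * (qq + 1 : ℕ)) :=
      mul_left_cancel₀ hg.ne' (by linear_combination (t : ℤ) * hX - (Qn m : ℤ) * hnz)
    have h3 : (Qn m : ℤ) = (t : ℤ) * ((qq : ℕ) + 1) :=
      arith_one (c := (c : ℤ)) (by exact_mod_cast ht5) (by exact_mod_cast hc1) (Int.natCast_nonneg _)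
        (by push_cast at hQbig ⊢; exact hQbig) (by push_cast at h2 ⊢; exact h2)
    have h4 : qq + 1 ∣ Qn m := ⟨t, by rw [mul_comm]; exact_mod_cast h3⟩
    have h5 := Nat.dvd_gcd h4 (dvd_refl _)
    rw [(qn_coprime m).2.1.gcd_eq_one, Nat.dvd_one] at h5
    omega
  obtain ⟨y', ⟨hy', hy1'⟩, hnot⟩ := Set.not_subset.1 hne
  obtain ⟨c', hc1', ht5', hN', hn', hsub', hmem'⟩ := orbit_data A hm hy' hy1'
  obtain ⟨-, hd', -, -⟩ := singer A hm hy1' hy'
  set t' := Nat.card ↥(Subgroup.centralizer {y'})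
  have hnz' : ((conjSet A y').ncard : ℤ) * (6 * t') = Nat.card GG * c' * ((t' : ℤ) - 1) := by
    have := congrArg (fun n : ℕ => (n : ℤ)) hn'
    push_cast [show 1 ≤ t' by omega] at this
    exact this
  have hdis := conjSet_disjoint A hm hy hy1 hy' hy1' hnot
  have hco := coprime_of_disjoint A hm hy hy1 hy' hy1' hdis
  have htwo : (Nat.card GG : ℤ) * (c * ((t : ℤ) - 1) * t' + c' * ((t' : ℤ) - 1) * t) * Qn m ≤
      Nat.card GG * (2 * Qn m - 2 * (qq + 1 : ℕ)) * (t * t') := by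
    have hle : (conjSet A y).ncard + (conjSet A y').ncard ≤ X.ncard := by
      rw [← Set.ncard_union_eq hdis (Set.toFinite _) (Set.toFinite _)]
      exact Set.ncard_le_ncard (Set.union_subset hsub hsub') (Set.toFinite _)
    have hle' : (((conjSet A y).ncard : ℤ) + (conjSet A y').ncard) * (6 * Qn m * (t * t')) ≤ X.ncard * (6 * Qn m * (t * t')) :=
      mul_le_mul_of_nonneg_right (by exact_mod_cast hle) (by positivity)
    calc _ = (((conjSet A y).ncard : ℤ) + (conjSet A y').ncard) * (6 * Qn m * (t * t')) := by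
          linear_combination (-(Qn m : ℤ) * t') * hnz - (Qn m : ℤ) * t * hnz'
      _ ≤ _ := hle'
      _ = _ := by linear_combination ((t : ℤ) * t') * hX
  have hQpos : (0 : ℤ) < Qn m := by omega
  have ht : (5 : ℤ) ≤ t := by exact_mod_cast ht5
  have ht' : (5 : ℤ) ≤ t' := by exact_mod_cast ht5'
  obtain ⟨hc, hc'⟩ : (c : ℤ) = 1 ∧ (c' : ℤ) = 1 :=
    arith_two ht ht' (by exact_mod_cast hc1) (by exact_mod_cast hc1') (Int.natCast_nonneg qq) hQpos
      (le_of_mul_le_mul_left (by push_cast at htwo ⊢; linarith [htwo]) hg)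
  norm_cast at hc hc'
  subst hc hc'
  have hall : X = conjSet A y ∪ conjSet A y' := by
    refine (subset_antisymm ?_ (Set.union_subset hsub hsub'))
    by_contra hne'
    obtain ⟨z, ⟨hz, hz1⟩, hnz0⟩ := Set.not_subset.1 hne'
    simp only [Set.mem_union, not_or] at hnz0
    obtain ⟨c'', hc1'', ht5'', -, hn'', hsub'', -⟩ := orbit_data A hm hz hz1
    set t'' := Nat.card ↥(Subgroup.centralizer {z})
    have hd1 := conjSet_disjoint A hm hy hy1 hz hz1 hnz0.1
    have hd2 := conjSet_disjoint A hm hy' hy1' hz hz1 hnz0.2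
    have hle : (conjSet A y).ncard + (conjSet A y').ncard + (conjSet A z).ncard ≤ X.ncard := by
      rw [← Set.ncard_union_eq hdis (Set.toFinite _) (Set.toFinite _),
        ← Set.ncard_union_eq (Set.disjoint_union_left.2 ⟨hd1, hd2⟩) (Set.toFinite _) (Set.toFinite _)]
      exact Set.ncard_le_ncard (Set.union_subset (Set.union_subset hsub hsub') hsub'') (Set.toFinite _)
    -- each class fills more than four fifths of `|G| / 6`
    have b : ∀ (n : ℕ) (c t : ℕ), 1 ≤ c → 5 ≤ t → n * (6 * t) = Nat.card GG * c * (t - 1) →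
        4 * Nat.card GG ≤ 30 * n := by
      intro n c t hc ht h
      have h1 : (5 : ℕ) * (t - 1) ≥ 4 * t := by omega
      have h2 : Nat.card GG * (4 * t) ≤ 30 * n * t := by
        calc Nat.card GG * (4 * t) ≤ Nat.card GG * (c * (5 * (t - 1))) :=
              Nat.mul_le_mul_left _ (h1.trans (Nat.le_mul_of_pos_left _ (by omega)))
          _ = 5 * (Nat.card GG * c * (t - 1)) := by ring
          _ = _ := by rw [← h]; ring
      exact Nat.le_of_mul_le_mul_right (by rw [mul_assoc] at *; linarith) (show 0 < t by omega)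
    have b1 := b _ _ _ le_rfl ht5 hn
    have b2 := b _ _ _ le_rfl ht5' hn'
    have b3 := b _ _ _ hc1'' ht5'' hn''
    have hsum : (12 : ℤ) * Nat.card GG ≤ 30 * X.ncard := by exact_mod_cast (by omega : 12 * Nat.card GG ≤ 30 * X.ncard)
    exact arith_three (q := ((qq : ℕ) : ℤ)) (Int.natCast_nonneg _) hQpos hg (by push_cast at hX ⊢; exact hX) hsum
  have heq : ((t : ℤ) + t') * Qn m = 2 * (qq + 1 : ℕ) * (t * t') := by
    have h3 : ((conjSet A y).ncard : ℤ) + (conjSet A y').ncard = X.ncard := by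
      rw [hall, Set.ncard_union_eq hdis (Set.toFinite _) (Set.toFinite _)]; push_cast; rfl
    refine mul_left_cancel₀ hg.ne' ?_
    push_cast at hnz hnz' hX ⊢
    linear_combination ((Qn m : ℤ) * t') * hnz + (Qn m : ℤ) * t * hnz' - ((t : ℤ) * t') * hX - (6 * (Qn m : ℤ) * (t * t')) * h3
  have hprod : t * t' = Qn m := by
    have h1 : t * t' ∣ Qn m := hco.mul_dvd_of_dvd_of_dvd hd hd'
    have h2 : Qn m ∣ t * t' := by
      have e : (t + t') * Qn m = 2 * (qq + 1) * (t * t') := by exact_mod_cast heq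
      exact (Nat.Coprime.mul_right (qn_coprime m).2.2.2 (qn_coprime m).2.1).dvd_of_dvd_mul_left ⟨t + t', by rw [← e]; ring⟩
    exact Nat.dvd_antisymm h1 h2
  have hsum : (t : ℤ) + t' = 2 * (qq + 1 : ℕ) :=
    mul_right_cancel₀ hQpos.ne' (heq.trans (by rw [← hprod]; push_cast; ring))
  have hsq : ((t : ℤ) - (qq + 1 : ℕ)) ^ 2 = ((3 : ℤ) ^ (m + 1)) ^ 2 := by
    have hp : (t : ℤ) * t' = Qn m := by exact_mod_cast hprod
    have e : ((3 : ℤ) ^ (m + 1)) ^ 2 = 3 * (3 : ℤ) ^ (2 * m + 1) := by ring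
    rw [hQ] at hp
    push_cast at hsum hp ⊢
    rw [e]
    linear_combination (t : ℤ) * hsum - hp
  have hr : 3 ^ (m + 1) ≤ qq := Nat.pow_le_pow_right (by norm_num) (by omega)
  have hN1 : Nat.card ↥(Subgroup.normalizer (Subgroup.centralizer {y} : Set GG)) = 6 * t := by rwa [mul_one] at hN
  have hN2 : Nat.card ↥(Subgroup.normalizer (Subgroup.centralizer {y'} : Set GG)) = 6 * t' := by rwa [mul_one] at hN'
  rcases sq_eq_sq_iff_eq_or_eq_neg.1 hsq with h | h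
  · have ha : t = qq + 3 ^ (m + 1) + 1 := by push_cast at h; zify; omega
    have hb : t' = qq - 3 ^ (m + 1) + 1 := by push_cast at h hsum; zify [hr]; omega
    exact ⟨y', y, hy', hy1', hy, hy1, hb, hb ▸ hN2, ha, ha ▸ hN1, by rw [Set.union_comm]; exact hall⟩
  · have ha : t = qq - 3 ^ (m + 1) + 1 := by push_cast at h; zify [hr]; omega
    have hb : t' = qq + 3 ^ (m + 1) + 1 := by push_cast at h hsum; zify; omega
    exact ⟨y, y', hy, hy1, hy', hy1', ha, ha ▸ hN1, hb, hb ▸ hN2, hall⟩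

end Cfsg.Agent.Lib.RankOne.Ree
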