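import Cfsg.Agent.Lib.RankOne.HermOrbit

/-!
A lower bound for congruence invariant sets of nonzero symmetric matrices over a field of odd order.
-/

set_option autoImplicit false
set_option maxHeartbeats 1000000

namespace Cfsg.Agent.Lib.RankOne.SymOrbit

open Matrix

variable {F : Type*} [Field F] [Fintype F] [DecidableEq F]

/-- Congruence by a matrix. -/
def act {r : ℕ} (A H : Matrix (Fin r) (Fin r) F) : Matrix (Fin r) (Fin r) F := Aᵀ * H * A

theorem act_apply {r : ℕ} (A H : Matrix (Fin r) (Fin r) F) (i j : Fin r) :
    act A H i j = (fun k => A k i) ⬝ᵥ (H *ᵥ fun l => A l j) := by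
  simp only [act, Matrix.mul_apply, dotProduct, Matrix.mulVec, Matrix.transpose_apply,
    Finset.mul_sum, Finset.sum_mul]
  rw [Finset.sum_comm]
  simp only [mul_assoc]

theorem exists_col {r : ℕ} {v : Fin (r + 1) → F} (hv : v ≠ 0) :
    ∃ A : Matrix (Fin (r + 1)) (Fin (r + 1)) F, A.det ≠ 0 ∧ ∀ i, A i 0 = v i := by
  rcases r with _ | r
  · refine ⟨Matrix.of fun i _ => v i, ?_, fun i => rfl⟩
    rw [Matrix.det_fin_one]
    intro h
    exact hv (funext fun i => by rw [show i = 0 from Fin.ext (by omega)]; exact h)
  · obtain ⟨A, hA, hc⟩ := HermOrbit.exists_col hv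
    exact ⟨A, by rw [hA]; exact one_ne_zero, hc⟩

theorem blk_zero {r : ℕ} (μ : F) (B : Matrix (Fin r) (Fin r) F) (H : Matrix (Fin (r + 1)) (Fin (r + 1)) F) :
    act (HermOrbit.blk μ B) H 0 0 = μ * H 0 0 * μ := by
  rw [act_apply]
  simp [dotProduct, Matrix.mulVec, Fin.sum_univ_succ, HermOrbit.blk, mul_assoc]

theorem blk_row {r : ℕ} (μ : F) (B : Matrix (Fin r) (Fin r) F) (H : Matrix (Fin (r + 1)) (Fin (r + 1)) F) (j : Fin r) :
    act (HermOrbit.blk μ B) H 0 j.succ = μ * ∑ l : Fin r, H 0 l.succ * B l j := by
  rw [act_apply]
  simp [dotProduct, Matrix.mulVec, Fin.sum_univ_succ, HermOrbit.blk]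

theorem blk_inner {r : ℕ} (μ : F) (B : Matrix (Fin r) (Fin r) F) (H : Matrix (Fin (r + 1)) (Fin (r + 1)) F) :
    (act (HermOrbit.blk μ B) H).submatrix Fin.succ Fin.succ = act B (H.submatrix Fin.succ Fin.succ) := by
  ext i j
  rw [Matrix.submatrix_apply, act_apply, act_apply]
  simp [dotProduct, Matrix.mulVec, Fin.sum_univ_succ, HermOrbit.blk]

theorem exists_value {r : ℕ} (h2 : (2 : F) ≠ 0) {H : Matrix (Fin r) (Fin r) F} (hH : Hᵀ = H) (h0 : H ≠ 0) :
    ∃ v : Fin r → F, v ⬝ᵥ (H *ᵥ v) ≠ 0 := by
  by_contra h
  push Not at h
  apply h0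
  ext i j
  have hdiag : ∀ k, H k k = 0 := fun k => by
    have := h (Pi.single k 1)
    rwa [single_one_dotProduct, Matrix.mulVec_single_one] at this
  rcases eq_or_ne i j with rfl | hij
  · exact hdiag i
  have hs : H j i = H i j := congrFun (congrFun hH i) j
  have := h (Pi.single i 1 + Pi.single j 1)
  simp [Matrix.mulVec_add, add_dotProduct, dotProduct_add, single_one_dotProduct,
    Matrix.mulVec_single_one, hdiag, hs] at this
  have h' : (2 : F) * H i j = 0 := by linear_combination this
  exact (mul_eq_zero.1 h').resolve_left h2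

theorem card_squares (h2 : (2 : F) ≠ 0) :
    2 * ((Finset.univ.erase (0 : F)).image fun x => x * x).card ≥ Fintype.card F - 1 := by
  rw [← Finset.card_univ, ← Finset.card_erase_of_mem (Finset.mem_univ (0 : F))]
  refine Finset.card_le_mul_card_image _ 2 fun b hb => ?_
  obtain ⟨x, hx, rfl⟩ := Finset.mem_image.1 hb
  refine (Finset.card_le_card (t := {x, -x}) fun y hy => ?_).trans Finset.card_le_two
  rw [Finset.mem_filter] at hy
  rcases mul_self_eq_mul_self_iff.1 hy.2 with h | h <;> simp [h]

/-- The bound. -/
theorem bound (h2 : (2 : F) ≠ 0) : ∀ (r : ℕ) (S : Finset (Matrix (Fin r) (Fin r) F)), S.Nonempty →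
    (∀ H ∈ S, Hᵀ = H ∧ H ≠ 0) →
    (∀ A : Matrix (Fin r) (Fin r) F, A.det ≠ 0 → ∀ H ∈ S, act A H ∈ S) →
    Fintype.card F ^ r - 1 ≤ 2 * S.card := by
  intro r
  induction r with
  | zero => intro S _ _ _; simp
  | succ r ih =>
    intro S ⟨H₁, hH₁⟩ hS hinv
    set q := Fintype.card F with hq
    have hq2 : 2 ≤ q := Fintype.one_lt_card
    obtain ⟨H₀, hH₀, hc₀⟩ : ∃ H ∈ S, H 0 0 ≠ 0 := by
      obtain ⟨v, hv⟩ := exists_value h2 (hS _ hH₁).1 (hS _ hH₁).2
      have hv0 : v ≠ 0 := fun e => hv (by simp [e])
      obtain ⟨A, hA, hcol⟩ := exists_col hv0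
      refine ⟨_, hinv A hA _ hH₁, ?_⟩
      rw [act_apply]
      simpa [hcol] using hv
    set T : F → Finset (Matrix (Fin (r + 1)) (Fin (r + 1)) F) := fun c => S.filter fun H => H 0 0 = c
    have hTc : ∀ c, c ≠ 0 → (∃ H ∈ S, H 0 0 = c) → q ^ r ≤ (T c).card := by
      rintro c hc0 ⟨H, hH, hHc⟩
      let U : (Fin r → F) → Matrix (Fin (r + 1)) (Fin (r + 1)) F := fun y =>
        Matrix.of fun i j => Fin.cases (Fin.cases 1 y j) (fun i' => Fin.cases 0 (fun j' => if i' = j' then 1 else 0) j) i
      have hU : ∀ y, (U y).det = 1 := fun y => by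
        rw [Matrix.det_of_upperTriangular]
        · refine Finset.prod_eq_one fun i _ => ?_
          refine Fin.cases ?_ (fun i => ?_) i <;> simp [U]
        · intro i j hij
          induction i using Fin.cases with
          | zero => exact absurd hij (by simp)
          | succ i =>
            induction j using Fin.cases with
            | zero => simp [U]
            | succ j => simp [U, (Fin.succ_lt_succ_iff.1 hij).ne']
      have hrow : ∀ y j, act (U y) H 0 (Fin.succ j) = c * y j + H 0 j.succ := fun y j => by
        rw [act_apply]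
        simp [dotProduct, Matrix.mulVec, Fin.sum_univ_succ, U, hHc]
      have h00 : ∀ y, act (U y) H 0 0 = c := fun y => by
        rw [act_apply]
        simp [dotProduct, Matrix.mulVec, Fin.sum_univ_succ, U, hHc]
      calc q ^ r = (Finset.univ : Finset (Fin r → F)).card := by
            rw [Finset.card_univ, Fintype.card_fun, Fintype.card_fin]
        _ ≤ (T c).card := Finset.card_le_card_of_injOn (fun y => act (U y) H)
            (fun y _ => Finset.mem_coe.2 (Finset.mem_filter.2
              ⟨hinv _ (by rw [hU]; exact one_ne_zero) _ hH, h00 y⟩))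
            (fun y _ y' _ e => funext fun j => by
              have := congrFun (congrFun e 0) j.succ
              simp only [hrow] at this
              exact mul_left_cancel₀ hc0 (add_right_cancel this))
    have key : ∀ C : Finset F, (∀ c ∈ C, c ≠ 0 ∧ ∃ H ∈ S, H 0 0 = c) → C.card * q ^ r + (T 0).card ≤ S.card := by
      intro C hC
      have h0 : (0 : F) ∉ C := fun h => (hC 0 h).1 rfl
      have hsum : ∑ c ∈ insert 0 C, (T c).card ≤ S.card := by
        rw [← Finset.card_biUnion]
        · exact Finset.card_le_card (Finset.biUnion_subset.2 fun c _ => Finset.filter_subset _ _)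
        · intro a _ b _ hab
          exact Finset.disjoint_left.2 fun H h1 h2 => hab ((Finset.mem_filter.1 h1).2.symm.trans (Finset.mem_filter.1 h2).2)
      rw [Finset.sum_insert h0] at hsum
      have h3 : C.card * q ^ r ≤ ∑ c ∈ C, (T c).card := by
        rw [← smul_eq_mul]
        exact Finset.card_nsmul_le_sum _ _ _ fun c hc => hTc c (hC c hc).1 (hC c hc).2
      omega
    have hscale : ∀ x : F, x ≠ 0 → ∃ H ∈ S, H 0 0 = x * x * H₀ 0 0 := fun x hx => by
      refine ⟨_, hinv (HermOrbit.blk x 1) ?_ _ hH₀, ?_⟩
      · rw [HermOrbit.det_blk, Matrix.det_one, mul_one]; exact hx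
      · rw [blk_zero]; ring
    have hpow : q ^ (r + 1) = q * q ^ r := pow_succ' q r
    have h1 : 1 ≤ q ^ r := Nat.one_le_pow _ _ (by omega)
    by_cases hcase : ∃ H ∈ S, H 0 0 = 0
    · -- squares, and a vanishing corner
      have hT0 : q ^ r - 1 ≤ 2 * (T 0).card := by
        obtain ⟨H, hH, hH00⟩ := hcase
        rcases r with _ | r
        · simp
        by_cases hy : ∀ l : Fin (r + 1), H 0 l.succ = 0
        · set S' := (S.filter fun H => ∀ i, H i 0 = 0).image fun H => H.submatrix Fin.succ Fin.succ
          have hcol : ∀ i, H i 0 = 0 := fun i => by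
            induction i using Fin.cases with
            | zero => exact hH00
            | succ i => rw [← congrFun (congrFun (hS H hH).1 i.succ) 0]; exact hy i
          have hle : S'.card ≤ (T 0).card :=
            Finset.card_image_le.trans (Finset.card_le_card fun G hG => by
              rw [Finset.mem_filter] at hG ⊢
              exact ⟨hG.1, hG.2 0⟩)
          refine le_trans ?_ (Nat.mul_le_mul_left _ hle)
          apply ih S'
          · exact ⟨_, Finset.mem_image_of_mem _ (Finset.mem_filter.2 ⟨hH, hcol⟩)⟩
          · intro G' hG'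
            obtain ⟨G, hG, rfl⟩ := Finset.mem_image.1 hG'
            obtain ⟨hG, h⟩ := Finset.mem_filter.1 hG
            refine ⟨?_, fun e => (hS G hG).2 ?_⟩
            · ext i j; exact congrFun (congrFun (hS G hG).1 i.succ) j.succ
            · ext i j
              induction j using Fin.cases with
              | zero => exact h i
              | succ j =>
                induction i using Fin.cases with
                | zero => rw [← congrFun (congrFun (hS G hG).1 0) j.succ]; exact h _
                | succ i => exact congrFun (congrFun e i) j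
          · intro B hB G' hG'
            obtain ⟨G, hG, rfl⟩ := Finset.mem_image.1 hG'
            obtain ⟨hG, h⟩ := Finset.mem_filter.1 hG
            refine Finset.mem_image.2 ⟨act (HermOrbit.blk 1 B) G, Finset.mem_filter.2
              ⟨hinv _ (by rw [HermOrbit.det_blk, one_mul]; exact hB) _ hG, fun i => ?_⟩, blk_inner _ _ _⟩
            rw [act_apply]
            simp [dotProduct, Matrix.mulVec, Fin.sum_univ_succ, HermOrbit.blk, h]
        · push Not at hy
          have hy0 : (fun l : Fin (r + 1) => H 0 l.succ) ≠ 0 := fun e => by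
            obtain ⟨l, hl⟩ := hy; exact hl (congrFun e l)
          set Y : Finset (Fin (r + 1) → F) := (T 0).image fun G l => G 0 l.succ
          have hsub : Finset.univ.erase (0 : Fin (r + 1) → F) ⊆ Y := by
            intro z hz
            obtain ⟨A₁, hA₁, hc₁⟩ := exists_col hy0
            obtain ⟨A₂, hA₂, hc₂⟩ := exists_col (Finset.mem_erase.1 hz).1
            have hdet : (A₁.transpose⁻¹ * A₂.transpose).det ≠ 0 := by
              rw [Matrix.det_mul, Matrix.det_nonsing_inv, Matrix.det_transpose, Matrix.det_transpose,
                Ring.inverse_eq_inv']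
              exact mul_ne_zero (inv_ne_zero hA₁) hA₂
            refine Finset.mem_image.2 ⟨act (HermOrbit.blk 1 (A₁.transpose⁻¹ * A₂.transpose)) H, Finset.mem_filter.2
              ⟨hinv _ (by rw [HermOrbit.det_blk, one_mul]; exact hdet) _ hH, ?_⟩, ?_⟩
            · rw [blk_zero, hH00]; ring
            · funext j
              rw [blk_row, one_mul]
              have hrow : (fun l => H 0 l.succ) ᵥ* (A₁.transpose⁻¹ * A₂.transpose) = z := by
                have e1 : (Pi.single 0 1 : Fin (r + 1) → F) ᵥ* A₁.transpose = fun l => H 0 l.succ := by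
                  rw [Matrix.single_one_vecMul]; funext l; exact hc₁ l
                rw [← e1, Matrix.vecMul_vecMul, ← Matrix.mul_assoc,
                  Matrix.mul_nonsing_inv _ (by rw [Matrix.det_transpose]; exact isUnit_iff_ne_zero.2 hA₁), Matrix.one_mul,
                  Matrix.single_one_vecMul]
                funext l; exact hc₂ l
              exact congrFun hrow j
          have h3 := (Finset.card_le_card hsub).trans Finset.card_image_le
          rw [Finset.card_erase_of_mem (Finset.mem_univ _), Finset.card_univ, Fintype.card_fun, Fintype.card_fin,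
            ← hq] at h3
          omega
      set Q := (Finset.univ.erase (0 : F)).image fun x => x * x with hQ
      have hC := key (Q.image fun s => s * H₀ 0 0) fun c hc => by
        obtain ⟨s, hs, rfl⟩ := Finset.mem_image.1 hc
        obtain ⟨x, hx, rfl⟩ := Finset.mem_image.1 hs
        have hx0 := (Finset.mem_erase.1 hx).1
        exact ⟨mul_ne_zero (mul_ne_zero hx0 hx0) hc₀, hscale x hx0⟩
      rw [Finset.card_image_of_injective _ (mul_left_injective₀ hc₀)] at hC
      have h4 : (q - 1) * q ^ r ≤ 2 * Q.card * q ^ r := Nat.mul_le_mul_right _ (card_squares h2)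
      rw [Nat.sub_one_mul, ← hpow, mul_assoc] at h4
      have h5 : q ^ r ≤ q ^ (r + 1) := Nat.pow_le_pow_right (by omega) (by omega)
      omega
    · -- every nonzero value occurs
      push Not at hcase
      rcases r with _ | r
      · have hC := key ((Finset.univ.erase (0 : F)).image fun x => x * x * H₀ 0 0) fun c hc => by
          obtain ⟨x, hx, rfl⟩ := Finset.mem_image.1 hc
          have hx0 := (Finset.mem_erase.1 hx).1
          exact ⟨mul_ne_zero (mul_ne_zero hx0 hx0) hc₀, hscale x hx0⟩
        rw [show ((Finset.univ.erase (0 : F)).image fun x => x * x * H₀ 0 0) =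
          (((Finset.univ.erase (0 : F)).image fun x => x * x).image fun s => s * H₀ 0 0) from
            (Finset.image_image (f := fun x : F => x * x) (g := fun s : F => s * H₀ 0 0)).symm,
          Finset.card_image_of_injective _ (mul_left_injective₀ hc₀)] at hC
        have := card_squares (F := F) h2
        simp only [pow_zero, mul_one] at hC
        simp only [zero_add, pow_one]
        omega
      · have hval : ∀ v : Fin (r + 2) → F, v ≠ 0 → ∃ G ∈ S, G 0 0 = v ⬝ᵥ (H₀ *ᵥ v) := fun v hv => by
          obtain ⟨A, hA, hcol⟩ := exists_col hv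
          refine ⟨_, hinv A hA _ hH₀, ?_⟩
          rw [act_apply]
          simp [hcol]
        have hC := key (Finset.univ.erase (0 : F)) fun c hc => by
          refine ⟨(Finset.mem_erase.1 hc).1, ?_⟩
          set a := H₀ 0 0
          set b := H₀ 0 1
          set d := H₀ 1 1 - b ^ 2 / a
          have hb : H₀ 1 0 = b := congrFun (congrFun (hS _ hH₀).1 0) 1
          have hdot : ∀ x y : F, ∀ v : Fin (r + 2) → F, v = (fun k => if k = 0 then x else if k = 1 then y else 0) →
              v ⬝ᵥ (H₀ *ᵥ v) = a * (x + b * y / a) ^ 2 + d * y ^ 2 := by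
            intro x y v hv
            have hsum : ∀ f : Fin (r + 2) → F, (∑ k, f k * v k) = f 0 * x + f 1 * y := by
              intro f
              rw [Fin.sum_univ_succ, Fin.sum_univ_succ, Finset.sum_eq_zero fun k _ => by
                have h1 : k.succ.succ ≠ (1 : Fin (r + 2)) := fun e => by simpa using congrArg Fin.val e
                rw [hv]; simp only
                rw [if_neg (Fin.succ_ne_zero _), if_neg h1, mul_zero]]
              simp [hv]
            rw [dotProduct_comm]
            simp only [dotProduct, Matrix.mulVec, hsum, hb]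
            simp only [d]
            field_simp
            ring
          have hd : d ≠ 0 := by
            intro hd0
            set v : Fin (r + 2) → F := fun k => if k = 0 then -b / a else if k = 1 then 1 else 0 with hv
            obtain ⟨G, hG, hG0⟩ := hval v (fun e => by simpa [hv] using congrFun e 1)
            refine hcase G hG (hG0.trans ?_)
            rw [hdot _ _ v hv, hd0]
            field_simp
            ring
          have hodd : Fintype.card F % 2 = 1 := by
            refine FiniteField.odd_card_of_char_ne_two fun h => h2 ?_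
            have := ringChar.Nat.cast_ringChar (R := F)
            rw [h] at this
            exact_mod_cast this
          obtain ⟨x, y, hxy⟩ := FiniteField.exists_root_sum_quadratic
            (f := Polynomial.C a * Polynomial.X ^ 2) (g := Polynomial.C d * Polynomial.X ^ 2 - Polynomial.C c)
            (Polynomial.degree_C_mul_X_pow 2 hc₀)
            (by rw [Polynomial.degree_sub_C (by rw [Polynomial.degree_C_mul_X_pow 2 hd]; norm_num),
              Polynomial.degree_C_mul_X_pow 2 hd]; rfl) hodd
          simp at hxy
          set v : Fin (r + 2) → F := fun k => if k = 0 then x - b * y / a else if k = 1 then y else 0 with hv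
          have hc0 : c ≠ 0 := (Finset.mem_erase.1 hc).1
          have hval' : v ⬝ᵥ (H₀ *ᵥ v) = c := by
            rw [hdot _ _ v hv, sub_add_cancel]
            linear_combination hxy
          obtain ⟨G, hG, hG0⟩ := hval v (fun e => hc0 (by rw [← hval', e]; simp))
          exact ⟨G, hG, hG0.trans hval'⟩
        rw [Finset.card_erase_of_mem (Finset.mem_univ _), Finset.card_univ, ← hq, Nat.sub_one_mul, ← hpow] at hC
        have : 2 * q ^ (r + 1) ≤ q ^ (r + 1 + 1) := by
          rw [pow_succ' q (r + 1)]; exact Nat.mul_le_mul_right _ hq2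
        omega

end Cfsg.Agent.Lib.RankOne.SymOrbit
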