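import Cfsg.Agent.Lib.RankOne.SympWeil
import Cfsg.Agent.Lib.RankOne.QuadOrbit

/-!
The smallest degree of a nontrivial representation of the symplectic groups over fields of even order.
-/

set_option autoImplicit false
set_option maxHeartbeats 1000000

namespace Cfsg.Agent.Lib.RankOne.SympEven

open Matrix
open scoped commutatorElement
open Cfsg.Agent.Lib.RankOne.EigenChar
open Cfsg.Agent.Lib.RankOne.SympWeil (apply_ne_one)

variable {F : Type*} [Field F] [Fintype F] [DecidableEq F] {n : ℕ}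

set_option quotPrecheck false
local notation "Sp" => Subtype (fun A => A ∈ Matrix.symplecticGroup (Fin n) F)
local notation "Mn" => Matrix (Fin n) (Fin n) F

/-- The character of the symmetric matrices attached to a matrix. -/
noncomputable def chrS (φ : AddChar F ℂ) (H : Mn) : AddChar (SympWeil.Sym F n) ℂ :=
  φ.compAddMonoidHom
    { toFun := fun X => (H * X.1).trace
      map_zero' := by simp
      map_add' := fun X Y => by rw [AddSubgroup.coe_add, Matrix.mul_add, Matrix.trace_add] }

theorem chrS_apply (φ : AddChar F ℂ) (H : Mn) (X : SympWeil.Sym F n) : chrS φ H X = φ (H * X.1).trace := rfl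

/-- The character of all matrices attached to a matrix. -/
noncomputable def chrM (φ : AddChar F ℂ) (H : Mn) : AddChar Mn ℂ :=
  φ.compAddMonoidHom
    { toFun := fun X => (H * X).trace
      map_zero' := by simp
      map_add' := fun X Y => by rw [Matrix.mul_add, Matrix.trace_add] }

theorem chrS_surjective {φ : AddChar F ℂ} (hφ : φ 1 ≠ 1) : Function.Surjective (chrS (n := n) φ) := by
  have hM : Function.Bijective (chrM (n := n) φ) := by
    refine (Fintype.bijective_iff_injective_and_card _).2 ⟨fun H H' h => ?_, (AddChar.card_eq (α := Mn)).symm⟩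
    by_contra hne
    obtain ⟨i, j, hij⟩ : ∃ i j, H i j - H' i j ≠ 0 := by
      by_contra hall
      push Not at hall
      exact hne (Matrix.ext fun i j => sub_eq_zero.1 (hall i j))
    have h1 := DFunLike.congr_fun h (Matrix.single j i (H i j - H' i j)⁻¹)
    have h1 : φ (H i j * (H i j - H' i j)⁻¹) = φ (H' i j * (H i j - H' i j)⁻¹) := by
      simpa [chrM, Matrix.trace_mul_single] using h1
    have h2 : φ ((H i j - H' i j) * (H i j - H' i j)⁻¹) = 1 := by
      rw [sub_mul, sub_eq_add_neg, AddChar.map_add_eq_mul]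
      rw [h1, ← AddChar.map_add_eq_mul, add_neg_cancel, AddChar.map_zero_eq_one]
    rw [mul_inv_cancel₀ hij] at h2
    exact hφ h2
  intro χ
  let sy : Mn →+ SympWeil.Sym F n :=
    { toFun := fun M => ⟨Matrix.of fun i j => if i ≤ j then M i j else M j i, by
        show _ = _
        ext i j
        simp only [Matrix.transpose_apply, Matrix.of_apply]
        rcases lt_trichotomy i j with h | rfl | h
        · rw [if_neg h.not_ge, if_pos h.le]
        · rfl
        · rw [if_pos h.le, if_neg h.not_ge]⟩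
      map_zero' := Subtype.ext (by ext i j; simp)
      map_add' := fun M N => Subtype.ext (by ext i j; simp only [AddSubgroup.coe_add, Matrix.add_apply, Matrix.of_apply]; split_ifs <;> rfl) }
  obtain ⟨H, hH⟩ := hM.2 (χ.compAddMonoidHom sy)
  refine ⟨H, DFunLike.ext _ _ fun X => ?_⟩
  have hX : sy X.1 = X := Subtype.ext (by
    ext i j
    show (if i ≤ j then X.1 i j else X.1 j i) = X.1 i j
    split_ifs
    · rfl
    · exact congrFun (congrFun X.2 i) j)
  have := DFunLike.congr_fun hH X.1
  rw [AddChar.compAddMonoidHom_apply, hX] at this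
  exact this

/-- The quadratic form of a matrix. -/
noncomputable def QH (H : Mn) : QuadraticForm F (Fin n → F) := Matrix.toQuadraticMap' H

theorem QH_apply (H : Mn) (v : Fin n → F) : QH H v = v ⬝ᵥ (H *ᵥ v) := by
  simp [QH, Matrix.toQuadraticForm', Matrix.toQuadraticMap', Matrix.toLinearMap₂'_apply']

theorem QH_eq_of_chrS {φ : AddChar F ℂ} (hφ : φ 1 ≠ 1) {H H' : Mn} (h : chrS φ H = chrS φ H') : QH H = QH H' := by
  ext v
  by_contra hne
  set c := QH H v - QH H' v with hc
  have hc0 : c ≠ 0 := sub_ne_zero.2 hne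
  have hmem : c⁻¹ • Matrix.vecMulVec v v ∈ SympWeil.Sym F n := by
    show (_)ᵀ = _
    rw [Matrix.transpose_smul, Matrix.transpose_vecMulVec]
  have h1 := DFunLike.congr_fun h ⟨_, hmem⟩
  have htr : ∀ K : Mn, (K * (c⁻¹ • Matrix.vecMulVec v v)).trace = c⁻¹ * QH K v := fun K => by
    rw [Matrix.mul_smul, Matrix.trace_smul, Matrix.mul_vecMulVec, Matrix.trace_vecMulVec, smul_eq_mul, QH_apply,
      dotProduct_comm]
  rw [chrS_apply, chrS_apply, htr, htr] at h1
  have h2 : φ (c⁻¹ * c) = 1 := by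
    rw [hc, mul_sub, sub_eq_add_neg, AddChar.map_add_eq_mul, ← hc, h1, ← AddChar.map_add_eq_mul, add_neg_cancel,
      AddChar.map_zero_eq_one]
  rw [inv_mul_cancel₀ hc0] at h2
  exact hφ h2

/-- Every nontrivial representation has degree at least `(qⁿ - 1)(qⁿ - q) / (2(q + 1))`. -/
theorem min_degree (hn : 2 ≤ n) (heven : Even (Fintype.card F)) (hex : (n, Fintype.card F) ≠ (2, 2))
    {V : Type*} [AddCommGroup V] [Module ℂ V] [FiniteDimensional ℂ V] (ρ : Representation ℂ Sp V)
    (hρ : ∃ g, ρ g ≠ 1) :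
    (Fintype.card F ^ n - 1) * (Fintype.card F ^ n - Fintype.card F) ≤
      2 * (Fintype.card F + 1) * Module.finrank ℂ V := by
  classical
  obtain ⟨m, rfl⟩ : ∃ m, n = m + 2 := ⟨n - 2, by omega⟩
  have hc2 : CharP F 2 := ringChar.of_eq (FiniteField.even_card_iff_char_two.2 (Nat.even_iff.1 heven))
  have hcond : m + 2 = 2 → 3 ≤ Fintype.card F := fun h2 => by
    have h1 := Fintype.one_lt_card (α := F)
    by_contra hlt
    exact hex (Prod.ext h2 (show Fintype.card F = 2 by omega))
  have : IsSimpleGroup (Subtype (fun A => A ∈ Matrix.symplecticGroup (Fin (m + 2)) F) ⧸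
      Subgroup.center (Subtype (fun A => A ∈ Matrix.symplecticGroup (Fin (m + 2)) F))) :=
    Classical.isSimpleGroup_psp hn hcond
  have hperf : commutator (Subtype (fun A => A ∈ Matrix.symplecticGroup (Fin (m + 2)) F)) = ⊤ :=
    Classical.commutator_sp_eq_top (Classical.sp_perfect_cond_of_card (by
      rcases hn.eq_or_lt with h | hm'
      · exact Or.inr (Or.inl ⟨h.symm, hcond h.symm⟩)
      · exact Or.inl hm'))
  set z : SympWeil.Sym F (m + 2) → Subtype (fun A => A ∈ Matrix.symplecticGroup (Fin (m + 2)) F) :=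
    fun X => Classical.spN X.1 X.2 with hzdef
  have hz : ∀ X Y, z (X + Y) = z X * z Y := fun X Y => (Classical.spN_mul X.1 Y.1 X.2 Y.2).symm
  set S₀ : Matrix (Fin (m + 2)) (Fin (m + 2)) F := Matrix.single 0 1 1 + Matrix.single 1 0 1 with hS₀
  have hS₀mem : S₀ ∈ SympWeil.Sym F (m + 2) := by
    show S₀ᵀ = S₀
    rw [hS₀, Matrix.transpose_add, Matrix.transpose_single, Matrix.transpose_single]
    exact add_comm _ _
  have hcen : z ⟨S₀, hS₀mem⟩ ∉ Subgroup.center _ := by
    rw [Classical.mem_center_sp_iff (by omega)]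
    intro h
    have : (Matrix.fromBlocks 1 S₀ 0 1 : Matrix (Fin (m + 2) ⊕ Fin (m + 2)) (Fin (m + 2) ⊕ Fin (m + 2)) F)
        (Sum.inl 0) (Sum.inr 1) = 0 := by
      rcases h with h | h <;>
      · rw [show (Matrix.fromBlocks 1 S₀ 0 1 : Matrix (Fin (m + 2) ⊕ Fin (m + 2)) (Fin (m + 2) ⊕ Fin (m + 2)) F) = _ from h]
        simp
    simp [hS₀] at this
  have hnt : ρ (z ⟨S₀, hS₀mem⟩) ≠ 1 := apply_ne_one hperf hcen ρ hρ
  obtain ⟨φ, hφ⟩ := HermOrbit.exists_addChar F
  set R : SympWeil.Sym F (m + 2) → Module.End ℂ V := fun X => ρ (z X) with hRdef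
  have hR : ∀ a b, R (a + b) = R a * R b := fun a b => by rw [hRdef]; simp only; rw [hz, map_mul]
  have hR0 : R 0 = 1 := by
    have h := hz 0 0
    rw [add_zero] at h
    rw [hRdef]; simp only; rw [mul_eq_left.1 h.symm, map_one]
  have hsurj := chrS_surjective (n := m + 2) hφ
  set T : Finset (Matrix (Fin (m + 2)) (Fin (m + 2)) F) :=
    Finset.univ.filter fun H => proj R (chrS φ H) ≠ 0 ∧ QuadraticMap.polarBilin (QH H) ≠ 0 with hTdef
  obtain ⟨H₁, hH₁⟩ : T.Nonempty := by
    by_contra he
    apply hnt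
    show R _ = 1
    calc R ⟨S₀, hS₀mem⟩ = R ⟨S₀, hS₀mem⟩ * ∑ χ, proj R χ := by rw [sum_proj hR0, mul_one]
      _ = ∑ χ, proj R χ := by
        rw [Finset.mul_sum]
        refine Finset.sum_congr rfl fun χ _ => ?_
        obtain ⟨H, rfl⟩ := hsurj χ
        rw [apply_mul_proj hR]
        by_cases hP : proj R (chrS φ H) = 0
        · rw [hP, smul_zero]
        · have hpol : QuadraticMap.polarBilin (QH H) = 0 := by
            by_contra hH
            exact he ⟨H, Finset.mem_filter.2 ⟨Finset.mem_univ _, hP, hH⟩⟩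
          have h01 : H 0 1 + H 1 0 = 0 := by
            have h := LinearMap.congr_fun (LinearMap.congr_fun hpol (Pi.single 0 1)) (Pi.single 1 1)
            simp only [QuadraticMap.polarBilin_apply_apply, QuadraticMap.polar, QH_apply, Matrix.mulVec_add,
              add_dotProduct, dotProduct_add, single_one_dotProduct, Matrix.mulVec_single_one, LinearMap.zero_apply,
              Matrix.col_apply] at h
            linear_combination h
          rw [chrS_apply]
          have : (H * S₀).trace = 0 := by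
            rw [hS₀, Matrix.mul_add, Matrix.trace_add, Matrix.trace_mul_single, Matrix.trace_mul_single]
            simpa [add_comm] using h01
          rw [this, AddChar.map_zero_eq_one, one_smul]
      _ = 1 := sum_proj hR0
  set S : Finset (QuadraticForm F (Fin (m + 2) → F)) := T.image QH with hSdef
  have hinv : ∀ Q ∈ S, ∀ A : (Fin (m + 2) → F) ≃ₗ[F] (Fin (m + 2) → F),
      Q.comp (A : (Fin (m + 2) → F) →ₗ[F] (Fin (m + 2) → F)) ∈ S := by
    intro Q hQ A'
    obtain ⟨H, hH, rfl⟩ := Finset.mem_image.1 hQ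
    obtain ⟨-, hP, hpol⟩ := Finset.mem_filter.1 hH
    set A := LinearMap.toMatrix' (A' : (Fin (m + 2) → F) →ₗ[F] (Fin (m + 2) → F)) with hAdef
    have hu : IsUnit A.det := by
      rw [hAdef, LinearMap.det_toMatrix']
      exact A'.isUnit_det'
    have hcomp : QH (Aᵀ * H * A) = (QH H).comp (A' : (Fin (m + 2) → F) →ₗ[F] (Fin (m + 2) → F)) := by
      ext v
      rw [QuadraticMap.comp_apply, QH_apply, QH_apply, ← Matrix.mulVec_mulVec, ← Matrix.mulVec_mulVec,
        Matrix.dotProduct_mulVec, Matrix.vecMul_transpose, hAdef, LinearMap.toMatrix'_mulVec]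
    set U : Matrix.GeneralLinearGroup (Fin (m + 2)) F := Matrix.GeneralLinearGroup.mkOfDetNeZero A hu.ne_zero
    have hUA : (U : Matrix (Fin (m + 2)) (Fin (m + 2)) F) = A := rfl
    let σ : SympWeil.Sym F (m + 2) ≃+ SympWeil.Sym F (m + 2) :=
      { toFun := fun X => ⟨A * X.1 * Aᵀ, Classical.transpose_conj_symm X.2⟩
        invFun := fun X => ⟨A⁻¹ * X.1 * A⁻¹ᵀ, Classical.transpose_conj_symm X.2⟩
        left_inv := fun X => Subtype.ext (by
          show A⁻¹ * (A * X.1 * Aᵀ) * A⁻¹ᵀ = X.1
          rw [show A⁻¹ * (A * X.1 * Aᵀ) * A⁻¹ᵀ = (A⁻¹ * A) * X.1 * (Aᵀ * A⁻¹ᵀ) by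
            simp only [Matrix.mul_assoc], ← Matrix.transpose_mul, Matrix.nonsing_inv_mul _ hu, Matrix.transpose_one,
            Matrix.one_mul, Matrix.mul_one])
        right_inv := fun X => Subtype.ext (by
          show A * (A⁻¹ * X.1 * A⁻¹ᵀ) * Aᵀ = X.1
          rw [show A * (A⁻¹ * X.1 * A⁻¹ᵀ) * Aᵀ = (A * A⁻¹) * X.1 * (A⁻¹ᵀ * Aᵀ) by
            simp only [Matrix.mul_assoc], ← Matrix.transpose_mul, Matrix.mul_nonsing_inv _ hu, Matrix.transpose_one,
            Matrix.one_mul, Matrix.mul_one])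
        map_add' := fun X Y => Subtype.ext (by
          show A * (X + Y).1 * Aᵀ = A * X.1 * Aᵀ + A * Y.1 * Aᵀ
          rw [AddSubgroup.coe_add, Matrix.mul_add, Matrix.add_mul]) }
    have hconj : ∀ X : SympWeil.Sym F (m + 2), Classical.spM U * z X = z (σ X) * Classical.spM U := by
      intro X
      have h := Classical.spM_spN_commutator U X.1 (show X.1ᵀ = X.1 from X.2)
      rw [commutatorElement_def, mul_inv_eq_iff_eq_mul, Classical.spN_mul, mul_inv_eq_iff_eq_mul] at h
      refine h.trans ?_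
      congr 1
      exact Classical.spN_congr _ _ (by rw [hUA]; show A * X.1 * Aᵀ - X.1 + X.1 = A * X.1 * Aᵀ; rw [sub_add_cancel])
    have hchr : chrS φ (Aᵀ * H * A) = (chrS φ H).compAddMonoidHom σ.toAddMonoidHom := by
      refine DFunLike.ext _ _ fun X => ?_
      show φ (Aᵀ * H * A * X.1).trace = φ (H * (A * X.1 * Aᵀ)).trace
      rw [Matrix.mul_assoc (Aᵀ * H), Matrix.mul_assoc, Matrix.trace_mul_comm]
      simp only [Matrix.mul_assoc]
    refine Finset.mem_image.2 ⟨Aᵀ * H * A, Finset.mem_filter.2 ⟨Finset.mem_univ _, fun e => hP ?_, fun e => hpol ?_⟩, hcomp⟩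
    · have h := apply_proj_comp (R := R) (g := ρ (Classical.spM U)) (σ := σ)
        (fun X => by rw [hRdef]; simp only; rw [← map_mul, hconj, map_mul]) (chrS φ H)
      rw [← hchr, e, mul_zero] at h
      calc proj R (chrS φ H) = proj R (chrS φ H) * ρ (Classical.spM U) * ρ (Classical.spM U)⁻¹ := by
            rw [mul_assoc, ← map_mul, mul_inv_cancel, map_one, mul_one]
        _ = 0 := by rw [← h, zero_mul]
    · refine LinearMap.ext₂ fun x y => ?_
      have h1 := LinearMap.congr_fun (LinearMap.congr_fun e (A'.symm x)) (A'.symm y)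
      rw [hcomp, QuadOrbit.polar_comp] at h1
      simpa using h1
  refine (QuadOrbit.bound S hinv (Finset.mem_image_of_mem _ hH₁) (Finset.mem_filter.1 hH₁).2.2).trans
    (Nat.mul_le_mul_left _ ?_)
  have hsec : ∀ Q ∈ S, ∃ H ∈ T, QH H = Q := fun Q hQ => by
    obtain ⟨H, hH, e⟩ := Finset.mem_image.1 hQ
    exact ⟨H, hH, e⟩
  choose! f hfT hfQ using hsec
  rw [← Finset.card_image_of_injOn (f := fun Q => chrS φ (f Q))]
  · refine card_le_finrank hR _ fun χ hχ => ?_
    obtain ⟨Q, hQ, rfl⟩ := Finset.mem_image.1 hχ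
    exact (Finset.mem_filter.1 (hfT Q hQ)).2.1
  · intro Q hQ Q' hQ' e
    rw [← hfQ Q hQ, ← hfQ Q' hQ']
    exact QH_eq_of_chrS hφ e

end Cfsg.Agent.Lib.RankOne.SympEven
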