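import Cfsg.Agent.Lib.RankOne.SymOrbit
import Cfsg.Agent.Lib.RankOne.EigenChar
import Cfsg.Agent.Lib.Classical.SympSimple

/-!
The smallest degree of a nontrivial representation of the symplectic groups of odd order fields, and a
Weil representation of exactly that degree.
-/

set_option autoImplicit false
set_option maxHeartbeats 1000000

namespace Cfsg.Agent.Lib.RankOne.SympWeil

open Matrix
open scoped commutatorElement
open Cfsg.Agent.Lib.RankOne.EigenChar

variable {F : Type*} [Field F] [Fintype F] [DecidableEq F] {n : ℕ}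

set_option quotPrecheck false
local notation "Sp" => Subtype (fun A => A ∈ Matrix.symplecticGroup (Fin n) F)
local notation "Vec" => (Fin n → F)
local notation "VV" => (Fin n ⊕ Fin n → F)
local notation "Fn" => ((Fin n → F) → ℂ)

/-! ### Representations that are trivial on a noncentral element -/

theorem apply_ne_one {G : Type*} [Group G] (hperf : commutator G = ⊤) [IsSimpleGroup (G ⧸ Subgroup.center G)]
    {x : G} (hx : x ∉ Subgroup.center G) {M : Type*} [Monoid M] (ρ : G →* M) (hρ : ∃ g, ρ g ≠ 1) : ρ x ≠ 1 := by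
  intro h1
  set N : Subgroup G := ρ.ker
  have hmap : N.map (QuotientGroup.mk' (Subgroup.center G)) = ⊤ := by
    refine (((MonoidHom.normal_ker ρ).map _ (QuotientGroup.mk'_surjective _)).eq_bot_or_eq_top).resolve_left
      fun h => hx ?_
    rw [Subgroup.map_eq_bot_iff, QuotientGroup.ker_mk'] at h
    exact h (MonoidHom.mem_ker.2 h1)
  have hsplit : ∀ a : G, ∃ k ∈ N, k⁻¹ * a ∈ Subgroup.center G := fun a => by
    obtain ⟨k, hk, e⟩ := hmap.ge (Subgroup.mem_top (QuotientGroup.mk' _ a))
    exact ⟨k, hk, QuotientGroup.eq.1 e⟩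
  have hle : commutator G ≤ N := by
    rw [commutator_eq_closure, Subgroup.closure_le]
    rintro _ ⟨a, b, rfl⟩
    obtain ⟨k, hk, hka⟩ := hsplit a
    obtain ⟨l, hl, hlb⟩ := hsplit b
    obtain ⟨u, hu, rfl⟩ : ∃ u ∈ Subgroup.center G, a = k * u := ⟨_, hka, by group⟩
    obtain ⟨v, hv, rfl⟩ : ∃ v ∈ Subgroup.center G, b = l * v := ⟨_, hlb, by group⟩
    have h1 : ∀ y, y * u = u * y := Subgroup.mem_center_iff.1 hu
    have h2 : ∀ y, y * v = v * y := Subgroup.mem_center_iff.1 hv
    have e : ⁅k * u, l * v⁆ = ⁅k, l⁆ := by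
      rw [commutatorElement_def, commutatorElement_def]
      calc k * u * (l * v) * (k * u)⁻¹ * (l * v)⁻¹
          = k * (u * l) * (v * u⁻¹) * k⁻¹ * v⁻¹ * l⁻¹ := by group
        _ = k * (l * u) * (u⁻¹ * v) * k⁻¹ * v⁻¹ * l⁻¹ := by rw [h1, ← h2 u⁻¹]
        _ = k * l * (v * k⁻¹) * v⁻¹ * l⁻¹ := by group
        _ = _ := by rw [← h2]; group
    show ⁅k * u, l * v⁆ ∈ N
    rw [e, commutatorElement_def]
    exact N.mul_mem (N.mul_mem (N.mul_mem hk hl) (N.inv_mem hk)) (N.inv_mem hl)
  obtain ⟨g, hg⟩ := hρ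
  exact hg (MonoidHom.mem_ker.1 (hle (hperf ▸ Subgroup.mem_top g)))

/-! ### The bound -/

/-- Symmetric matrices. -/
def Sym (F : Type*) [Field F] (n : ℕ) : AddSubgroup (Matrix (Fin n) (Fin n) F) where
  carrier := {X | Xᵀ = X}
  zero_mem' := Matrix.transpose_zero
  add_mem' {a b} ha hb := by
    show (a + b)ᵀ = _
    rw [Matrix.transpose_add, show aᵀ = a from ha, show bᵀ = b from hb]
  neg_mem' {a} ha := by
    show (-a)ᵀ = _
    rw [Matrix.transpose_neg, show aᵀ = a from ha]

noncomputable instance : Fintype ↥(Sym F n) := Fintype.ofFinite _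

/-- The character attached to a symmetric matrix. -/
noncomputable def chr (φ : AddChar F ℂ) (H : Sym F n) : AddChar (Sym F n) ℂ :=
  φ.compAddMonoidHom
    { toFun := fun X => (H.1 * X.1).trace
      map_zero' := by simp
      map_add' := fun X Y => by rw [AddSubgroup.coe_add, Matrix.mul_add, Matrix.trace_add] }

theorem chr_apply (φ : AddChar F ℂ) (H X : Sym F n) : chr φ H X = φ (H.1 * X.1).trace := rfl

theorem two_ne (hodd : Odd (Fintype.card F)) : (2 : F) ≠ 0 := fun h0 => by
  have hc2 : CharP F 2 := CharTwo.of_one_ne_zero_of_two_eq_zero one_ne_zero h0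
  have := FiniteField.even_card_iff_char_two.mp (ringChar.eq F 2)
  obtain ⟨k, hk⟩ := hodd
  omega

theorem chr_bijective (hodd : Odd (Fintype.card F)) {φ : AddChar F ℂ} (hφ : φ 1 ≠ 1) :
    Function.Bijective (chr (n := n) φ) := by
  refine (Fintype.bijective_iff_injective_and_card _).2 ⟨fun H H' h => ?_, (AddChar.card_eq (α := Sym F n)).symm⟩
  by_contra hne
  obtain ⟨X, hX⟩ : ∃ X : Sym F n, ((H - H').1 * X.1).trace ≠ 0 := by
    by_contra hall
    push Not at hall
    apply hne
    refine sub_eq_zero.1 (Subtype.ext ?_)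
    set M := (H - H').1 with hM
    ext i j
    have hMs : Mᵀ = M := (H - H').2
    set Y : Matrix (Fin n) (Fin n) F := Matrix.single j i 1
    have hsk : Y + Yᵀ ∈ Sym F n := by
      show (_ + _)ᵀ = _
      rw [Matrix.transpose_add, Matrix.transpose_transpose, add_comm]
    have h0 := hall ⟨_, hsk⟩
    have e1 : (M * Y).trace = M i j := by rw [Matrix.trace_mul_single]; simp
    have e2 : (M * Yᵀ).trace = M i j := by
      rw [← Matrix.trace_transpose, Matrix.transpose_mul, Matrix.transpose_transpose, hMs, Matrix.trace_mul_comm, e1]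
    rw [Matrix.mul_add, Matrix.trace_add, e1, e2, ← two_mul] at h0
    exact (mul_eq_zero.1 h0).resolve_left (two_ne hodd)
  set s := ((H - H').1 * X.1).trace
  have hX' : s⁻¹ • X.1 ∈ Sym F n := by
    show (_)ᵀ = _
    rw [Matrix.transpose_smul, show X.1ᵀ = X.1 from X.2]
  have h1 := DFunLike.congr_fun h ⟨_, hX'⟩
  rw [chr_apply, chr_apply] at h1
  have h2 : φ ((H.1 * (s⁻¹ • X.1)).trace - (H'.1 * (s⁻¹ • X.1)).trace) = 1 := by
    rw [sub_eq_add_neg, AddChar.map_add_eq_mul, h1, ← AddChar.map_add_eq_mul, add_neg_cancel, AddChar.map_zero_eq_one]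
  rw [← Matrix.trace_sub, ← Matrix.sub_mul, ← AddSubgroup.coe_sub, Matrix.mul_smul, Matrix.trace_smul, smul_eq_mul,
    inv_mul_cancel₀ hX] at h2
  exact hφ h2

/-- Every nontrivial representation has degree at least `(qⁿ - 1) / 2`. -/
theorem min_degree (hn : 2 ≤ n) (hodd : Odd (Fintype.card F)) {V : Type*} [AddCommGroup V] [Module ℂ V]
    [FiniteDimensional ℂ V] (ρ : Representation ℂ Sp V) (hρ : ∃ g, ρ g ≠ 1) :
    Fintype.card F ^ n - 1 ≤ 2 * Module.finrank ℂ V := by
  classical
  have hq3 : 3 ≤ Fintype.card F := by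
    have := Fintype.one_lt_card (α := F)
    obtain ⟨k, hk⟩ := hodd
    omega
  have : IsSimpleGroup (Sp ⧸ Subgroup.center Sp) := Classical.isSimpleGroup_psp hn fun _ => hq3
  have hperf : commutator Sp = ⊤ := Classical.commutator_sp_eq_top (Classical.sp_perfect_cond_of_card (by
    rcases hn.eq_or_lt with rfl | hm'
    · exact Or.inr (Or.inl ⟨rfl, hq3⟩)
    · exact Or.inl hm'))
  set z : Sym F n → Sp := fun X => Classical.spN X.1 X.2
  have hz : ∀ X Y, z (X + Y) = z X * z Y := fun X Y => (Classical.spN_mul X.1 Y.1 X.2 Y.2).symm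
  have h1mem : (1 : Matrix (Fin n) (Fin n) F) ∈ Sym F n := Matrix.transpose_one
  have hcen : z ⟨1, h1mem⟩ ∉ Subgroup.center Sp := by
    rw [Classical.mem_center_sp_iff (by omega)]
    intro h
    have : (Matrix.fromBlocks 1 1 0 1 : Matrix (Fin n ⊕ Fin n) (Fin n ⊕ Fin n) F) (Sum.inl ⟨0, by omega⟩) (Sum.inr ⟨0, by omega⟩) = 0 := by
      rcases h with h | h <;>
      · rw [show (Matrix.fromBlocks 1 1 0 1 : Matrix (Fin n ⊕ Fin n) (Fin n ⊕ Fin n) F) = _ from h]
        simp
    simp at this
  have hnt : ρ (z ⟨1, h1mem⟩) ≠ 1 := apply_ne_one hperf hcen ρ hρ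
  obtain ⟨φ, hφ⟩ := HermOrbit.exists_addChar F
  set R : Sym F n → Module.End ℂ V := fun X => ρ (z X) with hRdef
  have hR : ∀ a b, R (a + b) = R a * R b := fun a b => by rw [hRdef]; simp only; rw [hz, map_mul]
  have hR0 : R 0 = 1 := by
    have h := hz 0 0
    rw [add_zero] at h
    rw [hRdef]; simp only; rw [mul_eq_left.1 h.symm, map_one]
  have hbij := chr_bijective (n := n) hodd hφ
  set S : Finset (Matrix (Fin n) (Fin n) F) :=
    ((Finset.univ : Finset (Sym F n)).filter fun H => H ≠ 0 ∧ proj R (chr φ H) ≠ 0).image Subtype.val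
  have hne : S.Nonempty := by
    by_contra he
    apply hnt
    show R _ = 1
    calc R ⟨1, h1mem⟩ = R ⟨1, h1mem⟩ * ∑ χ, proj R χ := by rw [sum_proj hR0, mul_one]
      _ = ∑ χ, proj R χ := by
        rw [Finset.mul_sum]
        refine Finset.sum_congr rfl fun χ _ => ?_
        obtain ⟨H, rfl⟩ := hbij.2 χ
        rw [apply_mul_proj hR]
        by_cases hP : proj R (chr φ H) = 0
        · rw [hP, smul_zero]
        · have h0 : H = 0 := by
            by_contra hH
            exact he ⟨H.1, Finset.mem_image_of_mem _ (Finset.mem_filter.2 ⟨Finset.mem_univ _, hH, hP⟩)⟩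
          rw [h0, chr_apply]
          simp
      _ = 1 := sum_proj hR0
  have hinv : ∀ A : Matrix (Fin n) (Fin n) F, A.det ≠ 0 → ∀ H ∈ S, SymOrbit.act A H ∈ S := by
    intro A hA H₀ hH₀
    obtain ⟨H, hH, rfl⟩ := Finset.mem_image.1 hH₀
    obtain ⟨-, hH0, hP⟩ := Finset.mem_filter.1 hH
    have hu : IsUnit A.det := isUnit_iff_ne_zero.2 hA
    set U : Matrix.GeneralLinearGroup (Fin n) F := Matrix.GeneralLinearGroup.mkOfDetNeZero A hA
    have hUA : (U : Matrix (Fin n) (Fin n) F) = A := rfl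
    let σ : Sym F n ≃+ Sym F n :=
      { toFun := fun X => ⟨A * X.1 * Aᵀ, Classical.transpose_conj_symm X.2⟩
        invFun := fun X => ⟨A⁻¹ * X.1 * A⁻¹ᵀ, Classical.transpose_conj_symm X.2⟩
        left_inv := fun X => Subtype.ext (by
          show A⁻¹ * (A * X.1 * Aᵀ) * A⁻¹ᵀ = X.1
          rw [show A⁻¹ * (A * X.1 * Aᵀ) * A⁻¹ᵀ = (A⁻¹ * A) * X.1 * (Aᵀ * A⁻¹ᵀ) by
            simp only [Matrix.mul_assoc], ← Matrix.transpose_mul, Matrix.nonsing_inv_mul _ hu, Matrix.transpose_one,
            Matrix.one_mul, Matrix.mul_one])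
        right_inv := fun X => Subtype.ext (by
          show A * (A⁻¹ * X.1 * A⁻¹ᵀ) * Aᵀ = X.1
          rw [show A * (A⁻¹ * X.1 * A⁻¹ᵀ) * Aᵀ = (A * A⁻¹) * X.1 * (A⁻¹ᵀ * Aᵀ) by
            simp only [Matrix.mul_assoc], ← Matrix.transpose_mul, Matrix.mul_nonsing_inv _ hu, Matrix.transpose_one,
            Matrix.one_mul, Matrix.mul_one])
        map_add' := fun X Y => Subtype.ext (by
          show A * (X + Y).1 * Aᵀ = A * X.1 * Aᵀ + A * Y.1 * Aᵀ
          rw [AddSubgroup.coe_add, Matrix.mul_add, Matrix.add_mul]) }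
    have hconj : ∀ X : Sym F n, Classical.spM U * z X = z (σ X) * Classical.spM U := by
      intro X
      have h := Classical.spM_spN_commutator U X.1 (show X.1ᵀ = X.1 from X.2)
      rw [commutatorElement_def, mul_inv_eq_iff_eq_mul, Classical.spN_mul, mul_inv_eq_iff_eq_mul] at h
      refine h.trans ?_
      congr 1
      exact Classical.spN_congr _ _ (by rw [hUA]; show A * X.1 * Aᵀ - X.1 + X.1 = A * X.1 * Aᵀ; rw [sub_add_cancel])
    have hmem : SymOrbit.act A H.1 ∈ Sym F n := by
      show (_)ᵀ = _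
      rw [SymOrbit.act, Matrix.transpose_mul, Matrix.transpose_mul, Matrix.transpose_transpose,
        show H.1ᵀ = H.1 from H.2, Matrix.mul_assoc]
    have hchr : chr φ ⟨_, hmem⟩ = (chr φ H).compAddMonoidHom σ.toAddMonoidHom := by
      refine DFunLike.ext _ _ fun X => ?_
      show φ (SymOrbit.act A H.1 * X.1).trace = φ (H.1 * (A * X.1 * Aᵀ)).trace
      rw [SymOrbit.act, Matrix.mul_assoc (Aᵀ * H.1), Matrix.mul_assoc, Matrix.trace_mul_comm]
      simp only [Matrix.mul_assoc]
    refine Finset.mem_image.2 ⟨⟨_, hmem⟩, Finset.mem_filter.2 ⟨Finset.mem_univ _, fun e => hH0 ?_, fun e => hP ?_⟩, rfl⟩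
    · have e0 : Aᵀ * H.1 * A = 0 := congrArg Subtype.val e
      refine Subtype.ext ?_
      have e1 : (A⁻¹ᵀ * Aᵀ) * H.1 * (A * A⁻¹) = H.1 := by
        rw [← Matrix.transpose_mul, Matrix.mul_nonsing_inv _ hu, Matrix.transpose_one, Matrix.one_mul, Matrix.mul_one]
      rw [← e1, show A⁻¹ᵀ * Aᵀ * H.1 * (A * A⁻¹) = A⁻¹ᵀ * (Aᵀ * H.1 * A) * A⁻¹ by simp only [Matrix.mul_assoc], e0,
        Matrix.mul_zero, Matrix.zero_mul]
      rfl
    · have h := apply_proj_comp (R := R) (g := ρ (Classical.spM U)) (σ := σ)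
        (fun X => by rw [hRdef]; simp only; rw [← map_mul, hconj, map_mul]) (chr φ H)
      rw [← hchr, show proj R (chr φ ⟨_, hmem⟩) = 0 from e, mul_zero] at h
      calc proj R (chr φ H) = proj R (chr φ H) * ρ (Classical.spM U) * ρ (Classical.spM U)⁻¹ := by
            rw [mul_assoc, ← map_mul, mul_inv_cancel, map_one, mul_one]
        _ = 0 := by rw [← h, zero_mul]
  refine (SymOrbit.bound (two_ne hodd) n S hne (fun H hH => ?_) hinv).trans (Nat.mul_le_mul_left 2 ?_)
  · obtain ⟨H', hH', rfl⟩ := Finset.mem_image.1 hH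
    exact ⟨H'.2, fun e => (Finset.mem_filter.1 hH').2.1 (Subtype.ext e)⟩
  rw [Finset.card_image_of_injective _ Subtype.val_injective, ← Finset.card_image_of_injective _ hbij.1]
  refine card_le_finrank hR _ fun χ hχ => ?_
  obtain ⟨H, hH, rfl⟩ := Finset.mem_image.1 hχ
  exact (Finset.mem_filter.1 hH).2.2

/-! ### The Heisenberg operators -/

variable (ψ : AddChar F ℂ)

/-- The alternating form. -/
def om (v w : VV) : F := -(Cfsg.sympForm n F v w)

theorem om_eq (v w : VV) :
    om v w = (v ∘ Sum.inl) ⬝ᵥ (w ∘ Sum.inr) - (w ∘ Sum.inl) ⬝ᵥ (v ∘ Sum.inr) := by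
  simp only [om, Cfsg.sympForm, Matrix.J, Matrix.fromBlocks_mulVec, dotProduct, Fintype.sum_sum_type, Function.comp]
  simp [Matrix.neg_mulVec, Finset.sum_neg_distrib, mul_comm]
  ring

theorem om_sp (g : Sp) (v w : VV) : om (g.1 *ᵥ v) (g.1 *ᵥ w) = om v w := by
  rw [om, om, Classical.sp_form]

/-- The Heisenberg operator of a vector. -/
def P (v : VV) : Module.End ℂ Fn where
  toFun f x := ψ (x ⬝ᵥ (v ∘ Sum.inr) + (v ∘ Sum.inl) ⬝ᵥ (v ∘ Sum.inr) / 2) * f (x + v ∘ Sum.inl)
  map_add' f g := by funext x; simp only [Pi.add_apply, mul_add]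
  map_smul' c f := by funext x; simp only [Pi.smul_apply, smul_eq_mul, RingHom.id_apply]; ring

theorem P_apply (v : VV) (f : Fn) (x : Vec) :
    P ψ v f x = ψ (x ⬝ᵥ (v ∘ Sum.inr) + (v ∘ Sum.inl) ⬝ᵥ (v ∘ Sum.inr) / 2) * f (x + v ∘ Sum.inl) := rfl

theorem P_zero : P ψ (0 : VV) = 1 := by
  refine LinearMap.ext fun f => funext fun x => ?_
  rw [P_apply]
  simp [Function.comp_def]
  congr 1
  funext i; simp

theorem P_mul (h2 : (2 : F) ≠ 0) (v w : VV) : P ψ v * P ψ w = ψ (om v w / 2) • P ψ (v + w) := by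
  refine LinearMap.ext fun f => funext fun x => ?_
  rw [Module.End.mul_apply, P_apply, P_apply, LinearMap.smul_apply, Pi.smul_apply, smul_eq_mul, P_apply,
    ← mul_assoc, ← mul_assoc, ← AddChar.map_add_eq_mul, ← AddChar.map_add_eq_mul, om_eq]
  congr 1
  · congr 1
    simp only [show (v + w) ∘ Sum.inr = v ∘ Sum.inr + w ∘ Sum.inr from rfl,
      show (v + w) ∘ Sum.inl = v ∘ Sum.inl + w ∘ Sum.inl from rfl, dotProduct_add, add_dotProduct]
    field_simp
    ring
  · rw [add_assoc]; rfl

theorem trace_P (hψ : ψ ≠ 1) (v : VV) :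
    LinearMap.trace ℂ Fn (P ψ v) = if v = 0 then ((Fintype.card F ^ n : ℕ) : ℂ) else 0 := by
  classical
  split_ifs with hv
  · subst hv
    rw [P_zero, LinearMap.trace_one, Module.finrank_fintype_fun_eq_card, Fintype.card_fun, Fintype.card_fin]
  rw [LinearMap.trace_eq_matrix_trace ℂ (Pi.basisFun ℂ Vec), Matrix.trace]
  simp only [Matrix.diag, LinearMap.toMatrix_apply, Pi.basisFun_repr, Pi.basisFun_apply, P_apply]
  by_cases ha : v ∘ Sum.inl = 0
  · simp only [ha, add_zero, Pi.single_eq_same, mul_one, zero_dotProduct, zero_div]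
    have hb : v ∘ Sum.inr ≠ 0 := fun hb => hv (funext fun i => by
      rcases i with i | i
      · exact congrFun ha i
      · exact congrFun hb i)
    obtain ⟨i, hi⟩ := Function.ne_iff.1 hb
    set χ : AddChar Vec ℂ := ψ.compAddMonoidHom
      { toFun := fun x => x ⬝ᵥ (v ∘ Sum.inr)
        map_zero' := zero_dotProduct _
        map_add' := fun a b => add_dotProduct a b _ }
    refine (AddChar.sum_eq_zero_iff_ne_zero (ψ := χ)).2 fun h => hψ ?_
    refine DFunLike.ext _ _ fun c => ?_
    have h' := DFunLike.congr_fun h (Pi.single i (c / (v ∘ Sum.inr) i))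
    change ψ (Pi.single i (c / (v ∘ Sum.inr) i) ⬝ᵥ (v ∘ Sum.inr)) = 1 at h'
    rw [single_dotProduct, div_mul_cancel₀ _ (by simpa using hi)] at h'
    exact h'
  · refine Finset.sum_eq_zero fun x _ => ?_
    rw [Pi.single_eq_of_ne (fun e => ha (add_eq_left.1 e)), mul_zero]

theorem span_P (h2 : (2 : F) ≠ 0) (hψ : ψ ≠ 1) :
    Submodule.span ℂ (Set.range (P ψ (n := n))) = ⊤ := by
  classical
  have hli : LinearIndependent ℂ (P ψ (n := n)) := by
    rw [Fintype.linearIndependent_iff]
    intro c hc w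
    have h := congrArg (fun T : Module.End ℂ Fn => LinearMap.trace ℂ Fn (T * P ψ (-w))) hc
    simp only [Finset.sum_mul, map_sum, zero_mul, map_zero, smul_mul_assoc, map_smul, P_mul ψ h2, trace_P ψ hψ,
      smul_eq_mul] at h
    rw [Finset.sum_eq_single w (fun b _ hb => by
      rw [if_neg (fun e => hb (by rwa [← sub_eq_add_neg, sub_eq_zero] at e)), mul_zero, mul_zero]) (by simp),
      if_pos (add_neg_cancel w)] at h
    rcases mul_eq_zero.1 h with h' | h'
    · exact h'
    · exfalso
      rcases mul_eq_zero.1 h' with h'' | h''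
      · have := AddChar.map_add_eq_mul ψ (om w (-w) / 2) (-(om w (-w) / 2))
        rw [add_neg_cancel, AddChar.map_zero_eq_one, h'', zero_mul] at this
        exact one_ne_zero this
      · exact Nat.cast_ne_zero.2 (pow_ne_zero _ Fintype.card_ne_zero) h''
  refine hli.span_eq_top_of_card_eq_finrank' ?_
  rw [Module.finrank_linearMap, Module.finrank_fintype_fun_eq_card, Fintype.card_fun, Fintype.card_fun,
    Fintype.card_sum, Fintype.card_fin, pow_add]

/-- An operator intertwining the Heisenberg operators along a map. -/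
def Inter (T : VV → VV) (M : Module.End ℂ Fn) : Prop := ∀ v, M * P ψ v = P ψ (T v) * M

theorem exists_inter (h2 : (2 : F) ≠ 0) (hψ : ψ ≠ 1) (g : Sp) :
    ∃ M : Module.End ℂ Fn, Inter ψ (fun v => g.1 *ᵥ v) M ∧ Function.Injective M := by
  classical
  have havg : ∀ X : Module.End ℂ Fn, Inter ψ (fun v => g.1 *ᵥ v) (∑ v, P ψ (g.1 *ᵥ v) * X * P ψ (-v)) := by
    intro X w
    rw [Finset.sum_mul, Finset.mul_sum]
    refine Fintype.sum_equiv (Equiv.subRight w) _ _ fun u => ?_
    show P ψ (g.1 *ᵥ u) * X * P ψ (-u) * P ψ w = P ψ (g.1 *ᵥ w) * (P ψ (g.1 *ᵥ (u - w)) * X * P ψ (-(u - w)))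
    rw [mul_assoc (P ψ (g.1 *ᵥ u) * X), P_mul ψ h2, mul_smul_comm, ← mul_assoc, ← mul_assoc, P_mul ψ h2,
      smul_mul_assoc, smul_mul_assoc, ← Matrix.mulVec_add, om_sp, add_sub_cancel, neg_sub]
    congr 1
    · congr 1
      rw [om_eq, om_eq]
      simp only [show (-u) ∘ Sum.inl = -(u ∘ Sum.inl) from rfl, show (-u) ∘ Sum.inr = -(u ∘ Sum.inr) from rfl,
        show (u - w) ∘ Sum.inl = u ∘ Sum.inl - w ∘ Sum.inl from rfl,
        show (u - w) ∘ Sum.inr = u ∘ Sum.inr - w ∘ Sum.inr from rfl,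
        neg_dotProduct, dotProduct_neg, sub_dotProduct, dotProduct_sub]
      ring
    · rw [neg_add_eq_sub]
  obtain ⟨X, hX⟩ : ∃ X : Module.End ℂ Fn, (∑ v, P ψ (g.1 *ᵥ v) * X * P ψ (-v)) ≠ 0 := by
    by_contra hall
    push Not at hall
    have key : ∀ (x y : Vec) (S : Module.End ℂ Fn),
        ∑ v, P ψ (g.1 *ᵥ v) (Pi.single y (1 : ℂ)) x • (P ψ (-v) * S) = 0 := by
      intro x y S
      refine LinearMap.ext fun f => funext fun z => ?_
      let X : Module.End ℂ Fn := (LinearMap.toSpanSingleton ℂ Fn (Pi.single y 1)).comp (LinearMap.proj z)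
      have h := congrFun (LinearMap.congr_fun (hall X) (S f)) x
      simp only [LinearMap.sum_apply, Finset.sum_apply, Module.End.mul_apply, X, LinearMap.comp_apply,
        LinearMap.toSpanSingleton_apply, LinearMap.proj_apply, map_smul, Pi.smul_apply, smul_eq_mul,
        LinearMap.zero_apply, Pi.zero_apply] at h
      simp only [LinearMap.sum_apply, Finset.sum_apply, LinearMap.smul_apply, Module.End.mul_apply, Pi.smul_apply,
        smul_eq_mul, LinearMap.zero_apply, Pi.zero_apply]
      rw [← h]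
      exact Finset.sum_congr rfl fun v _ => mul_comm _ _
    have h := congrArg (LinearMap.trace ℂ Fn) (key 0 0 1)
    simp only [mul_one, map_sum, map_smul, trace_P ψ hψ, neg_eq_zero, smul_eq_mul, map_zero] at h
    rw [Finset.sum_eq_single (0 : VV) (fun b _ hb => by rw [if_neg hb, mul_zero]) (by simp), if_pos rfl,
      Matrix.mulVec_zero, P_zero] at h
    simp at h
  refine ⟨_, havg X, ?_⟩
  set M := ∑ v, P ψ (g.1 *ᵥ v) * X * P ψ (-v) with hM
  rw [← LinearMap.ker_eq_bot]
  by_contra hker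
  obtain ⟨f, hf, hf0⟩ := Submodule.exists_mem_ne_zero_of_ne_bot hker
  have hPf : ∀ S : Module.End ℂ Fn, M (S f) = 0 := by
    intro S
    have hmem : S ∈ Submodule.span ℂ (Set.range (P ψ (n := n))) := span_P ψ h2 hψ ▸ Submodule.mem_top
    induction hmem using Submodule.span_induction with
    | mem S hS =>
      obtain ⟨v, rfl⟩ := hS
      have := LinearMap.congr_fun (havg X v) f
      rw [Module.End.mul_apply, Module.End.mul_apply, LinearMap.mem_ker.1 hf, map_zero] at this
      exact this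
    | zero => simp
    | add S S' _ _ h1 h2 => rw [LinearMap.add_apply, map_add, h1, h2, add_zero]
    | smul c S _ h1 => rw [LinearMap.smul_apply, map_smul, h1, smul_zero]
  apply hX
  refine LinearMap.ext fun f' => ?_
  obtain ⟨x, hx⟩ := Function.ne_iff.1 hf0
  have := hPf ((LinearMap.toSpanSingleton ℂ Fn f').comp ((f x)⁻¹ • LinearMap.proj x))
  simpa [inv_mul_cancel₀ (show f x ≠ 0 from hx)] using this

theorem inter_unique (h2 : (2 : F) ≠ 0) (hψ : ψ ≠ 1) {T : VV → VV} {M M' : Module.End ℂ Fn}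
    (hM : Inter ψ T M) (hinj : Function.Injective M) (hM' : Inter ψ T M') : ∃ c : ℂ, M' = c • M := by
  classical
  let e := LinearEquiv.ofInjectiveEndo M hinj
  have heM : ∀ f, e f = M f := fun f => rfl
  let N : Module.End ℂ Fn := e.symm.toLinearMap.comp M'
  have hN : ∀ S : Module.End ℂ Fn, N * S = S * N := by
    intro S
    have hmem : S ∈ Submodule.span ℂ (Set.range (P ψ (n := n))) := span_P ψ h2 hψ ▸ Submodule.mem_top
    induction hmem using Submodule.span_induction with
    | mem S hS =>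
      obtain ⟨v, rfl⟩ := hS
      refine LinearMap.ext fun f => e.injective ?_
      show e (e.symm (M' (P ψ v f))) = e (P ψ v (e.symm (M' f)))
      rw [e.apply_symm_apply, heM]
      have h1 := LinearMap.congr_fun (hM' v) f
      have h2 := LinearMap.congr_fun (hM v) (e.symm (M' f))
      rw [Module.End.mul_apply, Module.End.mul_apply] at h1 h2
      rw [h1, h2, ← heM, e.apply_symm_apply]
    | zero => simp
    | add S S' _ _ h1 h2 => rw [mul_add, add_mul, h1, h2]
    | smul c S _ h1 => rw [mul_smul_comm, smul_mul_assoc, h1]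
  set f₀ : Fn := Pi.single 0 1
  refine ⟨N f₀ 0, LinearMap.ext fun f => ?_⟩
  have := LinearMap.congr_fun (hN ((LinearMap.toSpanSingleton ℂ Fn f).comp (LinearMap.proj (0 : Vec)))) f₀
  simp only [Module.End.mul_apply, LinearMap.comp_apply, LinearMap.toSpanSingleton_apply, LinearMap.proj_apply,
    f₀, Pi.single_eq_same, one_smul] at this
  rw [LinearMap.smul_apply]
  calc M' f = e (N f) := (e.apply_symm_apply _).symm
    _ = _ := by rw [this, map_smul, heM]

/-! ### The parity -/

/-- The parity operator. -/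
def J : Module.End ℂ Fn where
  toFun f x := f (-x)
  map_add' _ _ := rfl
  map_smul' _ _ := rfl

theorem J_apply (f : Fn) (x : Vec) : J f x = f (-x) := rfl

theorem J_J : (J : Module.End ℂ Fn) * J = 1 := by
  refine LinearMap.ext fun f => funext fun x => ?_
  show f (- -x) = f x
  rw [neg_neg]

theorem J_P (v : VV) : J * P ψ v = P ψ (-v) * J := by
  refine LinearMap.ext fun f => funext fun x => ?_
  rw [Module.End.mul_apply, Module.End.mul_apply, J_apply, P_apply, P_apply, J_apply]
  simp only [show (-v) ∘ Sum.inr = -(v ∘ Sum.inr) from rfl, show (-v) ∘ Sum.inl = -(v ∘ Sum.inl) from rfl,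
    neg_dotProduct, dotProduct_neg, neg_neg, neg_add, neg_neg]

/-- The projection on the odd functions. -/
noncomputable def pm (F : Type*) [Field F] (n : ℕ) : Module.End ℂ ((Fin n → F) → ℂ) := (2 : ℂ)⁻¹ • (1 - J)

/-- The projection on the even functions. -/
noncomputable def pp (F : Type*) [Field F] (n : ℕ) : Module.End ℂ ((Fin n → F) → ℂ) := (2 : ℂ)⁻¹ • (1 + J)

theorem pm_idem : pm F n * pm F n = pm F n := by
  rw [pm, smul_mul_smul_comm, sub_mul, mul_sub, mul_sub, one_mul, mul_one, one_mul, J_J]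
  rw [show (1 : Module.End ℂ Fn) - J - (J - 1) = (2 : ℂ) • (1 - J) by rw [two_smul]; abel, smul_smul]
  norm_num

theorem pp_idem : pp F n * pp F n = pp F n := by
  rw [pp, smul_mul_smul_comm, add_mul, mul_add, mul_add, one_mul, mul_one, one_mul, J_J]
  rw [show (1 : Module.End ℂ Fn) + J + (J + 1) = (2 : ℂ) • (1 + J) by rw [two_smul]; abel, smul_smul]
  norm_num

theorem isProj_of_idem {P : Module.End ℂ Fn} (h : P * P = P) : LinearMap.IsProj (LinearMap.range P) P :=
  ⟨fun v => ⟨v, rfl⟩, by rintro _ ⟨v, rfl⟩; exact LinearMap.congr_fun h v⟩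

theorem finrank_ranges (hodd : Odd (Fintype.card F)) :
    Module.finrank ℂ (LinearMap.range (pm F n)) = (Fintype.card F ^ n - 1) / 2 ∧
    Module.finrank ℂ (LinearMap.range (pp F n)) = (Fintype.card F ^ n - 1) / 2 + 1 := by
  classical
  have htr : LinearMap.trace ℂ Fn J = 1 := by
    rw [LinearMap.trace_eq_matrix_trace ℂ (Pi.basisFun ℂ Vec), Matrix.trace]
    simp only [Matrix.diag, LinearMap.toMatrix_apply, Pi.basisFun_repr, Pi.basisFun_apply, J_apply]
    rw [Finset.sum_eq_single (0 : Vec) (fun x _ hx => ?_) (by simp)]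
    · simp
    · refine Pi.single_eq_of_ne (fun e => hx ?_) _
      have h' : (2 : F) • x = 0 := by rw [two_smul]; exact (eq_neg_iff_add_eq_zero.1 e.symm)
      exact (smul_eq_zero.1 h').resolve_left (two_ne hodd)
  have h1 := LinearMap.IsProj.trace (isProj_of_idem (pm_idem (F := F) (n := n)))
  have h2 := LinearMap.IsProj.trace (isProj_of_idem (pp_idem (F := F) (n := n)))
  rw [pm, map_smul, map_sub, LinearMap.trace_one, htr, Module.finrank_fintype_fun_eq_card, Fintype.card_fun,
    Fintype.card_fin, ← pm, smul_eq_mul] at h1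
  rw [pp, map_smul, map_add, LinearMap.trace_one, htr, Module.finrank_fintype_fun_eq_card, Fintype.card_fun,
    Fintype.card_fin, ← pp, smul_eq_mul] at h2
  have hpos : 1 ≤ Fintype.card F ^ n := Nat.one_le_pow _ _ Fintype.card_pos
  have e1 : Fintype.card F ^ n = 2 * Module.finrank ℂ (LinearMap.range (pm F n)) + 1 := by
    apply Nat.cast_injective (R := ℂ)
    push_cast
    rw [← h1]; push_cast; ring
  have e2 : Fintype.card F ^ n + 1 = 2 * Module.finrank ℂ (LinearMap.range (pp F n)) := by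
    apply Nat.cast_injective (R := ℂ)
    push_cast
    rw [← h2]; push_cast; ring
  omega

local notation "Wm" => ↥(LinearMap.range (pm F n))
local notation "Wp" => ↥(LinearMap.range (pp F n))

/-- The part on the odd functions. -/
noncomputable def mIn (M : Module.End ℂ Fn) : Module.End ℂ Wm :=
  (pm F n).rangeRestrict ∘ₗ M ∘ₗ (LinearMap.range (pm F n)).subtype

/-- The part on the even functions. -/
noncomputable def pIn (M : Module.End ℂ Fn) : Module.End ℂ Wp :=
  (pp F n).rangeRestrict ∘ₗ M ∘ₗ (LinearMap.range (pp F n)).subtype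

theorem comm_pm {M : Module.End ℂ Fn} (h : M * J = J * M) : M * pm F n = pm F n * M := by
  rw [pm, mul_smul_comm, smul_mul_assoc, mul_sub, sub_mul, mul_one, one_mul, h]

theorem comm_pp {M : Module.End ℂ Fn} (h : M * J = J * M) : M * pp F n = pp F n * M := by
  rw [pp, mul_smul_comm, smul_mul_assoc, mul_add, add_mul, mul_one, one_mul, h]

theorem mIn_coe {M : Module.End ℂ Fn} (h : M * J = J * M) (w : Wm) : (mIn M w : Fn) = M w := by
  obtain ⟨_, v, rfl⟩ := w
  show pm F n (M (pm F n v)) = M (pm F n v)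
  calc pm F n (M (pm F n v)) = (pm F n * (M * pm F n)) v := rfl
    _ = (M * pm F n) v := by rw [comm_pm h, ← mul_assoc, pm_idem]
    _ = _ := rfl

theorem pIn_coe {M : Module.End ℂ Fn} (h : M * J = J * M) (w : Wp) : (pIn M w : Fn) = M w := by
  obtain ⟨_, v, rfl⟩ := w
  show pp F n (M (pp F n v)) = M (pp F n v)
  calc pp F n (M (pp F n v)) = (pp F n * (M * pp F n)) v := rfl
    _ = (M * pp F n) v := by rw [comm_pp h, ← mul_assoc, pp_idem]
    _ = _ := rfl

theorem comm_mul {M N : Module.End ℂ Fn} (hM : M * J = J * M) (hN : N * J = J * N) : M * N * J = J * (M * N) := by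
  rw [mul_assoc, hN, ← mul_assoc, hM, mul_assoc]

theorem mIn_mul {M N : Module.End ℂ Fn} (hM : M * J = J * M) (hN : N * J = J * N) :
    mIn (M * N) = mIn M * mIn N :=
  LinearMap.ext fun w => Subtype.ext (by
    rw [Module.End.mul_apply, mIn_coe (comm_mul hM hN), mIn_coe hM, mIn_coe hN, Module.End.mul_apply])

theorem pIn_mul {M N : Module.End ℂ Fn} (hM : M * J = J * M) (hN : N * J = J * N) :
    pIn (M * N) = pIn M * pIn N :=
  LinearMap.ext fun w => Subtype.ext (by
    rw [Module.End.mul_apply, pIn_coe (comm_mul hM hN), pIn_coe hM, pIn_coe hN, Module.End.mul_apply])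

theorem mIn_smul (c : ℂ) (M : Module.End ℂ Fn) : mIn (c • M) = c • mIn M := by
  rw [mIn, mIn, LinearMap.smul_comp, LinearMap.comp_smul]

theorem pIn_smul (c : ℂ) (M : Module.End ℂ Fn) : pIn (c • M) = c • pIn M := by
  rw [pIn, pIn, LinearMap.smul_comp, LinearMap.comp_smul]

/-- The normalised operator on the odd functions. -/
noncomputable def norm' (M : Module.End ℂ Fn) : Module.End ℂ Wm :=
  (LinearMap.det (mIn M) / LinearMap.det (pIn M)) • mIn M

theorem norm'_mul {M N : Module.End ℂ Fn} (hM : M * J = J * M) (hN : N * J = J * N) :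
    norm' (M * N) = norm' M * norm' N := by
  rw [norm', norm', norm', mIn_mul hM hN, pIn_mul hM hN, map_mul, map_mul, smul_mul_smul_comm, mul_div_mul_comm]

theorem norm'_smul (hodd : Odd (Fintype.card F)) {c : ℂ} (hc : c ≠ 0) (M : Module.End ℂ Fn) :
    norm' (c • M) = norm' M := by
  obtain ⟨h1, h2⟩ := finrank_ranges (n := n) hodd
  rw [norm', norm', mIn_smul, pIn_smul, LinearMap.det_smul, LinearMap.det_smul, h1, h2, smul_smul, pow_succ]
  congr 1
  field_simp

theorem norm'_one : norm' (1 : Module.End ℂ Fn) = 1 := by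
  have e1 : mIn (1 : Module.End ℂ Fn) = 1 :=
    LinearMap.ext fun w => Subtype.ext (by rw [mIn_coe (by rw [one_mul, mul_one])]; rfl)
  have e2 : pIn (1 : Module.End ℂ Fn) = 1 :=
    LinearMap.ext fun w => Subtype.ext (by rw [pIn_coe (by rw [one_mul, mul_one])]; rfl)
  rw [norm', e1, e2, map_one, map_one, div_one, one_smul]

theorem inter_comm_J (h2 : (2 : F) ≠ 0) (hψ : ψ ≠ 1) (hodd : Odd (Fintype.card F)) (g : Sp) {M : Module.End ℂ Fn}
    (hM : Inter ψ (fun v => g.1 *ᵥ v) M) (hinj : Function.Injective M) : M * J = J * M := by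
  have h1 : Inter ψ (fun v => g.1 *ᵥ (-v)) (M * J) := fun v => by
    rw [mul_assoc, J_P, ← mul_assoc, hM, mul_assoc]
  have h2' : Inter ψ (fun v => g.1 *ᵥ (-v)) (J * M) := fun v => by
    rw [mul_assoc, hM, ← mul_assoc, J_P, mul_assoc]
    simp only [Matrix.mulVec_neg]
  have hJinj : Function.Injective (J : Module.End ℂ Fn) := fun a b e => by
    have := congrArg J e
    rwa [← Module.End.mul_apply, ← Module.End.mul_apply, J_J] at this
  obtain ⟨c, hc⟩ := inter_unique ψ h2 hψ h2' (by
    rw [Module.End.mul_eq_comp, LinearMap.coe_comp]; exact hJinj.comp hinj) h1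
  have hsq : M = (c * c) • M := by
    calc M = J * (J * M) * 1 := by rw [← mul_assoc, J_J, one_mul, mul_one]
      _ = J * (J * M) * (J * J) := by rw [J_J]
      _ = J * J * (M * J) * J := by simp only [mul_assoc]
      _ = (M * J) * J := by rw [J_J, one_mul]
      _ = c • (J * M) * J := by rw [hc]
      _ = c • (J * (M * J)) := by rw [smul_mul_assoc, mul_assoc]
      _ = _ := by rw [hc, mul_smul_comm, smul_smul, ← mul_assoc, J_J, one_mul]
  have hM0 : M ≠ 0 := fun e => by
    have := hinj (a₁ := (Pi.single 0 1 : Fn)) (a₂ := 0) (by rw [e]; rfl)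
    simpa using congrFun this 0
  have hcc : c * c = 1 := by
    have : ((1 : ℂ) - c * c) • M = 0 := by
      refine LinearMap.ext fun v => ?_
      have e : M v = (c * c) • M v := LinearMap.congr_fun hsq v
      show ((1 : ℂ) - c * c) • M v = 0
      rw [sub_smul, one_smul, ← e, sub_self]
    exact (sub_eq_zero.1 ((smul_eq_zero.1 this).resolve_right hM0)).symm
  rcases mul_self_eq_one_iff.1 hcc with rfl | rfl
  · rw [hc, one_smul]
  · -- otherwise the even functions would embed into the odd ones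
    exfalso
    have hmap : ∀ w : Wp, M w ∈ LinearMap.range (pm F n) := by
      rintro ⟨_, v, rfl⟩
      refine ⟨M (pp F n v), ?_⟩
      have e : pm F n * (M * pp F n) = M * pp F n := by
        have hJM : J * M = -(M * J) := by
          refine LinearMap.ext fun v => ?_
          have e : (M * J : Module.End ℂ Fn) v = (-1 : ℂ) • (J * M : Module.End ℂ Fn) v := LinearMap.congr_fun hc v
          show (J * M : Module.End ℂ Fn) v = -((M * J : Module.End ℂ Fn) v)
          rw [e, neg_one_smul, neg_neg]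
        have : pm F n * M = M * pp F n := by
          rw [pm, pp, smul_mul_assoc, mul_smul_comm, sub_mul, one_mul, hJM, sub_neg_eq_add, mul_add, mul_one]
        rw [← mul_assoc, this, mul_assoc, pp_idem]
      exact LinearMap.congr_fun e v
    let f : Wp →ₗ[ℂ] Wm := (M ∘ₗ (LinearMap.range (pp F n)).subtype).codRestrict _ hmap
    have hf : Function.Injective f := fun a b e => Subtype.ext (hinj (congrArg Subtype.val e :))
    have := LinearMap.finrank_le_finrank_of_injective hf
    obtain ⟨r1, r2⟩ := finrank_ranges (n := n) hodd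
    omega

/-- The Weil representation on the odd functions. -/
theorem exists_rep (h2 : (2 : F) ≠ 0) (hψ : ψ ≠ 1) (hodd : Odd (Fintype.card F)) :
    ∃ ρ : Representation ℂ Sp Wm, ∀ (g : Sp) (M : Module.End ℂ Fn),
      Inter ψ (fun v => g.1 *ᵥ v) M → Function.Injective M → ρ g = norm' M := by
  classical
  choose M hM hinj using fun g : Sp => exists_inter ψ h2 hψ g
  have hnz : ∀ {M : Module.End ℂ Fn}, Function.Injective M → M ≠ 0 := fun {M} hinj e => by
    have := hinj (a₁ := (Pi.single 0 1 : Fn)) (a₂ := 0) (by rw [e]; rfl)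
    simpa using congrFun this 0
  have huniq : ∀ (g : Sp) (N : Module.End ℂ Fn), Inter ψ (fun v => g.1 *ᵥ v) N → Function.Injective N →
      norm' (M g) = norm' N := by
    intro g N hN hNi
    obtain ⟨c, hc⟩ := inter_unique ψ h2 hψ hN hNi (hM g)
    have hc0 : c ≠ 0 := fun e => hnz (hinj g) (by rw [hc, e, zero_smul])
    rw [hc, norm'_smul hodd hc0]
  have h1 : norm' (M 1) = 1 := by
    rw [huniq 1 1 (fun v => by
      show _ = _
      simp only [Classical.sp_one_mulVec, one_mul, mul_one]) Function.injective_id, norm'_one]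
  refine ⟨{ toFun := fun g => norm' (M g), map_one' := h1, map_mul' := fun g h => ?_ }, huniq⟩
  show norm' (M (g * h)) = norm' (M g) * norm' (M h)
  rw [← norm'_mul (inter_comm_J ψ h2 hψ hodd g (hM g) (hinj g)) (inter_comm_J ψ h2 hψ hodd h (hM h) (hinj h))]
  refine huniq _ _ (fun v => ?_) (by rw [Module.End.mul_eq_comp, LinearMap.coe_comp]; exact (hinj g).comp (hinj h))
  rw [mul_assoc, hM h, ← mul_assoc, hM g, mul_assoc]
  simp only [Classical.sp_mulVec_mul]

/-- There is an irreducible representation of degree `(qⁿ - 1) / 2`. -/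
theorem exists_irreducible (hn : 2 ≤ n) (hodd : Odd (Fintype.card F)) :
    ∃ ρ : Representation ℂ Sp (Fin ((Fintype.card F ^ n - 1) / 2) → ℂ), ρ.IsIrreducible := by
  classical
  obtain ⟨ψ, hψ1⟩ := HermOrbit.exists_addChar F
  have hψ : ψ ≠ 1 := fun e => hψ1 (by rw [e]; rfl)
  have h2 := two_ne hodd
  obtain ⟨ρ, hρ⟩ := exists_rep (n := n) ψ h2 hψ hodd
  obtain ⟨hb, -⟩ := finrank_ranges (F := F) (n := n) hodd
  set b := (Fintype.card F ^ n - 1) / 2 with hbdef
  have hb1 : 1 ≤ b := by
    have hq3 : 3 ≤ Fintype.card F := by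
      have := Fintype.one_lt_card (α := F)
      obtain ⟨k, hk⟩ := hodd
      omega
    have : 3 ≤ Fintype.card F ^ n := le_trans hq3 (Nat.le_self_pow (by omega) _)
    omega
  -- no fixed functions
  have hfix : ∀ f : Wm, (∀ g, ρ g f = f) → f = 0 := by
    intro f hf
    by_contra hf0
    have hscal : ∀ (g : Sp) (M : Module.End ℂ Fn), Inter ψ (fun v => g.1 *ᵥ v) M → Function.Injective M →
        ∃ κ : ℂ, M (f : Fn) = κ • (f : Fn) := by
      intro g M hM hi
      set d := LinearMap.det (mIn M) / LinearMap.det (pIn M)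
      have h := congrArg Subtype.val (hf g)
      rw [hρ g M hM hi, norm', LinearMap.smul_apply, Submodule.coe_smul,
        mIn_coe (inter_comm_J ψ h2 hψ hodd g hM hi)] at h
      refine ⟨d⁻¹, ?_⟩
      have h' : d • M (f : Fn) = (f : Fn) := h
      have hd : d ≠ 0 := fun e => hf0 (Subtype.ext (by rw [← h', e, zero_smul]; rfl))
      conv_rhs => rw [← h']
      rw [smul_smul, inv_mul_cancel₀ hd, one_smul]
    have hodd0 : (f : Fn) 0 = 0 := by
      obtain ⟨_, v, rfl⟩ := f
      show pm F n v 0 = 0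
      simp [pm, J_apply]
    obtain ⟨x₀, hx₀⟩ : ∃ x, (f : Fn) x ≠ 0 := Function.ne_iff.1 fun e => hf0 (Subtype.ext e)
    have hx0 : x₀ ≠ 0 := fun e => hx₀ (e ▸ hodd0)
    -- the support is everything
    have hsupp : ∀ y : Vec, y ≠ 0 → (f : Fn) y ≠ 0 := by
      intro y hy
      obtain ⟨m, rfl⟩ : ∃ m, n = m + 1 := ⟨n - 1, by omega⟩
      obtain ⟨A₁, hA₁, hc₁⟩ := SymOrbit.exists_col hx0
      obtain ⟨A₂, hA₂, hc₂⟩ := SymOrbit.exists_col hy
      set B := A₁ * A₂⁻¹
      have hB : B.det ≠ 0 := by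
        rw [Matrix.det_mul, Matrix.det_nonsing_inv, Ring.inverse_eq_inv']
        exact mul_ne_zero hA₁ (inv_ne_zero hA₂)
      have hBy : B *ᵥ y = x₀ := by
        have e2 : A₂ *ᵥ Pi.single 0 1 = y := by rw [Matrix.mulVec_single_one]; funext i; exact hc₂ i
        rw [← e2, Matrix.mulVec_mulVec, Matrix.mul_assoc, Matrix.nonsing_inv_mul _ (isUnit_iff_ne_zero.2 hA₂),
          Matrix.mul_one, Matrix.mulVec_single_one]
        funext i; exact hc₁ i
      set U : Matrix.GeneralLinearGroup (Fin (m + 1)) F := Matrix.GeneralLinearGroup.mkOfDetNeZero B hB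
      have hU' : ∀ x, B *ᵥ ((U⁻¹).1 *ᵥ x) = x := fun x => by
        rw [Matrix.mulVec_mulVec, show B * (U⁻¹).1 = (1 : Matrix _ _ F) from U.mul_inv, Matrix.one_mulVec]
      have hU'' : ∀ x, (U⁻¹).1 *ᵥ (B *ᵥ x) = x := fun x => by
        rw [Matrix.mulVec_mulVec, show (U⁻¹).1 * B = (1 : Matrix _ _ F) from U.inv_mul, Matrix.one_mulVec]
      let T : Module.End ℂ ((Fin (m + 1) → F) → ℂ) :=
        { toFun := fun h x => h (B *ᵥ x)
          map_add' := fun _ _ => rfl
          map_smul' := fun _ _ => rfl }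
      have hT : Inter ψ (fun v => (Classical.spM U⁻¹).1 *ᵥ v) T := by
        intro v
        refine LinearMap.ext fun h => funext fun x => ?_
        have hl : ((Classical.spM U⁻¹).1 *ᵥ v) ∘ Sum.inl = (U⁻¹).1 *ᵥ (v ∘ Sum.inl) := by
          rw [show (Classical.spM U⁻¹).1 = Matrix.fromBlocks (U⁻¹).1 0 0 ((U⁻¹⁻¹).1)ᵀ from rfl,
            Matrix.fromBlocks_mulVec]
          simp
        have hr : ((Classical.spM U⁻¹).1 *ᵥ v) ∘ Sum.inr = Bᵀ *ᵥ (v ∘ Sum.inr) := by
          rw [show (Classical.spM U⁻¹).1 = Matrix.fromBlocks (U⁻¹).1 0 0 ((U⁻¹⁻¹).1)ᵀ from rfl,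
            Matrix.fromBlocks_mulVec, inv_inv]
          simp
          rfl
        show P ψ v h (B *ᵥ x) = ψ _ * h (B *ᵥ (x + _))
        rw [P_apply, hl, hr, Matrix.mulVec_add, hU']
        congr 2
        have e : ∀ a c : Fin (m + 1) → F, a ⬝ᵥ (Bᵀ *ᵥ c) = (B *ᵥ a) ⬝ᵥ c := fun a c => by
          rw [Matrix.dotProduct_mulVec, Matrix.vecMul_transpose]
        rw [e, e, hU']
      have hTi : Function.Injective T := fun a b e => funext fun x => by
        have := congrFun e ((U⁻¹).1 *ᵥ x)
        change a _ = b _ at this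
        rwa [hU'] at this
      obtain ⟨κ, hκ⟩ := hscal _ T hT hTi
      have := congrFun hκ y
      change (f : _ → ℂ) (B *ᵥ y) = κ * (f : _ → ℂ) y at this
      rw [hBy] at this
      exact fun e => hx₀ (by rw [this, e, mul_zero])
    -- multiplication by a quadratic character
    have hquad : ∀ c : F, ψ c = 1 := by
      intro c
      let i₀ : Fin n := ⟨0, by omega⟩
      let i₁ : Fin n := ⟨1, by omega⟩
      set S : Matrix (Fin n) (Fin n) F := Matrix.single i₀ i₀ (-2 * c) with hSdef
      have hS : Sᵀ = S := Classical.single_symm _ _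
      have hmemL : Matrix.fromBlocks 1 0 S 1 ∈ Matrix.symplecticGroup (Fin n) F := by
        rw [SymplecticGroup.fromBlocks_mem_iff]
        refine ⟨?_, ?_, ?_⟩ <;> simp [hS]
      set g : Sp := ⟨_, hmemL⟩
      let D : Module.End ℂ Fn :=
        { toFun := fun h x => ψ (-(x ⬝ᵥ (S *ᵥ x)) / 2) * h x
          map_add' := fun a b => by funext x; simp only [Pi.add_apply, mul_add]
          map_smul' := fun k a => by funext x; simp only [Pi.smul_apply, smul_eq_mul, RingHom.id_apply]; ring }
      have hD : Inter ψ (fun v => g.1 *ᵥ v) D := by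
        intro v
        refine LinearMap.ext fun h => funext fun x => ?_
        have hl : (g.1 *ᵥ v) ∘ Sum.inl = v ∘ Sum.inl := by
          rw [show g.1 = Matrix.fromBlocks 1 0 S 1 from rfl, Matrix.fromBlocks_mulVec]; simp
        have hr : (g.1 *ᵥ v) ∘ Sum.inr = S *ᵥ (v ∘ Sum.inl) + v ∘ Sum.inr := by
          rw [show g.1 = Matrix.fromBlocks 1 0 S 1 from rfl, Matrix.fromBlocks_mulVec]; simp
        show ψ _ * P ψ v h x = ψ _ * (ψ _ * h (x + _))
        rw [P_apply, hl, hr, ← mul_assoc, ← mul_assoc, ← AddChar.map_add_eq_mul, ← AddChar.map_add_eq_mul]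
        congr 2
        have hsym : (v ∘ Sum.inl) ⬝ᵥ (S *ᵥ x) = x ⬝ᵥ (S *ᵥ (v ∘ Sum.inl)) := by
          rw [Matrix.dotProduct_mulVec, ← Matrix.mulVec_transpose, hS, dotProduct_comm]
        simp only [Matrix.mulVec_add, dotProduct_add, add_dotProduct, hsym]
        field_simp
        ring
      have hDi : Function.Injective D := fun a b e => funext fun x => by
        have := congrFun e x
        change ψ _ * a x = ψ _ * b x at this
        refine mul_left_cancel₀ (fun e0 => ?_) this
        have h1 := AddChar.map_add_eq_mul ψ (-(x ⬝ᵥ (S *ᵥ x)) / 2) (-(-(x ⬝ᵥ (S *ᵥ x)) / 2))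
        rw [add_neg_cancel, AddChar.map_zero_eq_one, e0, zero_mul] at h1
        exact one_ne_zero h1
      obtain ⟨κ, hκ⟩ := hscal g D hD hDi
      have hval : ∀ x : Vec, x ≠ 0 → ψ (c * (x i₀ * x i₀)) = κ := by
        intro x hx
        have := congrFun hκ x
        change ψ _ * (f : Fn) x = κ * (f : Fn) x at this
        have e : -(x ⬝ᵥ (S *ᵥ x)) / 2 = c * (x i₀ * x i₀) := by
          rw [hSdef, Matrix.single_mulVec]
          simp [dotProduct, Function.update_apply]
          field_simp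
        rw [e] at this
        exact mul_right_cancel₀ (hsupp x hx) this
      have hne : (Pi.single i₁ (1 : F) : Vec) ≠ 0 := Pi.single_ne_zero_iff.2 one_ne_zero
      have h10 : (Pi.single i₁ (1 : F) : Vec) i₀ = 0 := Pi.single_eq_of_ne (by simp [i₀, i₁, Fin.ext_iff]) _
      have h1 := hval _ hne
      rw [h10, mul_zero, mul_zero, AddChar.map_zero_eq_one] at h1
      have h2' := hval (Pi.single i₀ (1 : F)) (Pi.single_ne_zero_iff.2 one_ne_zero)
      rwa [Pi.single_eq_same, mul_one, mul_one, ← h1] at h2'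
    exact hψ1 (hquad 1)
  let e : Wm ≃ₗ[ℂ] (Fin b → ℂ) :=
    LinearEquiv.ofFinrankEq _ _ (by rw [hb, Module.finrank_fin_fun])
  let ρ' : Representation ℂ Sp (Fin b → ℂ) :=
    { toFun := fun g => e.toLinearMap ∘ₗ ρ g ∘ₗ e.symm.toLinearMap
      map_one' := by
        refine LinearMap.ext fun v => ?_
        simp
      map_mul' := fun g h => by
        refine LinearMap.ext fun v => ?_
        simp [Module.End.mul_apply] }
  have hρ' : ∀ g v, ρ' g v = e (ρ g (e.symm v)) := fun g v => rfl
  refine ⟨ρ', ?_⟩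
  have : Nontrivial (Subrepresentation ρ') := by
    refine ⟨⊥, ⊤, fun h => ?_⟩
    have h' : (⊥ : Submodule ℂ (Fin b → ℂ)) = ⊤ := congrArg Subrepresentation.toSubmodule h
    have : (Pi.single (⟨0, hb1⟩ : Fin b) (1 : ℂ)) ∈ (⊥ : Submodule ℂ (Fin b → ℂ)) := h' ▸ Submodule.mem_top
    simpa using congrFun ((Submodule.mem_bot ℂ).1 this) ⟨0, hb1⟩
  refine IsSimpleOrder.mk fun S => ?_
  by_cases htriv : ∀ g, ∀ v ∈ S.toSubmodule, ρ' g v = v
  · left
    refine Subrepresentation.toSubmodule_injective ?_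
    refine (Submodule.eq_bot_iff _).2 fun v hv => ?_
    have := hfix (e.symm v) fun g => e.injective (by rw [e.apply_symm_apply, ← hρ']; exact htriv g v hv)
    rw [← e.apply_symm_apply v, this, map_zero]
  · right
    push Not at htriv
    obtain ⟨g, v, hv, hne⟩ := htriv
    refine Subrepresentation.toSubmodule_injective (Submodule.eq_top_of_finrank_eq ?_)
    have h := min_degree hn hodd S.toRepresentation ⟨g, fun e1 => hne (by
      have := congrArg Subtype.val (LinearMap.congr_fun e1 ⟨v, hv⟩)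
      exact this)⟩
    have h' := Submodule.finrank_le S.toSubmodule
    rw [Module.finrank_fin_fun] at h' ⊢
    omega

end Cfsg.Agent.Lib.RankOne.SympWeil
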