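import Cfsg.Agent.Lib.Chev.Tw.D4
import Cfsg.Agent.Lib.Chev.Tw.Extra

/-!
An abelian subgroup of order q^5 in the triality group and the action of some root elements, torus
elements and Weyl representatives on it.
-/

set_option autoImplicit false
set_option maxRecDepth 100000
set_option maxHeartbeats 1000000

namespace Cfsg.Agent.Lib.RankOne.Triality

open Cfsg.Lie Cfsg.Agent.Lib.Chev Cfsg.Agent.Lib.Chev.Tw Cfsg.Agent.Lib.Chev.Tw.D4

theorem comm5 : chkComm2 chevD4 tabD4 0 [22, 23, 17, 20, 21] [22, 23, 17, 20, 21] = true := by decide +kernel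

theorem comm3 : chkComm2 chevD4 tabD4 0 [19, 16, 15] [19, 16, 15] = true := by decide +kernel

theorem comm3a : chkComm2 chevD4 tabD4 0 [18, 13, 12] [18, 13, 12] = true := by decide +kernel

theorem terms14 : tabD4.terms 14 22 = [(23, 1, 1, 1)] ∧ tabD4.terms 14 23 = [] ∧ tabD4.terms 14 17 = [] ∧
    tabD4.terms 14 20 = [] ∧ tabD4.terms 14 21 = [] := by decide +kernel

theorem termsS : tabD4.terms 19 17 = [(23, -1, 1, 1)] ∧ tabD4.terms 16 20 = [(23, -1, 1, 1)] ∧
    tabD4.terms 15 21 = [(23, -1, 1, 1)] ∧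
    ([(19, 22), (19, 23), (19, 20), (19, 21), (16, 22), (16, 23), (16, 17), (16, 21), (15, 22), (15, 23), (15, 17),
      (15, 20)] : List (ℕ × ℕ)).all (fun p => tabD4.terms p.1 p.2 == []) = true := by decide +kernel

theorem termsA : tabD4.terms 18 17 = [(22, -1, 1, 1)] ∧ tabD4.terms 13 20 = [(22, 1, 1, 1)] ∧
    tabD4.terms 12 21 = [(22, 1, 1, 1)] ∧
    ([(18, 22), (18, 23), (18, 20), (18, 21), (13, 22), (13, 23), (13, 17), (13, 21), (12, 22), (12, 23), (12, 17),
      (12, 20)] : List (ℕ × ℕ)).all (fun p => tabD4.terms p.1 p.2 == []) = true := by decide +kernel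

theorem wlb : ([22, 23, 17, 20, 21, 18, 13, 12].map fun r => (wl tabD4 [1] r, el tabD4 [1] r)) =
    [(23, 1), (22, -1), (17, 1), (20, 1), (21, 1), (19, 1), (16, -1), (15, -1)] := by decide +kernel

theorem wla : ([14, 22, 23, 19, 16, 15, 17, 20, 21].map fun r => (wl tabD4 [0, 2, 3] r, el tabD4 [0, 2, 3] r)) =
    [(22, -1), (14, 1), (23, 1), (17, 1), (20, 1), (21, 1), (19, -1), (16, -1), (15, -1)] := by decide +kernel

theorem word_a : chkWordMod chevD4 tabD4 2
    (([0, 2, 3] : List ℕ).map fun i => nw chevD4 (sim chevD4 i)).flatten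
    ((([18, 13, 12] : List ℕ) ++ ([18, 13, 12] : List ℕ).map (wl tabD4 [0, 2, 3]) ++ [18, 13, 12]).map
      fun r => (r, (1 : ℤ))) = true := by
  decide +kernel

variable {K : Type*} [Field K] [Fintype K] {q : ℕ} (A : Par K q)

set_option quotPrecheck false
local notation "GL4" => GL chevD4.Idx K
local notation "GG" => ↥(twistedD4 K q)
local notation "GX" => Chev.Good.X (Chev.Tw.Sys.G (Chev.Tw.D4.sys A)) K

/-- The fixed field. -/
def Fq : Subfield K := RingHom.eqLocusField A.phi (RingHom.id K)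

theorem mem_Fq {x : K} : x ∈ Fq A ↔ A.phi x = x := Iff.rfl

/-- The trace to the fixed field, in `K`. -/
def trK (x : K) : K := x + A.phi x + A.phi (A.phi x)

theorem trK_mem (x : K) : trK A x ∈ Fq A := by
  rw [mem_Fq, trK, map_add, map_add, phi3]
  ring

/-- Products of the root elements of the five roots. -/
def E5 (a c u v w : K) : GL4 := GX 22 a * GX 23 c * GX 17 u * GX 20 v * GX 21 w

theorem E5_eq (a c u v w : K) : E5 A a c u v w = Good'.P (sys A).G [22, 23, 17, 20, 21]
    (fun r => if r = 22 then a else if r = 23 then c else if r = 17 then u else if r = 20 then v else w) := by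
  simp [E5, Good'.P, Good.wordG, mul_assoc]

theorem E5_mul (a c u v w a' c' u' v' w' : K) :
    E5 A a c u v w * E5 A a' c' u' v' w' = E5 A (a + a') (c + c') (u + u') (v + v') (w + w') := by
  rw [E5_eq, E5_eq, E5_eq, Good'.P_mul (sys A).G (p := 0) Nat.cast_zero comm5 _ (fun x hx => hx)]
  refine Good'.P_congr (sys A).G fun r _ => ?_
  split_ifs <;> rfl

theorem X22_eq (a : K) : GX 22 a = E5 A a 0 0 0 0 := by simp [E5, (sys A).G.X_zero]
theorem X23_eq (a : K) : GX 23 a = E5 A 0 a 0 0 0 := by simp [E5, (sys A).G.X_zero]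
theorem X17_eq (a : K) : GX 17 a = E5 A 0 0 a 0 0 := by simp [E5, (sys A).G.X_zero]
theorem X20_eq (a : K) : GX 20 a = E5 A 0 0 0 a 0 := by simp [E5, (sys A).G.X_zero]
theorem X21_eq (a : K) : GX 21 a = E5 A 0 0 0 0 a := by simp [E5, (sys A).G.X_zero]

theorem conj_E5 (g : GL4) (a c u v w : K) : g * E5 A a c u v w * g⁻¹ =
    (g * GX 22 a * g⁻¹) * (g * GX 23 c * g⁻¹) * (g * GX 17 u * g⁻¹) * (g * GX 20 v * g⁻¹) * (g * GX 21 w * g⁻¹) := by
  rw [E5]; group

theorem conj_of_nil {r s : ℕ} (hr : r < 24) (hs : s < 24) (hne : s ≠ r) (hne' : s ≠ ng chevD4 r)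
    (h : tabD4.terms r s = []) (t u : K) : GX r t * GX s u * (GX r t)⁻¹ = GX s u := by
  rw [mul_inv_eq_iff_eq_mul, (sys A).G.commAt r s hr hs hne hne' t u, Good.cw, h]
  simp [Good.wordG]

theorem conj_of_one {r s x : ℕ} (hr : r < 24) (hs : s < 24) (hne : s ≠ r) (hne' : s ≠ ng chevD4 r)
    {C : ℤ} (h : tabD4.terms r s = [(x, C, 1, 1)])
    {t₀ : K} (hx : ∀ b, GX r t₀ * GX x b * (GX r t₀)⁻¹ = GX x b) (u : K) :
    GX r t₀ * GX s u * (GX r t₀)⁻¹ = GX s u * GX x ((C : K) * t₀ * u) := by
  have h1 := (sys A).G.commAt r s hr hs hne hne' t₀ u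
  rw [Good.cw, h] at h1
  simp only [Good.wordG, List.map_cons, List.map_nil, List.prod_cons, List.prod_nil, mul_one, pow_one] at h1
  have h2 : GX r t₀ * GX s u = GX s u * GX r t₀ * (GX x ((C : K) * -t₀ * u))⁻¹ := by rw [h1]; group
  have h3 := hx ((C : K) * t₀ * u)
  rw [mul_inv_eq_iff_eq_mul] at h3
  rw [mul_inv_eq_iff_eq_mul, h2, (sys A).G.X_inv, show -((C : K) * -t₀ * u) = (C : K) * t₀ * u by ring, mul_assoc,
    h3, ← mul_assoc]

/-- The element `x_b(u)`. -/
def xbL (u : K) : GL4 := GX 14 u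

theorem xbL_conj (t a c u v w : K) :
    xbL A t * E5 A a c u v w * (xbL A t)⁻¹ = E5 A a (c + t * a) u v w := by
  have h23 := fun b => conj_of_nil A (r := 14) (s := 23) (by decide) (by decide) (by decide) (by decide) terms14.2.1 t b
  rw [conj_E5, xbL, h23,
    conj_of_one A (r := 14) (s := 22) (by decide) (by decide) (by decide) (by decide) terms14.1 h23,
    conj_of_nil A (r := 14) (s := 17) (by decide) (by decide) (by decide) (by decide) terms14.2.2.1,
    conj_of_nil A (r := 14) (s := 20) (by decide) (by decide) (by decide) (by decide) terms14.2.2.2.1,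
    conj_of_nil A (r := 14) (s := 21) (by decide) (by decide) (by decide) (by decide) terms14.2.2.2.2,
    X22_eq, X23_eq, X23_eq, X17_eq, X20_eq, X21_eq, E5_mul, E5_mul, E5_mul, E5_mul, E5_mul]
  congr 1 <;> simp [add_comm]

/-- The product of a triple of short root elements of the type `a + b`. -/
def S3 (a b c : K) : GL4 := GX 19 a * GX 16 b * GX 15 c

/-- The product of a triple of short root elements of the type `a`. -/
def A3 (a b c : K) : GL4 := GX 18 a * GX 13 b * GX 12 c

theorem S3_mul (a b c a' b' c' : K) : S3 A a b c * S3 A a' b' c' = S3 A (a + a') (b + b') (c + c') := by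
  have e : ∀ a b c, S3 A a b c = Good'.P (sys A).G [19, 16, 15]
      (fun r => if r = 19 then a else if r = 16 then b else c) := fun a b c => by
    simp [S3, Good'.P, Good.wordG, mul_assoc]
  rw [e, e, e, Good'.P_mul (sys A).G (p := 0) Nat.cast_zero comm3 _ (fun x hx => hx)]
  refine Good'.P_congr (sys A).G fun r _ => ?_
  split_ifs <;> rfl

theorem A3_mul (a b c a' b' c' : K) : A3 A a b c * A3 A a' b' c' = A3 A (a + a') (b + b') (c + c') := by
  have e : ∀ a b c, A3 A a b c = Good'.P (sys A).G [18, 13, 12]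
      (fun r => if r = 18 then a else if r = 13 then b else c) := fun a b c => by
    simp [A3, Good'.P, Good.wordG, mul_assoc]
  rw [e, e, e, Good'.P_mul (sys A).G (p := 0) Nat.cast_zero comm3a _ (fun x hx => hx)]
  refine Good'.P_congr (sys A).G fun r _ => ?_
  split_ifs <;> rfl

theorem S_one (r : ℕ) (hr : r ∈ [19, 16, 15]) (t a c u v w : K) :
    GX r t * E5 A a c u v w * (GX r t)⁻¹ = E5 A a
      (c - t * (if r = 19 then u else if r = 16 then v else w)) u v w := by
  obtain ⟨t17, t20, t21, hnil⟩ := termsS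
  simp only [List.all_cons, List.all_nil, Bool.and_true, Bool.and_eq_true, beq_iff_eq] at hnil
  obtain ⟨n1, n2, n3, n4, n5, n6, n7, n8, n9, n10, n11, n12⟩ := hnil
  simp only [List.mem_cons, List.not_mem_nil, or_false] at hr
  rcases hr with rfl | rfl | rfl
  · have h23 := fun b => conj_of_nil A (r := 19) (s := 23) (by decide) (by decide) (by decide) (by decide) n2 t b
    rw [conj_E5, h23, conj_of_nil A (by decide) (by decide) (by decide) (by decide) n1,
      conj_of_one A (by decide) (by decide) (by decide) (by decide) t17 h23,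
      conj_of_nil A (by decide) (by decide) (by decide) (by decide) n3,
      conj_of_nil A (by decide) (by decide) (by decide) (by decide) n4,
      X22_eq, X23_eq, X23_eq, X17_eq, X20_eq, X21_eq, E5_mul, E5_mul, E5_mul, E5_mul, E5_mul]
    congr 1 <;> simp [sub_eq_add_neg]
  · have h23 := fun b => conj_of_nil A (r := 16) (s := 23) (by decide) (by decide) (by decide) (by decide) n6 t b
    rw [conj_E5, h23, conj_of_nil A (by decide) (by decide) (by decide) (by decide) n5,
      conj_of_one A (by decide) (by decide) (by decide) (by decide) t20 h23,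
      conj_of_nil A (by decide) (by decide) (by decide) (by decide) n7,
      conj_of_nil A (by decide) (by decide) (by decide) (by decide) n8,
      X22_eq, X23_eq, X23_eq, X17_eq, X20_eq, X21_eq, E5_mul, E5_mul, E5_mul, E5_mul, E5_mul]
    congr 1 <;> simp [sub_eq_add_neg]
  · have h23 := fun b => conj_of_nil A (r := 15) (s := 23) (by decide) (by decide) (by decide) (by decide) n10 t b
    rw [conj_E5, h23, conj_of_nil A (by decide) (by decide) (by decide) (by decide) n9,
      conj_of_one A (by decide) (by decide) (by decide) (by decide) t21 h23,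
      conj_of_nil A (by decide) (by decide) (by decide) (by decide) n11,
      conj_of_nil A (by decide) (by decide) (by decide) (by decide) n12,
      X22_eq, X23_eq, X23_eq, X17_eq, X20_eq, X21_eq, E5_mul, E5_mul, E5_mul, E5_mul, E5_mul]
    congr 1 <;> simp [sub_eq_add_neg]

theorem S3_conj (x y z a c u v w : K) :
    S3 A x y z * E5 A a c u v w * (S3 A x y z)⁻¹ = E5 A a (c - x * u - y * v - z * w) u v w := by
  have e : S3 A x y z * E5 A a c u v w * (S3 A x y z)⁻¹ =
      GX 19 x * (GX 16 y * (GX 15 z * E5 A a c u v w * (GX 15 z)⁻¹) * (GX 16 y)⁻¹) * (GX 19 x)⁻¹ := by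
    rw [S3]; group
  rw [e, S_one A 15 (by simp), S_one A 16 (by simp), S_one A 19 (by simp)]
  congr 1
  simp
  ring

theorem A_one (r : ℕ) (hr : r ∈ [18, 13, 12]) (t a c u v w : K) :
    GX r t * E5 A a c u v w * (GX r t)⁻¹ = E5 A
      (a + (if r = 18 then -(t * u) else if r = 13 then t * v else t * w)) c u v w := by
  obtain ⟨t17, t20, t21, hnil⟩ := termsA
  simp only [List.all_cons, List.all_nil, Bool.and_true, Bool.and_eq_true, beq_iff_eq] at hnil
  obtain ⟨n1, n2, n3, n4, n5, n6, n7, n8, n9, n10, n11, n12⟩ := hnil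
  simp only [List.mem_cons, List.not_mem_nil, or_false] at hr
  rcases hr with rfl | rfl | rfl
  · have h22 := fun b => conj_of_nil A (r := 18) (s := 22) (by decide) (by decide) (by decide) (by decide) n1 t b
    rw [conj_E5, h22, conj_of_nil A (by decide) (by decide) (by decide) (by decide) n2,
      conj_of_one A (by decide) (by decide) (by decide) (by decide) t17 h22,
      conj_of_nil A (by decide) (by decide) (by decide) (by decide) n3,
      conj_of_nil A (by decide) (by decide) (by decide) (by decide) n4,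
      X22_eq, X22_eq, X23_eq, X17_eq, X20_eq, X21_eq, E5_mul, E5_mul, E5_mul, E5_mul, E5_mul]
    congr 1 <;> simp
  · have h22 := fun b => conj_of_nil A (r := 13) (s := 22) (by decide) (by decide) (by decide) (by decide) n5 t b
    rw [conj_E5, h22, conj_of_nil A (by decide) (by decide) (by decide) (by decide) n6,
      conj_of_one A (by decide) (by decide) (by decide) (by decide) t20 h22,
      conj_of_nil A (by decide) (by decide) (by decide) (by decide) n7,
      conj_of_nil A (by decide) (by decide) (by decide) (by decide) n8,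
      X22_eq, X22_eq, X23_eq, X17_eq, X20_eq, X21_eq, E5_mul, E5_mul, E5_mul, E5_mul, E5_mul]
    congr 1 <;> simp
  · have h22 := fun b => conj_of_nil A (r := 12) (s := 22) (by decide) (by decide) (by decide) (by decide) n9 t b
    rw [conj_E5, h22, conj_of_nil A (by decide) (by decide) (by decide) (by decide) n10,
      conj_of_one A (by decide) (by decide) (by decide) (by decide) t21 h22,
      conj_of_nil A (by decide) (by decide) (by decide) (by decide) n11,
      conj_of_nil A (by decide) (by decide) (by decide) (by decide) n12,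
      X22_eq, X22_eq, X23_eq, X17_eq, X20_eq, X21_eq, E5_mul, E5_mul, E5_mul, E5_mul, E5_mul]
    congr 1 <;> simp

theorem A3_conj (x y z a c u v w : K) :
    A3 A x y z * E5 A a c u v w * (A3 A x y z)⁻¹ = E5 A (a - x * u + y * v + z * w) c u v w := by
  have e : A3 A x y z * E5 A a c u v w * (A3 A x y z)⁻¹ =
      GX 18 x * (GX 13 y * (GX 12 z * E5 A a c u v w * (GX 12 z)⁻¹) * (GX 13 y)⁻¹) * (GX 18 x)⁻¹ := by
    rw [A3]; group
  rw [e, A_one A 12 (by simp), A_one A 13 (by simp), A_one A 18 (by simp)]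
  congr 1
  simp
  ring

/-- The representative of the reflection in `b`. -/
def nbL : GL4 := (sys A).G.nl K [1]

/-- The representative of the reflection in `a`. -/
def naL : GL4 := (sys A).G.nl K [0, 2, 3]

theorem nb_X {r s : ℕ} (hr : r < 24) {e : ℤ} (h : (wl tabD4 [1] r, el tabD4 [1] r) = (s, e)) (t : K) :
    nbL A * GX r t * (nbL A)⁻¹ = GX s ((e : K) * t) := by
  rw [nbL, (sys A).G.nl_conj_X (show IsW chevD4 [1] from fun i hi => by simp at hi; subst hi; decide) hr]
  obtain ⟨h1, h2⟩ := Prod.mk.injEq .. ▸ h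
  rw [h1, h2]

theorem na_X {r s : ℕ} (hr : r < 24) {e : ℤ} (h : (wl tabD4 [0, 2, 3] r, el tabD4 [0, 2, 3] r) = (s, e)) (t : K) :
    naL A * GX r t * (naL A)⁻¹ = GX s ((e : K) * t) := by
  rw [naL, (sys A).G.nl_conj_X (show IsW chevD4 [0, 2, 3] from fun i hi => by
    simp at hi; rcases hi with rfl | rfl | rfl <;> decide) hr]
  obtain ⟨h1, h2⟩ := Prod.mk.injEq .. ▸ h
  rw [h1, h2]

theorem nb_conj (a c u v w : K) : nbL A * E5 A a c u v w * (nbL A)⁻¹ = E5 A (-c) a u v w := by
  have h := wlb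
  simp only [List.map_cons, List.map_nil, List.cons.injEq, and_true] at h
  obtain ⟨h22, h23, h17, h20, h21, -⟩ := h
  rw [conj_E5, nb_X A (by decide) h22, nb_X A (by decide) h23, nb_X A (by decide) h17, nb_X A (by decide) h20,
    nb_X A (by decide) h21, X22_eq, X23_eq, X17_eq, X20_eq, X21_eq, E5_mul, E5_mul, E5_mul, E5_mul]
  congr 1 <;> simp

theorem nb_A3 (x y z : K) : nbL A * A3 A x y z * (nbL A)⁻¹ = S3 A x (-y) (-z) := by
  have h := wlb
  simp only [List.map_cons, List.map_nil, List.cons.injEq, and_true] at h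
  obtain ⟨-, -, -, -, -, h18, h13, h12⟩ := h
  have e : nbL A * A3 A x y z * (nbL A)⁻¹ = (nbL A * GX 18 x * (nbL A)⁻¹) * (nbL A * GX 13 y * (nbL A)⁻¹) *
      (nbL A * GX 12 z * (nbL A)⁻¹) := by rw [A3]; group
  rw [e, nb_X A (by decide) h18, nb_X A (by decide) h13, nb_X A (by decide) h12, S3]
  congr 3 <;> simp

theorem na_14 (t : K) : naL A * xbL A t * (naL A)⁻¹ = E5 A (-t) 0 0 0 0 := by
  have h := wla
  simp only [List.map_cons, List.map_nil, List.cons.injEq, and_true] at h
  rw [xbL, na_X A (by decide) h.1, X22_eq]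
  congr 1
  simp

theorem na_22 (t : K) : naL A * E5 A t 0 0 0 0 * (naL A)⁻¹ = xbL A t := by
  have h := wla
  simp only [List.map_cons, List.map_nil, List.cons.injEq, and_true] at h
  rw [← X22_eq, na_X A (by decide) h.2.1, xbL]
  congr 1
  simp

theorem na_23 (t : K) : naL A * E5 A 0 t 0 0 0 * (naL A)⁻¹ = E5 A 0 t 0 0 0 := by
  have h := wla
  simp only [List.map_cons, List.map_nil, List.cons.injEq, and_true] at h
  rw [← X23_eq, na_X A (by decide) h.2.2.1]
  congr 1
  simp

theorem na_S3 (x y z : K) : naL A * S3 A x y z * (naL A)⁻¹ = E5 A 0 0 x y z := by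
  have h := wla
  simp only [List.map_cons, List.map_nil, List.cons.injEq, and_true] at h
  obtain ⟨-, -, -, h19, h16, h15, -⟩ := h
  have e : naL A * S3 A x y z * (naL A)⁻¹ = (naL A * GX 19 x * (naL A)⁻¹) * (naL A * GX 16 y * (naL A)⁻¹) *
      (naL A * GX 15 z * (naL A)⁻¹) := by rw [S3]; group
  rw [e, na_X A (by decide) h19, na_X A (by decide) h16, na_X A (by decide) h15, X17_eq, X20_eq, X21_eq, E5_mul,
    E5_mul]
  congr 1 <;> simp

theorem na_y (u v w : K) : naL A * E5 A 0 0 u v w * (naL A)⁻¹ = S3 A (-u) (-v) (-w) := by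
  have h := wla
  simp only [List.map_cons, List.map_nil, List.cons.injEq, and_true] at h
  obtain ⟨-, -, -, -, -, -, h17, h20, h21⟩ := h
  have e : naL A * E5 A 0 0 u v w * (naL A)⁻¹ = (naL A * GX 17 u * (naL A)⁻¹) * (naL A * GX 20 v * (naL A)⁻¹) *
      (naL A * GX 21 w * (naL A)⁻¹) := by
    rw [E5, (sys A).G.X_zero, (sys A).G.X_zero]; group
  rw [e, na_X A (by decide) h17, na_X A (by decide) h20, na_X A (by decide) h21, S3]
  congr 3 <;> simp

/-! ### Membership -/

theorem nb_mem : nbL A ∈ twistedD4 K q := (ab A (k := 0) (by decide)).n_mem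

theorem na_mem : naL A ∈ twistedD4 K q := (ab A (k := 1) (by decide)).n_mem

theorem xbL_mem {t : K} (ht : t ∈ Fq A) : xbL A t ∈ twistedD4 K q := by
  have h := mem0 A (f := fun _ => t) (Or.inl rfl) ((fix0 A (Or.inl rfl)).2 ((mem_Fq A).1 ht))
  simpa [Good'.P, Good.wordG, xbL, G1] using h

theorem A3_mem (t : K) : A3 A t (A.phi t) (A.phi (A.phi t)) ∈ twistedD4 K q := by
  have h := mem1 A (f := fun r => if r = 18 then t else if r = 13 then A.phi t else A.phi (A.phi t))
    (Or.inl rfl) ((fix1 A (Or.inl rfl)).2 (by simp))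
  simpa [Good'.P, Good.wordG, A3, G1, mul_assoc] using h

theorem S3_mem (s : K) : S3 A s (-A.phi s) (-A.phi (A.phi s)) ∈ twistedD4 K q := by
  rw [← nb_A3]
  exact mul_mem (mul_mem (nb_mem A) (A3_mem A s)) (inv_mem (nb_mem A))

/-- The elements of the abelian subgroup. -/
def eL (a c y : K) : GL4 := E5 A a c y (-A.phi y) (-A.phi (A.phi y))

theorem eL_mul (a c y a' c' y' : K) : eL A a c y * eL A a' c' y' = eL A (a + a') (c + c') (y + y') := by
  rw [eL, eL, eL, E5_mul]
  simp [map_add, add_comm]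

theorem eL_mem {a c : K} (ha : a ∈ Fq A) (hc : c ∈ Fq A) (y : K) : eL A a c y ∈ twistedD4 K q := by
  have h1 : ∀ {a : K}, a ∈ Fq A → E5 A a 0 0 0 0 ∈ twistedD4 K q := fun {a} ha => by
    rw [show a = -(-a) from (neg_neg a).symm, ← na_14]
    exact mul_mem (mul_mem (na_mem A) (xbL_mem A (neg_mem ha))) (inv_mem (na_mem A))
  have h2 : E5 A 0 c 0 0 0 ∈ twistedD4 K q := by
    have := mul_mem (mul_mem (nb_mem A) (h1 hc)) (inv_mem (nb_mem A))
    rwa [nb_conj, neg_zero] at this
  have h3 : eL A 0 0 y ∈ twistedD4 K q := by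
    rw [eL, ← na_S3]
    exact mul_mem (mul_mem (na_mem A) (S3_mem A y)) (inv_mem (na_mem A))
  have : E5 A a 0 0 0 0 * E5 A 0 c 0 0 0 * eL A 0 0 y = eL A a c y := by
    rw [eL, eL, E5_mul, E5_mul]
    simp
  rw [← this]
  exact mul_mem (mul_mem (h1 ha) h2) h3

theorem eL_ne_one {c : K} (hc : c ≠ 0) : eL A 0 c 0 ≠ 1 := by
  rw [eL, map_zero, map_zero, neg_zero, ← X23_eq]
  exact fun h => hc (((sys A).G.X_eq_one_iff (by decide) c).1 h)

theorem xb_eL (t a c y : K) : xbL A t * eL A a c y * (xbL A t)⁻¹ = eL A a (c + t * a) y := xbL_conj A ..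

theorem xs_eL (s a c y : K) :
    S3 A s (-A.phi s) (-A.phi (A.phi s)) * eL A a c y * (S3 A s (-A.phi s) (-A.phi (A.phi s)))⁻¹ =
      eL A a (c - trK A (s * y)) y := by
  rw [eL, S3_conj, eL, trK, map_mul, map_mul]
  congr 1
  ring

theorem xa_eL (t a c y : K) :
    A3 A t (A.phi t) (A.phi (A.phi t)) * eL A a c y * (A3 A t (A.phi t) (A.phi (A.phi t)))⁻¹ =
      eL A (a - trK A (t * y)) c y := by
  rw [eL, A3_conj, eL, trK, map_mul, map_mul]
  congr 1
  ring

theorem nb_eL (a c y : K) : nbL A * eL A a c y * (nbL A)⁻¹ = eL A (-c) a y := nb_conj A ..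

/-! ### The torus -/

/-- A fixed torus element. -/
def torL (t a : Kˣ) : GL4 := (sys A).G.torHom K (par A t a)

theorem tor_val (t a : Kˣ) :
    tor chevD4 tabD4 (extOne chevD4 (par A t a)) 22 = (t : K) * A.phi t * A.phi (A.phi t) * (a : K)⁻¹ ∧
    tor chevD4 tabD4 (extOne chevD4 (par A t a)) 23 = (a : K) ∧
    tor chevD4 tabD4 (extOne chevD4 (par A t a)) 17 = A.phi t * A.phi (A.phi t) * (t : K)⁻¹ ∧
    tor chevD4 tabD4 (extOne chevD4 (par A t a)) 20 = A.phi (A.phi t) * (t : K) * (A.phi t)⁻¹ ∧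
    tor chevD4 tabD4 (extOne chevD4 (par A t a)) 21 = (t : K) * A.phi t * (A.phi (A.phi t))⁻¹ ∧
    tor chevD4 tabD4 (extOne chevD4 (par A t a)) 19 = (t : K) * (a : K) * (A.phi t * A.phi (A.phi t))⁻¹ ∧
    tor chevD4 tabD4 (extOne chevD4 (par A t a)) 16 = A.phi t * (a : K) * (A.phi (A.phi t) * (t : K))⁻¹ ∧
    tor chevD4 tabD4 (extOne chevD4 (par A t a)) 15 = A.phi (A.phi t) * (a : K) * ((t : K) * A.phi t)⁻¹ := by
  have e0 : extOne chevD4 (par A t a) 0 = (t : K) := rfl
  have e1 : extOne chevD4 (par A t a) 1 = (a : K) := rfl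
  have e2 : extOne chevD4 (par A t a) 2 = A.phi t := rfl
  have e3 : extOne chevD4 (par A t a) 3 = A.phi (A.phi t) := rfl
  simp only [tor_expand, e0, e1, e2, e3,
    show tabD4.A 0 22 = 1 from rfl, show tabD4.A 1 22 = -1 from rfl,
    show tabD4.A 2 22 = 1 from rfl, show tabD4.A 3 22 = 1 from rfl,
    show tabD4.A 0 23 = 0 from rfl, show tabD4.A 1 23 = 1 from rfl,
    show tabD4.A 2 23 = 0 from rfl, show tabD4.A 3 23 = 0 from rfl,
    show tabD4.A 0 17 = -1 from rfl, show tabD4.A 1 17 = 0 from rfl,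
    show tabD4.A 2 17 = 1 from rfl, show tabD4.A 3 17 = 1 from rfl,
    show tabD4.A 0 20 = 1 from rfl, show tabD4.A 1 20 = 0 from rfl,
    show tabD4.A 2 20 = -1 from rfl, show tabD4.A 3 20 = 1 from rfl,
    show tabD4.A 0 21 = 1 from rfl, show tabD4.A 1 21 = 0 from rfl,
    show tabD4.A 2 21 = 1 from rfl, show tabD4.A 3 21 = -1 from rfl,
    show tabD4.A 0 19 = 1 from rfl, show tabD4.A 1 19 = 1 from rfl,
    show tabD4.A 2 19 = -1 from rfl, show tabD4.A 3 19 = -1 from rfl,
    show tabD4.A 0 16 = -1 from rfl, show tabD4.A 1 16 = 1 from rfl,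
    show tabD4.A 2 16 = 1 from rfl, show tabD4.A 3 16 = -1 from rfl,
    show tabD4.A 0 15 = -1 from rfl, show tabD4.A 1 15 = 1 from rfl,
    show tabD4.A 2 15 = -1 from rfl, show tabD4.A 3 15 = 1 from rfl]
  refine ⟨?_, ?_, ?_, ?_, ?_, ?_, ?_, ?_⟩ <;> simp <;> ring

theorem torL_X {r : ℕ} (hr : r < 24) (t a : Kˣ) (u : K) :
    torL A t a * GX r u * (torL A t a)⁻¹ = GX r (tor chevD4 tabD4 (extOne chevD4 (par A t a)) r * u) :=
  (sys A).G.diag_conj_X ((sys A).G.torHom_val _) ((sys A).G.isChar_tor fun i _ => extOne_ne_zero _ i) hr u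

/-- The scaling factor on the triple `2a + b`. -/
def wt (t : Kˣ) : K := A.phi t * A.phi (A.phi t) * (t : K)⁻¹

theorem torL_eL (t a : Kˣ) (x c y : K) : torL A t a * eL A x c y * (torL A t a)⁻¹ =
    eL A ((t : K) * A.phi t * A.phi (A.phi t) * (a : K)⁻¹ * x) ((a : K) * c) (wt A t * y) := by
  obtain ⟨h22, h23, h17, h20, h21, -, -, -⟩ := tor_val A t a
  rw [eL, conj_E5, torL_X A (by decide), torL_X A (by decide), torL_X A (by decide), torL_X A (by decide),
    torL_X A (by decide), h22, h23, h17, h20, h21, eL, E5, wt]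
  have e : ∀ x : K, A.phi (A.phi (A.phi x)) = x := phi3 A
  congr 2
  · congr 1
    simp only [map_mul, map_inv₀, e]
    ring
  · simp only [map_mul, map_inv₀, e]
    ring

theorem torL_xb (t a : Kˣ) (u : K) : torL A t a * xbL A u * (torL A t a)⁻¹ =
    xbL A ((a : K) ^ 2 * ((t : K) * A.phi t * A.phi (A.phi t))⁻¹ * u) := by
  rw [xbL, torL_X A (by decide), (tor_par A t a).2.1, xbL]

theorem torL_S3 (t a : Kˣ) (x y z : K) : torL A t a * S3 A x y z * (torL A t a)⁻¹ =
    S3 A ((t : K) * (a : K) * (A.phi t * A.phi (A.phi t))⁻¹ * x)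
      (A.phi t * (a : K) * (A.phi (A.phi t) * (t : K))⁻¹ * y)
      (A.phi (A.phi t) * (a : K) * ((t : K) * A.phi t)⁻¹ * z) := by
  obtain ⟨-, -, -, -, -, h19, h16, h15⟩ := tor_val A t a
  have e : torL A t a * S3 A x y z * (torL A t a)⁻¹ = (torL A t a * GX 19 x * (torL A t a)⁻¹) *
      (torL A t a * GX 16 y * (torL A t a)⁻¹) * (torL A t a * GX 15 z * (torL A t a)⁻¹) := by rw [S3]; group
  rw [e, torL_X A (by decide), torL_X A (by decide), torL_X A (by decide), h19, h16, h15, S3]

/-- In characteristic two the representative of `a` is a product of three conjugate elements. -/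
theorem naL_eq (h2 : (2 : K) = 0) :
    naL A = A3 A 1 1 1 * (naL A * A3 A 1 1 1 * (naL A)⁻¹) * A3 A 1 1 1 := by
  have hW : IsW chevD4 [0, 2, 3] := fun i hi => by simp at hi; rcases hi with rfl | rfl | rfl <;> decide
  have hA : A3 A 1 1 1 = Good'.P (sys A).G [18, 13, 12] (fun _ => (1 : K)) := by
    simp [A3, Good'.P, Good.wordG, mul_assoc]
  have hw := Good'.wordMat_eq_mod (sys A).G (K := K) (p := 2) (by simpa using h2) word_a
  rw [← (sys A).nl_eq_word hW, ← (sys A).P_one_eq, Good'.P_append, Good'.P_append,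
    ← (sys A).nl_conj_P_one h2 hW (R := [18, 13, 12]) (by decide), ← hA] at hw
  exact hw

end Cfsg.Agent.Lib.RankOne.Triality
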