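import Cfsg.Agent.Lib.RankOne.TrialityCheck

/-!
The search over the field with two elements.
-/

set_option autoImplicit false
set_option maxRecDepth 100000

namespace Cfsg.Agent.Lib.RankOne.Triality

theorem search0 : bits.all (fun t => bits.all fun t' => okCase (candWord t [] t')) = true := by decide +kernel
theorem search1 : bits.all (fun t => bits.all fun t' => okCase (candWord t [0] t')) = true := by decide +kernel
theorem search2 : bits.all (fun t => bits.all fun t' => okCase (candWord t [1, 0, 1] t')) = true := by decide +kernel
theorem search3 : bits.all (fun t => bits.all fun t' => okCase (candWord t [0, 1, 0, 1] t')) = true := by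
  decide +kernel
theorem search4 : bits.all (fun t => bits.all fun t' => okCase (candWord t [1, 0, 1, 0] t')) = true := by
  decide +kernel
theorem search5 : bits.all (fun t => bits.all fun t' => okCase (candWord t [0, 1, 0, 1, 0] t')) = true := by
  decide +kernel

theorem search : ∀ L ∈ repsTwo, ∀ t ∈ bits, ∀ t' ∈ bits, okCase (candWord t L t') = true := by
  intro L hL t ht t' ht'
  have key : ∀ {L}, bits.all (fun t => bits.all fun t' => okCase (candWord t L t')) = true →
      okCase (candWord t L t') = true := fun h => List.all_eq_true.1 (List.all_eq_true.1 h t ht) t' ht'
  simp only [repsTwo, List.mem_cons, List.not_mem_nil, or_false] at hL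
  rcases hL with rfl | rfl | rfl | rfl | rfl | rfl
  exacts [key search0, key search1, key search2, key search3, key search4, key search5]

end Cfsg.Agent.Lib.RankOne.Triality
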