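import Cfsg.Agent.Lib.RankOne.TrialityLevi
import Cfsg.Agent.Lib.RankOne.TrialitySearch

/-!
The centraliser of a central torus element of the long root Levi subgroup in the triality group.
-/

set_option autoImplicit false
set_option maxRecDepth 100000
set_option maxHeartbeats 1000000

namespace Cfsg.Agent.Lib.RankOne.Triality

open Cfsg.Lie Cfsg.Agent.Lib.Chev Cfsg.Agent.Lib.Chev.Tw Cfsg.Agent.Lib.Chev.Tw.D4
open scoped Matrix

variable {K : Type*} [Field K] [Fintype K] {q : ℕ} (A : Par K q)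

set_option quotPrecheck false
local notation "GL4" => GL chevD4.Idx K
local notation "GX" => Chev.Good.X (Chev.Tw.Sys.G (Chev.Tw.D4.sys A)) K

/-- The central element. -/
def zc (s : Kˣ) : GL4 := torL A (s ^ 2) (inU A (nm A s))

/-- Its values at the roots. -/
def chi (s : Kˣ) (r : ℕ) : K := tor chevD4 tabD4 (extOne chevD4 (par A (s ^ 2) (inU A (nm A s)))) r

theorem phu_eq (x : Kˣ) : phu A x = x ^ (q : ℤ) :=
  Units.ext (by rw [zpow_natCast, Units.val_pow_eq_pow_val]; exact A.hphi x)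

theorem chi_eq (s : Kˣ) (r : ℕ) : chi A s r = ((s ^ evq (exc r) (q : ℤ) : Kˣ) : K) := by
  set t := s ^ 2
  set a := inU A (nm A s)
  have e0 : extOne chevD4 (par A t a) 0 = (t : K) := rfl
  have e1 : extOne chevD4 (par A t a) 1 = (a : K) := rfl
  have e2 : extOne chevD4 (par A t a) 2 = ((phu A t : Kˣ) : K) := rfl
  have e3 : extOne chevD4 (par A t a) 3 = ((phu A (phu A t) : Kˣ) : K) := rfl
  have ht : t = s ^ (2 : ℤ) := by rw [zpow_ofNat]
  have ha : a = s ^ ((1 : ℤ) + q + q ^ 2) := by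
    have h : a = s * phu A s * phu A (phu A s) := Units.ext rfl
    rw [h, phu_eq, phu_eq, ← zpow_mul, ← zpow_one_add, ← zpow_add, pow_two]
  show tor chevD4 tabD4 (extOne chevD4 (par A t a)) r = _
  simp only [tor_expand, e0, e1, e2, e3]
  rw [phu_eq, phu_eq, ht, ha, ← zpow_mul, ← zpow_mul]
  simp only [← Units.val_zpow_eq_zpow_val, ← Units.val_mul, ← zpow_mul, ← zpow_add]
  congr 2
  simp only [evq, exc]
  ring

theorem chi_ne_zero (s : Kˣ) (r : ℕ) : chi A s r ≠ 0 := by rw [chi_eq]; exact Units.ne_zero _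

theorem chi_iff {s : Kˣ} (hs : orderOf s = q ^ 3 - 1) (r r' : ℕ) :
    chi A s r = chi A s r' ↔ (q : ℤ) ^ 3 - 1 ∣ evq (exc r) q - evq (exc r') q := by
  have h1 : ((q ^ 3 - 1 : ℕ) : ℤ) = (q : ℤ) ^ 3 - 1 := by
    rw [Nat.cast_sub (Nat.one_le_pow _ _ A.hq.pos)]; push_cast; rfl
  rw [chi_eq, chi_eq, Units.val_inj, ← orderOf_dvd_sub_iff_zpow_eq_zpow, hs, h1]

theorem chi_one_iff {s : Kˣ} (hs : orderOf s = q ^ 3 - 1) (r : ℕ) :
    chi A s r = 1 ↔ (q : ℤ) ^ 3 - 1 ∣ evq (exc r) q := by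
  have h1 : ((q ^ 3 - 1 : ℕ) : ℤ) = (q : ℤ) ^ 3 - 1 := by
    rw [Nat.cast_sub (Nat.one_le_pow _ _ A.hq.pos)]; push_cast; rfl
  rw [chi_eq, Units.val_eq_one, ← orderOf_dvd_iff_zpow_eq_one, hs, h1]

theorem zc_val (s : Kˣ) : (zc A s : Matrix chevD4.Idx chevD4.Idx K) = dmat chevD4 (chi A s) :=
  (sys A).G.torHom_val _

theorem chi_isChar (s : Kˣ) : IsChar chevD4 tabD4 (chi A s) :=
  (sys A).G.isChar_tor fun i _ => extOne_ne_zero _ i

theorem zc_diag (s : Kˣ) : zc A s ∈ chevD4.diagonalSubgroup K := (sys A).torHom_mem_diag _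

/-- A positive part commuting with the central element is supported on three roots. -/
theorem pos_shape {s : Kˣ} {u : GL4} (hu : u ∈ chevD4.posUnipotent K) (hf : u ∈ (sys A).Fx)
    (hc : zc A s * u = u * zc A s)
    (hchi : ∀ r, 12 ≤ r → r < 24 → chi A s r = 1 → r = 14 ∨ r = 22 ∨ r = 23) :
    ∃ a b c : K, a ∈ Fq A ∧ b ∈ Fq A ∧ c ∈ Fq A ∧ (chi A s 14 ≠ 1 → a = 0) ∧ (chi A s 22 ≠ 1 → b = 0) ∧
      (chi A s 23 ≠ 1 → c = 0) ∧ u = GX 14 a * GX 22 b * GX 23 c := by
  rw [← (sys A).G.USub_univ, (sys A).G.mem_USub_iff (fun _ _ _ _ _ _ _ _ _ _ _ => Set.mem_univ _)] at hu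
  obtain ⟨f, -, rfl⟩ := hu
  have he : npos chevD4 = 12 := by decide +kernel
  have hn : chevD4.nroots = 24 := by decide +kernel
  have h1 : (sys A).G.oprod K (npos chevD4) (npos chevD4) f =
      (sys A).G.oprod K (npos chevD4) (npos chevD4) (fun r => chi A s r * f r) := by
    have h2 := (sys A).diag_conj_wordG (zc_val A s) (chi_isChar A s)
      (w := (List.range' (npos chevD4) (npos chevD4)).map fun r => (r, f r))
      (fun p hp => by
        obtain ⟨r, hr, rfl⟩ := List.mem_map.1 hp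
        rw [List.mem_range'_1] at hr
        show r < chevD4.nroots
        omega)
    rw [show zc A s * (sys A).G.wordG ((List.range' (npos chevD4) (npos chevD4)).map fun r => (r, f r)) =
      (sys A).G.wordG ((List.range' (npos chevD4) (npos chevD4)).map fun r => (r, f r)) * zc A s from hc,
      mul_inv_cancel_right, List.map_map] at h2
    exact h2
  have hz : ∀ r, 12 ≤ r → r < 24 → f r = 0 ∨ chi A s r = 1 := by
    intro r hr1 hr2
    have h3 := (sys A).G.oprod_injective (npos chevD4) (npos chevD4) le_rfl (by omega) _ _ h1 r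
      (by omega) (by omega)
    by_cases h0 : f r = 0
    · exact Or.inl h0
    · exact Or.inr (mul_right_cancel₀ h0 (by rw [one_mul]; exact h3.symm))
  have hs3 : ∀ r, 12 ≤ r → r < 24 → r ≠ 14 → r ≠ 22 → r ≠ 23 → f r = 0 := by
    intro r h1 h2 h3 h4 h5
    exact (hz r h1 h2).resolve_right fun h => by rcases hchi r h1 h2 h with h | h | h <;> contradiction
  have hshape : (sys A).G.oprod K (npos chevD4) (npos chevD4) f = GX 14 (f 14) * GX 22 (f 22) * GX 23 (f 23) := by
    rw [he]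
    simp only [Good.oprod, Good.wordG, List.range'_succ, List.range'_zero, List.map_cons, List.map_nil,
      List.prod_cons, List.prod_nil, Nat.reduceAdd,
      hs3 12 (by omega) (by omega) (by omega) (by omega) (by omega),
      hs3 13 (by omega) (by omega) (by omega) (by omega) (by omega),
      hs3 15 (by omega) (by omega) (by omega) (by omega) (by omega),
      hs3 16 (by omega) (by omega) (by omega) (by omega) (by omega),
      hs3 17 (by omega) (by omega) (by omega) (by omega) (by omega),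
      hs3 18 (by omega) (by omega) (by omega) (by omega) (by omega),
      hs3 19 (by omega) (by omega) (by omega) (by omega) (by omega),
      hs3 20 (by omega) (by omega) (by omega) (by omega) (by omega),
      hs3 21 (by omega) (by omega) (by omega) (by omega) (by omega),
      (sys A).G.X_zero, one_mul, mul_one, mul_assoc]
  -- the coefficients are fixed
  obtain ⟨e14, e22, e23, r14, r22, r23⟩ := eps_triv
  have hpar : ∀ r, r < 24 → autD4a.eps r = 1 → ∀ x, (sys A).par r x = A.phi x := fun r hr he x => by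
    show ((autD4a.eps r : ℤ) : K) * A.phi x ^ autD4a.ex r = _
    have hx := allLt_eq_true ex_one r (by omega)
    rw [beq_iff_eq] at hx
    rw [he, hx, Int.cast_one, one_mul, pow_one]
  have hsX : ∀ r, r < 24 → autD4a.eps r = 1 → autD4a.rho r = r → ∀ x, (sys A).sg (GX r x) = GX r (A.phi x) :=
    fun r hr he hρ x => by
      rw [(sys A).sg_X (by omega), hpar r hr he]
      show GX (autD4a.rho r) _ = _
      rw [hρ]
  have hgrp : ∀ r, r < 24 → ∀ x, GX r x ∈ chevD4.group K := fun r hr x => (sys A).G.X_mem_group (by omega) x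
  have hsg := hf.2
  rw [hshape, (sys A).sg_mul (mul_mem (hgrp 14 (by omega) _) (hgrp 22 (by omega) _)) (hgrp 23 (by omega) _),
    (sys A).sg_mul (hgrp 14 (by omega) _) (hgrp 22 (by omega) _), hsX 14 (by omega) e14 r14,
    hsX 22 (by omega) e22 r22, hsX 23 (by omega) e23 r23] at hsg
  let g : ℕ → K := fun r => if r = 14 then A.phi (f 14) else if r = 22 then A.phi (f 22) else
    if r = 23 then A.phi (f 23) else 0
  have h4 : (sys A).G.oprod K (npos chevD4) (npos chevD4) g = (sys A).G.oprod K (npos chevD4) (npos chevD4) f := by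
    rw [hshape, ← hsg, he]
    simp [g, Good.oprod, Good.wordG, List.range'_succ, (sys A).G.X_zero, mul_assoc]
  have h5 := (sys A).G.oprod_injective (npos chevD4) (npos chevD4) le_rfl (by omega) _ _ h4
  refine ⟨f 14, f 22, f 23, ?_, ?_, ?_, fun h => ?_, fun h => ?_, fun h => ?_, hshape⟩
  · exact (mem_Fq A).2 (by simpa [g] using h5 14 (by omega) (by omega))
  · exact (mem_Fq A).2 (by simpa [g] using h5 22 (by omega) (by omega))
  · exact (mem_Fq A).2 (by simpa [g] using h5 23 (by omega) (by omega))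
  · exact (hz 14 (by omega) (by omega)).resolve_right h
  · exact (hz 22 (by omega) (by omega)).resolve_right h
  · exact (hz 23 (by omega) (by omega)).resolve_right h

theorem img_cons (k : ℕ) (L : List ℕ) : img (k :: L) = (img L).map (wl tabD4 (twD4.blk k)) := by
  rw [img, img, List.map_map]
  refine List.map_congr_left fun r _ => ?_
  rw [TwTab.cat_cons, wl_append]
  rfl

theorem exists_rep_img : ∀ L, IsB twD4 L → ∃ e ∈ reps, img L = img e
  | [], _ => ⟨[], by simp [reps], rfl⟩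
  | k :: L, h => by
    obtain ⟨e, he, hi⟩ := exists_rep_img L fun j hj => h j (List.mem_cons_of_mem _ hj)
    have hk : k < 2 := h k List.mem_cons_self
    have h1 := List.all_eq_true.1 (List.all_eq_true.1 reps_step e he) k (by
      simp only [List.mem_cons, List.not_mem_nil, or_false]; omega)
    obtain ⟨e', he', heq⟩ := List.any_eq_true.1 h1
    exact ⟨e', he', by rw [img_cons, hi]; simpa using heq⟩

theorem wl_of_img {L L' : List ℕ} (h : img L = img L') {r : ℕ} (hr : r < 24) :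
    wl tabD4 (twD4.cat L) r = wl tabD4 (twD4.cat L') r :=
  List.map_inj_left.1 h r (List.mem_range.2 hr)

/-- The Bruhat decomposition of an element commuting with the central element. -/
theorem cent_decomp {s : Kˣ} {g : GL4} (hg : g ∈ twistedD4 K q) (hc : zc A s * g = g * zc A s) :
    ∃ u₁ u₂ d e, u₁ ∈ chevD4.posUnipotent K ∧ u₁ ∈ (sys A).Fx ∧ zc A s * u₁ = u₁ * zc A s ∧
      u₂ ∈ chevD4.posUnipotent K ∧ u₂ ∈ (sys A).Fx ∧ zc A s * u₂ = u₂ * zc A s ∧
      d ∈ chevD4.diagonalSubgroup K ⊓ G1 K q ∧ e ∈ reps ∧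
      (∀ r < 24, chi A s (wl tabD4 (twD4.cat e) r) = chi A s r) ∧
      g = u₁ * (d * (gens A).nw e) * u₂ := by
  obtain ⟨u₁, m, u₂, hu₁, gu₁, hm, gm, hu₂, -, rfl⟩ := (gens A).normal_form (g := g) hg
  set z := zc A s
  have hzd := zc_diag A s
  obtain ⟨l, hl⟩ := (sys A).G.exists_rep hm
  have hu₂U : u₂ ∈ (sys A).G.USub K (flipSet chevD4 tabD4 l) :=
    (sys A).mem_flip hl.1 ((sys A).G.rep_act hl) hu₂.1 hu₂.2.2
  have hu₂' : z * u₂ * z⁻¹ ∈ (sys A).G.USub K (flipSet chevD4 tabD4 l) :=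
    (Subgroup.mem_normalizer_iff.1 ((sys A).G.diag_normalizes _ hzd) u₂).1 hu₂U
  have hu₁' : z * u₁ * z⁻¹ ∈ chevD4.posUnipotent K :=
    (Subgroup.mem_normalizer_iff.1 ((sys A).G.diag_normalizes_pos hzd) u₁).1 hu₁
  have hk : z * m * z⁻¹ * m⁻¹ ∈ chevD4.diagonalSubgroup K := by
    have h := (Subgroup.mem_normalizer_iff.1 ((sys A).G.monomial_le_normalizer hm) _).1 (inv_mem hzd)
    have e : z * m * z⁻¹ * m⁻¹ = z * (m * z⁻¹ * m⁻¹) := by group
    rw [e]; exact mul_mem hzd h
  have heq : (z * u₁ * z⁻¹ * (z * m * z⁻¹ * m⁻¹)) * m * (z * u₂ * z⁻¹) = u₁ * m * u₂ := by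
    calc _ = z * (u₁ * m * u₂) * z⁻¹ := by group
      _ = _ := by rw [hc]; group
  obtain ⟨e1, e2⟩ := (sys A).G.normal_form_unique hl
    (mul_mem (Subgroup.mem_sup_left hu₁') (Subgroup.mem_sup_right hk)) (Subgroup.mem_sup_left hu₁)
    hu₂' hu₂U heq
  have h3 : z * m * z⁻¹ * m⁻¹ = 1 := Subgroup.mem_bot.1 ((sys A).G.pos_inf_diag (F := K) ▸
    Subgroup.mem_inf.2 ⟨by
      have : z * m * z⁻¹ * m⁻¹ = (z * u₁ * z⁻¹)⁻¹ * (z * u₁ * z⁻¹ * (z * m * z⁻¹ * m⁻¹)) := by group
      rw [this, e1]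
      exact mul_mem (inv_mem hu₁') hu₁, hk⟩)
  rw [h3, mul_one] at e1
  have hmz : z * m = m * z := by rw [mul_inv_eq_one, mul_inv_eq_iff_eq_mul] at h3; exact h3
  obtain ⟨L, hL, hd⟩ := (gens A).exists_blocks hm gm
  obtain ⟨e, he, hi⟩ := exists_rep_img L hL
  have heB : IsB twD4 e := by
    simp only [reps, List.mem_cons, List.not_mem_nil, or_false] at he
    rcases he with rfl | rfl | rfl | rfl | rfl | rfl | rfl | rfl | rfl | rfl | rfl | rfl <;>
      · intro j hj
        show j < 2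
        simp at hj <;> omega
  have hact : (sys A).G.Act K m (id ∘ wl tabD4 (twD4.cat L)) := by
    have h := (sys A).G.act_mul ((sys A).G.act_diag hd.1) ((gens A).act_nw hL)
    rwa [inv_mul_cancel_right] at h
  have hd' : m * ((gens A).nw e)⁻¹ ∈ chevD4.diagonalSubgroup K := by
    have hie := rep_inv (sys A).G ((gens A).rep_nw heB)
    refine (sys A).G.mem_diag_of_act_id (mul_mem hm ((sys A).G.monomial_of_rep hie))
      ((sys A).G.act_mul hact ((sys A).G.rep_act hie)) fun r hr => ?_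
    simp only [Function.comp_apply, id_eq]
    have hr' := (sys A).G.wl_lt ((sys A).isW_cat heB).reverse hr
    rw [wl_of_img hi hr', (sys A).G.wl_wl_reverse ((sys A).isW_cat heB) hr]
  refine ⟨u₁, u₂, m * ((gens A).nw e)⁻¹, e, hu₁, (gens A).le_Fx gu₁, ?_, hu₂.1, hu₂.2.1, ?_,
    Subgroup.mem_inf.2 ⟨hd', (G1 K q).mul_mem gm ((G1 K q).inv_mem ((gens A).nw_mem heB))⟩, he, fun r hr => ?_, by group⟩
  · exact mul_inv_eq_iff_eq_mul.1 e1
  · exact mul_inv_eq_iff_eq_mul.1 e2
  · have hr2 : r < chevD4.nroots := hr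
    obtain ⟨hfr, c, hc0, hX⟩ := hact r hr2
    have h1 := hX 1
    have h2 := hX (chi A s r)
    have hzX : ∀ x {v}, v < chevD4.nroots → z * GX v x * z⁻¹ = GX v (chi A s v * x) := fun x v hv =>
      (sys A).G.diag_conj_X (zc_val A s) (chi_isChar A s) hv x
    have h4 : z * (m * GX r 1 * m⁻¹) * z⁻¹ = m * (z * GX r 1 * z⁻¹) * m⁻¹ := by
      calc _ = (z * m) * GX r 1 * (z * m)⁻¹ := by group
        _ = _ := by rw [hmz]; group
    rw [h1, hzX _ hfr, hzX _ hr2, mul_one, mul_one, h2] at h4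
    have h5 := (sys A).G.X_injective hfr h4
    simp only [Function.comp_apply, id_eq] at h5
    rw [← wl_of_img hi hr]
    exact mul_right_cancel₀ hc0 (h5.trans (mul_comm _ _))

theorem nw_eq (e : List ℕ) : ∀ _ : IsB twD4 e,
    (gens A).nw e = (sys A).G.wordG (castWord K (nWord e)) := by
  intro heB
  have h : ∀ L, (gens A).nw L = (sys A).G.nl K (twD4.cat L) := by
    intro L
    induction L with
    | nil => rw [Gens.nw_nil, TwTab.cat_nil, (sys A).G.nl_nil]
    | cons k L ih => rw [Gens.nw_cons, ih, TwTab.cat_cons, (sys A).G.nl_append]; rfl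
  rw [h, (sys A).nl_eq_word ((sys A).isW_cat heB), nWord]

/-- Over at least three elements the centraliser is the Levi subgroup. -/
theorem cent_large {s : Kˣ} (hs : orderOf s = q ^ 3 - 1) (hq : 3 ≤ q) {g : GL4}
    (hg : g ∈ twistedD4 K q) (hc : zc A s * g = g * zc A s) : g ∈ (psi A).range := by
  have hq' : (3 : ℤ) ≤ q := by exact_mod_cast hq
  have hnt : ∀ r, r < 24 → chi A s r = 1 → r = 14 ∨ r = 9 := by
    intro r hr h
    have h1 := allLt_eq_true roots_nontrivial r hr
    simp only [Bool.or_eq_true, beq_iff_eq] at h1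
    rcases h1 with (h1 | h1) | h1
    · exact Or.inl h1
    · exact Or.inr h1
    · exact absurd ((chi_one_iff A hs r).1 h) (nzc_spec h1 hq')
  obtain ⟨u₁, u₂, d, e, hu₁, hf₁, hc₁, hu₂, hf₂, hc₂, hd, he, hfix, rfl⟩ := cent_decomp A hg hc
  have hu : ∀ {u : GL4}, u ∈ chevD4.posUnipotent K → u ∈ (sys A).Fx → zc A s * u = u * zc A s →
      u ∈ (psi A).range := by
    intro u hu hf hc
    obtain ⟨a, b, c, ha, -, -, -, hb0, hc0, rfl⟩ := pos_shape A hu hf hc fun r h1 h2 h => by
      rcases hnt r h2 h with h | h <;> omega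
    rw [hb0 (fun h => by rcases hnt 22 (by omega) h with h | h <;> omega),
      hc0 (fun h => by rcases hnt 23 (by omega) h with h | h <;> omega),
      (sys A).G.X_zero, (sys A).G.X_zero, mul_one, mul_one]
    exact xbL_mem_range A ha
  have hd' : d ∈ (psi A).range := by
    obtain ⟨t, a, ha, rfl⟩ := (diag_eq A d).1 hd
    exact torL_mem_range A t a ha
  have hn : (gens A).nw e ∈ (psi A).range := by
    have h1 := List.all_eq_true.1 reps_stab e he
    simp only [Bool.or_eq_true, beq_iff_eq] at h1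
    have hn0 : (gens A).nw [0] = nbL A := by rw [Gens.nw_single]; rfl
    rcases h1 with (h1 | h1) | h1
    · have : ∀ e ∈ reps, img e = img [] → e = [] := by decide +kernel
      rw [this e he h1, Gens.nw_nil]
      exact one_mem _
    · have : ∀ e ∈ reps, img e = img [0] → e = [0] := by decide +kernel
      rw [this e he h1, hn0]
      exact nbL_mem_range A
    · obtain ⟨r, hr, h2⟩ := anyLt_eq_true h1
      refine absurd ((chi_iff A hs _ _).1 (hfix r hr)) ?_
      have h3 := nzc_spec h2 hq'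
      rwa [show evq (exc (wl tabD4 (twD4.cat e) r)) (q : ℤ) - evq (exc r) (q : ℤ) =
        evq ((exc (wl tabD4 (twD4.cat e) r)).1 - (exc r).1,
          (exc (wl tabD4 (twD4.cat e) r)).2.1 - (exc r).2.1,
          (exc (wl tabD4 (twD4.cat e) r)).2.2 - (exc r).2.2) (q : ℤ) by simp only [evq]; ring]
  exact mul_mem (mul_mem (hu hu₁ hf₁ hc₁) (mul_mem hd' hn)) (hu hu₂ hf₂ hc₂)

/-- The element of order three over the field with two elements. -/
def hel : GL4 := xbL A 1 * nbL A

theorem hel_eq : hel A = (sys A).G.wordG (castWord K hWord) := by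
  have h := nw_eq A [0] (isB_single (by decide))
  rw [Gens.nw_single] at h
  rw [hel, show nbL A = (gens A).n 0 from rfl, h, hWord, xbL]
  simp [castWord, Good.wordG]

/-- Over two elements. -/
theorem cent_two {s : Kˣ} (hs : orderOf s = q ^ 3 - 1) (hq : q = 2) {g : GL4}
    (hg : g ∈ twistedD4 K q) (hc : zc A s * g = g * zc A s) (hch : Commute g (hel A))
    (hth : ∀ t : Kˣ, Commute (torL A t 1) (hel A)) :
    ∃ (t : Kˣ) (i : ℕ), g = torL A t 1 * hel A ^ i := by
  haveI h2 : CharP K 2 := charP_of_card_eq_prime_pow (f := 3) (p := 2)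
    (by rw [A.hK, hq])
  have hcast : ((2 : ℕ) : K) = 0 := CharP.cast_eq_zero K 2
  have h7 : (q : ℤ) ^ 3 - 1 = 7 := by rw [hq]; norm_num
  have hq2 : (q : ℤ) = 2 := by rw [hq]; norm_num
  have hnt : ∀ r, 12 ≤ r → r < 24 → chi A s r = 1 → r = 14 ∨ r = 22 ∨ r = 23 := by
    intro r h0 hr h
    have h1 := allLt_eq_true roots_nontrivial_two r hr
    simp only [Bool.or_eq_true, beq_iff_eq, decide_eq_true_eq] at h1
    rw [chi_one_iff A hs, h7, hq2] at h
    rcases h1 with (((h1 | h1) | h1) | h1) | h1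
    · omega
    · exact Or.inl h1
    · exact Or.inr (Or.inl h1)
    · exact Or.inr (Or.inr h1)
    · exact absurd (Int.emod_eq_zero_of_dvd h) h1
  obtain ⟨u₁, u₂, d, e, hu₁, hf₁, hc₁, hu₂, hf₂, hc₂, hd, he, hfix, rfl⟩ := cent_decomp A hg hc
  obtain ⟨t, a, ha, rfl⟩ := (diag_eq A d).1 hd
  obtain rfl : a = 1 := by simpa [hq] using (phu_fixed A).1 ha
  have hFq : ∀ {x : K}, x ∈ Fq A → x = 0 ∨ x = 1 := by
    intro x hx
    have h := (mem_Fq A).1 hx
    rw [A.hphi, hq] at h
    have : x * (x - 1) = 0 := by linear_combination h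
    rcases mul_eq_zero.1 this with h | h
    · exact Or.inl h
    · exact Or.inr (sub_eq_zero.1 h)
  have hbit : ∀ {a b c : K}, a ∈ Fq A → b ∈ Fq A → c ∈ Fq A →
      ∃ v ∈ bits, GX 14 a * GX 22 b * GX 23 c = (sys A).G.wordG (castWord K (uWord v)) := by
    intro a b c ha hb hc
    have key : ∀ {x : K}, x ∈ Fq A → ∃ n : ℤ, (n = 0 ∨ n = 1) ∧ x = (n : K) := fun {x} hx => by
      rcases hFq hx with rfl | rfl
      · exact ⟨0, Or.inl rfl, by simp⟩
      · exact ⟨1, Or.inr rfl, by simp⟩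
    obtain ⟨i, hi, rfl⟩ := key ha
    obtain ⟨j, hj, rfl⟩ := key hb
    obtain ⟨k, hk, rfl⟩ := key hc
    refine ⟨(i, j, k), ?_, ?_⟩
    · rcases hi with rfl | rfl <;> rcases hj with rfl | rfl <;> rcases hk with rfl | rfl <;> simp [bits]
    · simp [uWord, castWord, Good.wordG, mul_assoc]
  obtain ⟨a₁, b₁, c₁, ha₁, hb₁, hc₁', -, -, -, rfl⟩ := pos_shape A hu₁ hf₁ hc₁ hnt
  obtain ⟨a₂, b₂, c₂, ha₂, hb₂, hc₂', -, -, -, rfl⟩ := pos_shape A hu₂ hf₂ hc₂ hnt
  obtain ⟨v₁, hv₁, e₁⟩ := hbit ha₁ hb₁ hc₁'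
  obtain ⟨v₂, hv₂, e₂⟩ := hbit ha₂ hb₂ hc₂'
  obtain ⟨e', he', hi'⟩ : ∃ e' ∈ repsTwo, e = e' := by
    have h1 := List.all_eq_true.1 reps_stab_two e he
    simp only [Bool.or_eq_true] at h1
    rcases h1 with h1 | h1
    · obtain ⟨e', he', hi⟩ := List.any_eq_true.1 h1
      have : ∀ e ∈ reps, ∀ e' ∈ repsTwo, img e = img e' → e = e' := by decide +kernel
      exact ⟨e', he', this e he e' he' (by simpa using hi)⟩
    · obtain ⟨r, hr, h2⟩ := anyLt_eq_true h1
      have h3 := (chi_iff A hs _ _).1 (hfix r hr)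
      rw [h7, hq2] at h3
      rw [decide_eq_true_eq] at h2
      exact absurd (Int.emod_eq_zero_of_dvd h3) h2
  subst hi'
  have heB : IsB twD4 e := by
    simp only [repsTwo, List.mem_cons, List.not_mem_nil, or_false] at he'
    rcases he' with rfl | rfl | rfl | rfl | rfl | rfl <;>
      · intro j hj
        show j < 2
        simp at hj <;> omega
  set T := torL A t 1 with hT
  have hTX : ∀ x : K, ∀ r, r = 14 ∨ r = 22 ∨ r = 23 → T * GX r x * T⁻¹ = GX r x := by
    intro x r hr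
    rw [hT, torL_X A (by rcases hr with rfl | rfl | rfl <;> omega)]
    have hN : (t : K) * A.phi t * A.phi (A.phi t) = 1 := by
      have h : (nm A t : (↥(Fq A))ˣ) = 1 := by
        refine Units.ext (Subtype.ext ?_)
        rcases hFq (((nm A t : (↥(Fq A))ˣ) : ↥(Fq A))).2 with h | h
        · exact absurd (Subtype.ext h) (nm A t).ne_zero
        · exact h
      rw [← nm_val, h]; rfl
    congr 1
    rcases hr with rfl | rfl | rfl
    · rw [(tor_par A t 1).2.1, hN]; simp
    · rw [(tor_val A t 1).1, hN]; simp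
    · rw [(tor_val A t 1).2.1]; simp
  set w := candWord v₁ e v₂ with hw
  have hgw : GX 14 a₁ * GX 22 b₁ * GX 23 c₁ * (T * (gens A).nw e) * (GX 14 a₂ * GX 22 b₂ * GX 23 c₂) =
      T * (sys A).G.wordG (castWord K w) := by
    have hcm : GX 14 a₁ * GX 22 b₁ * GX 23 c₁ * T = T * (GX 14 a₁ * GX 22 b₁ * GX 23 c₁) := by
      refine (mul_inv_eq_iff_eq_mul.1 ?_).symm
      calc _ = (T * GX 14 a₁ * T⁻¹) * (T * GX 22 b₁ * T⁻¹) * (T * GX 23 c₁ * T⁻¹) := by group
        _ = _ := by rw [hTX _ _ (Or.inl rfl), hTX _ _ (Or.inr (Or.inl rfl)), hTX _ _ (Or.inr (Or.inr rfl))]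
    rw [← mul_assoc _ T, hcm, e₁, e₂, nw_eq A e heB]
    simp [hw, candWord, castWord, Good.wordG, mul_assoc]
  change Commute (GX 14 a₁ * GX 22 b₁ * GX 23 c₁ * (T * (gens A).nw e) *
    (GX 14 a₂ * GX 22 b₂ * GX 23 c₂)) (hel A) at hch
  rw [hgw] at hch
  have hW : Commute ((sys A).G.wordG (castWord K w)) (hel A) := by
    have := ((hth t).inv_left).mul_left hch
    rwa [inv_mul_cancel_left] at this
  have hcase := search e he' v₁ hv₁ v₂ hv₂
  rw [← hw] at hcase
  simp only [okCase, Bool.or_eq_true] at hcase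
  have hap : ∀ v v' : List (ℕ × ℤ), (sys A).G.wordG (castWord K (v ++ v')) =
      (sys A).G.wordG (castWord K v) * (sys A).G.wordG (castWord K v') := fun v v' => by
    simp [castWord, Good.wordG]
  refine ⟨t, ?_⟩
  change ∃ i : ℕ, GX 14 a₁ * GX 22 b₁ * GX 23 c₁ * (T * (gens A).nw e) *
    (GX 14 a₂ * GX 22 b₂ * GX 23 c₂) = T * hel A ^ i
  rcases hcase with ((h | h) | h) | h
  · exfalso
    have he : (sys A).G.wordG (castWord K (w ++ hWord)) = (sys A).G.wordG (castWord K (hWord ++ w)) := by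
      rw [hap, hap, ← hel_eq]; exact hW
    simp only [differ, Bool.and_eq_true, List.all_eq_true, decide_eq_true_eq] at h
    obtain ⟨⟨hw1, hw2⟩, h⟩ := h
    obtain ⟨a, ha, h⟩ := anyLt_eq_true h
    obtain ⟨c, hc, h⟩ := anyLt_eq_true h
    rw [decide_eq_true_eq] at h
    have hr : InRange chevD4 [(a, 1)] := fun x hx => by simp at hx; subst hx; exact ha
    obtain ⟨k1, f1⟩ := Good'.applyWordMod_spec (sys A).G (K := K) hcast _ hw1 [(a, 1)] hr
    obtain ⟨k2, f2⟩ := Good'.applyWordMod_spec (sys A).G (K := K) hcast _ hw2 [(a, 1)] hr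
    rw [← (sys A).G.wordG_val, he, (sys A).G.wordG_val, ← f2] at f1
    obtain ⟨x, hx⟩ : ∃ x : chevD4.Idx, cd chevD4 x = c := by
      rcases code_cases chevD4 hc with ⟨i, hi, rfl⟩ | hc'
      · exact ⟨Sum.inl ⟨i, hi⟩, rfl⟩
      · exact ⟨Sum.inr ⟨c, hc'⟩, rfl⟩
    have h6 := congrFun f1 x
    rw [vecOf_apply, vecOf_apply, hx, ← sub_eq_zero, ← Int.cast_sub,
      CharP.intCast_eq_zero_iff K 2] at h6
    exact h (Int.emod_eq_zero_of_dvd h6)
  · exact ⟨0, by rw [hgw, Good'.wordMat_eq_mod (sys A).G hcast h, pow_zero]; simp [castWord, Good.wordG]⟩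
  · exact ⟨1, by rw [hgw, Good'.wordMat_eq_mod (sys A).G hcast h, pow_one, hel_eq]⟩
  · exact ⟨2, by rw [hgw, Good'.wordMat_eq_mod (sys A).G hcast h, hap, pow_two, hel_eq]⟩

end Cfsg.Agent.Lib.RankOne.Triality
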