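import Cfsg.Agent.Lib.RankOne.TrialityBasic

/-!
Finite checks for the centraliser of a central torus element of the long root Levi subgroup in the
triality group.
-/

set_option autoImplicit false
set_option maxRecDepth 100000

namespace Cfsg.Agent.Lib.RankOne.Triality

open Cfsg.Lie Cfsg.Agent.Lib.Chev Cfsg.Agent.Lib.Chev.Tw Cfsg.Agent.Lib.Chev.Tw.D4

/-- Representatives of the fixed Weyl group. -/
def reps : List (List ℕ) :=
  [[], [0], [1], [0, 1], [1, 0], [0, 1, 0], [1, 0, 1], [0, 1, 0, 1], [1, 0, 1, 0], [0, 1, 0, 1, 0],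
    [1, 0, 1, 0, 1], [0, 1, 0, 1, 0, 1]]

/-- The representatives fixing the element over the field with two elements. -/
def repsTwo : List (List ℕ) :=
  [[], [0], [1, 0, 1], [0, 1, 0, 1], [1, 0, 1, 0], [0, 1, 0, 1, 0]]

/-- The permutation of the roots. -/
def img (L : List ℕ) : List ℕ := (List.range 24).map (wl tabD4 (twD4.cat L))

theorem reps_step : reps.all (fun e => [0, 1].all fun k =>
    reps.any fun e' => (img e).map (wl tabD4 (twD4.blk k)) == img e') = true := by decide +kernel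

/-- The exponent of a root at the central element, by the powers of the field parameter. -/
def exc (r : ℕ) : ℤ × ℤ × ℤ :=
  (2 * tabD4.A 0 r + tabD4.A 1 r, 2 * tabD4.A 2 r + tabD4.A 1 r, 2 * tabD4.A 3 r + tabD4.A 1 r)

/-- The value of an exponent. -/
def evq (c : ℤ × ℤ × ℤ) (q : ℤ) : ℤ := c.1 + c.2.1 * q + c.2.2 * q ^ 2

/-- A triple nontrivial for every parameter at least three. -/
def nzc (c : ℤ × ℤ × ℤ) : Bool :=
  decide (-6 ≤ c.1 ∧ c.1 ≤ 6) && decide (-6 ≤ c.2.1 ∧ c.2.1 ≤ 6) && decide (-6 ≤ c.2.2 ∧ c.2.2 ≤ 6) &&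
    decide (c ≠ (0, 0, 0)) &&
    [3, 4, 5, 6, 7].all fun q : ℤ => decide (evq c q % (q ^ 3 - 1) ≠ 0)

theorem nzc_spec {c : ℤ × ℤ × ℤ} (h : nzc c = true) {q : ℤ} (hq : 3 ≤ q) : ¬ q ^ 3 - 1 ∣ evq c q := by
  obtain ⟨x, y, z⟩ := c
  simp only [nzc, evq, Bool.and_eq_true, decide_eq_true_eq, List.all_cons, List.all_nil, and_true, ne_eq,
    Prod.mk.injEq] at h ⊢
  obtain ⟨⟨⟨⟨⟨hx1, hx2⟩, hy1, hy2⟩, hz1, hz2⟩, hne⟩, h3, h4, h5, h6, h7⟩ := h
  intro hd
  rcases lt_or_ge q 8 with hlt | hge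
  · interval_cases q
    · exact of_decide_eq_true h3 (Int.emod_eq_zero_of_dvd hd)
    · exact of_decide_eq_true h4 (Int.emod_eq_zero_of_dvd hd)
    · exact of_decide_eq_true h5 (Int.emod_eq_zero_of_dvd hd)
    · exact of_decide_eq_true h6 (Int.emod_eq_zero_of_dvd hd)
    · exact of_decide_eq_true h7 (Int.emod_eq_zero_of_dvd hd)
  · have habs : |x + y * q + z * q ^ 2| < q ^ 3 - 1 := by
      have hq2 : 0 ≤ q ^ 2 := sq_nonneg q
      rw [abs_lt]
      constructor <;> nlinarith [mul_le_mul_of_nonneg_right hy1 (by omega : (0:ℤ) ≤ q),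
        mul_le_mul_of_nonneg_right hy2 (by omega : (0:ℤ) ≤ q),
        mul_le_mul_of_nonneg_right hz1 hq2, mul_le_mul_of_nonneg_right hz2 hq2,
        mul_le_mul_of_nonneg_right hge hq2]
    have h0 : x + y * q + z * q ^ 2 = 0 := Int.eq_zero_of_abs_lt_dvd hd habs
    have hxd : q ∣ x := ⟨-(y + z * q), by linear_combination h0⟩
    have hx0 : x = 0 := Int.eq_zero_of_abs_lt_dvd hxd (by rw [abs_lt]; omega)
    subst hx0
    have h1 : y + z * q = 0 := by
      have : q * (y + z * q) = 0 := by linear_combination h0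
      exact (mul_eq_zero.1 this).resolve_left (by omega)
    have hy0 : y = 0 := Int.eq_zero_of_abs_lt_dvd (show q ∣ y from ⟨-z, by linear_combination h1⟩) (by rw [abs_lt]; omega)
    subst hy0
    have hz0 : z = 0 := (mul_eq_zero.1 (by linear_combination h1 : z * q = 0)).resolve_right (by omega)
    exact hne ⟨rfl, rfl, hz0⟩

theorem roots_nontrivial : allLt 24 (fun r => r == 14 || r == 9 || nzc (exc r)) = true := by
  decide +kernel

theorem reps_stab : reps.all (fun e => img e == img [] || img e == img [0] || anyLt 24 fun r =>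
    nzc ((exc (wl tabD4 (twD4.cat e) r)).1 - (exc r).1, (exc (wl tabD4 (twD4.cat e) r)).2.1 - (exc r).2.1,
      (exc (wl tabD4 (twD4.cat e) r)).2.2 - (exc r).2.2)) = true := by decide +kernel

theorem roots_nontrivial_two : allLt 24 (fun r => decide (r < 12) || r == 14 || r == 22 || r == 23 ||
    decide (evq (exc r) 2 % 7 ≠ 0)) = true := by decide +kernel

theorem reps_stab_two : reps.all (fun e => repsTwo.any (fun e' => img e == img e') || anyLt 24 fun r =>
    decide ((evq (exc (wl tabD4 (twD4.cat e) r)) 2 - evq (exc r) 2) % 7 ≠ 0)) = true := by decide +kernel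

theorem eps_triv : autD4a.eps 14 = 1 ∧ autD4a.eps 22 = 1 ∧ autD4a.eps 23 = 1 ∧ autD4a.rho 14 = 14 ∧
    autD4a.rho 22 = 22 ∧ autD4a.rho 23 = 23 := by decide +kernel

/-! ### The field with two elements -/

/-- A positive part over the field with two elements. -/
def uWord (t : ℤ × ℤ × ℤ) : List (ℕ × ℤ) := [(14, t.1), (22, t.2.1), (23, t.2.2)]

/-- A representative as a word. -/
def nWord (L : List ℕ) : List (ℕ × ℤ) :=
  ((twD4.cat L).map fun i => Cfsg.Agent.Lib.Chev.nw chevD4 (sim chevD4 i)).flatten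

/-- The element of order three as a word. -/
def hWord : List (ℕ × ℤ) := (14, 1) :: nWord [0]

/-- The products to be inspected. -/
def candWord (t : ℤ × ℤ × ℤ) (L : List ℕ) (t' : ℤ × ℤ × ℤ) : List (ℕ × ℤ) :=
  uWord t ++ nWord L ++ uWord t'

/-- The triples with entries zero or one. -/
def bits : List (ℤ × ℤ × ℤ) :=
  [(0, 0, 0), (0, 0, 1), (0, 1, 0), (0, 1, 1), (1, 0, 0), (1, 0, 1), (1, 1, 0), (1, 1, 1)]

/-- Two words differ modulo two. -/
def differ (w w' : List (ℕ × ℤ)) : Bool :=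
  w.all (fun c => decide (c.1 < chevD4.nroots)) && w'.all (fun c => decide (c.1 < chevD4.nroots)) &&
    anyLt (chevD4.nroots + chevD4.rank) fun a =>
      (fun u u' => anyLt (chevD4.nroots + chevD4.rank) fun c => decide ((coef u c - coef u' c) % 2 ≠ 0))
        (applyWordMod chevD4 tabD4 2 w [(a, 1)]) (applyWordMod chevD4 tabD4 2 w' [(a, 1)])

/-- One case of the search. -/
def okCase (w : List (ℕ × ℤ)) : Bool :=
  differ (w ++ hWord) (hWord ++ w) || chkWordMod chevD4 tabD4 2 w [] || chkWordMod chevD4 tabD4 2 w hWord ||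
    chkWordMod chevD4 tabD4 2 w (hWord ++ hWord)

end Cfsg.Agent.Lib.RankOne.Triality
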