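import Cfsg.Agent.Lib.RankOne.TrialityBasic
import Cfsg.Agent.Lib.RankOne.EigenChar
import Cfsg.Agent.Lib.Characters.Integrality

/-!
The smallest degree of a nontrivial representation of the triality groups.
-/

set_option autoImplicit false
set_option maxRecDepth 100000
set_option maxHeartbeats 1000000

namespace Cfsg.Agent.Lib.RankOne.Triality

open Cfsg.Lie Cfsg.Agent.Lib.Chev Cfsg.Agent.Lib.Chev.Tw Cfsg.Agent.Lib.Chev.Tw.D4
open Cfsg.Agent.Lib.RankOne.EigenChar

section eigen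

variable {V : Type*} [AddCommGroup V] [Module ℂ V]
variable {E : Type*} [AddCommGroup E] [Fintype E]
variable (R : E → Module.End ℂ V)

/-- Eigenvectors of a character. -/
def Eig (χ : AddChar E ℂ) (v : V) : Prop := ∀ a, R a v = χ a • v

/-- The multiplicity of a character. -/
noncomputable def mult (χ : AddChar E ℂ) : ℕ := Module.finrank ℂ (LinearMap.range (proj R χ))

variable {R}

theorem proj_eig {χ : AddChar E ℂ} {v : V} (h : Eig R χ v) : proj R χ v = v := by
  have e : ∀ a, (χ (-a) • R a) v = v := fun a => by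
    rw [LinearMap.smul_apply, h a, smul_smul, ← AddChar.map_add_eq_mul, neg_add_cancel, AddChar.map_zero_eq_one,
      one_smul]
  rw [proj, LinearMap.smul_apply, LinearMap.sum_apply, Finset.sum_congr rfl fun a _ => e a, Finset.sum_const,
    Finset.card_univ, ← Nat.cast_smul_eq_nsmul ℂ, smul_smul, inv_mul_cancel₀ (Nat.cast_ne_zero.2 Fintype.card_ne_zero),
    one_smul]

theorem eig_of_mem (hR : ∀ a b, R (a + b) = R a * R b) {χ : AddChar E ℂ} {v : V}
    (h : v ∈ LinearMap.range (proj R χ)) : Eig R χ v := by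
  obtain ⟨w, rfl⟩ := h
  intro a
  rw [← Module.End.mul_apply, apply_mul_proj hR]
  rfl

theorem eig_prop [FiniteDimensional ℂ V] {χ : AddChar E ℂ} (h1 : mult R χ ≤ 1)
    {v w : V} (hv0 : v ≠ 0) (hv : Eig R χ v) (hw : Eig R χ w) : ∃ c : ℂ, w = c • v := by
  obtain ⟨x, hx⟩ := finrank_le_one_iff.1 h1
  obtain ⟨c, hc⟩ := hx ⟨v, v, proj_eig hv⟩
  obtain ⟨d, hd⟩ := hx ⟨w, w, proj_eig hw⟩
  have hc' : c • (x : V) = v := congrArg Subtype.val hc
  have hd' : d • (x : V) = w := congrArg Subtype.val hd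
  have hc0 : c ≠ 0 := fun e => hv0 (by rw [← hc', e, zero_smul])
  exact ⟨d / c, by rw [← hc', smul_smul, div_mul_cancel₀ d hc0, hd']⟩

theorem exists_eig [FiniteDimensional ℂ V] (hR : ∀ a b, R (a + b) = R a * R b) {χ : AddChar E ℂ} (h : mult R χ ≠ 0) :
    ∃ v, v ≠ 0 ∧ Eig R χ v := by
  obtain ⟨x, hx⟩ := (Module.finrank_pos_iff_exists_ne_zero (R := ℂ)).1 (Nat.pos_of_ne_zero h)
  exact ⟨x, fun e => hx (Subtype.ext e), eig_of_mem hR x.2⟩

theorem mult_ne_zero [FiniteDimensional ℂ V] {χ : AddChar E ℂ} {v : V} (hv0 : v ≠ 0) (hv : Eig R χ v) :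
    mult R χ ≠ 0 :=
  (Module.finrank_pos_iff_exists_ne_zero (R := ℂ).2 ⟨⟨v, v, proj_eig hv⟩, fun e => hv0 (congrArg Subtype.val e)⟩).ne'

theorem exists_char (hR : ∀ a b, R (a + b) = R a * R b) (hR0 : R 0 = 1) {v : V} (hv0 : v ≠ 0)
    (h : ∀ a, ∃ c : ℂ, R a v = c • v) : ∃ χ, Eig R χ v := by
  choose c hc using h
  refine ⟨⟨c, ?_, fun a b => ?_⟩, hc⟩
  · refine smul_left_injective ℂ hv0 ?_
    show c 0 • v = (1 : ℂ) • v
    rw [← hc, hR0, one_smul]
    rfl
  · refine smul_left_injective ℂ hv0 ?_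
    show c (a + b) • v = (c a * c b) • v
    rw [← hc, hR, Module.End.mul_apply, hc, map_smul, hc, smul_smul, mul_comm]

theorem sum_mult [FiniteDimensional ℂ V] (hR : ∀ a b, R (a + b) = R a * R b) (hR0 : R 0 = 1) :
    ∑ χ : AddChar E ℂ, mult R χ = Module.finrank ℂ V := by
  classical
  have h := congrArg (LinearMap.trace ℂ V) (sum_proj hR0)
  rw [map_sum, LinearMap.trace_one] at h
  have e : ∀ χ : AddChar E ℂ, LinearMap.trace ℂ V (proj R χ) = (mult R χ : ℂ) := fun χ =>
    LinearMap.IsProj.trace ⟨fun x => ⟨x, rfl⟩, fun x hx => by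
      obtain ⟨w, rfl⟩ := hx
      rw [← Module.End.mul_apply, proj_mul_proj hR, if_pos rfl]⟩
  simp only [e] at h
  exact_mod_cast h

/-- The number of characters having a nonzero eigenvector is at most the dimension. -/
theorem card_eig [FiniteDimensional ℂ V] (hR : ∀ a b, R (a + b) = R a * R b) (S : Finset (AddChar E ℂ))
    (hS : ∀ χ ∈ S, ∃ v, v ≠ 0 ∧ Eig R χ v) : S.card ≤ Module.finrank ℂ V :=
  card_le_finrank hR S fun χ hχ e => by
    obtain ⟨v, hv0, hv⟩ := hS χ hχ
    exact hv0 (by rw [← proj_eig hv, e, LinearMap.zero_apply])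

/-- An operator conjugating `R a` into `R (f a)` moves eigenvectors. -/
theorem mult_le [FiniteDimensional ℂ V] (hR : ∀ a b, R (a + b) = R a * R b) {g : Module.End ℂ V}
    (hinj : Function.Injective g) {χ χ' : AddChar E ℂ} (h : ∀ v, Eig R χ v → Eig R χ' (g v)) :
    mult R χ ≤ mult R χ' := by
  refine LinearMap.finrank_le_finrank_of_injective
    (f := (g ∘ₗ (LinearMap.range (proj R χ)).subtype).codRestrict (LinearMap.range (proj R χ'))
      fun x => ⟨g x, proj_eig (h _ (eig_of_mem hR x.2))⟩) fun a b e => ?_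
  exact Subtype.ext (hinj (congrArg Subtype.val e :))

end eigen

theorem exists_mulShift {F : Type*} [Field F] [Fintype F] {φ : AddChar F ℂ} (hφ : φ ≠ 1) (ψ : AddChar F ℂ) :
    ∃ t : F, φ.mulShift t = ψ := by
  have hinj := AddChar.to_mulShift_inj_of_isPrimitive (AddChar.IsPrimitive.of_ne_one hφ)
  exact ((Fintype.bijective_iff_injective_and_card _).2 ⟨hinj, (AddChar.card_eq (α := F)).symm⟩).2 ψ

variable {K : Type*} [Field K] [Fintype K] {q : ℕ} (A : Par K q)

noncomputable instance : Fintype ↥(Fq A) := Fintype.ofFinite _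

set_option quotPrecheck false
local notation "GG" => ↥(twistedD4 K q)
local notation "FF" => ↥(Fq A)
local notation "EE" => ↥(Fq A) × ↥(Fq A) × K

theorem card_Fq : Fintype.card FF = q := by
  rw [← Nat.card_eq_fintype_card]
  refine (Nat.card_congr (Equiv.subtypeEquivRight fun x => ?_)).trans (card_fixed A.hq.one_lt (by norm_num) A.hK)
  rw [mem_Fq, A.hphi]

theorem exists_trK : ∃ y : K, trK A y ≠ 0 := by
  by_contra h
  push Not at h
  obtain ⟨u, hu⟩ : ∃ u : K, A.phi u ≠ u := by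
    by_contra h'
    push Not at h'
    have hle : Fintype.card K ≤ Fintype.card FF :=
      Fintype.card_le_of_injective (fun x => (⟨x, (mem_Fq A).2 (h' x)⟩ : FF)) fun a b e => congrArg Subtype.val e
    rw [card_Fq, A.hK] at hle
    have := Nat.pow_lt_pow_right A.hq.one_lt (show 1 < 3 by norm_num)
    rw [pow_one] at this
    omega
  have h2 : A.phi (A.phi u) ≠ u := fun e => hu (by
    have := congrArg A.phi e
    rw [phi3] at this
    exact this.symm)
  have e1 := h (u * u)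
  have e2 := h u
  have e3 := h 1
  simp only [trK, map_mul, map_one] at e1 e2 e3
  have : (u - A.phi (A.phi u)) * (u - A.phi u) = 0 := by
    linear_combination e1 - (A.phi (A.phi u)) * e2 - A.phi u * (e2 - A.phi (A.phi u) * e3)
  rcases mul_eq_zero.1 this with h' | h'
  · exact h2 (sub_eq_zero.1 h').symm
  · exact hu (sub_eq_zero.1 h').symm

/-- The trace to the fixed field. -/
def Tr (x : K) : FF := ⟨trK A x, trK_mem A x⟩

theorem Tr_add (x y : K) : Tr A (x + y) = Tr A x + Tr A y := by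
  refine Subtype.ext ?_
  show trK A (x + y) = trK A x + trK A y
  simp only [trK, map_add]
  ring

theorem Tr_surjective (c : FF) : ∃ y, Tr A y = c := by
  obtain ⟨y, hy⟩ := exists_trK A
  have hd : (c : K) / trK A y ∈ Fq A := div_mem c.2 (trK_mem A y)
  refine ⟨(c : K) / trK A y * y, Subtype.ext ?_⟩
  show trK A _ = (c : K)
  have e := (mem_Fq A).1 hd
  rw [trK, map_mul, map_mul, e, e, ← mul_add, ← mul_add, ← trK, div_mul_cancel₀ _ hy]

/-- The element of the abelian subgroup. -/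
def eG (p : EE) : GG := ⟨eL A p.1 p.2.1 p.2.2, eL_mem A p.1.2 p.2.1.2 p.2.2⟩

theorem eG_add (p p' : EE) : eG A (p + p') = eG A p * eG A p' := Subtype.ext (eL_mul A ..).symm

theorem eG_zero : eG A 0 = 1 := by
  have h := eG_add A 0 0
  rw [add_zero] at h
  exact mul_eq_left.1 h.symm

/-- The element `x_b(u)`. -/
def xbG (u : FF) : GG := ⟨xbL A u, xbL_mem A u.2⟩

theorem xbG_add (u v : FF) : xbG A (u + v) = xbG A u * xbG A v := Subtype.ext ((sys A).G.X_add ..).symm

/-- The element of type `a + b`. -/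
def xsG (s : K) : GG := ⟨S3 A s (-A.phi s) (-A.phi (A.phi s)), S3_mem A s⟩

theorem xsG_add (s s' : K) : xsG A (s + s') = xsG A s * xsG A s' := by
  refine Subtype.ext ?_
  show _ = S3 A _ _ _ * S3 A _ _ _
  rw [S3_mul]
  show S3 A _ _ _ = _
  simp only [map_add, neg_add]

/-- The element of type `a`. -/
def xaG (t : K) : GG := ⟨A3 A t (A.phi t) (A.phi (A.phi t)), A3_mem A t⟩

/-- The reflection in `b`. -/
def nbG : GG := ⟨nbL A, nb_mem A⟩

/-- The reflection in `a`. -/
def naG : GG := ⟨naL A, na_mem A⟩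

/-- Torus elements. -/
def torG (t a : Kˣ) (ha : phu A a = a) : GG := ⟨torL A t a, torHom_par_mem A t a ha⟩

/-- The norm, as a unit. -/
def Nu (t : Kˣ) : Kˣ := t * phu A t * phu A (phu A t)

theorem Nu_val (t : Kˣ) : (Nu A t : K) = (t : K) * A.phi t * A.phi (A.phi t) := rfl

theorem Nu_fixed (t : Kˣ) : phu A (Nu A t) = Nu A t := by
  rw [Nu, map_mul, map_mul, phu3, mul_comm, ← mul_assoc]

theorem Nu_mem (t : Kˣ) : (Nu A t : K) ∈ Fq A := (mem_Fq A).2 (congrArg Units.val (Nu_fixed A t))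

/-- Characters from three components. -/
noncomputable def chE : (AddChar FF ℂ × AddChar FF ℂ × AddChar K ℂ) ≃ AddChar EE ℂ where
  toFun p :=
    { toFun := fun a => p.1 a.1 * (p.2.1 a.2.1 * p.2.2 a.2.2)
      map_zero_eq_one' := by simp
      map_add_eq_mul' := fun a b => by simp only [Prod.fst_add, Prod.snd_add, AddChar.map_add_eq_mul]; ring }
  invFun χ :=
    (χ.compAddMonoidHom (AddMonoidHom.inl FF (FF × K)),
     χ.compAddMonoidHom ((AddMonoidHom.inr FF (FF × K)).comp (AddMonoidHom.inl FF K)),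
     χ.compAddMonoidHom ((AddMonoidHom.inr FF (FF × K)).comp (AddMonoidHom.inr FF K)))
  left_inv p := by
    refine Prod.ext (DFunLike.ext _ _ fun a => ?_) (Prod.ext (DFunLike.ext _ _ fun a => ?_)
      (DFunLike.ext _ _ fun a => ?_)) <;> simp
  right_inv χ := by
    refine DFunLike.ext _ _ fun a => ?_
    obtain ⟨a, c, y⟩ := a
    simp [← AddChar.map_add_eq_mul]

theorem chE_apply (p : AddChar FF ℂ × AddChar FF ℂ × AddChar K ℂ) (a : EE) :
    chE A p a = p.1 a.1 * (p.2.1 a.2.1 * p.2.2 a.2.2) := rfl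

include A in
theorem min_degree {V : Type*} [AddCommGroup V] [Module ℂ V] [FiniteDimensional ℂ V]
    (ρ : Representation ℂ GG V) (hirr : ρ.IsIrreducible) (hnt : ∃ g, ρ g ≠ 1) :
    q * (q ^ 4 - q ^ 2 + 1) ≤ Module.finrank ℂ V := by
  classical
  have hq2 : 2 ≤ q := A.hq.one_lt
  have hcard := A.hK
  -- faithfulness
  obtain ⟨g₀, hg₀⟩ := hnt
  have hsimple : IsSimpleGroup GG :=
    ((gens A).simple twD4_dist twD4_irr (by decide) (cover A) (perfect A)).1
  have hker : MonoidHom.ker ρ = ⊥ :=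
    ((MonoidHom.normal_ker ρ).eq_bot_or_eq_top).resolve_right fun h =>
      hg₀ (MonoidHom.mem_ker.1 (h ▸ Subgroup.mem_top g₀))
  have hinj : ∀ g, ρ g = 1 → g = 1 := fun g h => by
    have : g ∈ MonoidHom.ker ρ := MonoidHom.mem_ker.2 h
    rwa [hker, Subgroup.mem_bot] at this
  have hρinj : ∀ g : GG, Function.Injective (ρ g) := fun g a b h => by
    have := congrArg (ρ g⁻¹) h
    rwa [← Module.End.mul_apply, ← Module.End.mul_apply, ← map_mul, inv_mul_cancel, map_one] at this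
  set R : EE → Module.End ℂ V := fun p => ρ (eG A p) with hRdef
  have hR : ∀ a b, R (a + b) = R a * R b := fun a b => by rw [hRdef]; simp only; rw [eG_add, map_mul]
  have hR0 : R 0 = 1 := by rw [hRdef]; simp only; rw [eG_zero, map_one]
  -- transport of eigenvectors
  have move : ∀ (x : GG) (f : EE → EE), (∀ p, x * eG A p * x⁻¹ = eG A (f p)) → ∀ (χ χ' : AddChar EE ℂ),
      (∀ p, χ' p = χ (f p)) → ∀ v, Eig R χ v → Eig R χ' (ρ x⁻¹ v) := by
    intro x f hx χ χ' hχ v hv p
    have e : eG A p * x⁻¹ = x⁻¹ * eG A (f p) := by rw [← hx]; group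
    show ρ (eG A p) (ρ x⁻¹ v) = χ' p • ρ x⁻¹ v
    rw [← Module.End.mul_apply, ← map_mul, e, map_mul, Module.End.mul_apply,
      show ρ (eG A (f p)) v = χ (f p) • v from hv _, map_smul, hχ]
  have le_of : ∀ (x : GG) (f : EE → EE), (∀ p, x * eG A p * x⁻¹ = eG A (f p)) → ∀ (χ χ' : AddChar EE ℂ),
      (∀ p, χ' p = χ (f p)) → mult R χ ≤ mult R χ' :=
    fun x f hx χ χ' hχ => mult_le hR (hρinj x⁻¹) (move x f hx χ χ' hχ)
  set D : AddChar FF ℂ × AddChar FF ℂ × AddChar K ℂ → ℕ := fun p => mult R (chE A p) with hDdef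
  -- the three moves
  have mb : ∀ (t : FF) χ₁ χ₂ χ₃, D (χ₁, χ₂, χ₃) ≤ D (χ₁ * χ₂.mulShift t, χ₂, χ₃) := by
    intro t χ₁ χ₂ χ₃
    refine le_of (xbG A t) (fun p => (p.1, p.2.1 + t * p.1, p.2.2)) (fun p => Subtype.ext (xb_eL A ..)) _ _ fun p => ?_
    simp only [chE_apply, AddChar.mul_apply, AddChar.mulShift_apply, AddChar.map_add_eq_mul]
    ring
  have mn : ∀ χ₁ χ₂ χ₃, D (χ₁, χ₂, χ₃) ≤ D (χ₂, χ₁.mulShift (-1), χ₃) := by
    intro χ₁ χ₂ χ₃
    refine le_of (nbG A) (fun p => (-p.2.1, p.1, p.2.2)) (fun p => Subtype.ext (nb_eL A ..)) _ _ fun p => ?_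
    simp only [chE_apply, AddChar.mulShift_apply, neg_one_mul]
    ring
  have ms : ∀ (s : K) χ₁ χ₂ χ₃,
      D (χ₁, χ₂, χ₃) ≤ D (χ₁, χ₂, χ₃ * (χ₂.compAddMonoidHom (AddMonoidHom.mk' (Tr A) (Tr_add A))).mulShift (-s)) := by
    intro s χ₁ χ₂ χ₃
    refine le_of (xsG A s) (fun p => (p.1, p.2.1 + Tr A (-s * p.2.2), p.2.2)) (fun p => Subtype.ext ?_) _ _ fun p => ?_
    · refine (xs_eL A ..).trans ?_
      show eL A _ _ _ = eL A (p.1 : K) ((p.2.1 : K) + trK A (-s * p.2.2)) p.2.2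
      congr 1
      simp only [trK, map_mul, map_neg]
      ring
    · simp only [chE_apply, AddChar.mul_apply, AddChar.mulShift_apply, AddChar.compAddMonoidHom_apply,
        AddMonoidHom.mk'_apply, AddChar.map_add_eq_mul]
      ring
  have hTr1 : ∀ {χ : AddChar FF ℂ}, χ ≠ 1 → χ.compAddMonoidHom (AddMonoidHom.mk' (Tr A) (Tr_add A)) ≠ 1 := by
    intro χ hχ e
    refine hχ (DFunLike.ext _ _ fun c => ?_)
    obtain ⟨y, rfl⟩ := Tr_surjective A c
    exact DFunLike.congr_fun e y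
  have mb_any : ∀ χ₁ χ₁' χ₂ χ₃, χ₂ ≠ 1 → D (χ₁, χ₂, χ₃) ≤ D (χ₁', χ₂, χ₃) := by
    intro χ₁ χ₁' χ₂ χ₃ h2
    obtain ⟨t, ht⟩ := exists_mulShift h2 (χ₁⁻¹ * χ₁')
    have := mb t χ₁ χ₂ χ₃
    rwa [ht, mul_inv_cancel_left] at this
  have ms_any : ∀ χ₁ χ₂ χ₃ χ₃', χ₂ ≠ 1 → D (χ₁, χ₂, χ₃) ≤ D (χ₁, χ₂, χ₃') := by
    intro χ₁ χ₂ χ₃ χ₃' h2
    obtain ⟨t, ht⟩ := exists_mulShift (hTr1 h2) (χ₃⁻¹ * χ₃')
    have := ms (-t) χ₁ χ₂ χ₃
    rwa [neg_neg, ht, mul_inv_cancel_left] at this
  have hneg : ∀ {χ : AddChar FF ℂ}, χ ≠ 1 → χ.mulShift (-1) ≠ 1 := by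
    intro χ h e
    refine h (DFunLike.ext _ _ fun c => ?_)
    simpa using DFunLike.congr_fun e (-c)
  have hneg2 : ∀ χ : AddChar FF ℂ, (χ.mulShift (-1)).mulShift (-1) = χ := fun χ => by
    refine DFunLike.ext _ _ fun c => ?_
    simp
  have key : ∀ χ χ' : AddChar FF ℂ, χ ≠ 1 → χ' ≠ 1 → D (1, χ, 1) ≤ D (1, χ', 1) := by
    intro χ χ' h h'
    refine le_trans (mb_any 1 (χ'.mulShift (-1)) χ 1 h) (le_trans (mn _ _ _) ?_)
    rw [hneg2]
    exact mb_any χ 1 χ' 1 h'
  have up : ∀ p : AddChar FF ℂ × AddChar FF ℂ × AddChar K ℂ, p.2.1 ≠ 1 →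
      D p ≤ D (1, p.2.1, 1) ∧ D (1, p.2.1, 1) ≤ D p := fun ⟨χ₁, χ₂, χ₃⟩ h =>
    ⟨le_trans (mb_any χ₁ 1 χ₂ χ₃ h) (ms_any 1 χ₂ χ₃ 1 h), le_trans (mb_any 1 χ₁ χ₂ 1 h) (ms_any χ₁ χ₂ 1 χ₃ h)⟩
  obtain ⟨ψ, hψ⟩ : ∃ ψ : AddChar FF ℂ, ψ ≠ 1 := by
    by_contra h
    push Not at h
    have := Fintype.card_le_one_iff.2 fun a b : AddChar FF ℂ => (h a).trans (h b).symm
    rw [AddChar.card_eq, card_Fq] at this
    omega
  set m := D (1, ψ, 1) with hm
  have hconst : ∀ p : AddChar FF ℂ × AddChar FF ℂ × AddChar K ℂ, (p.1 ≠ 1 ∨ p.2.1 ≠ 1) → D p = m := by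
    intro p hp
    rcases ne_or_eq p.2.1 1 with h | h
    · exact le_antisymm ((up p h).1.trans (key _ _ h hψ)) ((key _ _ hψ h).trans (up p h).2)
    · have h1 : p.1 ≠ 1 := hp.resolve_right (not_not_intro h)
      obtain ⟨χ₁, χ₂, χ₃⟩ := p
      obtain rfl : χ₂ = 1 := h
      refine le_antisymm ?_ ?_
      · exact (mn _ _ _).trans (((up _ (hneg h1)).1).trans (key _ _ (hneg h1) hψ))
      · refine (key _ _ hψ (hneg h1)).trans ((up (1, χ₁.mulShift (-1), χ₃) (hneg h1)).2.trans ?_)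
        refine (mn _ _ _).trans ((mn _ _ _).trans ((mn _ _ _).trans (le_of_eq ?_)))
        have e1 : AddChar.mulShift (1 : AddChar FF ℂ) (-1) = 1 := DFunLike.ext _ _ fun c => rfl
        simp only [hneg2, e1]
  -- the total
  set C : AddChar K ℂ → ℕ := fun δ => D (1, 1, δ) with hC
  have htotal : Module.finrank ℂ V = m * ((q ^ 2 - 1) * q ^ 3) + ∑ δ, C δ := by
    rw [← sum_mult hR hR0, ← Equiv.sum_comp (chE A) (mult R)]
    show ∑ p, D p = _
    rw [← Finset.sum_filter_add_sum_filter_not Finset.univ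
      (fun p : AddChar FF ℂ × AddChar FF ℂ × AddChar K ℂ => p.1 = 1 ∧ p.2.1 = 1), add_comm]
    congr 1
    · rw [Finset.sum_eq_card_nsmul (b := m) fun p hp => hconst p (not_and_or.1 (Finset.mem_filter.1 hp).2),
        smul_eq_mul, mul_comm]
      congr 1
      rw [show (Finset.univ.filter fun p : AddChar FF ℂ × AddChar FF ℂ × AddChar K ℂ => ¬(p.1 = 1 ∧ p.2.1 = 1)) =
        Finset.univ \ (({1} : Finset (AddChar FF ℂ)) ×ˢ (({1} : Finset (AddChar FF ℂ)) ×ˢ Finset.univ)) by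
        ext ⟨a, b, c⟩; simp [Prod.ext_iff, eq_comm], Finset.card_sdiff_of_subset (Finset.subset_univ _)]
      simp [AddChar.card_eq, card_Fq, hcard, Nat.sub_mul, ← mul_assoc, sq]
    · refine (Finset.sum_nbij' (fun δ => ((1 : AddChar FF ℂ), (1 : AddChar FF ℂ), δ)) (fun p => p.2.2) ?_ ?_ ?_ ?_
        fun _ _ => rfl).symm
      · intro δ _; simp
      · intro p _; simp
      · intro δ _; rfl
      · intro p hp
        obtain ⟨h1, h2⟩ := (Finset.mem_filter.1 hp).2
        exact Prod.ext h1.symm (Prod.ext h2.symm rfl)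
  -- the multiplicity is positive
  have hm0 : m ≠ 0 := by
    intro h0
    have hz : ρ (eG A (0, 1, 0)) = 1 := by
      show R (0, 1, 0) = 1
      calc R (0, 1, 0) = R (0, 1, 0) * ∑ χ, proj R χ := by rw [sum_proj hR0, mul_one]
        _ = ∑ χ, proj R χ := by
          rw [Finset.mul_sum]
          refine Finset.sum_congr rfl fun χ _ => ?_
          rw [apply_mul_proj hR]
          by_cases hz : proj R χ = 0
          · rw [hz, smul_zero]
          obtain ⟨v, hv⟩ : ∃ v, proj R χ v ≠ 0 := by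
            by_contra h; push Not at h; exact hz (LinearMap.ext h)
          obtain ⟨⟨χ₁, χ₂, χ₃⟩, rfl⟩ := (chE A).surjective χ
          have h2 : χ₂ = 1 := by
            by_contra h2
            exact mult_ne_zero hv (eig_of_mem hR ⟨v, rfl⟩) ((hconst (χ₁, χ₂, χ₃) (Or.inr h2)).trans h0)
          rw [chE_apply, h2]
          simp
        _ = 1 := sum_proj hR0
    exact eL_ne_one A (one_ne_zero (α := K)) (congrArg Subtype.val (hinj _ hz))
  have hq5 : q * (q ^ 4 - q ^ 2 + 1) + q ^ 3 = q ^ 5 + q := by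
    have h1 : q ^ 2 ≤ q ^ 4 := Nat.pow_le_pow_right (by omega) (by norm_num)
    obtain ⟨d, hd⟩ := Nat.le.dest h1
    rw [show q ^ 4 - q ^ 2 = d by omega]
    nlinarith
  have hN : (q ^ 2 - 1) * q ^ 3 + q ^ 3 = q ^ 5 := by
    rw [← Nat.succ_mul, Nat.succ_eq_add_one, Nat.sub_add_cancel (Nat.one_le_pow _ _ (by omega)), ← pow_add]
  rcases Nat.lt_or_ge m 2 with hm1 | hm2
  swap
  · have h3 : q ≤ (q ^ 2 - 1) * q ^ 3 := by
      refine le_trans ?_ (Nat.le_mul_of_pos_left _ ?_)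
      · exact Nat.le_self_pow (by norm_num) q
      · have : 4 ≤ q ^ 2 := Nat.pow_le_pow_left hq2 2
        omega
    have := Nat.mul_le_mul_right ((q ^ 2 - 1) * q ^ 3) hm2
    omega
  have hm1 : m = 1 := by omega
  rw [hm1, one_mul] at htotal
  suffices hsuff : q ≤ ∑ δ, C δ by omega
  by_cases hδ : ∃ δ : AddChar K ℂ, δ ≠ 1 ∧ C δ ≠ 0
  · -- a torus orbit
    obtain ⟨δ, hδ1, hδC⟩ := hδ
    have hprim := AddChar.to_mulShift_inj_of_isPrimitive (AddChar.IsPrimitive.of_ne_one hδ1)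
    set S : Finset (AddChar K ℂ) := (Finset.univ : Finset Kˣ).image fun s : Kˣ => δ.mulShift ((s : K) * (s : K)) with hS
    have hpos : ∀ δ' ∈ S, 1 ≤ C δ' := by
      intro δ' hδ'
      obtain ⟨s, -, rfl⟩ := Finset.mem_image.1 hδ'
      refine le_trans (Nat.one_le_iff_ne_zero.2 hδC) ?_
      set t : Kˣ := phu A s * phu A (phu A s)
      set h := torG A t 1 (map_one _)
      refine le_of h (fun p => (⟨(Nu A t : K) * p.1, mul_mem (Nu_mem A t) p.1.2⟩, p.2.1, (s : K) * s * p.2.2))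
        (fun p => Subtype.ext ?_) _ _ fun p => ?_
      · refine (torL_eL A ..).trans ?_
        show eL A _ _ _ = eL A ((Nu A t : K) * (p.1 : K)) (p.2.1 : K) ((s : K) * s * p.2.2)
        have e : wt A t = (s : K) * s := by
          have h0 := s.ne_zero
          have h1 : A.phi (s : K) ≠ 0 := (map_ne_zero A.phi).2 h0
          have h2 : A.phi (A.phi (s : K)) ≠ 0 := (map_ne_zero A.phi).2 h1
          show A.phi (A.phi (s : K) * A.phi (A.phi (s : K))) * A.phi (A.phi (A.phi (s : K) * A.phi (A.phi (s : K)))) *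
            (A.phi (s : K) * A.phi (A.phi (s : K)))⁻¹ = _
          simp only [map_mul, phi3]
          field_simp
        rw [e, Units.val_one, inv_one, mul_one, one_mul, ← Nu_val]
      · simp [chE_apply, AddChar.mulShift_apply]
    have hcardS : q ≤ S.card := by
      have h1 : (Finset.univ : Finset Kˣ).card ≤ 2 * S.card := by
        refine Finset.card_le_mul_card_image _ 2 fun b hb => ?_
        obtain ⟨s, -, rfl⟩ := Finset.mem_image.1 hb
        refine (Finset.card_le_card (t := {s, -s}) fun y hy => ?_).trans Finset.card_le_two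
        have := hprim (Finset.mem_filter.1 hy).2
        rcases mul_self_eq_mul_self_iff.1 this with e | e
        · simp [Units.ext e]
        · simp [show y = -s from Units.ext (by simpa using e)]
      rw [Finset.card_univ, Fintype.card_units, hcard] at h1
      have h4 : 4 * q ≤ q ^ 3 := by
        rw [pow_succ']
        have : 4 ≤ q ^ 2 := Nat.pow_le_pow_left hq2 2
        nlinarith
      omega
    refine le_trans hcardS (le_trans ?_ (Finset.sum_le_sum_of_subset (Finset.subset_univ S)))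
    rw [Finset.card_eq_sum_ones]
    exact Finset.sum_le_sum hpos
  push Not at hδ
  have hsum : ∑ δ, C δ = C 1 := Finset.sum_eq_single _ (fun δ _ h => hδ δ h) (by simp)
  rw [hsum]
  set V0 : Submodule ℂ V := LinearMap.range (proj R (chE A (1, 1, 1))) with hV0
  have hEig0 : ∀ {v}, v ∈ V0 ↔ ∀ p, R p v = v := by
    intro v
    constructor
    · intro h p
      rw [eig_of_mem hR h p, chE_apply]
      simp
    · intro h
      exact ⟨v, proj_eig fun p => by rw [h p, chE_apply]; simp⟩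
  by_cases hxb : ∀ (u : FF), ∀ v ∈ V0, ρ (xbG A u) v = v
  · -- the root group `b` is trivial on the fixed vectors: impossible
    exfalso
    have hD0 : D (ψ, 1, 1) = m := hconst _ (Or.inl hψ)
    obtain ⟨v, hv0, hv⟩ := exists_eig hR (show D (ψ, 1, 1) ≠ 0 by rw [hD0]; exact hm0)
    -- stabilisers of a character with trivial second component act by scalars
    have stab : ∀ (χ₁ : AddChar FF ℂ) (χ₃ : AddChar K ℂ), χ₁ ≠ 1 → ∀ w, w ≠ 0 → Eig R (chE A (χ₁, 1, χ₃)) w →
        (∀ t : FF, ∃ c : ℂ, ρ (xbG A t) w = c • w) ∧ ∀ s : K, ∃ c : ℂ, ρ (xsG A s) w = c • w := by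
      intro χ₁ χ₃ h1 w hw0 hw
      have hle : mult R (chE A (χ₁, 1, χ₃)) ≤ 1 := le_of_eq ((hconst (χ₁, 1, χ₃) (Or.inl h1)).trans hm1)
      refine ⟨fun t => ?_, fun s => ?_⟩
      · refine eig_prop hle hw0 hw ?_
        have h := move (xbG A t)⁻¹ (fun p => (p.1, p.2.1 + (-t) * p.1, p.2.2)) (fun p => ?_)
          (chE A (χ₁, 1, χ₃)) (chE A (χ₁, 1, χ₃)) (fun p => ?_) w hw
        · rwa [inv_inv] at h
        · rw [inv_inv]
          have e : xbG A t * eG A (p.1, p.2.1 + (-t) * p.1, p.2.2) * (xbG A t)⁻¹ = eG A p := by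
            refine Subtype.ext ((xb_eL A ..).trans ?_)
            show eL A (p.1 : K) ((p.2.1 : K) + -(t : K) * p.1 + (t : K) * p.1) p.2.2 = _
            rw [show (p.2.1 : K) + -(t : K) * p.1 + (t : K) * p.1 = p.2.1 by ring]
            rfl
          rw [← e]
          group
        · simp [chE_apply]
      · refine eig_prop hle hw0 hw ?_
        have h := move (xsG A s)⁻¹ (fun p => (p.1, p.2.1 + Tr A (s * p.2.2), p.2.2)) (fun p => ?_)
          (chE A (χ₁, 1, χ₃)) (chE A (χ₁, 1, χ₃)) (fun p => ?_) w hw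
        · rwa [inv_inv] at h
        · rw [inv_inv]
          have e : xsG A s * eG A (p.1, p.2.1 + Tr A (s * p.2.2), p.2.2) * (xsG A s)⁻¹ = eG A p := by
            refine Subtype.ext ((xs_eL A ..).trans ?_)
            show eL A (p.1 : K) ((p.2.1 : K) + trK A (s * p.2.2) - trK A (s * p.2.2)) p.2.2 = _
            rw [add_sub_cancel_right]
            rfl
          rw [← e]
          group
        · simp [chE_apply]
    obtain ⟨hsb, hss⟩ := stab ψ 1 hψ v hv0 hv
    choose β hβ using hsb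
    choose ε hε using hss
    have hadd : ∀ {α : Type _} [AddCommGroup α] (g : α → GG), (∀ a b, g (a + b) = g a * g b) → ∀ c : α → ℂ,
        (∀ a, ρ (g a) v = c a • v) → ∀ a b, c (a + b) = c a * c b := by
      intro α _ g hg c hc a b
      refine smul_left_injective ℂ hv0 ?_
      show c (a + b) • v = (c a * c b) • v
      rw [← hc, hg, map_mul, Module.End.mul_apply, hc, map_smul, hc, smul_smul, mul_comm]
    have hne0 : ∀ (g : GG) (c : ℂ), ρ g v = c • v → c ≠ 0 := fun g c h e =>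
      hv0 (hρinj g (by rw [h, e, zero_smul, map_zero]))
    -- invariance under torus elements fixing the character
    have hinv : ∀ t : Kˣ, (∀ u : FF, β (⟨(Nu A t : K), Nu_mem A t⟩ * u) = β u) ∧
        ∀ s : K, ε ((t : K) * t * s) = ε s := by
      intro t
      set h := torG A t (Nu A t) (Nu_fixed A t)
      have hstab : ∃ c : ℂ, ρ h⁻¹ v = c • v := by
        refine eig_prop (le_of_eq (hD0.trans hm1)) hv0 hv ?_
        refine move h (fun p => (p.1, ⟨(Nu A t : K), Nu_mem A t⟩ * p.2.1, wt A t * p.2.2)) (fun p => ?_)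
          (chE A (ψ, 1, 1)) (chE A (ψ, 1, 1)) (fun p => ?_) v hv
        · refine Subtype.ext ((torL_eL A ..).trans ?_)
          show eL A _ _ _ = eL A (p.1 : K) ((Nu A t : K) * (p.2.1 : K)) _
          rw [← Nu_val, mul_inv_cancel₀ (Nu A t).ne_zero, one_mul]
        · simp [chE_apply]
      obtain ⟨κ, hκ⟩ := hstab
      have hκ0 := hne0 _ _ hκ
      have tr : ∀ (x y : GG) (c d : ℂ), h * x * h⁻¹ = y → ρ x v = c • v → ρ y v = d • v → d = c := by
        intro x y c d hxy hx hy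
        have e : x * h⁻¹ = h⁻¹ * y := by rw [← hxy]; group
        have := congrArg (fun g => ρ g v) e
        simp only [map_mul, Module.End.mul_apply, hκ, hy, map_smul, hx, smul_smul] at this
        have := smul_left_injective ℂ hv0 this
        exact mul_right_cancel₀ hκ0 (this.symm.trans (mul_comm _ _))
      refine ⟨fun u => tr _ _ _ _ (Subtype.ext ?_) (hβ u) (hβ _), fun s => tr _ _ _ _ (Subtype.ext ?_) (hε s) (hε _)⟩
      · refine (torL_xb A t (Nu A t) (u : K)).trans ?_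
        show xbL A _ = xbL A ((Nu A t : K) * (u : K))
        congr 1
        rw [← Nu_val]
        field_simp [(Nu A t).ne_zero]
      · refine (torL_S3 A t (Nu A t) _ _ _).trans ?_
        have h0 := t.ne_zero
        have h1 : A.phi (t : K) ≠ 0 := (map_ne_zero A.phi).2 h0
        have h2 : A.phi (A.phi (t : K)) ≠ 0 := (map_ne_zero A.phi).2 h1
        show S3 A _ _ _ = S3 A ((t : K) * t * s) (-A.phi ((t : K) * t * s)) (-A.phi (A.phi ((t : K) * t * s)))
        simp only [Nu_val, map_mul]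
        congr 1 <;> field_simp
    have hε1 : ∀ s, ε s = 1 := by
      obtain ⟨c, hc0, hc⟩ := exists_sq_ne_one (K := K) (by
        rw [hcard]
        calc 3 < 2 ^ 3 := by norm_num
          _ ≤ q ^ 3 := Nat.pow_le_pow_left hq2 3)
      intro s
      have h := (hinv (Units.mk0 c hc0)).2 (s / (c ^ 2 - 1))
      have hd : c ^ 2 - 1 ≠ 0 := sub_ne_zero.2 hc
      have e : (Units.mk0 c hc0 : K) * (Units.mk0 c hc0 : K) * (s / (c ^ 2 - 1)) = s + s / (c ^ 2 - 1) := by
        simp only [Units.val_mk0]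
        field_simp
        ring
      rw [e, hadd (xsG A) (xsG_add A) ε hε] at h
      exact mul_eq_right₀ (hne0 _ _ (hε _)) |>.1 h
    -- the image of `v` under the reflection in `a`
    set v' := ρ (naG A) v with hv'
    have hv'0 : v' ≠ 0 := fun e => hv0 (hρinj _ (e.trans (map_zero _).symm))
    have conj_na : ∀ (x y : GG) (c : ℂ) (w : V), naG A * x * (naG A)⁻¹ = y → ρ x w = c • w →
        ρ y (ρ (naG A) w) = c • ρ (naG A) w := by
      intro x y c w hxy hx
      rw [← Module.End.mul_apply, ← map_mul, ← hxy, inv_mul_cancel_right, map_mul, Module.End.mul_apply, hx,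
        map_smul]
    have split : ∀ p : EE, eG A p = eG A (p.1, 0, 0) * (eG A (0, p.2.1, 0) * eG A (0, 0, p.2.2)) := fun p => by
      rw [← eG_add, ← eG_add]
      congr 1
      ext <;> simp
    have ea : ∀ a : FF, naG A * xbG A (-a) * (naG A)⁻¹ = eG A (a, 0, 0) := fun a => by
      refine Subtype.ext ((na_14 A _).trans ?_)
      show E5 A _ 0 0 0 0 = eL A (a : K) 0 0
      simp [eL]
    have ec : ∀ c : FF, naG A * eG A (0, c, 0) * (naG A)⁻¹ = eG A (0, c, 0) := fun c => by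
      have := na_23 A (c : K)
      refine Subtype.ext (Eq.trans ?_ (this.trans ?_))
      · show naL A * eL A 0 (c : K) 0 * (naL A)⁻¹ = _
        simp [eL]
      · show _ = eL A 0 (c : K) 0
        simp [eL]
    have ey : ∀ y : K, naG A * xsG A y * (naG A)⁻¹ = eG A (0, 0, y) := fun y => Subtype.ext (na_S3 A ..)
    have ey' : ∀ y : K, naG A * eG A (0, 0, y) * (naG A)⁻¹ = xsG A (-y) := fun y => by
      refine Subtype.ext ((na_y A _ _ _).trans ?_)
      show S3 A _ _ _ = S3 A (-y) (-A.phi (-y)) (-A.phi (A.phi (-y)))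
      simp only [map_neg]
    have ea' : ∀ a : FF, naG A * eG A (a, 0, 0) * (naG A)⁻¹ = xbG A a := fun a => by
      refine Subtype.ext (Eq.trans ?_ (na_22 A (a : K)))
      show naL A * eL A (a : K) 0 0 * (naL A)⁻¹ = _
      simp [eL]
    have hβchar : ∃ β' : AddChar FF ℂ, ∀ a, β' a = β (-a) :=
      ⟨{ toFun := fun a => β (-a)
         map_zero_eq_one' := by
           have h := hadd (xbG A) (xbG_add A) β hβ 0 0
           rw [add_zero] at h
           show β (-0) = 1
           rw [neg_zero]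
           exact (mul_eq_left₀ (hne0 _ _ (hβ 0))).1 h.symm
         map_add_eq_mul' := fun a b => by
           show β (-(a + b)) = β (-a) * β (-b)
           rw [neg_add]
           exact hadd (xbG A) (xbG_add A) β hβ _ _ }, fun a => rfl⟩
    obtain ⟨β', hβ'⟩ := hβchar
    have hv'eig : Eig R (chE A (β', 1, 1)) v' := by
      intro p
      show ρ (eG A p) v' = _
      have e1 := conj_na _ _ _ v (ea p.1) (hβ (-p.1))
      have e2 := conj_na _ _ 1 v (ec p.2.1) (by rw [show ρ (eG A (0, p.2.1, 0)) v = _ from hv _, chE_apply]; simp)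
      have e3 := conj_na _ _ _ v (ey p.2.2) (hε _)
      rw [hε1, ← hv'] at e3
      rw [← hv'] at e1 e2
      rw [split p, map_mul, map_mul, Module.End.mul_apply, Module.End.mul_apply, e3, map_smul, e2, smul_smul, one_mul,
        map_smul, e1, smul_smul, one_mul, chE_apply, ← hβ']
      simp
    have hV0fix : ∀ w, Eig R (chE A (1, 1, 1)) w → ∀ u, ρ (xbG A u) w = w := fun w hw u =>
      hxb u w (hEig0.2 fun p => by rw [hw p, chE_apply]; simp)
    by_cases hβ1 : β' = 1
    · rw [hβ1] at hv'eig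
      refine hψ (DFunLike.ext _ _ fun a => ?_)
      have h := hV0fix v' hv'eig a
      rw [hv', ← Module.End.mul_apply, ← map_mul, ← ea' a, inv_mul_cancel_right, map_mul, Module.End.mul_apply] at h
      have h' := hρinj _ h
      rw [show ρ (eG A (a, 0, 0)) v = _ from hv _, chE_apply] at h'
      have h'' := smul_left_injective ℂ hv0 (h'.trans (one_smul ℂ v).symm)
      simpa using h''
    -- hence `q = 2`
    have hq : q = 2 := by
      by_contra hne
      apply hβ1
      obtain ⟨c, hc0, hc⟩ := exists_pow_ne_one (K := K) (n := q ^ 2 + q + 1) (by omega) (by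
        rw [hcard]
        have h4 : q ^ 3 = q * (q * q) := by ring
        have h5 : 3 * (q * q) ≤ q * (q * q) := Nat.mul_le_mul_right _ (by omega)
        have h6 : 3 * q ≤ q * q := Nat.mul_le_mul_right _ (by omega)
        have h7 : q ^ 2 = q * q := sq q
        omega)
      set t := Units.mk0 c hc0
      set N : FF := ⟨(Nu A t : K), Nu_mem A t⟩
      have hN1 : N - 1 ≠ 0 := by
        intro e
        refine hc ?_
        have := congrArg Subtype.val (sub_eq_zero.1 e)
        simp only [N, Nu_val, t, Units.val_mk0, A.hphi, ← pow_mul] at this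
        refine Eq.trans ?_ this
        ring
      refine DFunLike.ext _ _ fun a => ?_
      rw [hβ', AddChar.one_apply]
      have h := (hinv t).1 (-a / (N - 1))
      rw [show N * (-a / (N - 1)) = -a + -a / (N - 1) by field_simp; ring, hadd (xbG A) (xbG_add A) β hβ] at h
      exact (mul_eq_right₀ (hne0 _ _ (hβ _))).1 h
    have hF2 : ∀ (θ θ' : AddChar FF ℂ), θ ≠ 1 → θ' ≠ 1 → θ = θ' := by
      intro θ θ' h h'
      by_contra hne
      have h3 : ({1, θ, θ'} : Finset (AddChar FF ℂ)).card = 3 :=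
        Finset.card_eq_three.2 ⟨1, θ, θ', h.symm, h'.symm, hne, rfl⟩
      have := Finset.card_le_univ ({1, θ, θ'} : Finset (AddChar FF ℂ))
      rw [h3, AddChar.card_eq, card_Fq, hq] at this
      omega
    rw [hF2 β' ψ hβ1 hψ] at hv'eig
    obtain ⟨κ, hκ⟩ := eig_prop (le_of_eq (hD0.trans hm1)) hv0 hv hv'eig
    have h20 : (2 : K) = 0 := by
      have h := Nat.cast_card_eq_zero K
      rw [hcard, hq] at h
      have h' : (2 : K) ^ 3 = 0 := by exact_mod_cast h
      exact pow_eq_zero_iff (by norm_num : (3 : ℕ) ≠ 0) |>.1 h'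
    set x := xaG A 1 with hx
    have hx2 : x * x = 1 := by
      refine Subtype.ext ?_
      show A3 A _ _ _ * A3 A _ _ _ = 1
      rw [A3_mul, map_one, map_one, show (1 : K) + 1 = 0 by linear_combination h20]
      simp [A3, (sys A).G.X_zero]
    have hxinv : x⁻¹ = x := inv_eq_of_mul_eq_one_right hx2
    set w := ρ x v with hw
    have hw0 : w ≠ 0 := fun e => hv0 (hρinj _ (e.trans (map_zero _).symm))
    set ψT := ψ.compAddMonoidHom (AddMonoidHom.mk' (Tr A) (Tr_add A)) with hψT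
    have hweig : Eig R (chE A (ψ, 1, ψT.mulShift (-1))) w := by
      have h := move x (fun p => (p.1 + Tr A (-1 * p.2.2), p.2.1, p.2.2)) (fun p => Subtype.ext ?_)
        (chE A (ψ, 1, 1)) (chE A (ψ, 1, ψT.mulShift (-1))) (fun p => ?_) v hv
      · rwa [hxinv] at h
      · refine (xa_eL A ..).trans ?_
        show eL A ((p.1 : K) - trK A (1 * p.2.2)) (p.2.1 : K) p.2.2 =
          eL A ((p.1 : K) + trK A (-1 * p.2.2)) (p.2.1 : K) p.2.2
        congr 1
        simp only [trK, map_mul, map_neg, map_one]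
        ring
      · simp only [hψT, chE_apply, AddChar.one_apply, AddChar.mulShift_apply, AddChar.compAddMonoidHom_apply,
          AddMonoidHom.mk'_apply, AddChar.map_add_eq_mul, one_mul, mul_one]
    obtain ⟨hwb, hws⟩ := stab ψ _ hψ w hw0 hweig
    set u := ρ (naG A)⁻¹ w with hu
    have hwu : ρ (naG A) u = w := by
      rw [hu, ← Module.End.mul_apply, ← map_mul, mul_inv_cancel, map_one]; rfl
    have hu0 : u ≠ 0 := fun e => hw0 (by rw [← hwu, e, map_zero])
    have back : ∀ (y z : GG) (c : ℂ), naG A * y * (naG A)⁻¹ = z → ρ z w = c • w → ρ y u = c • u := by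
      intro y z c hyz hz
      refine hρinj (naG A) ?_
      rw [← Module.End.mul_apply, ← map_mul, show naG A * y = z * naG A by rw [← hyz]; group, map_mul,
        Module.End.mul_apply, hwu, hz, map_smul, hwu]
    have hc2 : ∀ c : FF, ρ (eG A (0, c, 0)) u = (1 : ℂ) • u := fun c =>
      back _ _ _ (ec c) (by rw [show ρ (eG A (0, c, 0)) w = _ from hweig _, chE_apply]; simp)
    obtain ⟨χ, hχu⟩ : ∃ χ, Eig R χ u := by
      refine exists_char hR hR0 hu0 fun p => ?_
      obtain ⟨c1, hc1⟩ := hwb p.1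
      obtain ⟨c3, hc3⟩ := hws (-p.2.2)
      refine ⟨c1 * c3, ?_⟩
      show ρ (eG A p) u = _
      rw [split p, map_mul, map_mul, Module.End.mul_apply, Module.End.mul_apply, back _ _ _ (ey' _) hc3, map_smul,
        hc2, one_smul, map_smul, back _ _ _ (ea' _) hc1, smul_smul, mul_comm]
    obtain ⟨⟨χ₁, χ₂, χ₃⟩, rfl⟩ := (chE A).surjective χ
    obtain rfl : χ₂ = 1 := by
      refine DFunLike.ext _ _ fun c => ?_
      have h := (hc2 c).symm.trans (hχu (0, c, 0))
      rw [chE_apply] at h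
      simpa using (smul_left_injective ℂ hu0 h).symm
    by_cases hχ1 : χ₁ = 1
    · subst hχ1
      have h3 : χ₃ = 1 := by
        by_contra h3
        exact mult_ne_zero hu0 hχu (hδ χ₃ h3)
      subst h3
      refine hψ (DFunLike.ext _ _ fun a => ?_)
      have h := hV0fix u hχu (-a)
      have h' := conj_na (xbG A (-a)) (eG A (a, 0, 0)) 1 u (ea a) (by rw [h, one_smul])
      rw [hwu, show ρ (eG A (a, 0, 0)) w = _ from hweig _, chE_apply] at h'
      simpa using smul_left_injective ℂ hw0 h'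
    · have heq : x * (naG A * x * (naG A)⁻¹) * x = naG A := by
        refine Subtype.ext ?_
        show A3 A 1 (A.phi 1) (A.phi (A.phi 1)) * (naL A * A3 A 1 (A.phi 1) (A.phi (A.phi 1)) * (naL A)⁻¹) *
          A3 A 1 (A.phi 1) (A.phi (A.phi 1)) = naL A
        rw [map_one, map_one]
        exact (naL_eq A h20).symm
      have hxu : ρ x u = κ • u := by
        refine hρinj (naG A) ?_
        rw [map_smul, hwu]
        have h := congrArg (fun g => ρ (x * g) v) heq
        simp only [map_mul, Module.End.mul_apply] at h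
        rw [← hw, ← hu] at h
        rw [← Module.End.mul_apply (ρ x) (ρ x), ← map_mul, hx2, map_one, Module.End.one_apply] at h
        rw [h, show ρ (naG A) v = κ • v from hκ, map_smul]
      have h := move x (fun p => (p.1 + Tr A (-1 * p.2.2), p.2.1, p.2.2)) (fun p => Subtype.ext ?_)
        (chE A (χ₁, 1, χ₃))
        (chE A (χ₁, 1, χ₃ * (χ₁.compAddMonoidHom (AddMonoidHom.mk' (Tr A) (Tr_add A))).mulShift (-1))) (fun p => ?_)
        u hχu
      · rw [hxinv, hxu] at h
        refine hTr1 hχ1 (DFunLike.ext _ _ fun y => ?_)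
        have hκ0 : κ ≠ 0 := hne0 _ _ hκ
        have e1 := h (0, 0, -y)
        rw [map_smul, hχu _, smul_smul, smul_smul, mul_comm] at e1
        have e2 := mul_right_cancel₀ hκ0 (smul_left_injective ℂ hu0 e1)
        simp only [chE_apply, AddChar.mul_apply, AddChar.map_zero_eq_one, one_mul, AddChar.mulShift_apply,
          neg_one_mul, neg_neg] at e2
        have hne : χ₃ (-y) ≠ 0 := (χ₃.val_isUnit (-y)).ne_zero
        exact (mul_eq_left₀ hne).1 e2.symm
      · refine (xa_eL A ..).trans ?_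
        show eL A ((p.1 : K) - trK A (1 * p.2.2)) (p.2.1 : K) p.2.2 =
          eL A ((p.1 : K) + trK A (-1 * p.2.2)) (p.2.1 : K) p.2.2
        congr 1
        simp only [trK, map_mul, map_neg, map_one]
        ring
      · simp only [chE_apply, AddChar.one_apply, AddChar.mul_apply, AddChar.mulShift_apply,
          AddChar.compAddMonoidHom_apply, AddMonoidHom.mk'_apply, AddChar.map_add_eq_mul]
        ring
  -- the root group `b` moves some fixed vector
  push Not at hxb
  obtain ⟨u₀, v₀, hv₀, hne⟩ := hxb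
  have hstabV0 : ∀ (g : GG) (f : EE → EE), (∀ p, g * eG A p * g⁻¹ = eG A (f p)) → ∀ v ∈ V0, ρ g⁻¹ v ∈ V0 := by
    intro g f hg v hv
    rw [hEig0] at hv ⊢
    intro p
    show ρ (eG A p) (ρ g⁻¹ v) = ρ g⁻¹ v
    have e : eG A p * g⁻¹ = g⁻¹ * eG A (f p) := by rw [← hg]; group
    rw [← Module.End.mul_apply, ← map_mul, e, map_mul, Module.End.mul_apply, show ρ (eG A (f p)) v = v from hv _]
  have hxb0 : ∀ (u : FF), ∀ v ∈ V0, ρ (xbG A u) v ∈ V0 := by
    intro u v hv
    rw [hEig0] at hv ⊢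
    intro p
    show ρ (eG A p) (ρ (xbG A u) v) = ρ (xbG A u) v
    have e0 : xbG A u * eG A (p.1, p.2.1 - u * p.1, p.2.2) * (xbG A u)⁻¹ = eG A p := by
      refine Subtype.ext ((xb_eL A ..).trans ?_)
      show eL A (p.1 : K) ((p.2.1 : K) - (u : K) * p.1 + (u : K) * p.1) p.2.2 = _
      rw [sub_add_cancel]
      rfl
    have e : eG A p * xbG A u = xbG A u * eG A (p.1, p.2.1 - u * p.1, p.2.2) := by
      rw [← e0]; group
    rw [← Module.End.mul_apply, ← map_mul, e, map_mul, Module.End.mul_apply]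
    exact congrArg _ (hv _)
  set R' : FF → Module.End ℂ ↥V0 := fun u => (ρ (xbG A u)).restrict (hxb0 u) with hR'def
  have hR' : ∀ a b, R' (a + b) = R' a * R' b := fun a b => LinearMap.ext fun x => Subtype.ext (by
    show ρ (xbG A (a + b)) x.1 = ρ (xbG A a) (ρ (xbG A b) x.1)
    rw [xbG_add, map_mul]; rfl)
  have hR'0 : R' 0 = 1 := LinearMap.ext fun x => Subtype.ext (by
    show ρ (xbG A 0) x.1 = x.1
    have : xbG A 0 = 1 := by
      have h := xbG_add A 0 0
      rw [add_zero] at h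
      exact mul_eq_left.1 h.symm
    rw [this, map_one]; rfl)
  obtain ⟨θ, hθ1, w, hw0, hweig⟩ : ∃ θ : AddChar FF ℂ, θ ≠ 1 ∧ ∃ w, w ≠ 0 ∧ Eig R' θ w := by
    by_contra hall
    push Not at hall
    apply hne
    have h : R' u₀ = 1 := by
      calc R' u₀ = R' u₀ * ∑ χ, proj R' χ := by rw [sum_proj hR'0, mul_one]
        _ = ∑ χ, proj R' χ := by
          rw [Finset.mul_sum]
          refine Finset.sum_congr rfl fun χ _ => ?_
          rw [apply_mul_proj hR']
          by_cases hχ : χ = 1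
          · rw [hχ, AddChar.one_apply, one_smul]
          · have : proj R' χ = 0 := LinearMap.ext fun x => by
              by_contra hx
              exact hall χ hχ _ hx (eig_of_mem hR' ⟨x, rfl⟩)
            rw [this, smul_zero]
        _ = 1 := sum_proj hR'0
    exact congrArg Subtype.val (LinearMap.congr_fun h ⟨v₀, hv₀⟩)
  have hall : ∀ θ' : AddChar FF ℂ, θ' ≠ 1 → ∃ w, w ≠ 0 ∧ Eig R' θ' w := by
    intro θ' hθ'
    obtain ⟨r, hr⟩ := exists_mulShift hθ1 θ'
    have hr0 : (r : K) ≠ 0 := fun e => hθ' (by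
      rw [← hr, show r = 0 from Subtype.ext e, AddChar.mulShift_zero])
    set μ : Kˣ := Units.mk0 ((r : K))⁻¹ (inv_ne_zero hr0)
    have hfix : A.phi (r : K) = r := (mem_Fq A).1 r.2
    have hμ : phu A μ = μ := Units.ext (by
      show A.phi ((r : K))⁻¹ = ((r : K))⁻¹
      rw [map_inv₀, hfix])
    set h := torG A μ μ hμ
    have hh : ∀ p : EE, h * eG A p * h⁻¹ = eG A
        (⟨(r : K)⁻¹ * (r : K)⁻¹ * p.1, mul_mem (mul_mem (inv_mem r.2) (inv_mem r.2)) p.1.2⟩,
          ⟨(r : K)⁻¹ * p.2.1, mul_mem (inv_mem r.2) p.2.1.2⟩, (r : K)⁻¹ * p.2.2) := by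
      intro p
      refine Subtype.ext ((torL_eL A ..).trans ?_)
      show eL A _ _ _ = eL A ((r : K)⁻¹ * (r : K)⁻¹ * (p.1 : K)) ((r : K)⁻¹ * (p.2.1 : K)) ((r : K)⁻¹ * p.2.2)
      simp only [μ, Units.val_mk0, wt, map_inv₀, hfix]
      field_simp
    have hmem : ρ h⁻¹ (w : V) ∈ V0 := hstabV0 h _ hh _ w.2
    refine ⟨⟨_, hmem⟩, fun e => hw0 (Subtype.ext (hρinj _ ((congrArg Subtype.val e).trans (map_zero _).symm))),
      fun a => Subtype.ext ?_⟩
    show ρ (xbG A a) (ρ h⁻¹ (w : V)) = θ' a • ρ h⁻¹ (w : V)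
    have e : xbG A a * h⁻¹ = h⁻¹ * xbG A (r * a) := by
      rw [eq_inv_mul_iff_mul_eq, ← mul_assoc, mul_inv_eq_iff_eq_mul]
      refine mul_inv_eq_iff_eq_mul.1 (Subtype.ext ((torL_xb A μ μ (a : K)).trans ?_))
      show xbL A _ = xbL A ((r : K) * (a : K))
      congr 1
      simp only [μ, Units.val_mk0, map_inv₀, hfix]
      field_simp
    rw [← Module.End.mul_apply, ← map_mul, e, map_mul, Module.End.mul_apply,
      show ρ (xbG A (r * a)) (w : V) = θ (r * a) • (w : V) from congrArg Subtype.val (hweig _), map_smul, ← hr,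
      AddChar.mulShift_apply]
  have hc1 : q - 1 ≤ C 1 := by
    have h := card_eig hR' (Finset.univ.erase 1) fun θ' hθ' => hall θ' (Finset.mem_erase.1 hθ').1
    rw [Finset.card_erase_of_mem (Finset.mem_univ _), Finset.card_univ, AddChar.card_eq, card_Fq] at h
    exact h
  by_contra hlt
  have hk : Module.finrank ℂ V = (q - 1) * (q ^ 4 + q ^ 3 + 1) := by
    rw [hsum] at htotal
    obtain ⟨r, rfl⟩ : ∃ r, q = r + 1 := ⟨q - 1, by omega⟩
    rw [Nat.add_sub_cancel] at hc1 ⊢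
    have e : C 1 = r := by omega
    have h2 : (r + 1) ^ 2 - 1 = r * (r + 2) := Nat.sub_eq_of_eq_add (by ring)
    rw [htotal, e, h2]
    ring
  have : Finite GG := inferInstance
  have hdvd := Cfsg.Agent.Lib.Characters.finrank_dvd_card ρ
  rw [hk, card_group A] at hdvd
  exact not_dvd hq2 hdvd
where
  not_dvd {q : ℕ} (hq2 : 2 ≤ q) :
      ¬ (q - 1) * (q ^ 4 + q ^ 3 + 1) ∣ q ^ 12 * (q ^ 2 - 1) * (q ^ 6 - 1) * (q ^ 8 + q ^ 4 + 1) := by
    intro h
    obtain ⟨r, rfl⟩ : ∃ r, q = r + 2 := ⟨q - 2, by omega⟩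
    rw [show r + 2 - 1 = r + 1 by omega] at h
    set M := (r + 2) ^ 4 + (r + 2) ^ 3 + 1 with hM
    have hMz : (M : ℤ) = ((r : ℤ) + 2) ^ 4 + ((r : ℤ) + 2) ^ 3 + 1 := by rw [hM]; push_cast; ring
    set Z : ℤ := (r : ℤ) + 2 with hZ
    have hd : (Z - 1) * (M : ℤ) ∣ Z ^ 12 * (Z ^ 2 - 1) * (Z ^ 6 - 1) * (Z ^ 8 + Z ^ 4 + 1) := by
      have h' := Int.natCast_dvd_natCast.2 h
      push_cast [Nat.one_le_pow _ _ (show 0 < r + 2 by omega)] at h'
      rw [hZ]
      convert h' using 2 <;> push_cast <;> ring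
    have hd' : (M : ℤ) ∣ Z ^ 12 * (Z + 1) ^ 2 * (Z - 1) * (Z ^ 4 + Z ^ 2 + 1) ^ 2 * (Z ^ 4 - Z ^ 2 + 1) := by
      refine (mul_dvd_mul_iff_left (show Z - 1 ≠ 0 by omega)).1 ?_
      have e : (Z - 1) * (Z ^ 12 * (Z + 1) ^ 2 * (Z - 1) * (Z ^ 4 + Z ^ 2 + 1) ^ 2 * (Z ^ 4 - Z ^ 2 + 1)) =
          Z ^ 12 * (Z ^ 2 - 1) * (Z ^ 6 - 1) * (Z ^ 8 + Z ^ 4 + 1) := by ring
      rw [e]
      exact hd
    have c1 : IsCoprime (M : ℤ) Z := ⟨1, -(Z ^ 3 + Z ^ 2), by rw [hMz]; ring⟩
    have c2 : IsCoprime (M : ℤ) (Z + 1) := ⟨1, -(Z ^ 3), by rw [hMz]; ring⟩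
    have c3 : IsCoprime (M : ℤ) (Z ^ 4 - Z ^ 2 + 1) := by
      have h1 : IsCoprime (M : ℤ) (Z ^ 2 * (Z + 1)) := c1.pow_right.mul_right c2
      obtain ⟨x, y, hxy⟩ := h1
      exact ⟨x + y, -y, by linear_combination hxy + y * hMz⟩
    have h27 : (M : ℤ) ∣ (Z - 1) * (Z ^ 4 + Z ^ 2 + 1) ^ 2 := by
      refine (((c1.pow_right (n := 12)).mul_right (c2.pow_right (n := 2))).mul_right c3).dvd_of_dvd_mul_left ?_
      have e : (Z ^ 12 * (Z + 1) ^ 2 * (Z ^ 4 - Z ^ 2 + 1)) * ((Z - 1) * (Z ^ 4 + Z ^ 2 + 1) ^ 2) =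
          Z ^ 12 * (Z + 1) ^ 2 * (Z - 1) * (Z ^ 4 + Z ^ 2 + 1) ^ 2 * (Z ^ 4 - Z ^ 2 + 1) := by ring
      rw [e]
      exact hd'
    -- `(Z - 1)` and `Z ^ 4 + Z ^ 2 + 1` are congruent to small numbers
    have e1 : (M : ℤ) ∣ (3 : ℤ) ^ 3 := by
      have a1 : ∃ x y : ℤ, x * (M : ℤ) + y * (Z - 1) = 3 :=
        ⟨1, -(Z ^ 3 + 2 * Z ^ 2 + 2 * Z + 2), by rw [hMz]; ring⟩
      have a2 : ∃ x y : ℤ, x * (M : ℤ) + y * (Z ^ 4 + Z ^ 2 + 1) = 3 := by
        obtain ⟨x, y, hxy⟩ := a1
        obtain ⟨x', y', hxy'⟩ := c1.pow_right (n := 2)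
        refine ⟨x + 3 * x' * 0 + y * (Z - 1) * x' + y * y' , -(y * y'), ?_⟩
        linear_combination hxy + (y * (Z - 1)) * hxy' + (y * y') * (hMz : (M : ℤ) = _)
      obtain ⟨x, y, hxy⟩ := a1
      obtain ⟨x', y', hxy'⟩ := a2
      obtain ⟨k, hk⟩ := h27
      refine ⟨x * 9 + y * (Z - 1) * (x' * x' * (M : ℤ) + 2 * x' * y' * (Z ^ 4 + Z ^ 2 + 1)) + y * y' * y' * k, ?_⟩
      calc (3 : ℤ) ^ 3 = (x * (M : ℤ) + y * (Z - 1)) * (x' * (M : ℤ) + y' * (Z ^ 4 + Z ^ 2 + 1)) ^ 2 := by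
            rw [hxy, hxy']; norm_num
        _ = x * (M : ℤ) * (x' * (M : ℤ) + y' * (Z ^ 4 + Z ^ 2 + 1)) ^ 2 +
            y * (Z - 1) * (x' * x' * (M : ℤ) + 2 * x' * y' * (Z ^ 4 + Z ^ 2 + 1)) * (M : ℤ) +
            y * y' * y' * ((Z - 1) * (Z ^ 4 + Z ^ 2 + 1) ^ 2) := by ring
        _ = _ := by rw [hk, hxy']; ring
    have hle := Int.le_of_dvd (by norm_num) e1
    have h25 : 25 ≤ M := by
      have := Nat.pow_le_pow_left (show 2 ≤ r + 2 by omega) 4
      have := Nat.pow_le_pow_left (show 2 ≤ r + 2 by omega) 3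
      omega
    rcases Nat.eq_zero_or_pos r with rfl | hr
    · norm_num [hM] at e1
    · have := Nat.pow_le_pow_left (show 3 ≤ r + 2 by omega) 4
      omega

end Cfsg.Agent.Lib.RankOne.Triality
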