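import Cfsg.Agent.Lib.RankOne.TrialityBasic

/-!
The two classes of involutions of the triality group in characteristic two: computations in the
unipotent group.
-/

set_option autoImplicit false
set_option maxRecDepth 100000
set_option maxHeartbeats 1000000

namespace Cfsg.Agent.Lib.RankOne.Triality.Invol

open Cfsg.Lie Cfsg.Agent.Lib.Chev Cfsg.Agent.Lib.Chev.Tw Cfsg.Agent.Lib.Chev.Tw.D4
open Cfsg.Agent.Lib.RankOne.Triality

theorem terms12 : tabD4.terms 12 14 = [(15, 1, 1, 1)] ∧ tabD4.terms 12 19 = [(20, 1, 1, 1)] ∧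
    tabD4.terms 12 16 = [(17, 1, 1, 1)] ∧ tabD4.terms 12 15 = [] := by decide +kernel

theorem terms13 : tabD4.terms 13 14 = [(16, 1, 1, 1)] ∧ tabD4.terms 13 19 = [(21, 1, 1, 1)] ∧
    tabD4.terms 13 16 = [] ∧ tabD4.terms 13 15 = [(17, 1, 1, 1)] := by decide +kernel

theorem terms18 : tabD4.terms 18 14 = [(19, -1, 1, 1)] ∧ tabD4.terms 18 19 = [] ∧
    tabD4.terms 18 16 = [(21, -1, 1, 1)] ∧ tabD4.terms 18 15 = [(20, -1, 1, 1)] := by decide +kernel

theorem termsBS : tabD4.terms 14 19 = [] ∧ tabD4.terms 14 16 = [] ∧ tabD4.terms 14 15 = [] := by decide +kernel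

variable {K : Type*} [Field K] [Fintype K] [CharP K 2] {q : ℕ} (A : Par K q)

set_option quotPrecheck false
local notation "GL4" => GL chevD4.Idx K
local notation "GG" => ↥(twistedD4 K q)
local notation "GX" => Chev.Good.X (Chev.Tw.Sys.G (Chev.Tw.D4.sys A)) K

theorem two0 : (2 : K) = 0 := CharTwo.two_eq_zero

theorem cast_neg_one : ((-1 : ℤ) : K) = 1 := by rw [Int.cast_neg, Int.cast_one, CharTwo.neg_eq]

theorem GX_inv (r : ℕ) (t : K) : (GX r t)⁻¹ = GX r t := by rw [(sys A).G.X_inv, CharTwo.neg_eq]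

/-- Conjugation of one root element by another with a single commutator term. -/
theorem conjX {r s x : ℕ} (hr : r < 24) (hs : s < 24) (hne : s ≠ r) (hne' : s ≠ ng chevD4 r)
    {C : ℤ} (hC : (C : K) = 1) (h : tabD4.terms r s = [(x, C, 1, 1)]) (t u : K) :
    GX r t * GX s u * (GX r t)⁻¹ = GX s u * (GX r t * GX x (t * u) * (GX r t)⁻¹) := by
  have h1 := (sys A).G.commAt r s hr hs hne hne' t u
  rw [Good.cw, h] at h1
  simp only [Good.wordG, List.map_cons, List.map_nil, List.prod_cons, List.prod_nil, mul_one, pow_one, hC,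
    one_mul, CharTwo.neg_eq] at h1
  calc GX r t * GX s u * (GX r t)⁻¹ = GX s u * GX r t * (GX x (t * u))⁻¹ * (GX r t)⁻¹ := by
        rw [h1]; group
    _ = _ := by rw [GX_inv A x]; group

theorem E5_zero : E5 A 0 0 0 0 0 = 1 := by simp [E5, (sys A).G.X_zero]

theorem push (r : ℕ) (hr : r ∈ [19, 16, 15]) (t a c u v w : K) :
    E5 A a c u v w * GX r t = GX r t * E5 A a (c + t * (if r = 19 then u else if r = 16 then v else w)) u v w := by
  have h := S_one A r hr t a c u v w
  rw [CharTwo.sub_eq_add, GX_inv A] at h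
  rw [← h]
  calc E5 A a c u v w * GX r t = (GX r t * GX r t) * E5 A a c u v w * GX r t := by
        rw [(sys A).G.X_add, CharTwo.add_self_eq_zero, (sys A).G.X_zero, one_mul]
    _ = _ := by group

theorem push14 (t a c u v w : K) : E5 A a c u v w * GX 14 t = GX 14 t * E5 A a (c + t * a) u v w := by
  have h := xbL_conj A t a c u v w
  rw [xbL, GX_inv A] at h
  rw [← h]
  calc E5 A a c u v w * GX 14 t = (GX 14 t * GX 14 t) * E5 A a c u v w * GX 14 t := by
        rw [(sys A).G.X_add, CharTwo.add_self_eq_zero, (sys A).G.X_zero, one_mul]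
    _ = _ := by group

/-! ### The action of the short triple on the layer `a + b` -/

theorem conjS12 (t x y z : K) : GX 12 t * S3 A x y z * (GX 12 t)⁻¹ =
    S3 A x y z * E5 A 0 (t * x * y) (t * y) (t * x) 0 := by
  obtain ⟨-, t19, t16, t15⟩ := terms12
  have e : GX 12 t * S3 A x y z * (GX 12 t)⁻¹ = (GX 12 t * GX 19 x * (GX 12 t)⁻¹) *
      (GX 12 t * GX 16 y * (GX 12 t)⁻¹) * (GX 12 t * GX 15 z * (GX 12 t)⁻¹) := by rw [S3]; group
  rw [e, conjX A (by decide) (by decide) (by decide) (by decide) Int.cast_one t19,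
    conjX A (by decide) (by decide) (by decide) (by decide) Int.cast_one t16,
    conj_of_nil A (by decide) (by decide) (by decide) (by decide) t15, X20_eq, X17_eq,
    A_one A 12 (by simp), A_one A 12 (by simp), S3]
  simp only [show (12 : ℕ) ≠ 18 by decide, show (12 : ℕ) ≠ 13 by decide, if_false, mul_zero, add_zero]
  calc GX 19 x * E5 A 0 0 0 (t * x) 0 * (GX 16 y * E5 A 0 0 (t * y) 0 0) * GX 15 z
      = GX 19 x * (E5 A 0 0 0 (t * x) 0 * GX 16 y) * (E5 A 0 0 (t * y) 0 0 * GX 15 z) := by group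
    _ = GX 19 x * GX 16 y * (E5 A 0 (y * (t * x)) 0 (t * x) 0 * GX 15 z) * E5 A 0 0 (t * y) 0 0 := by
        rw [push A 16 (by simp), push A 15 (by simp)]; simp [mul_assoc]
    _ = _ := by
        rw [push A 15 (by simp)]
        simp only [mul_assoc, E5_mul]
        congr 3
        simp
        ring_nf

theorem conjS13 (t x y z : K) : GX 13 t * S3 A x y z * (GX 13 t)⁻¹ =
    S3 A x y z * E5 A 0 (t * x * z) (t * z) 0 (t * x) := by
  obtain ⟨-, t19, t16, t15⟩ := terms13
  have e : GX 13 t * S3 A x y z * (GX 13 t)⁻¹ = (GX 13 t * GX 19 x * (GX 13 t)⁻¹) *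
      (GX 13 t * GX 16 y * (GX 13 t)⁻¹) * (GX 13 t * GX 15 z * (GX 13 t)⁻¹) := by rw [S3]; group
  rw [e, conjX A (by decide) (by decide) (by decide) (by decide) Int.cast_one t19,
    conj_of_nil A (by decide) (by decide) (by decide) (by decide) t16,
    conjX A (by decide) (by decide) (by decide) (by decide) Int.cast_one t15, X21_eq, X17_eq,
    A_one A 13 (by simp), A_one A 13 (by simp), S3]
  simp only [show (13 : ℕ) ≠ 18 by decide, if_false, if_true, mul_zero, add_zero]
  calc GX 19 x * E5 A 0 0 0 0 (t * x) * GX 16 y * (GX 15 z * E5 A 0 0 (t * z) 0 0)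
      = GX 19 x * (E5 A 0 0 0 0 (t * x) * GX 16 y) * GX 15 z * E5 A 0 0 (t * z) 0 0 := by group
    _ = GX 19 x * GX 16 y * (E5 A 0 0 0 0 (t * x) * GX 15 z) * E5 A 0 0 (t * z) 0 0 := by
        rw [push A 16 (by simp)]; simp [mul_assoc]
    _ = _ := by
        rw [push A 15 (by simp)]
        simp only [mul_assoc, E5_mul]
        congr 3
        simp
        ring_nf

theorem conjS18 (t x y z : K) : GX 18 t * S3 A x y z * (GX 18 t)⁻¹ =
    S3 A x y z * E5 A 0 (t * y * z) 0 (t * z) (t * y) := by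
  obtain ⟨-, t19, t16, t15⟩ := terms18
  have e : GX 18 t * S3 A x y z * (GX 18 t)⁻¹ = (GX 18 t * GX 19 x * (GX 18 t)⁻¹) *
      (GX 18 t * GX 16 y * (GX 18 t)⁻¹) * (GX 18 t * GX 15 z * (GX 18 t)⁻¹) := by rw [S3]; group
  rw [e, conj_of_nil A (by decide) (by decide) (by decide) (by decide) t19,
    conjX A (by decide) (by decide) (by decide) (by decide) cast_neg_one t16,
    conjX A (by decide) (by decide) (by decide) (by decide) cast_neg_one t15, X21_eq, X20_eq,
    A_one A 18 (by simp), A_one A 18 (by simp), S3]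
  simp only [if_true, mul_zero, neg_zero, add_zero]
  calc GX 19 x * (GX 16 y * E5 A 0 0 0 0 (t * y)) * (GX 15 z * E5 A 0 0 0 (t * z) 0)
      = GX 19 x * GX 16 y * (E5 A 0 0 0 0 (t * y) * GX 15 z) * E5 A 0 0 0 (t * z) 0 := by group
    _ = _ := by
        rw [push A 15 (by simp)]
        simp only [mul_assoc, E5_mul]
        congr 3
        simp
        ring_nf

theorem conjA_S3 (a b c x y z : K) : A3 A a b c * S3 A x y z * (A3 A a b c)⁻¹ = S3 A x y z *
    E5 A (b * c * x + a * c * y + a * b * z) (a * y * z + b * x * z + c * x * y)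
      (c * y + b * z) (c * x + a * z) (b * x + a * y) := by
  have e : A3 A a b c * S3 A x y z * (A3 A a b c)⁻¹ =
      GX 18 a * (GX 13 b * (GX 12 c * S3 A x y z * (GX 12 c)⁻¹) * (GX 13 b)⁻¹) * (GX 18 a)⁻¹ := by
    rw [A3]; group
  have e' : ∀ (g s f : GL4), g * (s * f) * g⁻¹ = (g * s * g⁻¹) * (g * f * g⁻¹) := fun g s f => by group
  rw [e, conjS12, e' (GX 13 b), conjS13, A_one A 13 (by simp), mul_assoc (S3 A x y z), E5_mul, e' (GX 18 a), conjS18,
    A_one A 18 (by simp), mul_assoc (S3 A x y z), E5_mul]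
  congr 1
  simp [CharTwo.neg_eq]
  congr 1 <;> ring

theorem conjA_14 (a b c s : K) : A3 A a b c * GX 14 s * (A3 A a b c)⁻¹ = GX 14 s *
    S3 A (a * s) (b * s) (c * s) *
    E5 A (a * b * c * s) (a * b * c * s ^ 2) (b * c * s) (a * c * s) (a * b * s) := by
  obtain ⟨t12, -, -, t1215⟩ := terms12
  obtain ⟨t13, -, -, t1315⟩ := terms13
  obtain ⟨t18, t1819, t1816, t1815⟩ := terms18
  have e : A3 A a b c * GX 14 s * (A3 A a b c)⁻¹ =
      GX 18 a * (GX 13 b * (GX 12 c * GX 14 s * (GX 12 c)⁻¹) * (GX 13 b)⁻¹) * (GX 18 a)⁻¹ := by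
    rw [A3]; group
  have e' : ∀ (g s f : GL4), g * (s * f) * g⁻¹ = (g * s * g⁻¹) * (g * f * g⁻¹) := fun g s f => by group
  have n1316 : ∀ u, GX 13 b * GX 16 u * (GX 13 b)⁻¹ = GX 16 u := fun u =>
    conj_of_nil A (by decide) (by decide) (by decide) (by decide) terms13.2.2.1 b u
  rw [e, conjX A (by decide) (by decide) (by decide) (by decide) Int.cast_one t12,
    conj_of_nil A (by decide) (by decide) (by decide) (by decide) t1215, e' (GX 13 b),
    conjX A (by decide) (by decide) (by decide) (by decide) Int.cast_one t13, n1316,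
    conjX A (r := 13) (by decide) (by decide) (by decide) (by decide) Int.cast_one t1315, X17_eq,
    A_one A 13 (by simp), e' (GX 18 a), e' (GX 18 a), e' (GX 18 a),
    conjX A (by decide) (by decide) (by decide) (by decide) cast_neg_one t18,
    conj_of_nil A (by decide) (by decide) (by decide) (by decide) t1819,
    conjX A (r := 18) (s := 16) (by decide) (by decide) (by decide) (by decide) cast_neg_one t1816,
    conjX A (r := 18) (s := 15) (by decide) (by decide) (by decide) (by decide) cast_neg_one t1815, X21_eq, X20_eq,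
    A_one A 18 (by simp), A_one A 18 (by simp), A_one A 18 (by simp), S3]
  simp only [show (13 : ℕ) ≠ 18 by decide, if_false, if_true, mul_zero, neg_zero, add_zero, zero_add, CharTwo.neg_eq]
  calc GX 14 s * GX 19 (a * s) * (GX 16 (b * s) * E5 A 0 0 0 0 (a * (b * s))) *
        (GX 15 (c * s) * E5 A 0 0 0 (a * (c * s)) 0 * E5 A (a * (b * (c * s))) 0 (b * (c * s)) 0 0)
      = GX 14 s * GX 19 (a * s) * GX 16 (b * s) * (E5 A 0 0 0 0 (a * (b * s)) * GX 15 (c * s)) *
        (E5 A 0 0 0 (a * (c * s)) 0 * E5 A (a * (b * (c * s))) 0 (b * (c * s)) 0 0) := by group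
    _ = _ := by
        rw [push A 15 (by simp)]
        simp only [mul_assoc, E5_mul]
        congr 4
        simp
        congr 1 <;> ring

/-! ### Twisted elements -/

/-- The fixed element of type `a`. -/
def aL (t : K) : GL4 := A3 A t (A.phi t) (A.phi (A.phi t))

/-- The fixed element of type `a + b`. -/
def sL (x : K) : GL4 := S3 A x (A.phi x) (A.phi (A.phi x))

/-- The norm. -/
def nK (t : K) : K := t * A.phi t * A.phi (A.phi t)

/-- The pairing. -/
def Lw (t x : K) : K := A.phi (A.phi t) * A.phi x + A.phi t * A.phi (A.phi x)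

theorem sL_mem (x : K) : sL A x ∈ twistedD4 K q := by
  have := S3_mem A x; rwa [CharTwo.neg_eq, CharTwo.neg_eq] at this

theorem aL_mem (t : K) : aL A t ∈ twistedD4 K q := A3_mem A t

theorem nK_mem (t : K) : nK A t ∈ Fq A := by
  rw [mem_Fq, nK, map_mul, map_mul, phi3]; ring

theorem eL_eq (a c y : K) : eL A a c y = E5 A a c y (A.phi y) (A.phi (A.phi y)) := by
  rw [eL, CharTwo.neg_eq, CharTwo.neg_eq]

theorem eL_zero : eL A 0 0 0 = 1 := by rw [eL_eq, map_zero, map_zero, E5_zero]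

theorem aL_zero : aL A 0 = 1 := by simp [aL, A3, (sys A).G.X_zero]
theorem sL_zero : sL A 0 = 1 := by simp [sL, S3, (sys A).G.X_zero]

theorem aL_mul (t t' : K) : aL A t * aL A t' = aL A (t + t') := by
  rw [aL, aL, aL, A3_mul, map_add, map_add]
theorem sL_mul (t t' : K) : sL A t * sL A t' = sL A (t + t') := by
  rw [sL, sL, sL, S3_mul, map_add, map_add]
theorem xbL_mul (t t' : K) : xbL A t * xbL A t' = xbL A (t + t') := (sys A).G.X_add ..

theorem aL_inv (t : K) : (aL A t)⁻¹ = aL A t :=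
  inv_eq_of_mul_eq_one_right (by rw [aL_mul, CharTwo.add_self_eq_zero, aL_zero])
theorem sL_inv (t : K) : (sL A t)⁻¹ = sL A t :=
  inv_eq_of_mul_eq_one_right (by rw [sL_mul, CharTwo.add_self_eq_zero, sL_zero])
theorem xbL_inv (t : K) : (xbL A t)⁻¹ = xbL A t := GX_inv A 14 t
theorem eL_inv (a c y : K) : (eL A a c y)⁻¹ = eL A a c y :=
  inv_eq_of_mul_eq_one_right (by
    rw [eL_mul, CharTwo.add_self_eq_zero, CharTwo.add_self_eq_zero, CharTwo.add_self_eq_zero, eL_zero])

theorem xa (t a c y : K) : aL A t * eL A a c y * (aL A t)⁻¹ = eL A (a + trK A (t * y)) c y := by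
  rw [aL, xa_eL, CharTwo.sub_eq_add]

theorem xs (x a c y : K) : sL A x * eL A a c y * (sL A x)⁻¹ = eL A a (c + trK A (x * y)) y := by
  have := xs_eL A x a c y
  rw [CharTwo.neg_eq, CharTwo.neg_eq, CharTwo.sub_eq_add] at this
  exact this

theorem e_sL (x a c y : K) : eL A a c y * sL A x = sL A x * eL A a (c + trK A (x * y)) y := by
  have h := xs A x a c y
  rw [sL_inv] at h
  rw [← h, ← mul_assoc, ← mul_assoc, sL_mul, CharTwo.add_self_eq_zero, sL_zero, one_mul]

theorem e_xb (t a c y : K) : eL A a c y * xbL A t = xbL A t * eL A a (c + t * a) y := by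
  rw [eL, xbL, push14 A]; rfl

theorem xb_sL (t x : K) : xbL A t * sL A x = sL A x * xbL A t := by
  obtain ⟨n19, n16, n15⟩ := termsBS
  have h : ∀ {s}, s < 24 → s ≠ 14 → s ≠ ng chevD4 14 → tabD4.terms 14 s = [] → ∀ u,
      GX 14 t * GX s u * (GX 14 t)⁻¹ = GX s u := fun hs h1 h2 h u =>
    conj_of_nil A (by decide) hs h1 h2 h t u
  rw [← mul_inv_eq_iff_eq_mul]
  show GX 14 t * (GX 19 _ * GX 16 _ * GX 15 _) * (GX 14 t)⁻¹ = GX 19 _ * GX 16 _ * GX 15 _
  have e : ∀ (g a b c : GL4), g * (a * b * c) * g⁻¹ = (g * a * g⁻¹) * (g * b * g⁻¹) * (g * c * g⁻¹) :=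
    fun g a b c => by group
  rw [e, h (by decide) (by decide) (by decide) n19, h (by decide) (by decide) (by decide) n16,
    h (by decide) (by decide) (by decide) n15]

theorem F1 {s : K} (hs : s ∈ Fq A) (t : K) : aL A t * xbL A s * (aL A t)⁻¹ =
    xbL A s * sL A (s * t) * eL A (nK A t * s) (nK A t * s ^ 2) (A.phi t * A.phi (A.phi t) * s) := by
  rw [mem_Fq] at hs
  rw [aL, xbL, conjA_14, sL, eL_eq, nK]
  congr 1
  · congr 1
    simp only [map_mul, hs]
    congr 1 <;> ring
  · simp only [map_mul, hs, phi3]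
    congr 1 <;> ring

theorem F2 (t x : K) : aL A t * sL A x * (aL A t)⁻¹ = sL A x *
    eL A (trK A (x * A.phi t * A.phi (A.phi t))) (trK A (t * A.phi x * A.phi (A.phi x))) (Lw A t x) := by
  rw [aL, sL, conjA_S3, eL_eq, Lw, trK, trK]
  congr 1
  simp only [map_mul, map_add, phi3]
  congr 1 <;> ring

end Cfsg.Agent.Lib.RankOne.Triality.Invol
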