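import Cfsg.Agent.Lib.RankOne.TrialityInvol
import Cfsg.Agent.Lib.RankOne.TrialityDegree

/-!
The two classes of involutions of the triality group in characteristic two.
-/

set_option autoImplicit false
set_option maxRecDepth 100000
set_option maxHeartbeats 1000000
set_option linter.unusedSectionVars false

namespace Cfsg.Agent.Lib.RankOne.Triality.Invol

open Cfsg.Lie Cfsg.Agent.Lib.Chev Cfsg.Agent.Lib.Chev.Tw Cfsg.Agent.Lib.Chev.Tw.D4
open Cfsg.Agent.Lib.RankOne.Triality

variable {K : Type*} [Field K] [Fintype K] [CharP K 2] {q : ℕ} (A : Par K q)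

set_option quotPrecheck false
local notation "GL4" => GL chevD4.Idx K
local notation "GG" => ↥(twistedD4 K q)
local notation "GX" => Chev.Good.X (Chev.Tw.Sys.G (Chev.Tw.D4.sys A)) K

theorem exists_tr {c : K} (hc : c ∈ Fq A) {x : K} (hx : x ≠ 0) : ∃ z, trK A (x * z) = c := by
  obtain ⟨y, hy⟩ := exists_trK A
  have h1 : A.phi (c / trK A y) = c / trK A y := by
    rw [map_div₀, (mem_Fq A).1 hc, (mem_Fq A).1 (trK_mem A y)]
  refine ⟨c / trK A y * y * x⁻¹, ?_⟩
  rw [show x * (c / trK A y * y * x⁻¹) = c / trK A y * y by field_simp, trK, map_mul, h1, map_mul, h1,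
    ← mul_add, ← mul_add, ← trK, div_mul_cancel₀ _ hy]

theorem eL_eq_one {a c y : K} (h : eL A a c y = 1) : a = 0 ∧ c = 0 ∧ y = 0 := by
  have hy : y = 0 := by
    by_contra hy
    obtain ⟨z, hz⟩ := exists_tr A (one_mem (Fq A)) hy
    have h1 := xs A z a c y
    rw [h, mul_one, mul_inv_cancel] at h1
    have h2 : eL A a c y * eL A a (c + trK A (z * y)) y = 1 := by rw [h, ← h1, one_mul]
    rw [eL_mul, CharTwo.add_self_eq_zero, CharTwo.add_self_eq_zero, mul_comm z y, hz] at h2
    exact eL_ne_one A (one_ne_zero (α := K)) (by rwa [← add_assoc, CharTwo.add_self_eq_zero, zero_add] at h2)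
  subst hy
  have ha : a = 0 := by
    by_contra ha
    have h1 := xb_eL A 1 a c 0
    rw [h, mul_one, mul_inv_cancel] at h1
    have h2 : eL A a c 0 * eL A a (c + 1 * a) 0 = 1 := by rw [h, ← h1, one_mul]
    rw [eL_mul, CharTwo.add_self_eq_zero, CharTwo.add_self_eq_zero, ← add_assoc, CharTwo.add_self_eq_zero,
      zero_add, one_mul] at h2
    exact eL_ne_one A ha h2
  subst ha
  by_contra hc
  exact eL_ne_one A (c := c) (fun h0 => hc ⟨rfl, h0, rfl⟩) h

theorem eL_inj {a c y a' c' y' : K} (h : eL A a c y = eL A a' c' y') : a = a' ∧ c = c' ∧ y = y' := by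
  have h1 : eL A a c y * eL A a' c' y' = 1 := by
    rw [← h, eL_mul, CharTwo.add_self_eq_zero, CharTwo.add_self_eq_zero, CharTwo.add_self_eq_zero, eL_zero]
  rw [eL_mul] at h1
  obtain ⟨h2, h3, h4⟩ := eL_eq_one A h1
  exact ⟨CharTwo.add_eq_zero.1 h2, CharTwo.add_eq_zero.1 h3, CharTwo.add_eq_zero.1 h4⟩

theorem sL_eL_eq_one {x a c y : K} (h : sL A x * eL A a c y = 1) : x = 0 ∧ a = 0 ∧ c = 0 ∧ y = 0 := by
  have hx : x = 0 := by
    by_contra hx
    obtain ⟨z, hz⟩ := exists_tr A (one_mem (Fq A)) hx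
    have h1 : sL A x = eL A a c y := by rw [← eL_inv A a c y]; exact eq_inv_of_mul_eq_one_left h
    have h2 := e_sL A x 0 0 z
    rw [h1, eL_mul, eL_mul, hz] at h2
    have h3 := (eL_inj A h2).2.1
    rw [zero_add, zero_add] at h3
    exact one_ne_zero (left_eq_add.1 h3)
  subst hx
  rw [sL_zero, one_mul] at h
  exact ⟨rfl, eL_eq_one A h⟩

/-- Action of a product of the three outer parts on the abelian subgroup. -/
theorem conj_outer (t s x a c y : K) :
    aL A t * xbL A s * sL A x * eL A a c y * (aL A t * xbL A s * sL A x)⁻¹ =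
      eL A (a + trK A (t * y)) (c + trK A (x * y) + s * a) y := by
  have e : aL A t * xbL A s * sL A x * eL A a c y * (aL A t * xbL A s * sL A x)⁻¹ =
      aL A t * (xbL A s * (sL A x * eL A a c y * (sL A x)⁻¹) * (xbL A s)⁻¹) * (aL A t)⁻¹ := by group
  rw [e, xs, xb_eL, xa]

/-- Products in normal form determine their coordinates. -/
theorem prod_inj {t s x a c y t' s' x' a' c' y' : K}
    (h : aL A t * xbL A s * sL A x * eL A a c y = aL A t' * xbL A s' * sL A x' * eL A a' c' y') :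
    t = t' ∧ s = s' ∧ x = x' ∧ a = a' ∧ c = c' ∧ y = y' := by
  have key : ∀ a₀ c₀ y₀, eL A (a₀ + trK A (t * y₀)) (c₀ + trK A (x * y₀) + s * a₀) y₀ =
      eL A (a₀ + trK A (t' * y₀)) (c₀ + trK A (x' * y₀) + s' * a₀) y₀ := fun a₀ c₀ y₀ => by
    rw [← conj_outer, ← conj_outer]
    have e : ∀ (P e f : GL4), e * f = f * e → P * f * P⁻¹ = (P * e) * f * (P * e)⁻¹ := fun P e f hc => by
      rw [show (P * e) * f * (P * e)⁻¹ = P * (e * f) * e⁻¹ * P⁻¹ by group, hc]; group
    have hc : ∀ a b d a' b' d' : K, eL A a b d * eL A a' b' d' = eL A a' b' d' * eL A a b d :=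
      fun _ _ _ _ _ _ => by rw [eL_mul, eL_mul]; congr 1 <;> ring
    rw [e _ (eL A a c y) _ (hc ..), e (aL A t' * _ * _) (eL A a' c' y') _ (hc ..), h]
  have hs : s = s' := by
    have := (eL_inj A (key 1 0 0)).2.1
    simpa [trK] using this
  have hlin : ∀ u u' : K, (∀ y, trK A (u * y) = trK A (u' * y)) → u = u' := fun u u' hu => by
    by_contra hne
    obtain ⟨z, hz⟩ := exists_tr A (one_mem (Fq A)) (sub_ne_zero.2 hne)
    apply one_ne_zero (α := K)
    have hu' := hu z
    rw [← hz, sub_mul, trK, map_sub, map_sub]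
    simp only [trK] at hu'
    linear_combination hu'
  have ht : t = t' := hlin t t' fun y => by simpa using (eL_inj A (key 0 0 y)).1
  have hx : x = x' := hlin x x' fun y => by simpa using (eL_inj A (key 0 0 y)).2.1
  subst hs ht hx
  exact ⟨rfl, rfl, rfl, eL_inj A (mul_left_cancel h)⟩

/-- Conjugate into the abelian subgroup. -/
def Good5 (g : GL4) : Prop :=
  ∃ h ∈ twistedD4 K q, ∃ a c y, a ∈ Fq A ∧ c ∈ Fq A ∧ h * g * h⁻¹ = eL A a c y

theorem conj_step {g g' h : GL4} (hh : h ∈ twistedD4 K q) (e : h * g * h⁻¹ = g') (hg : Good5 A g') : Good5 A g := by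
  obtain ⟨k, hk, a, c, y, ha, hc, e'⟩ := hg
  exact ⟨k * h, mul_mem hk hh, a, c, y, ha, hc, by rw [← e', ← e]; group⟩

theorem good5_eL {a c : K} (ha : a ∈ Fq A) (hc : c ∈ Fq A) (y : K) : Good5 A (eL A a c y) :=
  ⟨1, one_mem _, a, c, y, ha, hc, by group⟩

theorem invol_conj {g h : GL4} (hg : g * g = 1) : (h * g * h⁻¹) * (h * g * h⁻¹) = 1 := by
  rw [show h * g * h⁻¹ * (h * g * h⁻¹) = h * (g * g) * h⁻¹ by group, hg]; group

theorem na_sL (x : K) : naL A * sL A x * (naL A)⁻¹ = eL A 0 0 x := by rw [sL, na_S3, eL_eq]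

theorem eL_a (a : K) : eL A a 0 0 = E5 A a 0 0 0 0 := by rw [eL_eq, map_zero, map_zero]
theorem eL_c (c : K) : eL A 0 c 0 = E5 A 0 c 0 0 0 := by rw [eL_eq, map_zero, map_zero]

theorem mp_surj (y : K) : ∃ t, A.phi t * A.phi (A.phi t) = y := by
  refine Finite.surjective_of_injective (f := fun t => A.phi t * A.phi (A.phi t)) (fun t t' h => ?_) y
  have h1 : A.phi (A.phi t) * t = A.phi (A.phi t') * t' := by
    have := congrArg A.phi h
    simpa [map_mul, phi3] using this
  have h2 : t * A.phi t = t' * A.phi t' := by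
    have := congrArg A.phi h1
    simpa [map_mul, phi3] using this
  have hsq : ∀ u : K, (A.phi u * A.phi (A.phi u)) * (u * A.phi u) = A.phi u ^ 2 * (A.phi (A.phi u) * u) :=
    fun u => by ring
  rcases eq_or_ne t 0 with rfl | ht
  · by_contra hne
    simp only [map_zero, mul_zero] at h
    have h0 : A.phi t' ≠ 0 ∧ A.phi (A.phi t') ≠ 0 := by
      constructor <;> simp [map_eq_zero_iff _ A.phi.injective, Ne.symm hne]
    exact mul_ne_zero h0.1 h0.2 h.symm
  have e := hsq t
  rw [show A.phi t * A.phi (A.phi t) = A.phi t' * A.phi (A.phi t') from h, h2, hsq t', h1] at e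
  have hne : A.phi (A.phi t') * t' ≠ 0 := h1 ▸ mul_ne_zero (by simp [map_eq_zero_iff _ A.phi.injective, ht]) ht
  have e2 : A.phi t' ^ 2 = A.phi t ^ 2 := mul_right_cancel₀ hne e
  exact (A.phi.injective (CharTwo.sq_injective e2)).symm

theorem good5_L2 {s c : K} (hs : s ∈ Fq A) (hs0 : s ≠ 0) (hc : c ∈ Fq A) (y : K) :
    Good5 A (xbL A s * eL A 0 c y) := by
  obtain ⟨t, ht⟩ := mp_surj A (y / s)
  have hy : A.phi t * A.phi (A.phi t) * s = y := by rw [ht, div_mul_cancel₀ _ hs0]
  have hcn : c + nK A t * s ^ 2 ∈ Fq A := add_mem hc (mul_mem (nK_mem A t) (pow_mem hs 2))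
  have h1 : aL A t * (xbL A s * eL A 0 c y) * (aL A t)⁻¹ =
      xbL A s * sL A (s * t) * eL A 0 (c + nK A t * s ^ 2) 0 := by
    rw [show aL A t * (xbL A s * eL A 0 c y) * (aL A t)⁻¹ =
      (aL A t * xbL A s * (aL A t)⁻¹) * (aL A t * eL A 0 c y * (aL A t)⁻¹) by group, F1 A hs, xa, mul_assoc,
      eL_mul, hy, CharTwo.add_self_eq_zero]
    congr 2
    · rw [← hy, trK, nK]
      simp only [map_mul, (mem_Fq A).1 hs, phi3]
      linear_combination (2 * s * (t * A.phi t * A.phi (A.phi t))) * two0 (K := K)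
    · ring
  refine conj_step A (aL_mem A t) h1 (conj_step A (na_mem A) ?_ (good5_eL A hs hcn (s * t)))
  rw [show naL A * (xbL A s * sL A (s * t) * eL A 0 (c + nK A t * s ^ 2) 0) * (naL A)⁻¹ =
    (naL A * xbL A s * (naL A)⁻¹) * (naL A * sL A (s * t) * (naL A)⁻¹) *
      (naL A * eL A 0 (c + nK A t * s ^ 2) 0 * (naL A)⁻¹) by group, na_14, CharTwo.neg_eq, na_sL, eL_c, na_23,
    ← eL_a, ← eL_c, eL_mul, eL_mul, add_zero, add_zero, zero_add, zero_add, add_zero, zero_add]

theorem Lw_kernel {t x : K} (ht : t ≠ 0) (h : Lw A t x = 0) : A.phi (x / t) = x / t := by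
  have e : A.phi (A.phi t) * A.phi x = A.phi t * A.phi (A.phi x) := CharTwo.add_eq_zero.1 h
  have e' : A.phi t * x = t * A.phi x := by
    apply A.phi.injective
    rw [map_mul, map_mul]
    exact e
  rw [map_div₀, div_eq_div_iff ((map_ne_zero_iff _ A.phi.injective).2 ht) ht]
  linear_combination -e'

theorem exists_Lw {x y : K} (hx : x ≠ 0) (hy : trK A (x * y) = 0) : ∃ t, Lw A t x = y := by
  classical
  let F : K →+ K := AddMonoidHom.mk' (fun t => Lw A t x) fun a b => by
    simp only [Lw, map_add]; ring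
  have hadd : ∀ a b : K, trK A (x * (a + b)) = trK A (x * a) + trK A (x * b) := fun a b => by
    simp only [trK, mul_add, map_add]; ring
  let L : K →+ K := AddMonoidHom.mk' (fun z => trK A (x * z)) hadd
  let T : AddSubgroup K := L.ker
  have hle : F.range ≤ T := by
    rintro _ ⟨t, rfl⟩
    show trK A (x * Lw A t x) = 0
    simp only [trK, Lw, map_mul, map_add, phi3]
    linear_combination (x * A.phi (A.phi t) * A.phi x + x * A.phi t * A.phi (A.phi x) +
      t * A.phi x * A.phi (A.phi x)) * two0 (K := K)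
  have hker : Nat.card ↥F.ker = q := by
    rw [← card_Fq A, ← Nat.card_eq_fintype_card]
    refine Nat.card_congr (Equiv.ofBijective (fun t : ↥F.ker => (⟨(t : K) / x, ?_⟩ : ↥(Fq A))) ⟨?_, ?_⟩)
    · rw [mem_Fq]
      rcases eq_or_ne (t : K) 0 with h | h
      · rw [h, zero_div, map_zero]
      · have h1 := Lw_kernel A h (show Lw A (t : K) x = 0 from t.2)
        rw [← inv_div, map_inv₀, h1]
    · intro a b e
      exact Subtype.ext ((div_left_inj' hx).1 (congrArg Subtype.val e))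
    · intro r
      refine ⟨⟨(r : K) * x, ?_⟩, Subtype.ext (mul_div_cancel_right₀ _ hx)⟩
      show Lw A ((r : K) * x) x = 0
      simp only [Lw, map_mul, (mem_Fq A).1 r.2]
      linear_combination ((r : K) * A.phi (A.phi x) * A.phi x) * two0 (K := K)
  have hTr : Nat.card ↥L.range = q := by
    rw [← card_Fq A, ← Nat.card_eq_fintype_card]
    refine Nat.card_congr (Equiv.subtypeEquivRight fun c => ⟨?_, fun hc => exists_tr A hc hx⟩)
    rintro ⟨z, rfl⟩
    exact trK_mem A _
  have hK : Nat.card K = q ^ 3 := by rw [Nat.card_eq_fintype_card, A.hK]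
  have hq : 0 < q := A.hq.one_lt.le
  have hT : Nat.card ↥T = q ^ 2 := by
    have h := T.card_mul_index
    rw [show T = L.ker from rfl, AddSubgroup.index_ker, hTr, hK] at h
    exact Nat.eq_of_mul_eq_mul_right hq (h.trans (by ring))
  have hR : Nat.card ↥F.range = q ^ 2 := by
    have h := F.ker.card_mul_index
    rw [AddSubgroup.index_ker, hker, hK] at h
    exact Nat.eq_of_mul_eq_mul_left hq (h.trans (by ring))
  have e : F.range = T := by
    apply SetLike.coe_injective
    refine Set.eq_of_subset_of_ncard_le (SetLike.coe_subset_coe.2 hle) ?_ (Set.toFinite _)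
    rw [← Nat.card_coe_set_eq, ← Nat.card_coe_set_eq]
    exact (hT.trans hR.symm).le
  exact e.ge (show y ∈ T from hy)

theorem good5_L1 {a c : K} (ha : a ∈ Fq A) (hc : c ∈ Fq A) (x y : K)
    (h : sL A x * eL A a c y * (sL A x * eL A a c y) = 1) : Good5 A (sL A x * eL A a c y) := by
  rcases eq_or_ne x 0 with rfl | hx
  · rw [sL_zero, one_mul]; exact good5_eL A ha hc y
  have htr : trK A (x * y) = 0 := by
    rw [show sL A x * eL A a c y * (sL A x * eL A a c y) = sL A x * (eL A a c y * sL A x) * eL A a c y by group,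
      e_sL, ← mul_assoc, sL_mul, CharTwo.add_self_eq_zero, sL_zero, one_mul, eL_mul] at h
    have := (eL_eq_one A h).2.1
    rwa [add_comm c, add_assoc, CharTwo.add_self_eq_zero, add_zero] at this
  obtain ⟨t, ht⟩ := exists_Lw A hx htr
  set a' := trK A (x * A.phi t * A.phi (A.phi t)) + (a + trK A (t * y))
  set c' := trK A (t * A.phi x * A.phi (A.phi x)) + c
  have ha' : a' ∈ Fq A := add_mem (trK_mem A _) (add_mem ha (trK_mem A _))
  have hc' : c' ∈ Fq A := add_mem (trK_mem A _) hc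
  have h1 : aL A t * (sL A x * eL A a c y) * (aL A t)⁻¹ = sL A x * eL A a' c' 0 := by
    rw [show aL A t * (sL A x * eL A a c y) * (aL A t)⁻¹ =
      (aL A t * sL A x * (aL A t)⁻¹) * (aL A t * eL A a c y * (aL A t)⁻¹) by group, F2, xa, mul_assoc, eL_mul,
      ht, CharTwo.add_self_eq_zero]
  refine conj_step A (aL_mem A t) h1 ?_
  by_cases ha0 : a' = 0
  · obtain ⟨z, hz⟩ := exists_tr A hc' hx
    refine conj_step A (eL_mem A (zero_mem _) (zero_mem _) z) ?_
      (conj_step A (na_mem A) (na_sL A x) (good5_eL A (zero_mem _) (zero_mem _) x))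
    rw [eL_inv, show eL A 0 0 z * (sL A x * eL A a' c' 0) * eL A 0 0 z =
      (eL A 0 0 z * sL A x) * (eL A a' c' 0 * eL A 0 0 z) by group, e_sL, eL_mul, mul_assoc, eL_mul, hz, ha0]
    simp [CharTwo.add_self_eq_zero, eL_zero]
  · set u := c' / a'
    have hu : u ∈ Fq A := div_mem hc' ha'
    refine conj_step A (xbL_mem A hu) (g' := sL A x * eL A a' 0 0) ?_ ?_
    · rw [show xbL A u * (sL A x * eL A a' c' 0) * (xbL A u)⁻¹ =
        (xbL A u * sL A x * (xbL A u)⁻¹) * (xbL A u * eL A a' c' 0 * (xbL A u)⁻¹) by group, xb_sL,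
        mul_inv_cancel_right, xb_eL, div_mul_cancel₀ _ ha0, CharTwo.add_self_eq_zero]
    · refine conj_step A (na_mem A) (g' := xbL A a' * eL A 0 0 x) ?_ (good5_L2 A ha' ha0 (zero_mem _) x)
      rw [show naL A * (sL A x * eL A a' 0 0) * (naL A)⁻¹ =
        (naL A * sL A x * (naL A)⁻¹) * (naL A * eL A a' 0 0 * (naL A)⁻¹) by group, na_sL, eL_a A a', na_22, e_xb,
        mul_zero, add_zero]

theorem good5_L3 {s a c : K} (hs : s ∈ Fq A) (hs0 : s ≠ 0) (ha : a ∈ Fq A) (hc : c ∈ Fq A) (x y : K)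
    (h : xbL A s * sL A x * eL A a c y * (xbL A s * sL A x * eL A a c y) = 1) :
    Good5 A (xbL A s * sL A x * eL A a c y) := by
  set t := x / s
  have hst : s * t = x := mul_div_cancel₀ x hs0
  obtain ⟨a₁, c₁, y₁, ha₁, hc₁, e⟩ : ∃ a₁ c₁ y₁, a₁ ∈ Fq A ∧ c₁ ∈ Fq A ∧
      aL A t * (xbL A s * sL A x * eL A a c y) * (aL A t)⁻¹ = xbL A s * eL A a₁ c₁ y₁ := by
    refine ⟨_, _, _, ?_, ?_, by
      rw [show aL A t * (xbL A s * sL A x * eL A a c y) * (aL A t)⁻¹ =
        (aL A t * xbL A s * (aL A t)⁻¹) * (aL A t * sL A x * (aL A t)⁻¹) *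
          (aL A t * eL A a c y * (aL A t)⁻¹) by group, F1 A hs, F2, xa, hst]
      simp only [mul_assoc]
      rw [← mul_assoc (eL A _ _ _) (sL A x), e_sL, ← mul_assoc (sL A x), ← mul_assoc (sL A x), sL_mul,
        CharTwo.add_self_eq_zero, sL_zero, one_mul, eL_mul, eL_mul]⟩
    · exact add_mem (mul_mem (nK_mem A t) hs) (add_mem (trK_mem A _) (add_mem ha (trK_mem A _)))
    · exact add_mem (add_mem (mul_mem (nK_mem A t) (pow_mem hs 2)) (trK_mem A _)) (add_mem (trK_mem A _) hc)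
  refine conj_step A (aL_mem A t) e ?_
  have h2 := invol_conj (h := aL A t) h
  rw [e, show xbL A s * eL A a₁ c₁ y₁ * (xbL A s * eL A a₁ c₁ y₁) =
    xbL A s * (eL A a₁ c₁ y₁ * xbL A s) * eL A a₁ c₁ y₁ by group, e_xb, ← mul_assoc, xbL_mul,
    CharTwo.add_self_eq_zero, show xbL A (0 : K) = 1 from (sys A).G.X_zero 14, one_mul, eL_mul] at h2
  have h3 := (eL_eq_one A h2).2.1
  rw [add_comm c₁, add_assoc, CharTwo.add_self_eq_zero, add_zero] at h3
  rw [(mul_eq_zero.1 h3).resolve_left hs0]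
  exact good5_L2 A hs hs0 hc₁ y₁

theorem good5_L4 {a c : K} (ha : a ∈ Fq A) (hc : c ∈ Fq A) (t x y : K) (ht : t ≠ 0)
    (h : aL A t * sL A x * eL A a c y * (aL A t * sL A x * eL A a c y) = 1) :
    Good5 A (aL A t * sL A x * eL A a c y) := by
  have hsq := h
  rw [show aL A t * sL A x * eL A a c y * (aL A t * sL A x * eL A a c y) =
    (aL A t * sL A x * (aL A t)⁻¹) * (aL A t * eL A a c y * (aL A t)⁻¹) *
      (aL A t * aL A t) * (sL A x * eL A a c y) by group, aL_mul, CharTwo.add_self_eq_zero, aL_zero, mul_one, F2,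
    xa, mul_assoc (sL A x), eL_mul, ← mul_assoc, mul_assoc (sL A x), e_sL, ← mul_assoc, sL_mul,
    CharTwo.add_self_eq_zero, sL_zero, one_mul, eL_mul] at hsq
  have hL : Lw A t x = 0 := by
    have := (eL_eq_one A hsq).2.2
    rwa [add_assoc, CharTwo.add_self_eq_zero, add_zero] at this
  set r := x / t
  have hr : r ∈ Fq A := (mem_Fq A).2 (Lw_kernel A ht hL)
  have hrt : r * t = x := div_mul_cancel₀ x ht
  -- conjugation by `x_b(r)` removes the middle part
  obtain ⟨a₁, c₁, y₁, ha₁, hc₁, e⟩ : ∃ a₁ c₁ y₁, a₁ ∈ Fq A ∧ c₁ ∈ Fq A ∧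
      xbL A r * (aL A t * sL A x * eL A a c y) * (xbL A r)⁻¹ = aL A t * eL A a₁ c₁ y₁ := by
    have h1 : aL A t * xbL A r = xbL A r * sL A (r * t) *
        eL A (nK A t * r) (nK A t * r ^ 2) (A.phi t * A.phi (A.phi t) * r) * aL A t := by
      rw [← F1 A hr, inv_mul_cancel_right]
    set α := nK A t * r
    set γ := nK A t * r ^ 2
    set β := A.phi t * A.phi (A.phi t) * r
    have hF : sL A x * eL A α γ β * aL A t = aL A t *
        (sL A x * eL A (trK A (x * A.phi t * A.phi (A.phi t)) + (α + trK A (t * β)))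
          (trK A (t * A.phi x * A.phi (A.phi x)) + γ) (Lw A t x + β)) := by
      have e2 := F2 A t x
      have e3 := xa A t α γ β
      rw [← eL_mul, ← mul_assoc (sL A x), ← e2, ← e3, aL_inv]
      calc sL A x * eL A α γ β * aL A t
          = (aL A t * aL A t) * sL A x * (aL A t * aL A t) * eL A α γ β * aL A t := by
            rw [aL_mul, CharTwo.add_self_eq_zero, aL_zero, one_mul, mul_one]
        _ = _ := by group
    refine ⟨_, _, _, ?_, ?_, by
      rw [xbL_inv, show xbL A r * (aL A t * sL A x * eL A a c y) * xbL A r =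
        xbL A r * aL A t * sL A x * (eL A a c y * xbL A r) by group, e_xb,
        show xbL A r * aL A t * sL A x * (xbL A r * eL A a (c + r * a) y) =
          xbL A r * aL A t * (sL A x * xbL A r) * eL A a (c + r * a) y by group, ← xb_sL,
        show xbL A r * aL A t * (xbL A r * sL A x) * eL A a (c + r * a) y =
          xbL A r * (aL A t * xbL A r) * sL A x * eL A a (c + r * a) y by group, h1, hrt,
        show xbL A r * (xbL A r * sL A x * eL A α γ β * aL A t) * sL A x * eL A a (c + r * a) y =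
          (xbL A r * xbL A r) * (sL A x * eL A α γ β * aL A t) * sL A x * eL A a (c + r * a) y by group,
        xbL_mul, CharTwo.add_self_eq_zero, show xbL A (0 : K) = 1 from (sys A).G.X_zero 14, one_mul, hF]
      simp only [mul_assoc]
      rw [← mul_assoc (eL A _ _ _) (sL A x), e_sL, ← mul_assoc (sL A x), ← mul_assoc (sL A x), sL_mul,
        CharTwo.add_self_eq_zero, sL_zero, one_mul, eL_mul]⟩
    · exact add_mem (add_mem (trK_mem A _) (add_mem (mul_mem (nK_mem A t) hr) (trK_mem A _))) ha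
    · exact add_mem (add_mem (add_mem (trK_mem A _) (mul_mem (nK_mem A t) (pow_mem hr 2))) (trK_mem A _))
        (add_mem hc (mul_mem hr ha))
  refine conj_step A (xbL_mem A hr) e ?_
  have e2 : nbL A * (aL A t * eL A a₁ c₁ y₁) * (nbL A)⁻¹ = sL A t * eL A c₁ a₁ y₁ := by
    rw [show nbL A * (aL A t * eL A a₁ c₁ y₁) * (nbL A)⁻¹ =
      (nbL A * aL A t * (nbL A)⁻¹) * (nbL A * eL A a₁ c₁ y₁ * (nbL A)⁻¹) by group, aL, nb_A3, nb_eL,
      CharTwo.neg_eq, CharTwo.neg_eq, CharTwo.neg_eq]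
    rfl
  refine conj_step A (nb_mem A) e2 (good5_L1 A hc₁ ha₁ t y₁ ?_)
  rw [← e2]
  exact invol_conj (by rw [← e]; exact invol_conj h)

theorem no_mixed {t s x a c y : K} (hs : s ∈ Fq A)
    (h : aL A t * xbL A s * sL A x * eL A a c y * (aL A t * xbL A s * sL A x * eL A a c y) = 1) :
    t = 0 ∨ s = 0 := by
  have hsq := h
  rw [show aL A t * xbL A s * sL A x * eL A a c y * (aL A t * xbL A s * sL A x * eL A a c y) =
    (aL A t * xbL A s * (aL A t)⁻¹) * (aL A t * sL A x * (aL A t)⁻¹) * (aL A t * eL A a c y * (aL A t)⁻¹) *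
      (aL A t * aL A t) * (xbL A s * sL A x * eL A a c y) by group, aL_mul, CharTwo.add_self_eq_zero, aL_zero,
    mul_one, F1 A hs, F2, xa] at hsq
  have r1 : ∀ u a c y (z : GL4), eL A a c y * (xbL A u * z) = xbL A u * (eL A a (c + u * a) y * z) :=
    fun u a c y z => by rw [← mul_assoc, e_xb, mul_assoc]
  have r2 : ∀ u a c y (z : GL4), eL A a c y * (sL A u * z) = sL A u * (eL A a (c + trK A (u * y)) y * z) :=
    fun u a c y z => by rw [← mul_assoc, e_sL, mul_assoc]
  have r3 : ∀ a c y a' c' y' (z : GL4), eL A a c y * (eL A a' c' y' * z) = eL A (a + a') (c + c') (y + y') * z :=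
    fun a c y a' c' y' z => by rw [← mul_assoc, eL_mul]
  have r4 : ∀ u v (z : GL4), sL A u * (xbL A v * z) = xbL A v * (sL A u * z) :=
    fun u v z => by rw [← mul_assoc, ← xb_sL, mul_assoc]
  have r5 : ∀ u v (z : GL4), sL A u * (sL A v * z) = sL A (u + v) * z :=
    fun u v z => by rw [← mul_assoc, sL_mul]
  have r6 : ∀ u v (z : GL4), xbL A u * (xbL A v * z) = xbL A (u + v) * z :=
    fun u v z => by rw [← mul_assoc, xbL_mul]
  simp only [mul_assoc, r1, r2, r3, r4, r5, r6, eL_mul, CharTwo.add_self_eq_zero] at hsq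
  rw [show xbL A (0 : K) = 1 from (sys A).G.X_zero 14, one_mul] at hsq
  have h0 := (sL_eL_eq_one A hsq).1
  simp only [CharTwo.add_self_eq_zero, add_assoc, add_zero] at h0
  exact (mul_eq_zero.1 h0).symm

/-- Every element of the unipotent group is such a product. -/
theorem pos_decomp {u : GL4} (hu : u ∈ chevD4.posUnipotent K ⊓ twistedD4 K q) :
    ∃ t s x a c y, s ∈ Fq A ∧ a ∈ Fq A ∧ c ∈ Fq A ∧
      u = aL A t * xbL A s * sL A x * eL A a c y := by
  have hX : ∀ r t, 12 ≤ r → r < 24 → GX r t ∈ chevD4.posUnipotent K := fun r t h1 h2 =>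
    (sys A).G.X_mem_posUnipotent h2 h1 t
  let U := chevD4.posUnipotent K ⊓ twistedD4 K q
  let f : K × ↥(Fq A) × K × ↥(Fq A) × ↥(Fq A) × K → ↥U := fun p =>
    ⟨aL A p.1 * xbL A (p.2.1 : K) * sL A p.2.2.1 * eL A (p.2.2.2.1 : K) (p.2.2.2.2.1 : K) p.2.2.2.2.2, by
      refine ⟨?_, mul_mem (mul_mem (mul_mem (aL_mem A _) (xbL_mem A p.2.1.2)) (sL_mem A _))
        (eL_mem A p.2.2.2.1.2 p.2.2.2.2.1.2 _)⟩
      simp only [aL, A3, xbL, sL, S3, eL, E5]
      repeat' first
        | exact hX _ _ (by norm_num) (by norm_num)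
        | apply Subgroup.mul_mem⟩
  have hf : Function.Injective f := by
    rintro ⟨t, s, x, a, c, y⟩ ⟨t', s', x', a', c', y'⟩ e
    obtain ⟨h1, h2, h3, h4, h5, h6⟩ := prod_inj A (congrArg Subtype.val e :)
    obtain rfl := h1; obtain rfl := h3; obtain rfl := h6
    obtain rfl := Subtype.ext h2; obtain rfl := Subtype.ext h4; obtain rfl := Subtype.ext h5
    rfl
  have hcard : Nat.card ↥U = Nat.card (K × ↥(Fq A) × K × ↥(Fq A) × ↥(Fq A) × K) := by
    have h := (gens A).card_pos (q := q) (e := fun k => [1, 3].getD k 0) (flips A)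
    rw [gens_G1] at h
    rw [show Nat.card ↥U = _ from h]
    simp only [Nat.card_prod, Nat.card_eq_fintype_card, A.hK, card_Fq]
    simp [gens, A.hK, card_Fq]
    ring
  obtain ⟨⟨t, s, x, a, c, y⟩, e⟩ := ((Nat.bijective_iff_injective_and_card f).2 ⟨hf, hcard.symm⟩).2 ⟨u, hu⟩
  exact ⟨t, s, x, a, c, y, s.2, a.2, c.2, (congrArg Subtype.val e).symm⟩

theorem good5_of_pos {u : GL4} (hu : u ∈ chevD4.posUnipotent K ⊓ twistedD4 K q) (h : u * u = 1) : Good5 A u := by
  obtain ⟨t, s, x, a, c, y, hs, ha, hc, rfl⟩ := pos_decomp A hu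
  have hx0 : xbL A (0 : K) = 1 := (sys A).G.X_zero 14
  rcases no_mixed A hs h with rfl | rfl
  · rw [aL_zero, one_mul] at h ⊢
    rcases eq_or_ne s 0 with rfl | hs0
    · rw [hx0, one_mul] at h ⊢
      exact good5_L1 A ha hc x y h
    · exact good5_L3 A hs hs0 ha hc x y h
  · rw [hx0, mul_one] at h ⊢
    rcases eq_or_ne t 0 with rfl | ht
    · rw [aL_zero, one_mul] at h ⊢
      exact good5_L1 A ha hc x y h
    · exact good5_L4 A ha hc t x y ht h

end Cfsg.Agent.Lib.RankOne.Triality.Invol
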