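import Cfsg.Agent.Lib.RankOne.TrialityInvolClass

/-!
The two classes of involutions of the triality group in characteristic two: the count.
-/

set_option autoImplicit false
set_option maxRecDepth 100000
set_option maxHeartbeats 1000000
set_option linter.unusedSectionVars false

namespace Cfsg.Agent.Lib.RankOne.Triality.Invol

open Cfsg.Lie Cfsg.Agent.Lib.Chev Cfsg.Agent.Lib.Chev.Tw Cfsg.Agent.Lib.Chev.Tw.D4
open Cfsg.Agent.Lib.RankOne.Triality

variable {K : Type*} [Field K] [Fintype K] [CharP K 2] {q : ℕ} (A : Par K q)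

set_option quotPrecheck false
local notation "GL4" => GL chevD4.Idx K
local notation "GG" => ↥(twistedD4 K q)
local notation "GX" => Chev.Good.X (Chev.Tw.Sys.G (Chev.Tw.D4.sys A)) K

include A in
theorem q_even : Even q := by
  obtain ⟨n, hp, hn⟩ := FiniteField.card K 2
  have h : q ∣ 2 ^ (n : ℕ) := by rw [← hn, A.hK]; exact dvd_pow_self q (by norm_num)
  obtain ⟨a, -, rfl⟩ := (Nat.dvd_prime_pow hp).1 h
  have := A.hq.one_lt
  rcases a with _ | a
  · simp at this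
  · exact Nat.even_pow.2 ⟨even_two, Nat.succ_ne_zero a⟩

include A in
theorem into_pos {g : GG} (hg : g * g = 1) :
    ∃ h : GG, ((h * g * h⁻¹ : GG) : GL4) ∈ chevD4.posUnipotent K ⊓ twistedD4 K q := by
  classical
  let P : Subgroup GG := (chevD4.posUnipotent K).subgroupOf (twistedD4 K q)
  have hP : Nat.card ↥P = q ^ 12 := by
    have h1 : Nat.card ↥P = Nat.card ↥((chevD4.posUnipotent K ⊓ twistedD4 K q).subgroupOf (twistedD4 K q)) := by
      rw [Subgroup.inf_subgroupOf_right]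
    rw [h1, Nat.card_congr (Subgroup.subgroupOfEquivOfLe inf_le_right).toEquiv]
    have h := (gens A).card_pos (q := q) (e := fun k => [1, 3].getD k 0) (flips A)
    rw [gens_G1] at h
    rw [h]
    simp [gens]
  have hodd : ¬ 2 ∣ Fintype.card (GG ⧸ P) := by
    rw [← Nat.card_eq_fintype_card]
    have h := P.card_mul_index
    rw [hP, card_group A, Subgroup.index, mul_assoc, mul_assoc] at h
    have hq0 : 0 < q := A.hq.one_lt.le
    rw [Nat.eq_of_mul_eq_mul_left (Nat.pow_pos hq0) h, ← even_iff_two_dvd]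
    have he := q_even A
    have h2 : Even (q ^ 2) := Nat.even_pow.2 ⟨he, by norm_num⟩
    have h6 : Even (q ^ 6) := Nat.even_pow.2 ⟨he, by norm_num⟩
    have h8 : Even (q ^ 8 + q ^ 4) := (Nat.even_pow.2 ⟨he, by norm_num⟩).add (Nat.even_pow.2 ⟨he, by norm_num⟩)
    rw [Nat.even_mul, Nat.even_mul, Nat.even_sub (Nat.one_le_pow _ _ hq0), Nat.even_sub (Nat.one_le_pow _ _ hq0),
      Nat.even_add_one]
    simp [h2, h6, h8]
  let σ : Equiv.Perm (GG ⧸ P) := MulAction.toPerm g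
  have hσ : σ ^ 2 ^ 1 = 1 := by
    refine Equiv.ext fun x => ?_
    show g • g • x = x
    rw [← mul_smul, hg, one_smul]
  obtain ⟨x, hx⟩ := σ.exists_fixed_point_of_prime hodd hσ
  obtain ⟨y, rfl⟩ := QuotientGroup.mk_surjective x
  have h1 : (QuotientGroup.mk y : GG ⧸ P) = QuotientGroup.mk (g * y) := hx.symm
  refine ⟨y⁻¹, ?_, SetLike.coe_mem _⟩
  have h2 := QuotientGroup.eq.1 h1
  rw [inv_inv, mul_assoc]
  exact h2

theorem z_mem : eL A 0 1 0 ∈ twistedD4 K q := eL_mem A (zero_mem _) (one_mem _) 0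
theorem x_mem : eL A 0 0 1 ∈ twistedD4 K q := eL_mem A (zero_mem _) (zero_mem _) 1

theorem wt_surj {y : K} (hy : y ≠ 0) : ∃ t : Kˣ, wt A t * y = 1 := by
  let f : Kˣ →* Kˣ :=
    { toFun := fun t => phu A t * phu A (phu A t) * t⁻¹
      map_one' := by simp
      map_mul' := fun a b => by simp only [map_mul, mul_inv_rev]; ac_rfl }
  have hf : Function.Injective f := (injective_iff_map_eq_one f).2 fun t ht => by
    have h1 : phu A t * phu A (phu A t) = t := mul_inv_eq_one.1 ht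
    have h2 : A.phi t * A.phi (A.phi t) = (t : K) := congrArg Units.val h1
    have h3 : A.phi ((t : K) * t) = (t : K) * t := by
      conv_lhs => rw [show (t : K) * t = t * (A.phi t * A.phi (A.phi t)) by rw [h2]]
      rw [map_mul, map_mul, phi3]
      linear_combination (t : K) * h2
    have h4 : A.phi (t : K) = t := CharTwo.sq_injective (show A.phi (t : K) ^ 2 = (t : K) ^ 2 by
      rw [sq, sq, ← map_mul, h3])
    rw [h4, h4] at h2
    exact Units.ext ((mul_eq_left₀ t.ne_zero).1 h2)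
  obtain ⟨t, ht⟩ := Finite.surjective_of_injective hf (Units.mk0 y hy)⁻¹
  refine ⟨t, ?_⟩
  have e : (f t : K) = wt A t := by simp [f, wt]; rfl
  rw [← e, ht, Units.val_inv_eq_inv_val, Units.val_mk0, inv_mul_cancel₀ hy]

theorem to_rep {g : GL4} (hg : Good5 A g) (hg1 : g ≠ 1) :
    ∃ h ∈ twistedD4 K q, h * g * h⁻¹ = eL A 0 1 0 ∨ h * g * h⁻¹ = eL A 0 0 1 := by
  obtain ⟨h, hh, a, c, y, ha, hc, e⟩ := hg
  have hne : eL A a c y ≠ 1 := fun h0 => hg1 (conj_eq_one_iff.1 (e.trans h0))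
  suffices ∃ k ∈ twistedD4 K q, k * eL A a c y * k⁻¹ = eL A 0 1 0 ∨ k * eL A a c y * k⁻¹ = eL A 0 0 1 by
    obtain ⟨k, hk, e'⟩ := this
    refine ⟨k * h, mul_mem hk hh, ?_⟩
    rwa [show k * h * g * (k * h)⁻¹ = k * eL A a c y * k⁻¹ by rw [← e]; group]
  rcases eq_or_ne y 0 with rfl | hy
  · have key : ∀ c₀ : K, c₀ ∈ Fq A → c₀ ≠ 0 → ∃ k ∈ twistedD4 K q, k * eL A 0 c₀ 0 * k⁻¹ = eL A 0 1 0 := by
      intro c₀ hc₀ h0
      have hfix : phu A (Units.mk0 c₀ h0)⁻¹ = (Units.mk0 c₀ h0)⁻¹ := by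
        rw [map_inv]; congr 1; exact Units.ext ((mem_Fq A).1 hc₀)
      refine ⟨_, torHom_par_mem A 1 _ hfix, ?_⟩
      show torL A _ _ * _ * (torL A _ _)⁻¹ = _
      rw [torL_eL, mul_zero, mul_zero, Units.val_inv_eq_inv_val, Units.val_mk0, inv_mul_cancel₀ h0]
    rcases eq_or_ne a 0 with rfl | ha0
    · have hc0 : c ≠ 0 := fun h0 => hne (by rw [h0, eL_zero])
      obtain ⟨k, hk, e'⟩ := key c hc hc0
      exact ⟨k, hk, Or.inl e'⟩
    · obtain ⟨k, hk, e'⟩ := key a ha ha0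
      have hu : c / a ∈ Fq A := div_mem hc ha
      refine ⟨k * nbL A * xbL A (c / a), mul_mem (mul_mem hk (nb_mem A)) (xbL_mem A hu), Or.inl ?_⟩
      rw [← e', show k * nbL A * xbL A (c / a) * eL A a c 0 * (k * nbL A * xbL A (c / a))⁻¹ =
        k * (nbL A * (xbL A (c / a) * eL A a c 0 * (xbL A (c / a))⁻¹) * (nbL A)⁻¹) * k⁻¹ by group,
        xb_eL, div_mul_cancel₀ _ ha0, CharTwo.add_self_eq_zero, nb_eL, neg_zero]
  · obtain ⟨t, ht⟩ := exists_tr A ha hy
    obtain ⟨x, hx⟩ := exists_tr A hc hy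
    obtain ⟨w, hw⟩ := wt_surj A hy
    have hm : torL A w 1 ∈ twistedD4 K q := torHom_par_mem A w 1 (map_one _)
    refine ⟨torL A w 1 * sL A x * aL A t, mul_mem (mul_mem hm (sL_mem A x)) (aL_mem A t), Or.inr ?_⟩
    rw [show torL A w 1 * sL A x * aL A t * eL A a c y * (torL A w 1 * sL A x * aL A t)⁻¹ =
      torL A w 1 * (sL A x * (aL A t * eL A a c y * (aL A t)⁻¹) * (sL A x)⁻¹) * (torL A w 1)⁻¹ by group,
      xa, xs, mul_comm t, ht, mul_comm x, hx, CharTwo.add_self_eq_zero, CharTwo.add_self_eq_zero, torL_eL, mul_zero,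
      mul_zero, hw]

theorem conj_pos {u : GL4} (hu : u ∈ chevD4.posUnipotent K ⊓ twistedD4 K q) (a c y : K) :
    ∃ t s x, u * eL A a c y * u⁻¹ = eL A (a + trK A (t * y)) (c + trK A (x * y) + s * a) y := by
  obtain ⟨t, s, x, a', c', y', -, -, -, rfl⟩ := pos_decomp A hu
  refine ⟨t, s, x, ?_⟩
  rw [← conj_outer, show aL A t * xbL A s * sL A x * eL A a' c' y' * eL A a c y *
      (aL A t * xbL A s * sL A x * eL A a' c' y')⁻¹ =
    aL A t * xbL A s * sL A x * (eL A a' c' y' * eL A a c y * (eL A a' c' y')⁻¹) *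
      (aL A t * xbL A s * sL A x)⁻¹ by group, eL_inv, eL_mul, eL_mul]
  congr 2
  congr 1 <;> ring_nf <;> simp [two0]

theorem rho_fixed {r : ℕ} (h1 : 12 ≤ r) (h2 : r < 24) (h : twD4.S.rho r = r) : r = 14 ∨ r = 22 ∨ r = 23 := by
  have : ∀ i : Fin 24, 12 ≤ i.val → twD4.S.rho i.val = i.val → i.val = 14 ∨ i.val = 22 ∨ i.val = 23 := by
    decide +kernel
  exact this ⟨r, h2⟩ h1 h

theorem not_conj {h : GL4} (hh : h ∈ twistedD4 K q) : h * eL A 0 1 0 * h⁻¹ ≠ eL A 0 0 1 := by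
  intro e
  obtain ⟨u₁, m, u₂, p1, g1, hmo, gm, p2, g2, rfl⟩ := (gens A).normal_form (g := h) hh
  rw [gens_G1] at g1 gm g2
  obtain ⟨t, s, x, e2⟩ := conj_pos A (Subgroup.mem_inf.2 ⟨p2.1, g2⟩) 0 1 0
  simp only [mul_zero, trK, map_zero, add_zero] at e2
  obtain ⟨t', s', x', e1⟩ := conj_pos A (inv_mem (Subgroup.mem_inf.2 ⟨p1, g1⟩)) 0 0 1
  rw [inv_inv] at e1
  have e3 : m * GX 23 1 * m⁻¹ = u₁⁻¹ * eL A 0 0 1 * u₁ := by
    rw [X23_eq, ← eL_c A, ← e]
    calc m * eL A 0 1 0 * m⁻¹ = m * (u₂ * eL A 0 1 0 * u₂⁻¹) * m⁻¹ := by rw [e2]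
      _ = _ := by group
  obtain ⟨l, hl⟩ := (sys A).G.exists_rep hmo
  obtain ⟨hr, d, hd, hact⟩ := (sys A).G.rep_act hl 23 (show (23 : ℕ) < chevD4.nroots by decide)
  set r := wl tabD4 l 23
  have e4 : GX r d = u₁⁻¹ * eL A 0 0 1 * u₁ := by rw [← e3, hact, mul_one]
  have hxm : u₁⁻¹ * eL A 0 0 1 * u₁ ∈ twistedD4 K q := mul_mem (mul_mem (inv_mem g1) (x_mem A)) g1
  have hfix : (sys A).sg (GX r d) = GX r d := by
    rw [e4]
    exact ((gens A).le_Fx (show u₁⁻¹ * eL A 0 0 1 * u₁ ∈ (gens A).G1 from hxm)).2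
  rw [(sys A).sg_X hr] at hfix
  have hrho : twD4.S.rho r = r :=
    (sys A).G.X_root_inj (Sys.rho_lt hr (sys A)) hr ((sys A).par_ne_zero hr hd) hfix
  have hp : GX r d ∈ chevD4.posUnipotent K := by
    rw [e4]
    refine mul_mem (mul_mem (inv_mem p1) ?_) p1
    rw [eL, E5]
    repeat' first
      | exact (sys A).G.X_mem_posUnipotent (show _ < chevD4.nroots by decide) (by decide) _
      | apply Subgroup.mul_mem
  have h12 : 12 ≤ r := by
    by_contra hlt
    have hn : r < npos chevD4 := by rw [show npos chevD4 = 12 by decide]; omega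
    exact hd (((sys A).G.X_eq_one_iff hr d).1 ((sys A).pos_neg_trivial hp ((sys A).G.X_mem_negUnipotent hr hn d)))
  rw [e1] at e4
  rcases rho_fixed h12 hr hrho with h14 | h22 | h23
  · rw [h14] at e4
    have hc : xbL A d * eL A 1 0 0 * (xbL A d)⁻¹ = eL A 1 0 0 := by
      rw [xbL, e4, eL_inv, eL_mul, eL_mul]
      congr 1 <;> ring_nf <;> simp [two0]
    rw [xb_eL] at hc
    exact hd (by simpa using (eL_inj A hc).2.1)
  · rw [h22, X22_eq, ← eL_a] at e4
    exact zero_ne_one (eL_inj A e4).2.2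
  · rw [h23, X23_eq, ← eL_c] at e4
    exact zero_ne_one (eL_inj A e4).2.2

include A in
theorem class_count : (ConjClasses.mk '' {g : GG | orderOf g = 2}).ncard = 2 := by
  set z : GG := ⟨eL A 0 1 0, z_mem A⟩
  set x : GG := ⟨eL A 0 0 1, x_mem A⟩
  have hord : ∀ {a c y : K} (hm : eL A a c y ∈ twistedD4 K q), (a, c, y) ≠ (0, 0, 0) →
      orderOf (⟨eL A a c y, hm⟩ : GG) = 2 := fun {a c y} hm hne => by
    refine orderOf_eq_prime (Subtype.ext ?_) fun h1 => ?_
    · show (eL A a c y) ^ 2 = 1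
      rw [sq]
      rw [eL_mul, CharTwo.add_self_eq_zero, CharTwo.add_self_eq_zero, CharTwo.add_self_eq_zero, eL_zero]
    · obtain ⟨h1, h2, h3⟩ := eL_eq_one A (congrArg Subtype.val h1)
      exact hne (by rw [h1, h2, h3])
  have hset : ConjClasses.mk '' {g : GG | orderOf g = 2} = {ConjClasses.mk z, ConjClasses.mk x} := by
    refine Set.Subset.antisymm ?_ ?_
    · rintro _ ⟨g, hg, rfl⟩
      have hg' : orderOf g = 2 := hg
      have hsq : g * g = 1 := by rw [← sq, ← hg', pow_orderOf_eq_one]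
      obtain ⟨h, hp⟩ := into_pos A hsq
      have h2 : (h * g * h⁻¹) * (h * g * h⁻¹) = 1 := by
        rw [show h * g * h⁻¹ * (h * g * h⁻¹) = h * (g * g) * h⁻¹ by group, hsq]; group
      have hne : ((h * g * h⁻¹ : GG) : GL4) ≠ 1 := fun h1 => by
        have h3 : g = 1 := conj_eq_one_iff.1 (Subtype.ext h1 : h * g * h⁻¹ = 1)
        rw [h3, orderOf_one] at hg'
        exact absurd hg' (by norm_num)
      obtain ⟨k, hk, hk'⟩ := to_rep A (good5_of_pos A hp (congrArg Subtype.val h2)) hne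
      rcases hk' with e | e
      · refine Or.inl (ConjClasses.mk_eq_mk_iff_isConj.2 (isConj_iff.2 ⟨⟨k, hk⟩ * h, Subtype.ext ?_⟩))
        show _ = eL A 0 1 0
        rw [← e]; simp [mul_assoc]
      · refine Or.inr (ConjClasses.mk_eq_mk_iff_isConj.2 (isConj_iff.2 ⟨⟨k, hk⟩ * h, Subtype.ext ?_⟩))
        show _ = eL A 0 0 1
        rw [← e]; simp [mul_assoc]
    · rintro _ (rfl | rfl)
      · exact ⟨z, hord (z_mem A) (by simp), rfl⟩
      · exact ⟨x, hord (x_mem A) (by simp), rfl⟩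
  rw [hset, Set.ncard_pair]
  intro hh
  obtain ⟨c, hc⟩ := isConj_iff.1 (ConjClasses.mk_eq_mk_iff_isConj.1 hh)
  exact not_conj A c.2 (congrArg Subtype.val hc)

end Cfsg.Agent.Lib.RankOne.Triality.Invol
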