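import Cfsg.Agent.Lib.RankOne.TrialityBasic
import Cfsg.Agent.Lib.Chev.SL2

/-!
The Levi subgroup of the long fundamental root in the triality group as the image of the group of
pairs of a two by two matrix and a scalar with determinant equal to the norm.
-/

set_option autoImplicit false
set_option maxRecDepth 100000
set_option maxHeartbeats 1000000

namespace Cfsg.Agent.Lib.RankOne.Triality

open Cfsg.Lie Cfsg.Agent.Lib.Chev Cfsg.Agent.Lib.Chev.Tw Cfsg.Agent.Lib.Chev.Tw.D4
open scoped Matrix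

variable {K : Type*} [Field K] [Fintype K] {q : ℕ} (A : Par K q)

set_option quotPrecheck false
local notation "GL4" => GL chevD4.Idx K
local notation "GX" => Chev.Good.X (Chev.Tw.Sys.G (Chev.Tw.D4.sys A)) K
local notation "kq" => ↥(Fq A)
local notation "SL2" => Matrix.SpecialLinearGroup (Fin 2) ↥(Fq A)

/-- The norm to the fixed field. -/
def nm : Kˣ →* (kq)ˣ where
  toFun t := Units.mk0
    ⟨(t : K) * A.phi t * A.phi (A.phi t), (mem_Fq A).2 (by rw [map_mul, map_mul, phi3]; ring)⟩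
    (fun h => by simpa [t.ne_zero] using congrArg Subtype.val h)
  map_one' := Units.ext (Subtype.ext (by simp))
  map_mul' s t := Units.ext (Subtype.ext (by simp; ring))

theorem nm_val (t : Kˣ) : (((nm A t : (kq)ˣ) : kq) : K) = (t : K) * A.phi t * A.phi (A.phi t) := rfl

/-- The inclusion on units. -/
def inU : (kq)ˣ →* Kˣ := Units.map (Fq A).subtype

theorem inU_val (a : (kq)ˣ) : ((inU A a : Kˣ) : K) = ((a : kq) : K) := rfl

theorem phu_inU (a : (kq)ˣ) : phu A (inU A a) = inU A a :=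
  Units.ext ((mem_Fq A).1 (a : kq).2)

/-- The groups of pairs. -/
def pairs : Subgroup (GL (Fin 2) kq × Kˣ) :=
  MonoidHom.eqLocus (Matrix.GeneralLinearGroup.det.comp (MonoidHom.fst _ _))
    ((nm A).comp (MonoidHom.snd _ _))

/-- The diagonal correction. -/
def dg : (kq)ˣ →* GL (Fin 2) kq where
  toFun c := ⟨Matrix.diagonal ![1, (c : kq)], Matrix.diagonal ![1, ((c⁻¹ : (kq)ˣ) : kq)],
    by rw [Matrix.diagonal_mul_diagonal, ← Matrix.diagonal_one]; congr 1; funext i; fin_cases i <;> simp,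
    by rw [Matrix.diagonal_mul_diagonal, ← Matrix.diagonal_one]; congr 1; funext i; fin_cases i <;> simp⟩
  map_one' := Units.ext (by
    show Matrix.diagonal _ = 1
    rw [← Matrix.diagonal_one]; congr 1; funext i; fin_cases i <;> simp)
  map_mul' a b := Units.ext (by
    show Matrix.diagonal _ = Matrix.diagonal _ * Matrix.diagonal _
    rw [Matrix.diagonal_mul_diagonal]; congr 1; funext i; fin_cases i <;> simp)

theorem det_dg (c : (kq)ˣ) : Matrix.GeneralLinearGroup.det (dg A c) = c := Units.ext (by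
  show Matrix.det (Matrix.diagonal _) = _
  simp [Matrix.det_diagonal, Fin.prod_univ_two])

/-- The determinant one part of a pair. -/
def cor (p : pairs A) : SL2 :=
  ⟨(dg A (nm A p.1.2)⁻¹ * p.1.1 : GL (Fin 2) kq), by
    have h : Matrix.GeneralLinearGroup.det p.1.1 = nm A p.1.2 := p.2
    have h2 : Matrix.GeneralLinearGroup.det (dg A (nm A p.1.2)⁻¹ * p.1.1) = 1 := by
      rw [map_mul, det_dg, h, inv_mul_cancel]
    exact congrArg Units.val h2⟩

theorem toGL_cor (p : pairs A) : Matrix.SpecialLinearGroup.toGL (cor A p) =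
    dg A (nm A p.1.2)⁻¹ * p.1.1 := Units.ext rfl

theorem h14 : 14 < chevD4.nroots := by decide

/-- The homomorphism onto the long root subgroup pair. -/
noncomputable def ph : SL2 →* GL4 :=
  ((sys A).G.phi (F := K) h14).comp (Matrix.SpecialLinearGroup.map (Fq A).subtype)

theorem map_su (x : kq) : Matrix.SpecialLinearGroup.map (Fq A).subtype (su x) = su (x : K) := by
  refine Subtype.ext ?_
  show (su x : Matrix (Fin 2) (Fin 2) kq).map _ = _
  ext i j
  fin_cases i <;> fin_cases j <;> simp [su]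

theorem map_sl (x : kq) : Matrix.SpecialLinearGroup.map (Fq A).subtype (sl x) = sl (x : K) := by
  refine Subtype.ext ?_
  show (sl x : Matrix (Fin 2) (Fin 2) kq).map _ = _
  ext i j
  fin_cases i <;> fin_cases j <;> simp [sl]

theorem ph_su (x : kq) : ph A (su x) = xbL A x := by
  rw [ph, MonoidHom.comp_apply, map_su, (sys A).G.phi_su, xbL]

theorem ng14 : ng chevD4 14 = 9 := by decide +kernel

theorem ph_sl (x : kq) : ph A (sl x) = GX 9 (x : K) := by
  rw [ph, MonoidHom.comp_apply, map_sl, (sys A).G.phi_sl, ng14]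

theorem sim1 : sim chevD4 1 = 14 := by decide +kernel

theorem nbL_eq : nbL A = (sys A).G.Ng K 14 1 := by
  rw [nbL, (sys A).G.nl_cons, (sys A).G.nl_nil, mul_one, Good.ni, sim1]

theorem ph_sn : ph A sn = nbL A := by
  rw [nbL_eq, sn, map_mul, map_mul, ph_su, ph_sl]
  show GX 14 ((1 : kq) : K) * GX 9 _ * GX 14 ((1 : kq) : K) = GX 14 1 * GX (ng chevD4 14) (-1⁻¹) * GX 14 1
  rw [ng14]; simp

theorem sl2_closure : Subgroup.closure (Set.range (su (F := kq)) ∪ {sn}) = (⊤ : Subgroup SL2) := by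
  refine eq_top_iff.2 fun g _ => ?_
  obtain ⟨⟨x, hx⟩, e⟩ := ((sys A).G.graph_fst_bijective (F := kq) h14).2 g
  have e' : x.1 = g := e
  rw [← e']
  have hle : (sys A).G.graph (F := kq) h14 ≤
      (Subgroup.closure (Set.range (su (F := kq)) ∪ {sn})).comap (MonoidHom.fst _ _) := by
    refine (Subgroup.closure_le _).2 ?_
    rintro y (⟨t, rfl⟩ | rfl)
    · exact Subgroup.subset_closure (Or.inl ⟨t, rfl⟩)
    · exact Subgroup.subset_closure (Or.inr rfl)
  exact hle hx

theorem ph_mem (M : SL2) : ph A M ∈ twistedD4 K q := by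
  have : (⊤ : Subgroup SL2) ≤ (twistedD4 K q).comap (ph A) := by
    rw [← sl2_closure A, Subgroup.closure_le]
    rintro y (⟨t, rfl⟩ | rfl)
    · show ph A (su t) ∈ twistedD4 K q
      rw [ph_su]; exact xbL_mem A t.2
    · show ph A sn ∈ twistedD4 K q
      rw [ph_sn]; exact nb_mem A
  exact this (Subgroup.mem_top M)

/-- Conjugation by the diagonal correction. -/
def cj (c : (kq)ˣ) : SL2 →* SL2 where
  toFun M := ⟨(dg A c * Matrix.SpecialLinearGroup.toGL M * (dg A c)⁻¹ : GL (Fin 2) kq), by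
    rw [← Matrix.GeneralLinearGroup.val_det_apply, map_mul, map_mul, map_inv, mul_inv_cancel_comm]
    exact M.2⟩
  map_one' := Subtype.ext (by simp)
  map_mul' M N := Subtype.ext (by
    show ((dg A c * Matrix.SpecialLinearGroup.toGL (M * N) * (dg A c)⁻¹ : GL (Fin 2) kq) :
        Matrix (Fin 2) (Fin 2) kq) =
      ((dg A c * Matrix.SpecialLinearGroup.toGL M * (dg A c)⁻¹ : GL (Fin 2) kq) : Matrix _ _ _) *
        ((dg A c * Matrix.SpecialLinearGroup.toGL N * (dg A c)⁻¹ : GL (Fin 2) kq) : Matrix _ _ _)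
    rw [← Units.val_mul, map_mul]; congr 1; group)

theorem toGL_cj (c : (kq)ˣ) (M : SL2) : Matrix.SpecialLinearGroup.toGL (cj A c M) =
    dg A c * Matrix.SpecialLinearGroup.toGL M * (dg A c)⁻¹ := Units.ext rfl

theorem cj_su (c : (kq)ˣ) (x : kq) : cj A c (su x) = su (x * ((c⁻¹ : (kq)ˣ) : kq)) := by
  refine Subtype.ext ?_
  show Matrix.diagonal _ * (su x : Matrix (Fin 2) (Fin 2) kq) * Matrix.diagonal _ = _
  ext i j
  fin_cases i <;> fin_cases j <;> simp [su, mul_comm]

theorem cj_sl (c : (kq)ˣ) (x : kq) : cj A c (sl x) = sl ((c : kq) * x) := by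
  refine Subtype.ext ?_
  show Matrix.diagonal _ * (sl x : Matrix (Fin 2) (Fin 2) kq) * Matrix.diagonal _ = _
  ext i j
  fin_cases i <;> fin_cases j <;> simp [sl, mul_comm]

theorem tor14 (u : Kˣ) : tor chevD4 tabD4 (extOne chevD4 (par A u 1)) 14 =
    ((((nm A u)⁻¹ : (kq)ˣ) : kq) : K) := by
  rw [(tor_par A u 1).2.1, Units.val_inv_eq_inv_val]
  simp [nm_val]

theorem tor9 (u : Kˣ) : tor chevD4 tabD4 (extOne chevD4 (par A u 1)) 9 =
    (((nm A u : (kq)ˣ) : kq) : K) := by
  have e0 : extOne chevD4 (par A u 1) 0 = (u : K) := rfl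
  have e1 : extOne chevD4 (par A u 1) 1 = ((1 : Kˣ) : K) := rfl
  have e2 : extOne chevD4 (par A u 1) 2 = A.phi u := rfl
  have e3 : extOne chevD4 (par A u 1) 3 = A.phi (A.phi u) := rfl
  simp [tor_expand, e0, e1, e2, e3, nm_val,
    show tabD4.A 0 9 = 1 from rfl, show tabD4.A 1 9 = -2 from rfl,
    show tabD4.A 2 9 = 1 from rfl, show tabD4.A 3 9 = 1 from rfl]

theorem ph_cj (u : Kˣ) (M : SL2) :
    torL A u 1 * ph A (cj A (nm A u)⁻¹ M) * (torL A u 1)⁻¹ = ph A M := by
  have : (⊤ : Subgroup SL2) ≤ MonoidHom.eqLocus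
      ((MulAut.conj (torL A u 1)).toMonoidHom.comp ((ph A).comp (cj A (nm A u)⁻¹))) (ph A) := by
    have hsu : ∀ x, (MulAut.conj (torL A u 1)) (ph A (cj A (nm A u)⁻¹ (su x))) = ph A (su x) := by
      intro x
      rw [MulAut.conj_apply, cj_su, ph_su, ph_su, xbL, torL_X A (by decide), tor14, xbL]
      congr 1
      rw [inv_inv, Subfield.coe_mul, Units.val_inv_eq_inv_val, Subfield.coe_inv]
      have : (((nm A u : (kq)ˣ) : kq) : K) ≠ 0 := by
        simp
      field_simp
    have hsl : ∀ x, (MulAut.conj (torL A u 1)) (ph A (cj A (nm A u)⁻¹ (sl x))) = ph A (sl x) := by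
      intro x
      rw [MulAut.conj_apply, cj_sl, ph_sl, ph_sl, torL_X A (by decide), tor9]
      congr 1
      rw [Subfield.coe_mul, Units.val_inv_eq_inv_val, Subfield.coe_inv]
      have : (((nm A u : (kq)ˣ) : kq) : K) ≠ 0 := by
        simp
      field_simp
    rw [← sl2_closure A, Subgroup.closure_le]
    rintro y (⟨t, rfl⟩ | rfl)
    · exact hsu t
    · exact (MonoidHom.eqLocus _ _).mul_mem ((MonoidHom.eqLocus _ _).mul_mem (hsu 1) (hsl _)) (hsu 1)
  have h := this (Subgroup.mem_top M)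
  exact h

theorem torL_one : torL A 1 1 = 1 := by
  have : par A (1 : Kˣ) 1 = 1 := by
    funext j
    obtain ⟨j, hj⟩ := j
    have h4 : chevD4.rank = 4 := rfl
    match j, hj with
    | 0, _ => rfl
    | 1, _ => rfl
    | 2, _ => exact map_one (phu A)
    | 3, _ => exact (congrArg (phu A) (map_one _)).trans (map_one _)
    | n + 4, h => omega
  rw [torL, this, map_one]

theorem torL_mul (s a t b : Kˣ) : torL A s a * torL A t b = torL A (s * t) (a * b) := by
  rw [torL, torL, torL, ← map_mul]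
  congr 1
  funext j
  obtain ⟨j, hj⟩ := j
  have h4 : chevD4.rank = 4 := rfl
  match j, hj with
  | 0, _ => rfl
  | 1, _ => rfl
  | 2, _ => exact (map_mul (phu A) _ _).symm
  | 3, _ => exact ((congrArg (phu A) (map_mul (phu A) _ _)).trans (map_mul _ _ _)).symm
  | n + 4, h => omega

/-- The homomorphism onto the Levi subgroup. -/
noncomputable def psi : pairs A →* GL4 where
  toFun p := torL A p.1.2 1 * ph A (cor A p)
  map_one' := by
    have : cor A 1 = 1 := Matrix.SpecialLinearGroup.toGL_injective (by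
      rw [toGL_cor]; simp)
    rw [this, map_one, mul_one]
    exact torL_one A
  map_mul' p r := by
    have e : cor A (p * r) = cj A (nm A r.1.2)⁻¹ (cor A p) * cor A r :=
      Matrix.SpecialLinearGroup.toGL_injective (by
        rw [map_mul, toGL_cj, toGL_cor, toGL_cor, toGL_cor, Subgroup.coe_mul, Prod.fst_mul,
          Prod.snd_mul, map_mul, mul_inv_rev, map_mul]
        group)
    rw [e, map_mul]
    calc torL A (p * r).1.2 1 * (ph A (cj A (nm A r.1.2)⁻¹ (cor A p)) * ph A (cor A r))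
        = torL A p.1.2 1 * (torL A r.1.2 1 * ph A (cj A (nm A r.1.2)⁻¹ (cor A p)) *
            (torL A r.1.2 1)⁻¹) * (torL A r.1.2 1 * ph A (cor A r)) := by
          rw [Subgroup.coe_mul, Prod.snd_mul,
            show torL A (p.1.2 * r.1.2) 1 = torL A p.1.2 1 * torL A r.1.2 1 by
              rw [torL_mul, mul_one]]
          group
      _ = _ := by rw [ph_cj]

theorem psi_apply (p : pairs A) : psi A p = torL A p.1.2 1 * ph A (cor A p) := rfl

theorem psi_mem (p : pairs A) : psi A p ∈ twistedD4 K q :=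
  mul_mem (torHom_par_mem A _ 1 (map_one _)) (ph_mem A _)

/-! ### Faithfulness -/

/-- The pairs of coordinates as elements. -/
def eV (v : Fin 2 → kq) : GL4 := eL A (v 1 : K) (v 0 : K) 0

theorem eV_add (v w : Fin 2 → kq) : eV A v * eV A w = eV A (v + w) := by
  rw [eV, eV, eV, eL_mul, add_zero]
  rfl

theorem eV_zero : eV A 0 = 1 := by
  have h := eV_add A 0 0
  rw [add_zero] at h
  exact mul_eq_left.1 h

theorem eV_eq_one {v : Fin 2 → kq} (h : eV A v = 1) : v = 0 := by
  have h1 : eL A (v 1 : K) (v 0 : K) 0 = 1 := h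
  have h2 := xb_eL A 1 (v 1 : K) (v 0 : K) 0
  rw [h1, mul_one, mul_inv_cancel, one_mul] at h2
  have h3 : eL A 0 (v 1 : K) 0 = 1 := by
    have := eL_mul A (v 1 : K) (v 0 : K) 0 0 (v 1 : K) 0
    rw [h1, one_mul, add_zero, add_zero] at this
    rw [this, ← h2]
  have v1 : (v 1 : K) = 0 := by
    by_contra hne
    exact eL_ne_one A hne h3
  have v0 : (v 0 : K) = 0 := by
    by_contra hne
    rw [v1] at h1
    exact eL_ne_one A hne h1
  funext i
  fin_cases i
  · exact Subtype.ext v0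
  · exact Subtype.ext v1

theorem eV_inj {v w : Fin 2 → kq} (h : eV A v = eV A w) : v = w := by
  have h2 := eV_add A (v - w) w
  rw [sub_add_cancel, ← h, mul_eq_right] at h2
  exact sub_eq_zero.1 (eV_eq_one A h2)

theorem ph_eV (M : SL2) (v : Fin 2 → kq) :
    ph A M * eV A v * (ph A M)⁻¹ = eV A ((M : Matrix (Fin 2) (Fin 2) kq) *ᵥ v) := by
  have hg : ∀ M ∈ Subgroup.closure (Set.range (su (F := kq)) ∪ {sn}), ∀ v,
      ph A M * eV A v * (ph A M)⁻¹ = eV A ((M : Matrix (Fin 2) (Fin 2) kq) *ᵥ v) := by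
    intro M hM
    induction hM using Subgroup.closure_induction with
    | mem y hy =>
      intro v
      rcases hy with ⟨t, rfl⟩ | rfl
      · rw [ph_su, eV, xb_eL, eV]
        congr 1
        · simp [su, Matrix.mulVec, dotProduct, Fin.sum_univ_two]
        · simp [su, Matrix.mulVec, dotProduct, Fin.sum_univ_two]
      · rw [ph_sn, eV, nb_eL, eV, sn_val]
        congr 1
        · simp [Matrix.mulVec, dotProduct, Fin.sum_univ_two]
        · simp [Matrix.mulVec, dotProduct, Fin.sum_univ_two]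
    | one => intro v; simp
    | mul x y _ _ hx hy =>
      intro v
      rw [map_mul, Matrix.SpecialLinearGroup.coe_mul, ← Matrix.mulVec_mulVec, ← hx, ← hy]
      group
    | inv x _ hx =>
      intro v
      have h := hx (((x⁻¹ : SL2) : Matrix (Fin 2) (Fin 2) kq) *ᵥ v)
      rw [Matrix.mulVec_mulVec, ← Matrix.SpecialLinearGroup.coe_mul, mul_inv_cancel,
        Matrix.SpecialLinearGroup.coe_one, Matrix.one_mulVec] at h
      rw [map_inv, ← h]
      group
  exact hg M (by rw [sl2_closure A]; exact Subgroup.mem_top M) v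

theorem psi_eV (p : pairs A) (v : Fin 2 → kq) :
    psi A p * eV A v * (psi A p)⁻¹ = eV A ((p.1.1 : Matrix (Fin 2) (Fin 2) kq) *ᵥ v) := by
  have e : psi A p * eV A v * (psi A p)⁻¹ = torL A p.1.2 1 *
      (ph A (cor A p) * eV A v * (ph A (cor A p))⁻¹) * (torL A p.1.2 1)⁻¹ := by
    rw [psi_apply]; group
  have e2 : ((p.1.1 : Matrix (Fin 2) (Fin 2) kq) *ᵥ v) =
      ![((cor A p : Matrix (Fin 2) (Fin 2) kq) *ᵥ v) 0,
        ((nm A p.1.2 : (kq)ˣ) : kq) * ((cor A p : Matrix (Fin 2) (Fin 2) kq) *ᵥ v) 1] := by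
    have h : p.1.1 = dg A (nm A p.1.2) * Matrix.SpecialLinearGroup.toGL (cor A p) := by
      rw [toGL_cor, ← mul_assoc, ← map_mul, mul_inv_cancel, map_one, one_mul]
    conv_lhs => rw [h, Units.val_mul, ← Matrix.mulVec_mulVec]
    funext i
    fin_cases i <;> simp [dg, Matrix.mulVec_diagonal]
  rw [e, ph_eV, eV, torL_eL, e2, eV, mul_zero]
  simp [nm_val]

theorem psi_injective : Function.Injective (psi A) := by
  rw [← MonoidHom.ker_eq_bot_iff, eq_bot_iff]
  intro p hp
  have hp' : psi A p = 1 := hp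
  have hA : (p.1.1 : Matrix (Fin 2) (Fin 2) kq) = 1 := by
    refine Matrix.ext_of_mulVec_single fun i => ?_
    rw [Matrix.one_mulVec]
    refine eV_inj A ?_
    rw [← psi_eV, hp']; simp
  have hA' : p.1.1 = 1 := Units.ext hA
  have hn : nm A p.1.2 = 1 := by
    have h : Matrix.GeneralLinearGroup.det p.1.1 = nm A p.1.2 := p.2
    rw [← h, hA', map_one]
  have hM : cor A p = 1 := Matrix.SpecialLinearGroup.toGL_injective (by
    rw [toGL_cor, hn, inv_one, map_one, one_mul, hA', map_one])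
  rw [psi_apply, hM, map_one, mul_one] at hp'
  have hfix : (sys A).tau pinv (par A p.1.2 1) = par A p.1.2 1 :=
    (fix_tau A).2 ⟨p.1.2, 1, map_one _, rfl⟩
  have hpar := congrFun (hker A _ hp' hfix) ⟨0, by decide⟩
  have ht : p.1.2 = 1 := hpar
  rw [Subgroup.mem_bot]
  exact Subtype.ext (Prod.ext hA' ht)

/-! ### The elements of the range -/

theorem c14 : tabD4.c 14 0 = 0 ∧ tabD4.c 14 1 = 1 ∧ tabD4.c 14 2 = 0 ∧ tabD4.c 14 3 = 0 := by
  decide +kernel

theorem ph_sd (a : (kq)ˣ) : ph A (sd (a : kq)) = torL A 1 (inU A a) := by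
  have ha : ((a : kq) : K) ≠ 0 := by simp
  have h1 : Matrix.SpecialLinearGroup.map (Fq A).subtype (sd (a : kq)) = sd ((a : kq) : K) := by
    refine Subtype.ext ?_
    rw [sd_val ha]
    show (sd (a : kq) : Matrix (Fin 2) (Fin 2) kq).map _ = _
    rw [sd_val a.ne_zero]
    ext i j
    fin_cases i <;> fin_cases j <;> simp
  have hm : ((sd ((a : kq) : K), (sys A).G.Hg K 14 ((a : kq) : K)) :
      Matrix.SpecialLinearGroup (Fin 2) K × GL4) ∈ (sys A).G.graph (F := K) h14 := by
    have e := ((sys A).G.pairRel (F := K) h14).flip _ ha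
    rw [eq_comm, ← eq_mul_inv_iff_mul_eq] at e
    have he : ∀ t, ((sys A).G.pairRel (F := K) h14).e t ∈ (sys A).G.graph (F := K) h14 :=
      fun t => Subgroup.subset_closure (Or.inl ⟨t, rfl⟩)
    have hn : ((sys A).G.pairRel (F := K) h14).n ∈ (sys A).G.graph (F := K) h14 :=
      Subgroup.subset_closure (Or.inr rfl)
    show ((sys A).G.pairRel (F := K) h14).h _ ∈ _
    rw [e]
    exact mul_mem (mul_mem (mul_mem (he _) (mul_mem (mul_mem hn (he _)) (inv_mem hn))) (he _))
      (inv_mem hn)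
  rw [ph, MonoidHom.comp_apply, h1, (sys A).G.phi_of_mem h14 hm]
  show (sys A).G.Hg K 14 ((a : kq) : K) = _
  rw [← inU_val,
    (sys A).Hg_eq_torHom h14, torL]
  congr 1
  funext j
  obtain ⟨j, hj⟩ := j
  have h4 : chevD4.rank = 4 := rfl
  match j, hj with
  | 0, _ => simp only [c14.1, zpow_zero]; rfl
  | 1, _ => simp only [c14.2.1, zpow_one]; rfl
  | 2, _ => simp only [c14.2.2.1, zpow_zero]; exact (map_one (phu A)).symm
  | 3, _ => simp only [c14.2.2.2, zpow_zero]
            exact ((congrArg (phu A) (map_one _)).trans (map_one _)).symm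
  | n + 4, h => omega

theorem torL_mem_range (t a : Kˣ) (ha : phu A a = a) : torL A t a ∈ (psi A).range := by
  have hm : (a : K) ∈ Fq A := (mem_Fq A).2 (congrArg Units.val ha)
  let a' : (kq)ˣ := Units.mk0 ⟨(a : K), hm⟩ (fun h => a.ne_zero (congrArg Subtype.val h))
  have hd : (sd (a' : kq) : Matrix (Fin 2) (Fin 2) kq) = !![(a' : kq), 0; 0, (a' : kq)⁻¹] :=
    sd_val a'.ne_zero
  let g : GL (Fin 2) kq := dg A (nm A t) * Matrix.SpecialLinearGroup.toGL (sd (a' : kq))
  have hg : Matrix.GeneralLinearGroup.det g = nm A t := by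
    rw [map_mul, det_dg, mul_eq_left]
    exact Units.ext (sd (a' : kq)).2
  refine ⟨⟨(g, t), hg⟩, ?_⟩
  have hc : cor A ⟨(g, t), hg⟩ = sd (a' : kq) := Matrix.SpecialLinearGroup.toGL_injective (by
    rw [toGL_cor]
    show dg A (nm A t)⁻¹ * g = _
    simp only [g]
    rw [← mul_assoc, ← map_mul, inv_mul_cancel, map_one, one_mul])
  rw [psi_apply, hc, ph_sd, torL_mul, mul_one, one_mul]
  congr 1
  exact Units.ext rfl

theorem xbL_mem_range {x : K} (hx : x ∈ Fq A) : xbL A x ∈ (psi A).range := by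
  refine ⟨⟨(Matrix.SpecialLinearGroup.toGL (su ⟨x, hx⟩), 1), ?_⟩, ?_⟩
  · show Matrix.GeneralLinearGroup.det _ = nm A 1
    rw [map_one]; exact Units.ext (su (⟨x, hx⟩ : kq)).2
  · rw [psi_apply, torL_one, one_mul]
    refine (congrArg (ph A) (Matrix.SpecialLinearGroup.toGL_injective ?_)).trans (ph_su A ⟨x, hx⟩)
    rw [toGL_cor]; simp

theorem nbL_mem_range : nbL A ∈ (psi A).range := by
  refine ⟨⟨(Matrix.SpecialLinearGroup.toGL sn, 1), ?_⟩, ?_⟩
  · show Matrix.GeneralLinearGroup.det _ = nm A 1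
    rw [map_one]; exact Units.ext (sn : SL2).2
  · rw [psi_apply, torL_one, one_mul]
    refine (congrArg (ph A) (Matrix.SpecialLinearGroup.toGL_injective ?_)).trans (ph_sn A)
    rw [toGL_cor]; simp

end Cfsg.Agent.Lib.RankOne.Triality
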