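import Cfsg.Agent.Lib.OddChar.SL2.Family

/-!
A group with a normal 3-subgroup whose maximal element orders are those of a small Ree group without
the two largest tori: the natural twisted tensor module extended by `2 × PSL₂(q)`.
-/

set_option autoImplicit false
set_option maxHeartbeats 1000000

namespace Cfsg.Agent.Lib.RankOne.TruncatedOrders

open Matrix

variable (K : Type) [Field K] [CharP K 3]

set_option quotPrecheck false
local notation "SL2" => Matrix.SpecialLinearGroup (Fin 2) K
local notation "VV" => Matrix (Fin 2) (Fin 2) K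

/-- The action of one element. -/
noncomputable def act (g : SL2) (M : VV) : VV :=
  (g : VV) * M * ((g : VV).map (frobenius K 3))ᵀ

theorem act_mul (g h : SL2) (M : VV) : act K (g * h) M = act K g (act K h M) := by
  simp only [act, Matrix.SpecialLinearGroup.coe_mul, Matrix.map_mul, Matrix.transpose_mul, Matrix.mul_assoc]

theorem act_one (M : VV) : act K 1 M = M := by
  simp [act]

theorem act_add (g : SL2) (M N : VV) : act K g (M + N) = act K g M + act K g N := by
  simp [act, Matrix.mul_add, Matrix.add_mul]

theorem act_smul (g : SL2) (c : K) (M : VV) : act K g (c • M) = c • act K g M := by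
  simp [act]

/-- The action of `SL₂ × 2`. -/
noncomputable def hom : SL2 × ℤˣ →* MulAut (Multiplicative VV) where
  toFun p :=
    { toFun := fun M => Multiplicative.ofAdd (((p.2 : ℤ) : K) • act K p.1 (Multiplicative.toAdd M))
      invFun := fun M => Multiplicative.ofAdd (((p.2 : ℤ) : K) • act K p.1⁻¹ (Multiplicative.toAdd M))
      left_inv := fun M => by
        refine Multiplicative.toAdd.injective ?_
        simp only [toAdd_ofAdd, act_smul, smul_smul, ← act_mul, inv_mul_cancel, act_one]
        rw [← Int.cast_mul, ← Units.val_mul, Int.units_mul_self, Units.val_one, Int.cast_one, one_smul]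
      right_inv := fun M => by
        refine Multiplicative.toAdd.injective ?_
        simp only [toAdd_ofAdd, act_smul, smul_smul, ← act_mul, mul_inv_cancel, act_one]
        rw [← Int.cast_mul, ← Units.val_mul, Int.units_mul_self, Units.val_one, Int.cast_one, one_smul]
      map_mul' := fun M N => by
        refine Multiplicative.toAdd.injective ?_
        simp only [toAdd_ofAdd, toAdd_mul, act_add, smul_add] }
  map_one' := MulEquiv.ext fun M => Multiplicative.toAdd.injective (by simp [act_one])
  map_mul' p p' := MulEquiv.ext fun M => Multiplicative.toAdd.injective (by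
    simp [act_mul, act_smul, smul_smul])

theorem hom_apply (p : SL2 × ℤˣ) (M : VV) :
    Multiplicative.toAdd (hom K p (Multiplicative.ofAdd M)) = ((p.2 : ℤ) : K) • act K p.1 M := rfl

/-- The group acting. -/
abbrev Im := ↥(hom K).range

/-- The group. -/
abbrev Grp := Multiplicative VV ⋊[(hom K).range.subtype] Im K

variable {K}

theorem frobenius_neg_one : (frobenius K 3) (-1) = -1 := by rw [map_neg, map_one]

theorem hom_neg_one (g : SL2) (e : ℤˣ) : hom K (-g, e) = hom K (g, e) :=
  MulEquiv.ext fun M => Multiplicative.toAdd.injective (by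
    show ((e : ℤ) : K) • act K (-g) _ = ((e : ℤ) : K) • act K g _
    congr 1
    simp [act, Matrix.map_neg (⇑(frobenius K 3)) (map_neg _)])

theorem cayley (g : SL2) : (g : VV) * (g : VV) = (g : VV).trace • (g : VV) - 1 := by
  have h := g.det_coe
  rw [Matrix.det_fin_two] at h
  ext i j
  fin_cases i <;> fin_cases j <;> simp [Matrix.mul_apply, Fin.sum_univ_two, Matrix.trace_fin_two] <;>
    first | linear_combination h | linear_combination -h | linear_combination (0 : K) * h

/-- An involution of `SL₂` is `-1`. -/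
theorem sq_eq_one_cases (h2 : (2 : K) ≠ 0) {h : SL2} (hh : h ^ 2 = 1) : h = 1 ∨ h = -1 := by
  have e : (h : VV).trace • (h : VV) - 1 = 1 := by
    rw [← cayley, ← Matrix.SpecialLinearGroup.coe_mul, ← pow_two, hh, Matrix.SpecialLinearGroup.coe_one]
  set t := (h : VV).trace
  have e' : t • (h : VV) = (2 : K) • (1 : VV) := by
    rw [sub_eq_iff_eq_add] at e
    rw [e, two_smul]
  have ht : t ≠ 0 := fun h0 => by
    rw [h0, zero_smul] at e'
    have := congrFun (congrFun e' 0) 0
    simp at this
    exact h2 this.symm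
  have eh : (h : VV) = (t⁻¹ * 2) • (1 : VV) := by
    rw [← smul_smul, ← e', smul_smul, inv_mul_cancel₀ ht, one_smul]
  have hd := h.det_coe
  rw [eh, Matrix.det_smul, Matrix.det_one, mul_one, Fintype.card_fin] at hd
  rcases sq_eq_one_iff.1 hd with hc | hc
  · left; refine Subtype.ext ?_; rw [eh, hc, one_smul]; rfl
  · right; refine Subtype.ext ?_
    rw [eh, hc, neg_one_smul, Matrix.SpecialLinearGroup.coe_neg, Matrix.SpecialLinearGroup.coe_one]

theorem three_eq_zero : (3 : K) = 0 := by
  have := CharP.cast_eq_zero K 3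
  exact_mod_cast this

/-- An element of trace `2` has order dividing 3. -/
theorem cube_eq_one {g : SL2} (ht : (g : VV).trace = 2) : g ^ 3 = 1 := by
  refine Subtype.ext ?_
  have h := cayley g
  rw [ht] at h
  rw [Matrix.SpecialLinearGroup.coe_pow, pow_succ, pow_two, h, Matrix.sub_mul, Matrix.smul_mul, h, Matrix.one_mul,
    smul_sub, smul_smul, Matrix.SpecialLinearGroup.coe_one]
  ext i j
  have h3 := three_eq_zero (K := K)
  rcases eq_or_ne i j with rfl | hij
  · simp only [Matrix.sub_apply, Matrix.smul_apply, Matrix.one_apply_eq, smul_eq_mul]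
    linear_combination ((g : VV) i i - 1) * h3
  · simp only [Matrix.sub_apply, Matrix.smul_apply, Matrix.one_apply_ne hij, smul_eq_mul]
    linear_combination ((g : VV) i j) * h3

section finite

variable [Fintype K]

/-- A semisimple element has order dividing `q - 1` or `q + 1`. -/
theorem pow_card {g : SL2} {α : ℕ} (hK : Fintype.card K = 3 ^ α) (ht : (g : VV).trace ^ 2 ≠ 4) :
    g ^ (Fintype.card K - 1) = 1 ∨ g ^ (Fintype.card K + 1) = 1 := by
  classical
  set q := Fintype.card K
  set t := (g : VV).trace with htdef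
  have h3 := three_eq_zero (K := K)
  have h2 : (2 : K) ≠ 0 := fun e => one_ne_zero (α := K) (by linear_combination h3 - e)
  set D := t ^ 2 - 4 with hD
  have hD0 : D ≠ 0 := sub_ne_zero.2 ht
  have : Fact (Nat.Prime 3) := ⟨Nat.prime_three⟩
  have : CharP VV 3 := charP_of_injective_algebraMap (RingHom.injective (algebraMap K VV)) 3
  set w : VV := (2 : K) • (g : VV) - t • 1 with hw
  have hw2 : w * w = D • (1 : VV) := by
    simp only [hw, Matrix.sub_mul, Matrix.mul_sub, smul_mul_assoc, mul_smul_comm, one_mul, mul_one]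
    rw [cayley, ← htdef, hD]
    ext i j
    simp only [Matrix.sub_apply, Matrix.smul_apply, smul_eq_mul]
    ring
  have hg : (g : VV) = (2 : K)⁻¹ • (t • 1 + w) := by
    rw [hw, add_sub_cancel, smul_smul, inv_mul_cancel₀ h2, one_smul]
  obtain ⟨k, hk⟩ : Odd q := by rw [show q = 3 ^ α from hK]; exact Odd.pow (by decide)
  have hwq : w ^ q = D ^ k • w := by
    rw [hk, pow_succ, pow_mul, pow_two, hw2, smul_pow, one_pow, smul_mul_assoc, one_mul]
  have hgq : ((g : VV)) ^ q = (2 : K)⁻¹ • (t • 1 + D ^ k • w) := by
    rw [hg, smul_pow, show q = 3 ^ α from hK,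
      add_pow_char_pow_of_commute 3 α (Commute.smul_left (Commute.one_left w) t), ← hK,
      show ((2 : K)⁻¹) ^ q = (2 : K)⁻¹ from FiniteField.pow_card _, smul_pow, one_pow,
      show t ^ q = t from FiniteField.pow_card _, hwq]
  have hDk : D ^ k = 1 ∨ D ^ k = -1 := by
    refine sq_eq_one_iff.1 ?_
    rw [← pow_mul, mul_comm, show 2 * k = q - 1 by omega]
    exact FiniteField.pow_card_sub_one_eq_one D hD0
  rcases hDk with e | e
  · left
    have hgg : g ^ q = g := Subtype.ext (by
      rw [Matrix.SpecialLinearGroup.coe_pow, hgq, e, one_smul, ← hg])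
    rw [show q = q - 1 + 1 by omega, pow_succ] at hgg
    simpa using hgg
  · right
    refine Subtype.ext ?_
    rw [Matrix.SpecialLinearGroup.coe_pow, pow_succ, hgq, e, Matrix.SpecialLinearGroup.coe_one]
    have e2 : (2 : K)⁻¹ • (t • (1 : VV) + (-1 : K) • w) = t • 1 - (g : VV) := by
      rw [hw]
      ext i j
      simp only [Matrix.add_apply, Matrix.sub_apply, Matrix.smul_apply, smul_eq_mul]
      field_simp
      ring
    rw [e2, Matrix.sub_mul, Matrix.smul_mul, Matrix.one_mul, cayley, ← htdef, sub_sub_cancel]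

theorem pow_data (x : Grp K) (n : ℕ) : (x ^ n).right = x.right ^ n ∧
    Multiplicative.toAdd (x ^ n).left =
      ∑ i ∈ Finset.range n, Multiplicative.toAdd ((x.right.1 ^ i) x.left) := by
  induction n with
  | zero => simp
  | succ n ih =>
    refine ⟨by rw [pow_succ, pow_succ, SemidirectProduct.mul_right, ih.1], ?_⟩
    rw [pow_succ, SemidirectProduct.mul_left, ih.1, toAdd_mul, ih.2, Finset.sum_range_succ]
    rfl

theorem three_nsmul (w : VV) : w + w + w = 0 := by
  ext i j
  simp only [Matrix.add_apply, Matrix.zero_apply]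
  linear_combination (w i j) * (three_eq_zero (K := K))

/-- Elements whose image has order dividing `n` have order dividing `3 n`. -/
theorem pow_three_mul {x : Grp K} {n : ℕ} (h : x.right ^ n = 1) : x ^ (n * 3) = 1 := by
  rw [pow_mul]
  obtain ⟨h1, h2⟩ := pow_data (x ^ n) 3
  have h0 : (x ^ n).right = 1 := by rw [(pow_data x n).1, h]
  rw [h0] at h2
  refine SemidirectProduct.ext (Multiplicative.toAdd.injective ?_) (by rw [h1, h0, one_pow]; rfl)
  rw [h2]
  simp only [Finset.sum_range_succ, Finset.sum_range_zero, OneMemClass.coe_one, one_pow, zero_add]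
  exact three_nsmul _

/-- A fixed point free image of order dividing `n` gives an element of order dividing `n`. -/
theorem pow_of_fixfree {x : Grp K} {n : ℕ} (h : x.right ^ n = 1)
    (hfree : ∀ M : VV, Multiplicative.toAdd (x.right.1 (Multiplicative.ofAdd M)) = M → M = 0) : x ^ n = 1 := by
  obtain ⟨h1, h2⟩ := pow_data x n
  refine SemidirectProduct.ext (Multiplicative.toAdd.injective ?_) (by rw [h1, h]; rfl)
  rw [h2]
  refine hfree _ ?_
  set f : VV →+ VV := ((x.right.1).toMonoidHom).toAdditive
  show f _ = _
  rw [map_sum]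
  have h' : x.right.1 ^ n = 1 := by rw [← SubgroupClass.coe_pow, h]; rfl
  have := Finset.sum_range_succ' (fun i => Multiplicative.toAdd ((x.right.1 ^ i) x.left)) n
  rw [Finset.sum_range_succ, h', pow_zero] at this
  have e := add_right_cancel this
  rw [e]
  refine Finset.sum_congr rfl fun i _ => ?_
  rw [pow_succ']
  rfl

theorem eq_zero_of_comm {g : SL2} {P : VV} (hP : P * P = (g : VV).trace ^ 3 • P - 1) {M : VV} {s : K}
    (hs : s ^ 2 = 1) (h : (g : VV) * M = s • (M * P)) (ht : (g : VV).trace ≠ s * (g : VV).trace ^ 3) : M = 0 := by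
  set t := (g : VV).trace with htdef
  have e1 : (g : VV) * (g : VV) * M = M * (P * P) := by
    rw [Matrix.mul_assoc, h, Matrix.mul_smul, ← Matrix.mul_assoc, h, Matrix.smul_mul, smul_smul, ← sq, hs, one_smul,
      Matrix.mul_assoc]
  rw [cayley, hP, ← htdef, Matrix.sub_mul, Matrix.mul_sub, Matrix.smul_mul, Matrix.mul_smul, Matrix.one_mul,
    Matrix.mul_one, sub_left_inj, h, smul_smul] at e1
  have e2 : (t * s - t ^ 3) • (M * P) = 0 := by rw [sub_smul, e1, sub_self]
  have hne : t * s - t ^ 3 ≠ 0 := fun e => ht (by linear_combination s * e - t * hs)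
  have e3 : M * P = 0 := (smul_eq_zero.1 e2).resolve_left hne
  have e4 : (g : VV) * M = 0 := by rw [h, e3, smul_zero]
  have := congrArg (fun N => (g : VV).adjugate * N) e4
  simpa [← Matrix.mul_assoc, Matrix.adjugate_mul, g.det_coe] using this

theorem units_even (e : ℤˣ) {n : ℕ} (hn : Even n) : e ^ n = 1 := by
  obtain ⟨k, rfl⟩ := hn
  rw [← two_mul, pow_mul, Int.units_sq, one_pow]

theorem order_dichotomy {α : ℕ} (hα : 1 ≤ α) (hodd : Odd α) (hK : Fintype.card K = 3 ^ α) (x : Grp K) :
    x ^ 6 = 1 ∨ x ^ 9 = 1 ∨ x ^ (3 ^ α - 1) = 1 ∨ x ^ ((3 ^ α + 1) / 2) = 1 := by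
  classical
  obtain ⟨⟨g, e⟩, hge⟩ := x.right.2
  have hpow : ∀ n, hom K (g ^ n, e ^ n) = 1 → x.right ^ n = 1 := fun n h => by
    refine Subtype.ext ?_
    rw [SubgroupClass.coe_pow, ← hge, ← map_pow]
    exact h
  have hneg : ∀ n (h : SL2), g ^ n = -h → hom K (h, e ^ n) = 1 → x.right ^ n = 1 := fun n h hn h1 => by
    refine hpow n ?_
    rw [hn, hom_neg_one, h1]
  have h3 := three_eq_zero (K := K)
  have h2 : (2 : K) ≠ 0 := fun e => one_ne_zero (α := K) (by linear_combination h3 - e)
  set t := (g : VV).trace with htdef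
  by_cases ht : t ^ 2 = 4
  · -- unipotent up to sign
    obtain ⟨u, hu, hgu⟩ : ∃ u : SL2, u ^ 3 = 1 ∧ (g = u ∨ g = -u) := by
      rcases (sq_eq_sq_iff_eq_or_eq_neg (a := t) (b := 2)).1 (by rw [ht]; norm_num) with h | h
      · exact ⟨g, cube_eq_one h, Or.inl rfl⟩
      · refine ⟨-g, cube_eq_one ?_, Or.inr (neg_neg g).symm⟩
        rw [Matrix.SpecialLinearGroup.coe_neg, Matrix.trace_neg, ← htdef, h, neg_neg]
    have hhom : hom K (g, e) = hom K (u, e) := by
      rcases hgu with rfl | rfl
      · rfl
      · rw [hom_neg_one]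
    rcases Int.units_eq_one_or e with rfl | rfl
    · right; left
      refine pow_three_mul (n := 3) (Subtype.ext ?_)
      rw [SubgroupClass.coe_pow, ← hge, hhom, ← map_pow, Prod.pow_mk, hu, one_pow]
      exact map_one _
    · left
      refine pow_of_fixfree (Subtype.ext ?_) fun M hM => ?_
      · rw [SubgroupClass.coe_pow, ← hge, hhom, ← map_pow, Prod.pow_mk, show (6 : ℕ) = 3 * 2 from rfl, pow_mul,
          hu, one_pow, pow_mul, Int.units_sq]
        exact map_one _
      · rw [← hge, hhom] at hM
        rw [hom_apply] at hM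
        simp only [Units.val_neg, Units.val_one, Int.cast_neg, Int.cast_one, neg_one_smul] at hM
        -- applying the element three times gives `M = -M`
        have e3 : act K (u ^ 3) M = -M := by
          rw [pow_succ, pow_two, act_mul, act_mul]
          have hneg' : act K u (-M) = - act K u M := by
            have := act_smul K u (-1) M
            simpa using this
          have hA : act K u M = -M := neg_eq_iff_eq_neg.1 hM
          rw [hA, hneg', hA, neg_neg, hA]
        rw [hu, act_one] at e3
        have h2 : M + M = 0 := eq_neg_iff_add_eq_zero.1 e3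
        have := three_nsmul M
        rw [h2, zero_add] at this
        exact this
  -- semisimple
  by_cases ht0 : t = 0
  · left
    refine pow_three_mul (n := 2) (hneg 2 1 ?_ ?_)
    · refine Subtype.ext ?_
      rw [Matrix.SpecialLinearGroup.coe_pow, pow_two, cayley, ← htdef, ht0, zero_smul, zero_sub]
      rfl
    · rw [Int.units_sq]; exact map_one _
  have hP : ∀ h : SL2, ((h : VV).map (frobenius K 3))ᵀ⁻¹ * ((h : VV).map (frobenius K 3))ᵀ⁻¹ =
      (h : VV).trace ^ 3 • ((h : VV).map (frobenius K 3))ᵀ⁻¹ - 1 := fun h => by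
    set h' : SL2 := ((Matrix.SpecialLinearGroup.map (frobenius K 3) h).transpose)⁻¹ with hh'
    have e' : (h' : VV) = ((h : VV).map (frobenius K 3))ᵀ⁻¹ := by
      rw [hh']
      refine (Matrix.inv_eq_left_inv ?_).symm
      show (((Matrix.SpecialLinearGroup.map (frobenius K 3) h).transpose)⁻¹ *
        (Matrix.SpecialLinearGroup.map (frobenius K 3) h).transpose : SL2).1 = (1 : SL2).1
      rw [inv_mul_cancel]
    rw [← e', cayley]
    congr 2
    rw [hh', Matrix.SpecialLinearGroup.coe_inv, Matrix.adjugate_fin_two]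
    simp [Matrix.trace_fin_two, frobenius_def, add_pow_char, add_comm]
  have hfree : ∀ M : VV, Multiplicative.toAdd (x.right.1 (Multiplicative.ofAdd M)) = M → M = 0 := by
    intro M hM
    rw [← hge, hom_apply] at hM
    set s : K := ((e : ℤ) : K) with hs
    have hs2 : s ^ 2 = 1 := by
      rw [hs, ← Int.cast_pow, ← Units.val_pow_eq_pow_val, Int.units_sq, Units.val_one, Int.cast_one]
    set Q := ((g : VV).map (frobenius K 3))ᵀ with hQ
    have hQu : IsUnit Q.det := by
      rw [hQ, Matrix.det_transpose, show ((g : VV).map (frobenius K 3)).det = 1 from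
        (Matrix.SpecialLinearGroup.map (frobenius K 3) g).2]
      exact isUnit_one
    refine eq_zero_of_comm (hP g) (s := s) hs2 ?_ ?_
    · conv_rhs => rw [← hM]
      rw [act, Matrix.smul_mul, smul_smul, ← sq, hs2, one_smul, Matrix.mul_assoc, Matrix.mul_nonsing_inv _ hQu,
        Matrix.mul_one]
    · rw [← htdef]
      intro h
      have hts : s * t ^ 2 = 1 := mul_left_cancel₀ ht0 (by rw [mul_one]; linear_combination -h)
      rcases Int.units_eq_one_or e with rfl | rfl
      · apply ht
        simp only [hs, Units.val_one, Int.cast_one, one_mul] at hts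
        linear_combination hts - h3
      · simp [hs] at hts
        have hsq : IsSquare (-1 : K) := ⟨t, by linear_combination hts⟩
        rw [FiniteField.isSquare_neg_one_iff, hK] at hsq
        obtain ⟨j, rfl⟩ := hodd
        exact hsq (by rw [pow_succ, pow_mul, Nat.mul_mod, Nat.pow_mod]; norm_num)
  have hq27 : 3 ≤ 3 ^ α := Nat.le_self_pow (by omega) 3
  have h4 : 3 ^ α % 4 = 3 := by
    obtain ⟨j, rfl⟩ := hodd
    rw [pow_succ, pow_mul, Nat.mul_mod, Nat.pow_mod]; norm_num
  rcases pow_card hK ht with hp | hp
  · right; right; left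
    refine pow_of_fixfree (hpow _ ?_) hfree
    rw [← hK, hp, units_even e ?_]
    · exact map_one _
    · rw [hK]; exact Nat.even_iff.2 (by omega)
  · right; right; right
    rw [hK] at hp
    refine pow_of_fixfree ?_ hfree
    have he : e ^ ((3 ^ α + 1) / 2) = 1 := units_even e (Nat.even_iff.2 (by omega))
    have hsq : (g ^ ((3 ^ α + 1) / 2)) ^ 2 = 1 := by
      rw [← pow_mul, show (3 ^ α + 1) / 2 * 2 = 3 ^ α + 1 by omega, hp]
    rcases sq_eq_one_cases h2 hsq with h | h
    · exact hpow _ (by rw [h, he]; exact map_one _)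
    · exact hneg _ 1 h (by rw [he]; exact map_one _)

end finite

end Cfsg.Agent.Lib.RankOne.TruncatedOrders
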