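import Cfsg.Agent.Lib.RankOne.HermOrbit
import Cfsg.Agent.Lib.RankOne.EigenChar
import Cfsg.Agent.Lib.Classical.UnitarySimple

/-!
The smallest degrees of the nontrivial representations of the special unitary groups, from the radical
of the stabiliser of a maximal totally isotropic subspace.
-/

set_option autoImplicit false
set_option maxHeartbeats 1000000

namespace Cfsg.Agent.Lib.RankOne.UnitaryDegree

open Matrix
open scoped commutatorElement
open Cfsg.Agent.Lib.RankOne.HermOrbit Cfsg.Agent.Lib.RankOne.EigenChar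

variable {F : Type*} [Field F] [Fintype F] {q : ℕ}

/-- The involution of the field with `q²` elements. -/
noncomputable def invol (hF : Fintype.card F = q ^ 2) : Invol F q where
  σ := Classical.conjHom hF
  ne := Classical.conjHom_ne_id hF
  two := Classical.conjHom_conjHom hF
  pow := Classical.conjHom_apply hF
  card := hF

variable (I : Invol F q) {n r : ℕ}

/-- A hyperbolic frame of a maximal isotropic subspace. -/
structure Frame (n r : ℕ) where
  E : Matrix (Fin n) (Fin r) F
  F₁ : Matrix (Fin n) (Fin r) F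
  EE : adj I E * E = 0
  FF : adj I F₁ * F₁ = 0
  FE : adj I F₁ * E = 1

/-- A unit vector orthogonal to a frame. -/
structure Extra {n r : ℕ} (D : Frame I n r) where
  w : Matrix (Fin n) (Fin 1) F
  ww : adj I w * w = 1
  Ew : adj I D.E * w = 0
  Fw : adj I D.F₁ * w = 0

variable {I}

theorem Frame.EF (D : Frame I n r) : adj I D.E * D.F₁ = 1 := by
  have h := congrArg (adj I) D.FE
  rwa [adj_mul, adj_adj, adj_one] at h

theorem Extra.wE {D : Frame I n r} (X : Extra I D) : adj I X.w * D.E = 0 := by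
  have h := congrArg (adj I) X.Ew
  rwa [adj_mul, adj_adj, adj_zero] at h

theorem Extra.wF {D : Frame I n r} (X : Extra I D) : adj I X.w * D.F₁ = 0 := by
  have h := congrArg (adj I) X.Fw
  rwa [adj_mul, adj_adj, adj_zero] at h

/-- Inserting coordinates. -/
def coord (F : Type*) [Zero F] [One F] {n r : ℕ} (f : Fin r → Fin n) : Matrix (Fin n) (Fin r) F :=
  Matrix.of fun i j => if i = f j then 1 else 0

variable (I)

theorem coord_orth {r' : ℕ} {f : Fin r → Fin n} {g : Fin r' → Fin n} (h : ∀ i j, f i ≠ g j) :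
    adj I (coord F f) * coord F g = 0 := by
  ext i j
  simp [adj, coord, Matrix.mul_apply, h i j, (h i j).symm, apply_ite I.σ]

theorem coord_self {f : Fin r → Fin n} (h : Function.Injective f) :
    adj I (coord F f) * coord F f = 1 := by
  ext i j
  simp [adj, coord, Matrix.mul_apply, apply_ite I.σ, Matrix.one_apply, h.eq_iff, eq_comm]

theorem exists_frame (hr : 2 * r ≤ n) : ∃ D : Frame I n r, 2 * r + 1 ≤ n → Nonempty (Extra I D) := by
  classical
  obtain ⟨c, hc⟩ := exists_norm I (c := -1) (by rw [map_neg, map_one])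
  obtain ⟨μ, hμ⟩ := exists_trace I (-1) (by rw [map_neg, map_one])
  let f0 : Fin r → Fin n := fun j => ⟨2 * j, by omega⟩
  let f1 : Fin r → Fin n := fun j => ⟨2 * j + 1, by omega⟩
  set D0 : Matrix (Fin n) (Fin r) F := coord F f0
  set D1 : Matrix (Fin n) (Fin r) F := coord F f1
  have h00 : adj I D0 * D0 = 1 := coord_self I fun a b e => Fin.ext (by simpa [f0] using congrArg Fin.val e)
  have h11 : adj I D1 * D1 = 1 := coord_self I fun a b e => Fin.ext (by simpa [f1] using congrArg Fin.val e)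
  have h01 : adj I D0 * D1 = 0 := coord_orth I fun a b e => by
    have := congrArg Fin.val e; simp [f0, f1] at this; omega
  have h10 : adj I D1 * D0 = 0 := coord_orth I fun a b e => by
    have := congrArg Fin.val e; simp [f0, f1] at this; omega
  set E := D0 + c • D1
  have hEE : adj I E * E = 0 := by
    simp only [E, adj_add, adj_smul, Matrix.add_mul, Matrix.mul_add, Matrix.smul_mul, Matrix.mul_smul, h00, h11, h01, h10,
      smul_zero, add_zero, zero_add, smul_smul]
    rw [show c * I.σ c = -1 by rw [mul_comm]; exact hc]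
    simp
  have hED : adj I E * D0 = 1 := by
    simp [E, adj_add, adj_smul, Matrix.add_mul, h00, h10]
  have hDE : adj I D0 * E = 1 := by
    simp [E, Matrix.mul_add, h00, h01]
  refine ⟨⟨E, D0 + μ • E, hEE, ?_, ?_⟩, fun hn => ?_⟩
  · simp only [adj_add, adj_smul, Matrix.add_mul, Matrix.mul_add, Matrix.smul_mul, Matrix.mul_smul, h00, hED, hDE, hEE,
      smul_zero, add_zero]
    rw [add_assoc, ← add_smul]
    conv_lhs => arg 1; rw [← one_smul F (1 : Matrix (Fin r) (Fin r) F)]
    rw [← add_smul, show (1 : F) + (I.σ μ + μ) = 0 by linear_combination hμ, zero_smul]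
  · simp only [adj_add, adj_smul, Matrix.add_mul, Matrix.smul_mul, hDE, hEE, smul_zero, add_zero]
  · let fw : Fin 1 → Fin n := fun _ => ⟨2 * r, by omega⟩
    set w : Matrix (Fin n) (Fin 1) F := coord F fw
    have h0w : adj I D0 * w = 0 := coord_orth I fun a b e => by
      have := congrArg Fin.val e; simp [f0, fw] at this; omega
    have h1w : adj I D1 * w = 0 := coord_orth I fun a b e => by
      have := congrArg Fin.val e; simp [f1, fw] at this; omega
    have hEw : adj I E * w = 0 := by simp [E, adj_add, adj_smul, Matrix.add_mul, h0w, h1w]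
    refine ⟨⟨w, coord_self I fun a b _ => Fin.ext (by omega), hEw, ?_⟩⟩
    simp [adj_add, adj_smul, Matrix.add_mul, h0w, hEw]

variable {I}

/-- An element of the special unitary group from its matrix. -/
theorem exists_SU (hF : Fintype.card F = q ^ 2) {M : Matrix (Fin n) (Fin n) F} (hdet : M.det = 1)
    (hiso : adj (invol hF) M * M = 1) : ∃ g : ↥(Cfsg.SU n F q), (g.1 : Matrix (Fin n) (Fin n) F) = M := by
  refine ⟨⟨⟨M, hdet⟩, (Classical.mem_SU_iff hF _).2 ?_⟩, rfl⟩
  have h := congrArg (fun N : Matrix (Fin n) (Fin n) F => N.map (invol hF).σ) hiso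
  simp only [Matrix.map_mul, Matrix.map_one _ (map_zero _) (map_one _)] at h
  have e : ((adj (invol hF) M).map (invol hF).σ) = Mᵀ := by ext i j; exact (invol hF).two _
  rw [e] at h
  exact h

section identities

variable (D : Frame I n r)

theorem assoc_zero {a b c d : Type*} [Fintype b] [Fintype c] {A : Matrix a b F} {B : Matrix b c F}
    (h : A * B = 0) (M : Matrix c d F) : A * (B * M) = 0 := by rw [← Matrix.mul_assoc, h, Matrix.zero_mul]

theorem assoc_one {a b d : Type*} [Fintype a] [Fintype b] [DecidableEq a] {A : Matrix a b F} {B : Matrix b a F}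
    (h : A * B = 1) (M : Matrix a d F) : A * (B * M) = M := by rw [← Matrix.mul_assoc, h, Matrix.one_mul]

/-- The elements of the radical's centre. -/
def zM (X : Matrix (Fin r) (Fin r) F) : Matrix (Fin n) (Fin n) F := 1 + D.E * (X * adj I D.E)

theorem zM_mul (X Y : Matrix (Fin r) (Fin r) F) : zM D X * zM D Y = zM D (X + Y) := by
  simp only [zM, Matrix.mul_add, Matrix.add_mul, Matrix.mul_one, Matrix.one_mul, Matrix.mul_assoc, assoc_zero D.EE,
    Matrix.mul_zero, add_zero]
  abel

theorem zM_zero : zM D 0 = 1 := by simp [zM]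

theorem zM_det (X : Matrix (Fin r) (Fin r) F) : (zM D X).det = 1 := by
  rw [zM, Matrix.det_one_add_mul_comm, Matrix.mul_assoc, D.EE, Matrix.mul_zero, add_zero, Matrix.det_one]

theorem zM_iso {X : Matrix (Fin r) (Fin r) F} (hX : adj I X = -X) : adj I (zM D X) * zM D X = 1 := by
  have h : adj I (zM D X) = zM D (-X) := by
    rw [zM, adj_add, adj_one, adj_mul, adj_mul, adj_adj, hX, Matrix.mul_assoc]; rfl
  rw [h, zM_mul, neg_add_cancel, zM_zero]

theorem zM_inj {X : Matrix (Fin r) (Fin r) F} {c : F} (h : zM D X = c • (1 : Matrix (Fin n) (Fin n) F)) (hr : 0 < r) :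
    X = 0 := by
  have h1 : zM D X * D.E = D.E := by
    simp only [zM, Matrix.add_mul, Matrix.one_mul, Matrix.mul_assoc, D.EE, Matrix.mul_zero, add_zero]
  rw [h, Matrix.smul_mul, Matrix.one_mul] at h1
  have h2 := congrArg (adj I D.F₁ * ·) h1
  simp only [Matrix.mul_smul, D.FE] at h2
  have hc : c = 1 := by
    have := congrFun (congrFun h2 ⟨0, hr⟩) ⟨0, hr⟩
    simpa using this
  rw [hc, one_smul] at h
  have h3 : D.E * (X * adj I D.E) = 0 := by
    have h4 : (1 : Matrix (Fin n) (Fin n) F) + D.E * (X * adj I D.E) = 1 := h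
    exact add_left_cancel (h4.trans (add_zero _).symm)
  have h5 := congrArg (fun N => adj I D.F₁ * N * D.F₁) h3
  simpa [Matrix.mul_assoc, assoc_one D.FE, D.EF] using h5

/-- The elements of the stabiliser of both halves of the frame. -/
def lM (A A' : Matrix (Fin r) (Fin r) F) : Matrix (Fin n) (Fin n) F :=
  1 + D.E * ((A - 1) * adj I D.F₁) + D.F₁ * ((A' - 1) * adj I D.E)

theorem lM_E (A A' : Matrix (Fin r) (Fin r) F) : lM D A A' * D.E = D.E * A := by
  simp only [lM, Matrix.add_mul, Matrix.one_mul, Matrix.mul_assoc, D.EE, D.FE, Matrix.mul_zero, add_zero, Matrix.mul_one,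
    Matrix.mul_sub]
  abel

theorem lM_det (A A' : Matrix (Fin r) (Fin r) F) : (lM D A A').det = A.det * A'.det := by
  have e : lM D A A' = 1 + Matrix.fromCols D.E D.F₁ *
      Matrix.fromRows ((A - 1) * adj I D.F₁) ((A' - 1) * adj I D.E) := by
    rw [lM, Matrix.fromCols_mul_fromRows, add_assoc]
  rw [e, Matrix.det_one_add_mul_comm, Matrix.fromRows_mul_fromCols]
  simp only [Matrix.mul_assoc, D.FE, D.FF, D.EE, D.EF, Matrix.mul_one, Matrix.mul_zero]
  rw [← Matrix.fromBlocks_one, Matrix.fromBlocks_add, add_zero, add_sub_cancel, add_sub_cancel,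
    Matrix.det_fromBlocks_zero₁₂]

theorem lM_iso {A A' : Matrix (Fin r) (Fin r) F} (h : adj I A' * A = 1) : adj I (lM D A A') * lM D A A' = 1 := by
  have h' : adj I A * A' = 1 := by
    have := congrArg (adj I) h
    rwa [adj_mul, adj_adj, adj_one] at this
  have k1 : (A - 1) + (adj I A' - 1) + (adj I A' - 1) * (A - 1) = 0 := by
    rw [Matrix.sub_mul, Matrix.mul_sub, h, Matrix.mul_one, Matrix.one_mul]; abel
  have k2 : (A' - 1) + (adj I A - 1) + (adj I A - 1) * (A' - 1) = 0 := by
    rw [Matrix.sub_mul, Matrix.mul_sub, h', Matrix.mul_one, Matrix.one_mul]; abel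
  have e : adj I (lM D A A') = 1 + D.F₁ * ((adj I A - 1) * adj I D.E) + D.E * ((adj I A' - 1) * adj I D.F₁) := by
    simp only [lM, adj_add, adj_one, adj_mul, adj_sub, adj_adj, Matrix.mul_assoc]
  rw [e, lM]
  simp only [Matrix.add_mul, Matrix.mul_add, Matrix.one_mul, Matrix.mul_one, Matrix.mul_assoc, assoc_zero D.EE,
    assoc_zero D.FF, assoc_one D.EF, assoc_one D.FE, Matrix.mul_zero, add_zero]
  calc _ = 1 + D.E * (((A - 1) + (adj I A' - 1) + (adj I A' - 1) * (A - 1)) * adj I D.F₁) +
        D.F₁ * (((A' - 1) + (adj I A - 1) + (adj I A - 1) * (A' - 1)) * adj I D.E) := by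
        simp only [Matrix.add_mul, Matrix.mul_add, Matrix.mul_assoc]; abel
    _ = 1 := by rw [k1, k2]; simp

theorem conj_zM {g : Matrix (Fin n) (Fin n) F} {A : Matrix (Fin r) (Fin r) F} (hE : g * D.E = D.E * A)
    (hg : adj I g * g = 1) (X : Matrix (Fin r) (Fin r) F) :
    g * zM D X = zM D (A * X * adj I A) * g := by
  have h1 : adj I D.E = adj I A * adj I D.E * g := by
    have := congrArg (fun N => adj I N * g) hE
    simp only [adj_mul, Matrix.mul_assoc, hg, Matrix.mul_one] at this
    rw [Matrix.mul_assoc]; exact this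
  simp only [zM, Matrix.mul_add, Matrix.add_mul, Matrix.mul_one, Matrix.one_mul]
  congr 1
  conv_lhs => rw [← Matrix.mul_assoc, hE, h1]
  simp only [Matrix.mul_assoc]

variable {D} (X : Extra I D)

/-- The elements of the radical. -/
def uM (a : Matrix (Fin r) (Fin 1) F) (Y : Matrix (Fin r) (Fin r) F) : Matrix (Fin n) (Fin n) F :=
  1 + X.w * (adj I a * adj I D.E) - D.E * (a * adj I X.w) + D.E * (Y * adj I D.E)

theorem uM_mul (a b : Matrix (Fin r) (Fin 1) F) (Y Z : Matrix (Fin r) (Fin r) F) :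
    uM X a Y * uM X b Z = uM X (a + b) (Y + Z - a * adj I b) := by
  simp only [uM, Matrix.add_mul, Matrix.mul_add, Matrix.sub_mul, Matrix.mul_sub, Matrix.one_mul, Matrix.mul_one, Matrix.mul_assoc,
    assoc_zero D.EE, assoc_zero X.Ew, assoc_zero X.wE, assoc_one X.ww, Matrix.mul_zero, add_zero, sub_zero,
    adj_add]
  abel

theorem uM_iso {a : Matrix (Fin r) (Fin 1) F} {Y : Matrix (Fin r) (Fin r) F}
    (h : Y + adj I Y + a * adj I a = 0) : adj I (uM X a Y) * uM X a Y = 1 := by
  have e : adj I (uM X a Y) = uM X (-a) (adj I Y) := by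
    simp only [uM, adj_add, adj_sub, adj_one, adj_mul, adj_adj, adj_neg, Matrix.mul_assoc, Matrix.neg_mul,
      Matrix.mul_neg]
    abel
  rw [e, uM_mul, neg_add_cancel, Matrix.neg_mul, sub_neg_eq_add, add_comm (adj I Y) Y, h]
  simp [uM, adj_zero]

theorem uM_det (a : Matrix (Fin r) (Fin 1) F) (Y : Matrix (Fin r) (Fin r) F) : (uM X a Y).det = 1 := by
  have e : uM X a Y = 1 + Matrix.fromCols X.w D.E *
      Matrix.fromRows (adj I a * adj I D.E) (-(a * adj I X.w) + Y * adj I D.E) := by
    rw [uM, Matrix.fromCols_mul_fromRows, Matrix.mul_add, Matrix.mul_neg]; abel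
  rw [e, Matrix.det_one_add_mul_comm, Matrix.fromRows_mul_fromCols]
  simp only [Matrix.add_mul, Matrix.neg_mul, Matrix.mul_assoc, D.EE, X.Ew, X.ww, X.wE, Matrix.mul_zero, Matrix.mul_one,
    add_zero, neg_zero]
  rw [← Matrix.fromBlocks_one, Matrix.fromBlocks_add, add_zero, add_zero, Matrix.det_fromBlocks_zero₁₂]
  simp

theorem uM_zM (a : Matrix (Fin r) (Fin 1) F) (Y Z : Matrix (Fin r) (Fin r) F) :
    zM D Z * uM X a Y = uM X a (Z + Y) := by
  have : zM D Z = uM X 0 Z := by simp [zM, uM, adj_zero]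
  rw [this, uM_mul, zero_add, Matrix.zero_mul, sub_zero]

theorem zM_eq_uM (Z : Matrix (Fin r) (Fin r) F) : zM D Z = uM X 0 Z := by simp [zM, uM, adj_zero]

/-- The scaling of the extra vector. -/
def hM (ν : F) : Matrix (Fin n) (Fin n) F := 1 + X.w * ((ν - 1) • adj I X.w)

theorem hM_det (ν : F) : (hM X ν).det = ν := by
  rw [hM, Matrix.det_one_add_mul_comm, Matrix.smul_mul, X.ww, Matrix.det_fin_one]
  simp

theorem hM_E (ν : F) : hM X ν * D.E = D.E := by
  simp [hM, Matrix.add_mul, Matrix.mul_assoc, X.wE]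

theorem hM_iso {ν : F} (h : I.σ ν * ν = 1) : adj I (hM X ν) * hM X ν = 1 := by
  simp only [hM, adj_add, adj_one, adj_mul, adj_smul, adj_adj, map_sub, map_one, Matrix.add_mul, Matrix.mul_add,
    Matrix.one_mul, Matrix.mul_one, Matrix.mul_assoc, Matrix.smul_mul, Matrix.mul_smul, assoc_one X.ww, smul_smul]
  rw [smul_add, smul_smul, ← add_smul, add_assoc, ← add_smul,
    show (I.σ ν - 1) + ((ν - 1) + (ν - 1) * (I.σ ν - 1)) = 0 by linear_combination h]
  simp

end identities

/-! ### The group -/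

section group

variable (hF : Fintype.card F = q ^ 2)

/-- Skew-Hermitian matrices. -/
def Skew (r : ℕ) : AddSubgroup (Matrix (Fin r) (Fin r) F) where
  carrier := {X | adj (invol hF) X = -X}
  zero_mem' := by show adj _ 0 = _; rw [adj_zero, neg_zero]
  add_mem' {a b} ha hb := by
    show adj _ (a + b) = _
    rw [adj_add, show adj (invol hF) a = -a from ha, show adj (invol hF) b = -b from hb, neg_add]
  neg_mem' {a} ha := by
    show adj _ (-a) = _
    rw [adj_neg, show adj (invol hF) a = -a from ha]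

noncomputable instance : Fintype ↥(Skew hF r) := Fintype.ofFinite _

theorem trace_fixed (H X : Skew hF r) :
    (invol hF).σ (H.1 * X.1).trace = (H.1 * X.1).trace := by
  rw [← trace_adj, adj_mul, show adj (invol hF) H.1 = -H.1 from H.2, show adj (invol hF) X.1 = -X.1 from X.2,
    Matrix.neg_mul, Matrix.mul_neg, neg_neg, Matrix.trace_mul_comm]

/-- The character attached to a skew-Hermitian matrix. -/
noncomputable def chr (φ : AddChar F ℂ) (H : Skew hF r) : AddChar (Skew hF r) ℂ :=
  φ.compAddMonoidHom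
    { toFun := fun X => (H.1 * X.1).trace
      map_zero' := by simp
      map_add' := fun X Y => by rw [AddSubgroup.coe_add, Matrix.mul_add, Matrix.trace_add] }

theorem chr_apply (φ : AddChar F ℂ) (H X : Skew hF r) : chr hF φ H X = φ (H.1 * X.1).trace := rfl

theorem chr_bijective [DecidableEq F] {φ : AddChar F ℂ} (hφ : φ 1 ≠ 1) :
    Function.Bijective (chr hF (r := r) φ) := by
  classical
  refine (Fintype.bijective_iff_injective_and_card _).2 ⟨fun H H' h => ?_, (AddChar.card_eq (α := Skew hF r)).symm⟩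
  by_contra hne
  obtain ⟨X, hX⟩ : ∃ X : Skew hF r, ((H - H').1 * X.1).trace ≠ 0 := by
    by_contra hall
    push Not at hall
    apply hne
    refine sub_eq_zero.1 (Subtype.ext ?_)
    set M := (H - H').1 with hM
    ext i j
    by_contra hij
    set Y : Matrix (Fin r) (Fin r) F := Matrix.single j i 1
    have hY : (M * Y).trace = M i j := by
      rw [Matrix.trace_mul_single]; simp
    obtain ⟨t, ht⟩ := exists_trace (invol hF) 1 (map_one _)
    set Y' := (t / M i j) • Y with hY'
    have hsk : Y' - adj (invol hF) Y' ∈ Skew hF r := by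
      show adj _ (_ - _) = _
      rw [adj_sub, adj_adj, neg_sub]
    have h0 := hall ⟨_, hsk⟩
    have hMs : adj (invol hF) M = -M := (H - H').2
    have e2 : (M * adj (invol hF) Y').trace = -(invol hF).σ (M * Y').trace := by
      rw [← trace_adj, adj_mul, hMs, Matrix.mul_neg, Matrix.trace_neg, neg_neg, Matrix.trace_mul_comm]
    have e1 : (M * Y').trace = t := by
      rw [hY', Matrix.mul_smul, Matrix.trace_smul, hY, smul_eq_mul, div_mul_cancel₀ _ (by simpa using hij)]
    rw [Matrix.mul_sub, Matrix.trace_sub, e2, sub_neg_eq_add, e1] at h0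
    exact one_ne_zero (ht.symm.trans h0)
  -- scale to the value one
  set s := ((H - H').1 * X.1).trace
  have hs : (invol hF).σ s = s := trace_fixed hF _ _
  have hX' : s⁻¹ • X.1 ∈ Skew hF r := by
    show adj _ _ = _
    rw [adj_smul, map_inv₀, hs, show adj (invol hF) X.1 = -X.1 from X.2, smul_neg]
  have h1 := DFunLike.congr_fun h ⟨_, hX'⟩
  rw [chr_apply, chr_apply] at h1
  have h2 : φ ((H.1 * (s⁻¹ • X.1)).trace - (H'.1 * (s⁻¹ • X.1)).trace) = 1 := by
    rw [sub_eq_add_neg, AddChar.map_add_eq_mul, h1, ← AddChar.map_add_eq_mul, add_neg_cancel, AddChar.map_zero_eq_one]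
  rw [← Matrix.trace_sub, ← Matrix.sub_mul, ← AddSubgroup.coe_sub, Matrix.mul_smul, Matrix.trace_smul, smul_eq_mul,
    inv_mul_cancel₀ hX] at h2
  exact hφ h2

theorem finrank_range_pos {V : Type*} [AddCommGroup V] [Module ℂ V] [FiniteDimensional ℂ V] {P : Module.End ℂ V}
    (h : P ≠ 0) : 1 ≤ Module.finrank ℂ (LinearMap.range P) := by
  rw [Nat.one_le_iff_ne_zero]
  intro h0
  exact h (LinearMap.range_eq_bot.1 (Submodule.finrank_eq_zero.1 h0))

/-- The degree is at least the multiplicity times the size of an invariant set. -/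
theorem degree_bound [DecidableEq F] {G : Type*} [Group G] {V : Type*} [AddCommGroup V] [Module ℂ V]
    [FiniteDimensional ℂ V] (ρ : Representation ℂ G V) (z : Skew hF r → G)
    (hz : ∀ X Y, z (X + Y) = z X * z Y)
    (hnt : ∃ X, ρ (z X) ≠ 1)
    (hlevi : ∀ A : Matrix (Fin r) (Fin r) F, A.det ≠ 0 → (A.det = 1 ∨ r = 1) →
      ∃ (g : G) (σ : Skew hF r ≃+ Skew hF r), (∀ X, g * z X = z (σ X) * g) ∧ ∀ X, (σ X).1 = A * X.1 * adj (invol hF) A)
    (mult : ℕ) (hmult : ∀ (φ : AddChar F ℂ), φ 1 ≠ 1 → ∀ H : Skew hF r, H ≠ 0 →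
      proj (fun X => ρ (z X)) (chr hF φ H) ≠ 0 →
      mult ≤ Module.finrank ℂ (LinearMap.range (proj (fun X => ρ (z X)) (chr hF φ H)))) :
    mult * (q ^ (2 * r) - 1) ≤ (q + 1) * Module.finrank ℂ V := by
  classical
  obtain ⟨φ, hφ⟩ := HermOrbit.exists_addChar F
  set R : Skew hF r → Module.End ℂ V := fun X => ρ (z X) with hRdef
  have hR : ∀ a b, R (a + b) = R a * R b := fun a b => by rw [hRdef]; simp only; rw [hz, map_mul]
  have hR0 : R 0 = 1 := by
    have h := hz 0 0
    rw [add_zero] at h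
    rw [hRdef]; simp only; rw [mul_eq_left.1 h.symm, map_one]
  set P : Skew hF r → Module.End ℂ V := fun H => proj R (chr hF φ H) with hPdef
  set d : Skew hF r → ℕ := fun H => Module.finrank ℂ (LinearMap.range (P H))
  have hbij := chr_bijective hF (r := r) hφ
  have hsum : ∑ H, d H = Module.finrank ℂ V := by
    have h : ∀ H, LinearMap.trace ℂ V (P H) = (d H : ℂ) := fun H =>
      LinearMap.IsProj.trace ⟨fun v => ⟨v, rfl⟩, by
        rintro _ ⟨v, rfl⟩
        rw [← Module.End.mul_apply, hPdef]; simp only; rw [proj_mul_proj hR, if_pos rfl]⟩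
    have h1 : ∑ H, P H = 1 := (Fintype.sum_bijective _ hbij P (proj R) fun _ => rfl).trans (sum_proj hR0)
    apply Nat.cast_injective (R := ℂ)
    rw [Nat.cast_sum, ← LinearMap.trace_one ℂ V, ← h1, map_sum]
    exact Finset.sum_congr rfl fun H _ => (h H).symm
  set S : Finset (Matrix (Fin r) (Fin r) F) := ((Finset.univ : Finset (Skew hF r)).filter fun H => H ≠ 0 ∧ P H ≠ 0).image Subtype.val
  have hne : S.Nonempty := by
    by_contra he
    obtain ⟨X, hX⟩ := hnt
    apply hX
    show R X = 1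
    calc R X = R X * ∑ χ, proj R χ := by rw [sum_proj hR0, mul_one]
      _ = ∑ χ, proj R χ := by
        rw [Finset.mul_sum]
        refine Finset.sum_congr rfl fun χ _ => ?_
        obtain ⟨H, rfl⟩ := hbij.2 χ
        rw [apply_mul_proj hR]
        by_cases hP : proj R (chr hF φ H) = 0
        · rw [hP, smul_zero]
        · have h0 : H = 0 := by
            by_contra hH
            exact he ⟨H.1, Finset.mem_image_of_mem _ (Finset.mem_filter.2 ⟨Finset.mem_univ _, hH, hP⟩)⟩
          rw [h0, chr_apply]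
          simp
      _ = 1 := sum_proj hR0
  have hinv : ∀ A : Matrix (Fin r) (Fin r) F, A.det ≠ 0 → (A.det = 1 ∨ r = 1) → ∀ H ∈ S, act (invol hF) A H ∈ S := by
    intro A hA hA' H₀ hH₀
    obtain ⟨H, hH, rfl⟩ := Finset.mem_image.1 hH₀
    obtain ⟨-, hH0, hP⟩ := Finset.mem_filter.1 hH
    obtain ⟨g, σ, hg, hσ⟩ := hlevi A hA hA'
    have hmem : act (invol hF) A H.1 ∈ Skew hF r := by
      show adj _ _ = _
      rw [act, adj_mul, adj_mul, adj_adj, show adj (invol hF) H.1 = -H.1 from H.2]
      simp only [Matrix.neg_mul, Matrix.mul_neg, Matrix.mul_assoc]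
    have hchr : chr hF φ ⟨_, hmem⟩ = (chr hF φ H).compAddMonoidHom σ.toAddMonoidHom := by
      refine DFunLike.ext _ _ fun X => ?_
      show φ (act (invol hF) A H.1 * X.1).trace = φ (H.1 * (σ X).1).trace
      rw [hσ, act, Matrix.mul_assoc (adj (invol hF) A * H.1), Matrix.mul_assoc, Matrix.trace_mul_comm]
      simp only [Matrix.mul_assoc]
    refine Finset.mem_image.2 ⟨⟨_, hmem⟩, Finset.mem_filter.2 ⟨Finset.mem_univ _, fun e => hH0 ?_, fun e => hP ?_⟩, rfl⟩
    · have e0 : act (invol hF) A H.1 = 0 := congrArg Subtype.val e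
      have hu : IsUnit A.det := isUnit_iff_ne_zero.2 hA
      have e1 : act (invol hF) A⁻¹ (act (invol hF) A H.1) = H.1 := by
        rw [act_act, Matrix.mul_nonsing_inv _ hu, act, adj_one, Matrix.one_mul, Matrix.mul_one]
      refine Subtype.ext ?_
      rw [← e1, e0, act, Matrix.mul_zero, Matrix.zero_mul]; rfl
    · have h := apply_proj_comp (R := R) (g := ρ g) (σ := σ)
        (fun X => by rw [hRdef]; simp only; rw [← map_mul, hg, map_mul]) (chr hF φ H)
      rw [← hchr, show proj R (chr hF φ ⟨_, hmem⟩) = 0 from e, mul_zero] at h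
      calc proj R (chr hF φ H) = proj R (chr hF φ H) * ρ g * ρ g⁻¹ := by
            rw [mul_assoc, ← map_mul, mul_inv_cancel, map_one, mul_one]
        _ = 0 := by rw [← h, zero_mul]
  have hb := bound (invol hF) r S hne (fun H hH => by
    obtain ⟨H', hH', rfl⟩ := Finset.mem_image.1 hH
    exact ⟨H'.2, fun e => (Finset.mem_filter.1 hH').2.1 (Subtype.ext e)⟩) hinv
  have hle : mult * S.card ≤ Module.finrank ℂ V := by
    rw [← hsum, Finset.card_image_of_injective _ Subtype.val_injective, mul_comm, ← smul_eq_mul]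
    exact (Finset.card_nsmul_le_sum _ _ _ fun H hH => hmult φ hφ H (Finset.mem_filter.1 hH).2.1
      (Finset.mem_filter.1 hH).2.2).trans (Finset.sum_le_univ_sum_of_nonneg fun _ => Nat.zero_le _)
  calc mult * (q ^ (2 * r) - 1) ≤ mult * ((q + 1) * S.card) := Nat.mul_le_mul_left _ hb
    _ = (q + 1) * (mult * S.card) := by ring
    _ ≤ _ := Nat.mul_le_mul_left _ hle

/-- The linear independence bound for a projective action of a nondegenerate abelian group. -/
theorem sq_le_finrank {V : Type*} [AddCommGroup V] [Module ℂ V] [FiniteDimensional ℂ V] {ι : Type*} [Fintype ι]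
    {P : Module.End ℂ V} (hP : P * P = P) (T : ι → Module.End ℂ V) (hT : ∀ a, P * T a * P = T a)
    (T' : ι → Module.End ℂ V) (htr : ∀ a b, a ≠ b → LinearMap.trace ℂ V (T a * T' b) = 0)
    (htr' : ∀ a, LinearMap.trace ℂ V (T a * T' a) ≠ 0) :
    Fintype.card ι ≤ Module.finrank ℂ (LinearMap.range P) ^ 2 := by
  classical
  set φ : Module.End ℂ V →ₗ[ℂ] (LinearMap.range P →ₗ[ℂ] LinearMap.range P) :=
    { toFun := fun S => P.rangeRestrict ∘ₗ S ∘ₗ (LinearMap.range P).subtype
      map_add' := fun S S' => by rw [LinearMap.add_comp, LinearMap.comp_add]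
      map_smul' := fun c S => by rw [LinearMap.smul_comp, LinearMap.comp_smul]; rfl }
  have hli : LinearIndependent ℂ fun a => φ (T a) := by
    rw [Fintype.linearIndependent_iff]
    intro c hc b
    simp only [← map_smul, ← map_sum] at hc
    set S := ∑ a, c a • T a with hS
    have hS0 : S = 0 := by
      have hPSP : P * S * P = S := by
        rw [hS, Finset.mul_sum, Finset.sum_mul]
        exact Finset.sum_congr rfl fun a _ => by rw [mul_smul_comm, smul_mul_assoc, hT]
      rw [← hPSP]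
      refine LinearMap.ext fun v => ?_
      exact congrArg Subtype.val (LinearMap.congr_fun hc ⟨P v, v, rfl⟩)
    have h := congrArg (fun S' => LinearMap.trace ℂ V (S' * T' b)) hS0
    simp only [zero_mul, map_zero, hS, Finset.sum_mul, smul_mul_assoc, map_sum, map_smul] at h
    rw [Finset.sum_eq_single b (fun a _ hab => by rw [htr a b hab, smul_zero]) (by simp)] at h
    exact (smul_eq_zero.1 h).resolve_right (htr' b)
  refine hli.fintype_card_le_finrank.trans ?_
  rw [Module.finrank_linearMap, pow_two]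

end group

/-! ### The special unitary groups -/

theorem nontrivial_of_irreducible {G : Type*} [Group G] {k : ℕ} (ρ : Representation ℂ G (Fin k → ℂ))
    (hirr : ρ.IsIrreducible) (hk : 2 ≤ k) : ∃ g, ρ g ≠ 1 := by
  by_contra htriv
  push Not at htriv
  let v : Fin k → ℂ := Pi.single ⟨0, by omega⟩ 1
  have hv : v ≠ 0 := fun e => one_ne_zero (α := ℂ) (by simpa [v] using congrFun e ⟨0, by omega⟩)
  let S : Subrepresentation ρ :=
    { toSubmodule := Submodule.span ℂ {v}
      apply_mem_toSubmodule := fun g w hw => by rw [htriv g]; exact hw }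
  have : IsSimpleOrder (Subrepresentation ρ) := hirr
  rcases eq_bot_or_eq_top S with h | h
  · have h' : S.toSubmodule = ⊥ := by rw [h]; rfl
    exact hv ((Submodule.mem_bot ℂ).1 (h' ▸ Submodule.mem_span_singleton_self v))
  · have h' : S.toSubmodule = ⊤ := by rw [h]; rfl
    have := finrank_span_singleton (K := ℂ) hv
    rw [show Submodule.span ℂ {v} = ⊤ from h', finrank_top, Module.finrank_fin_fun] at this
    omega

theorem min_degree (hF : Fintype.card F = q ^ 2) (hr : 0 < r) (hnr : n = 2 * r ∧ 2 ≤ r ∨ n = 2 * r + 1)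
    (hn : 3 ≤ n) (h32 : ¬ (n = 3 ∧ q = 2)) {V : Type*} [AddCommGroup V] [Module ℂ V] [FiniteDimensional ℂ V]
    (ρ : Representation ℂ ↥(Cfsg.SU n F q) V) (hρ : ∃ g, ρ g ≠ 1) :
    (if n = 2 * r + 1 then q else 1) * (q ^ (2 * r) - 1) ≤ (q + 1) * Module.finrank ℂ V := by
  classical
  set I := invol hF with hI
  obtain ⟨D, hD⟩ := exists_frame I (r := r) (n := n) (by omega)
  have hmatinj : ∀ {g h : ↥(Cfsg.SU n F q)}, (g.1 : Matrix (Fin n) (Fin n) F) = h.1 → g = h :=
    fun e => Subtype.ext (Subtype.ext e)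
  choose z hz using fun X : Skew hF r => exists_SU hF (zM_det D X.1) (zM_iso D X.2)
  have hzadd : ∀ X Y, z (X + Y) = z X * z Y := fun X Y => hmatinj (by
    rw [hz, AddSubgroup.coe_add, ← zM_mul, ← hz, ← hz]; rfl)
  have hnt : ∃ X, ρ (z X) ≠ 1 := by
    by_contra hall
    push Not at hall
    obtain ⟨s, hs0, hs⟩ := exists_skew I
    have hsk : (s • (1 : Matrix (Fin r) (Fin r) F)) ∈ Skew hF r := by
      show adj _ _ = _
      rw [adj_smul, adj_one, ← hI, hs, neg_smul]
    set X₀ : Skew hF r := ⟨_, hsk⟩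
    have hcen : z X₀ ∉ Subgroup.center ↥(Cfsg.SU n F q) := by
      intro hc
      have h := Classical.SU_center_scalar hF _ hc ⟨0, by omega⟩
      rw [hz] at h
      have := congrFun (congrFun (zM_inj D h hr) ⟨0, hr⟩) ⟨0, hr⟩
      simp [X₀, hs0] at this
    set N : Subgroup ↥(Cfsg.SU n F q) := MonoidHom.ker ρ with hN
    have : IsSimpleGroup (Cfsg.PSU n F q) := Classical.isSimpleGroup_PSU hF hn h32
    have hmap : N.map (QuotientGroup.mk' (Subgroup.center ↥(Cfsg.SU n F q))) = ⊤ := by
      refine (((MonoidHom.normal_ker ρ).map _ (QuotientGroup.mk'_surjective _)).eq_bot_or_eq_top).resolve_left fun h => hcen ?_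
      rw [Subgroup.map_eq_bot_iff, QuotientGroup.ker_mk'] at h
      exact h (MonoidHom.mem_ker.2 (hall X₀))
    have hperf : commutator ↥(Cfsg.SU n F q) = ⊤ := by
      rw [eq_top_iff, ← Cfsg.Agent.S0780.result hF n hn h32, Subgroup.closure_le]
      rintro B ⟨v, c, hv, hB⟩
      rw [commutator_eq_closure]
      refine Subgroup.subset_closure (Cfsg.Agent.S0781.result hF n ?_ B v c hv hB)
      have h2 : 2 ≤ q := two_le I
      rcases Nat.lt_or_ge n 4 with h4 | h4
      · exact Or.inr ⟨by omega, by by_contra h3; exact h32 ⟨by omega, by omega⟩⟩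
      · exact Or.inl h4
    have hle : commutator ↥(Cfsg.SU n F q) ≤ N := by
      rw [commutator_eq_closure, Subgroup.closure_le]
      rintro _ ⟨a, b, rfl⟩
      have hsplit : ∀ a : ↥(Cfsg.SU n F q), ∃ k ∈ N, k⁻¹ * a ∈ Subgroup.center ↥(Cfsg.SU n F q) := fun a => by
        obtain ⟨k, hk, e⟩ := hmap.ge (Subgroup.mem_top (QuotientGroup.mk' _ a))
        exact ⟨k, hk, QuotientGroup.eq.1 e⟩
      obtain ⟨k, hk, hka⟩ := hsplit a
      obtain ⟨l, hl, hlb⟩ := hsplit b
      obtain ⟨u, hu, rfl⟩ : ∃ u ∈ Subgroup.center ↥(Cfsg.SU n F q), a = k * u := ⟨_, hka, by group⟩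
      obtain ⟨v, hv, rfl⟩ : ∃ v ∈ Subgroup.center ↥(Cfsg.SU n F q), b = l * v := ⟨_, hlb, by group⟩
      have h1 : ∀ x, x * u = u * x := Subgroup.mem_center_iff.1 hu
      have h2 : ∀ x, x * v = v * x := Subgroup.mem_center_iff.1 hv
      have e : ⁅k * u, l * v⁆ = ⁅k, l⁆ := by
        rw [commutatorElement_def, commutatorElement_def]
        calc k * u * (l * v) * (k * u)⁻¹ * (l * v)⁻¹
            = k * (u * l) * (v * u⁻¹) * k⁻¹ * v⁻¹ * l⁻¹ := by group
          _ = k * (l * u) * (u⁻¹ * v) * k⁻¹ * v⁻¹ * l⁻¹ := by rw [h1, ← h2 u⁻¹]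
          _ = k * l * (v * k⁻¹) * v⁻¹ * l⁻¹ := by group
          _ = _ := by rw [← h2]; group
      show ⁅k * u, l * v⁆ ∈ N
      rw [e, commutatorElement_def]
      exact N.mul_mem (N.mul_mem (N.mul_mem hk hl) (N.inv_mem hk)) (N.inv_mem hl)
    obtain ⟨g, hg⟩ := hρ
    exact hg (MonoidHom.mem_ker.1 (hle (hperf ▸ Subgroup.mem_top g)))
  have hlevi : ∀ A : Matrix (Fin r) (Fin r) F, A.det ≠ 0 → (A.det = 1 ∨ r = 1) →
      ∃ (g : ↥(Cfsg.SU n F q)) (σ : Skew hF r ≃+ Skew hF r),
        (∀ X, g * z X = z (σ X) * g) ∧ ∀ X, (σ X).1 = A * X.1 * adj I A := by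
    intro A hA hA'
    have hu : IsUnit A.det := isUnit_iff_ne_zero.2 hA
    set A' := adj I A⁻¹
    have hAA : adj I A' * A = 1 := by rw [adj_adj, Matrix.nonsing_inv_mul _ hu]
    have hdetA' : A'.det = (I.σ A.det)⁻¹ := by
      show (A⁻¹ᵀ.map I.σ).det = _
      rw [← RingHom.mapMatrix_apply, ← RingHom.map_det, Matrix.det_transpose, Matrix.det_nonsing_inv,
        Ring.inverse_eq_inv', map_inv₀]
    obtain ⟨M, hM1, hM2, hM3⟩ : ∃ M : Matrix (Fin n) (Fin n) F, M.det = 1 ∧ adj I M * M = 1 ∧ M * D.E = D.E * A := by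
      by_cases h1 : A.det = 1
      · exact ⟨lM D A A', by rw [lM_det, hdetA', h1, map_one, inv_one, one_mul], lM_iso D hAA, lM_E D A A'⟩
      · have := hA'.resolve_left h1
        obtain ⟨X⟩ := hD (by omega)
        have hν : I.σ (I.σ A.det / A.det) * (I.σ A.det / A.det) = 1 := by
          rw [map_div₀, I.two]
          have : I.σ A.det ≠ 0 := (map_ne_zero_iff _ I.σ.injective).2 hA
          field_simp
        refine ⟨lM D A A' * hM X (I.σ A.det / A.det), ?_, ?_, ?_⟩
        · rw [Matrix.det_mul, lM_det, hM_det, hdetA']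
          have : I.σ A.det ≠ 0 := (map_ne_zero_iff _ I.σ.injective).2 hA
          field_simp
        · rw [adj_mul, Matrix.mul_assoc, ← Matrix.mul_assoc (adj I (lM D A A')), lM_iso D hAA, Matrix.one_mul,
            hM_iso X hν]
        · rw [Matrix.mul_assoc, hM_E, lM_E]
    obtain ⟨g, hg⟩ := exists_SU hF hM1 hM2
    have hmem : ∀ (B : Matrix (Fin r) (Fin r) F) (X : Skew hF r), B * X.1 * adj I B ∈ Skew hF r := fun B X => by
      show adj _ _ = _
      rw [← hI, adj_mul, adj_mul, adj_adj, show adj I X.1 = -X.1 from X.2]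
      simp only [Matrix.neg_mul, Matrix.mul_neg, Matrix.mul_assoc]
    let σ : Skew hF r ≃+ Skew hF r :=
      { toFun := fun X => ⟨A * X.1 * adj I A, hmem A X⟩
        invFun := fun X => ⟨A⁻¹ * X.1 * adj I A⁻¹, hmem A⁻¹ X⟩
        left_inv := fun X => Subtype.ext (by
          show A⁻¹ * (A * X.1 * adj I A) * adj I A⁻¹ = X.1
          rw [show A⁻¹ * (A * X.1 * adj I A) * adj I A⁻¹ = (A⁻¹ * A) * X.1 * (adj I A * adj I A⁻¹) by
            simp only [Matrix.mul_assoc], ← adj_mul, Matrix.nonsing_inv_mul _ hu, adj_one, Matrix.one_mul, Matrix.mul_one])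
        right_inv := fun X => Subtype.ext (by
          show A * (A⁻¹ * X.1 * adj I A⁻¹) * adj I A = X.1
          rw [show A * (A⁻¹ * X.1 * adj I A⁻¹) * adj I A = (A * A⁻¹) * X.1 * (adj I A⁻¹ * adj I A) by
            simp only [Matrix.mul_assoc], ← adj_mul, Matrix.mul_nonsing_inv _ hu, adj_one, Matrix.one_mul, Matrix.mul_one])
        map_add' := fun X Y => Subtype.ext (by
          show A * (X + Y).1 * adj I A = A * X.1 * adj I A + A * Y.1 * adj I A
          rw [AddSubgroup.coe_add, Matrix.mul_add, Matrix.add_mul]) }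
    refine ⟨g, σ, fun X => hmatinj ?_, fun X => rfl⟩
    show (g.1 : Matrix (Fin n) (Fin n) F) * (z X).1 = (z (σ X)).1 * g.1
    rw [hz, hz, hg]
    exact conj_zM D hM3 hM2 X.1
  refine degree_bound hF ρ z hzadd hnt hlevi _ fun φ hφ H hH hP => ?_
  set R : Skew hF r → Module.End ℂ V := fun X => ρ (z X) with hRdef
  set P := proj R (chr hF φ H) with hPdef
  split_ifs with hodd
  swap
  · exact finrank_range_pos hP
  have hR : ∀ a b, R (a + b) = R a * R b := fun a b => by rw [hRdef]; simp only; rw [hzadd, map_mul]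
  have hPP : P * P = P := by rw [hPdef, proj_mul_proj hR, if_pos rfl]
  obtain ⟨X⟩ := hD (by omega)
  obtain ⟨vv, hvv⟩ := exists_nonzero_value I (H := H.1) H.2 (fun e => hH (Subtype.ext e))
  set v : Matrix (Fin r) (Fin 1) F := Matrix.of fun i _ => vv i
  set h := (adj I v * (H.1 * v)) 0 0 with hh
  have hh0 : h ≠ 0 := by
    intro e
    apply hvv
    rw [← e, hh]
    simp [Matrix.mul_apply, dotProduct, Matrix.mulVec, adj, v]
  have htr1 : ∀ c : F, (H.1 * (c • (v * adj I v))).trace = c * h := fun c => by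
    rw [Matrix.mul_smul, Matrix.trace_smul, smul_eq_mul, ← Matrix.mul_assoc, Matrix.trace_mul_comm, hh]
    simp [Matrix.trace, Matrix.mul_assoc]
  obtain ⟨t, ht⟩ := exists_trace I 1 (map_one _)
  set Yf : F → Matrix (Fin r) (Fin r) F := fun x => (-t * (x * I.σ x)) • (v * adj I v)
  have hYf : ∀ x, Yf x + adj I (Yf x) + (x • v) * adj I (x • v) = 0 := fun x => by
    simp only [Yf, adj_smul, adj_mul, adj_adj, Matrix.smul_mul, Matrix.mul_smul, smul_smul, map_mul, map_neg, I.two]
    rw [← add_smul, ← add_smul]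
    rw [show -t * (x * I.σ x) + -I.σ t * (I.σ x * x) + I.σ x * x = 0 by linear_combination -(x * I.σ x) * ht, zero_smul]
  choose u hu using fun x : F => exists_SU hF (uM_det X (x • v) (Yf x)) (uM_iso X (hYf x))
  -- products in the radical
  have hprod : ∀ x y : F, ∃ Z : Skew hF r, u x * u y = z Z * u (x + y) ∧
      Z.1 = Yf x + Yf y - (x • v) * adj I (y • v) - Yf (x + y) := by
    intro x y
    have hmem : Yf x + Yf y - (x • v) * adj I (y • v) - Yf (x + y) ∈ Skew hF r := by
      show adj _ _ = _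
      have h1 := eq_neg_of_add_eq_zero_left (by rw [← hYf x]; abel : adj I (Yf x) + (Yf x + (x • v) * adj I (x • v)) = 0)
      have h2 := eq_neg_of_add_eq_zero_left (by rw [← hYf y]; abel : adj I (Yf y) + (Yf y + (y • v) * adj I (y • v)) = 0)
      have h3 := eq_neg_of_add_eq_zero_left (by rw [← hYf (x + y)]; abel :
        adj I (Yf (x + y)) + (Yf (x + y) + ((x + y) • v) * adj I ((x + y) • v)) = 0)
      rw [← hI, adj_sub, adj_sub, adj_add, adj_mul, adj_adj, h1, h2, h3, add_smul, adj_add, Matrix.add_mul,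
        Matrix.mul_add, Matrix.mul_add]
      abel
    refine ⟨⟨_, hmem⟩, hmatinj ?_, rfl⟩
    show ((u x).1 : Matrix (Fin n) (Fin n) F) * (u y).1 = (z _).1 * (u (x + y)).1
    rw [hu, hu, hu, hz, uM_zM, uM_mul, add_smul, sub_add_cancel]
  have hzu : ∀ (Z : Skew hF r) x, z Z * u x = u x * z Z := fun Z x => hmatinj (by
    show ((z Z).1 : Matrix (Fin n) (Fin n) F) * (u x).1 = (u x).1 * (z Z).1
    rw [hu, hz, uM_zM, zM_eq_uM X, uM_mul, adj_zero, Matrix.mul_zero, add_zero, sub_zero, add_comm])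
  have huP : ∀ x, ρ (u x) * P = P * ρ (u x) := fun x => by
    have := apply_proj_comp (R := R) (g := ρ (u x)) (σ := AddEquiv.refl _)
      (fun Z => by rw [hRdef]; simp only [AddEquiv.refl_apply]; rw [← map_mul, ← hzu, map_mul]) (chr hF φ H)
    exact this
  have hscal : ∀ Z, ρ (z Z) * P = chr hF φ H Z • P := fun Z => apply_mul_proj hR _ Z
  set T : F → Module.End ℂ V := fun x => ρ (u x) * P with hTdef
  have hTT : ∀ x y, ∃ Z : Skew hF r, T x * T y = chr hF φ H Z • T (x + y) := fun x y => by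
    obtain ⟨Z, hZ, -⟩ := hprod x y
    refine ⟨Z, ?_⟩
    calc T x * T y = ρ (u x) * (P * ρ (u y)) * P := by rw [hTdef]; simp only [mul_assoc]
      _ = ρ (z Z) * ρ (u (x + y)) * P := by
        rw [← huP, ← mul_assoc, mul_assoc, hPP, ← map_mul, hZ, map_mul]
      _ = ρ (u (x + y)) * (ρ (z Z) * P) := by rw [← map_mul, hzu, map_mul, mul_assoc]
      _ = _ := by rw [hscal, mul_smul_comm]
  have htr0 : ∀ x : F, x ≠ 0 → LinearMap.trace ℂ V (T x) = 0 := by
    intro x hx
    set z₀ := -(h⁻¹ * t)
    have hsk : I.σ h = -h := by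
      rw [hh, show I.σ ((adj I v * (H.1 * v)) 0 0) = (adj I (adj I v * (H.1 * v))) 0 0 from rfl, adj_mul, adj_mul,
        adj_adj, show adj I H.1 = -H.1 from H.2, Matrix.mul_assoc]
      simp
    have hxs : I.σ x ≠ 0 := (map_ne_zero_iff _ I.σ.injective).2 hx
    set y := z₀ / I.σ x
    have hkey : (x * I.σ y - y * I.σ x) * h = 1 := by
      rw [show y = z₀ / I.σ x from rfl, show z₀ = -(h⁻¹ * t) from rfl, map_div₀, I.two, map_neg, map_mul,
        map_inv₀, hsk]
      field_simp
      linear_combination ht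
    obtain ⟨Z, hZ, hZv⟩ := hprod x y
    obtain ⟨Z', hZ', hZv'⟩ := hprod y x
    set ω := chr hF φ H (Z' - Z) with hω
    have hω1 : ω ≠ 1 := by
      rw [hω, chr_apply, AddSubgroup.coe_sub, hZv, hZv']
      rw [show (Yf y + Yf x - y • v * adj I (x • v) - Yf (y + x)) - (Yf x + Yf y - x • v * adj I (y • v) - Yf (x + y)) =
        (x * I.σ y - y * I.σ x) • (v * adj I v) by
          rw [adj_smul, adj_smul, Matrix.smul_mul, Matrix.mul_smul, smul_smul, Matrix.smul_mul, Matrix.mul_smul,
            smul_smul, sub_smul, add_comm y x]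
          abel, htr1, hkey]
      exact hφ
    have hcomm : ρ (u y) * T x = ω • (T x * ρ (u y)) := by
      have e1 : u y * u x = z (Z' - Z) * (u x * u y) := by
        rw [hZ, hZ', ← mul_assoc, ← hzadd, sub_add_cancel, add_comm y x]
      rw [hTdef]
      simp only
      calc ρ (u y) * (ρ (u x) * P) = ρ (z (Z' - Z)) * ρ (u x * u y) * P := by rw [← mul_assoc, ← map_mul, e1, map_mul]
        _ = ρ (u x * u y) * (ρ (z (Z' - Z)) * P) := by
          rw [← map_mul, ← mul_assoc (ρ (u x * u y)), ← map_mul]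
          congr 2
          rw [← mul_assoc, hzu, mul_assoc, hzu, ← mul_assoc]
        _ = _ := by rw [hscal, mul_smul_comm, map_mul, mul_assoc, huP, ← mul_assoc]
    have h1 := congrArg (fun S => LinearMap.trace ℂ V (S * ρ (u y)⁻¹)) hcomm
    simp only [smul_mul_assoc, map_smul, mul_assoc, ← map_mul, mul_inv_cancel, map_one, mul_one] at h1
    rw [LinearMap.trace_mul_comm, mul_assoc, ← map_mul, inv_mul_cancel, map_one, mul_one, smul_eq_mul] at h1
    have : (1 - ω) * LinearMap.trace ℂ V (T x) = 0 := by linear_combination h1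
    exact (mul_eq_zero.1 this).resolve_left (sub_ne_zero.2 (Ne.symm hω1))
  have hT0 : T 0 = P := by
    rw [hTdef]
    simp only
    rw [show u 0 = 1 from hmatinj (by rw [hu]; simp [Yf, uM, adj_zero]), map_one, one_mul]
  have hcard := sq_le_finrank hPP T (fun x => by
      show P * (ρ (u x) * P) * P = _
      rw [← mul_assoc, ← huP, mul_assoc (ρ (u x)), hPP, mul_assoc, hPP])
    (fun x => T (-x)) (fun a b hab => by
      obtain ⟨Z, hZ⟩ := hTT a (-b)
      rw [hZ, map_smul, htr0 _ (by rw [← sub_eq_add_neg]; exact sub_ne_zero.2 hab), smul_zero]) fun a => by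
      obtain ⟨Z, hZ⟩ := hTT a (-a)
      have hp : LinearMap.IsProj (LinearMap.range P) P :=
        ⟨fun v => ⟨v, rfl⟩, by rintro _ ⟨w, rfl⟩; exact LinearMap.congr_fun hPP w⟩
      rw [hZ, map_smul, add_neg_cancel, hT0, LinearMap.IsProj.trace hp, smul_eq_mul]
      refine mul_ne_zero (fun e => ?_) (Nat.cast_ne_zero.2 (Nat.one_le_iff_ne_zero.1 (finrank_range_pos hP)))
      have := AddChar.map_add_eq_mul (chr hF φ H) Z (-Z)
      rw [add_neg_cancel, AddChar.map_zero_eq_one, e, zero_mul] at this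
      exact one_ne_zero this
  rw [hF] at hcard
  exact (Nat.pow_le_pow_iff_left (by norm_num)).1 hcard

end Cfsg.Agent.Lib.RankOne.UnitaryDegree
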